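import Cfsg.Agent.Lib.Helper35.OctadRestr

/-!
The pointwise stabiliser of an octad acts regularly on the 16 points outside the octad; the
stabiliser of an octad splits over it, a complement being the stabiliser of an outside point,
which is isomorphic to the alternating group of degree 8.
-/

set_option autoImplicit false

namespace Cfsg.Agent.Lib.Helper35

open Cfsg MulAction
open Cfsg.Agent.Lib.Helper10 (fs mem_fs octO pt idx ok5_iff)
open Cfsg.Agent.S0381 (fixK mem_fixK word_spec eq_one_of_fix4)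
open scoped Pointwise

theorem perm_apply_inv {α : Type*} (a : Equiv.Perm α) (y : α) : a (a⁻¹ y) = y := by
  rw [Equiv.Perm.inv_def, Equiv.apply_symm_apply]

theorem perm_inv_apply {α : Type*} (a : Equiv.Perm α) (y : α) : a⁻¹ (a y) = y := by
  rw [Equiv.Perm.inv_def, Equiv.symm_apply_apply]

/-- The base octad of the regularity statements. -/
abbrev bO : Finset GolayPt := fs octO

theorem exists_word {p : GolayPt} (hp : p ∉ bO) :
    ∃ k ∈ fixK (bO : Set GolayPt), k (pt 4) = p := by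
  have hc : Cfsg.Agent.Lib.Helper10.okTarget 5 (idx p) = true := by
    rw [ok5_iff]
    have : octO.testBit (idx p) ≠ true := fun h => hp ((mem_fs octO p).mpr h)
    simpa using this
  obtain ⟨h1, h2, _⟩ := word_spec p hc
  exact ⟨_, h1, h2⟩

/-- Transitivity on the outside points, for the base octad. -/
theorem base_trans {p q : GolayPt} (hp : p ∉ bO) (hq : q ∉ bO) :
    ∃ k ∈ fixK (bO : Set GolayPt), k p = q := by
  obtain ⟨kp, hkp, ep⟩ := exists_word hp
  obtain ⟨kq, hkq, eq⟩ := exists_word hq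
  refine ⟨kq * kp⁻¹, Subgroup.mul_mem _ hkq (Subgroup.inv_mem _ hkp), ?_⟩
  rw [Equiv.Perm.mul_apply, ← ep, perm_inv_apply, eq]

/-- Freeness on the outside points, for the base octad. -/
theorem base_free {g : Equiv.Perm GolayPt} (hg : g ∈ fixK (bO : Set GolayPt)) {p : GolayPt}
    (hp : p ∉ bO) (hgp : g p = p) : g = 1 := by
  obtain ⟨kp, hkp, ep⟩ := exists_word hp
  have h1 : kp⁻¹ * g * kp = 1 := by
    apply eq_one_of_fix4
      (Subgroup.mul_mem _ (Subgroup.mul_mem _ (Subgroup.inv_mem _ hkp) hg) hkp)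
    rw [Equiv.Perm.mul_apply, Equiv.Perm.mul_apply, ep, hgp, ← ep, perm_inv_apply]
  have h2 : g = kp * (kp⁻¹ * g * kp) * kp⁻¹ := by group
  rw [h2, h1]
  group

/-- The pointwise stabiliser of `o` in `M24`. -/
abbrev octFix (o : Finset GolayPt) : Subgroup (Equiv.Perm GolayPt) :=
  M24 ⊓ fixingSubgroup (Equiv.Perm GolayPt) (o : Set GolayPt)

theorem mem_octFix (o : Finset GolayPt) (g : Equiv.Perm GolayPt) :
    g ∈ octFix o ↔ g ∈ M24 ∧ ∀ y ∈ o, g y = y := by
  rw [Subgroup.mem_inf, mem_fixingSubgroup_iff]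
  rfl

theorem conj_mem_octFix {a : Equiv.Perm GolayPt} (ha : a ∈ M24) {o : Finset GolayPt}
    {g : Equiv.Perm GolayPt} (hg : g ∈ octFix o) : a * g * a⁻¹ ∈ octFix (a • o) := by
  rw [mem_octFix] at hg ⊢
  refine ⟨M24.mul_mem (M24.mul_mem ha hg.1) (M24.inv_mem ha), ?_⟩
  intro y hy
  have hy' : a⁻¹ y ∈ o := by
    have := Finset.inv_smul_mem_iff.mpr hy
    exact this
  rw [Equiv.Perm.mul_apply, Equiv.Perm.mul_apply, hg.2 _ hy', perm_apply_inv]

theorem octFix_eq_fixK (o : Finset GolayPt) : octFix o = fixK (o : Set GolayPt) := rfl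

theorem not_mem_of_smul {a : Equiv.Perm GolayPt} {o : Finset GolayPt} {p : GolayPt}
    (hp : p ∉ a • o) : a⁻¹ p ∉ o := by
  intro h
  apply hp
  have := Finset.smul_mem_smul_finset (a := a) h
  rw [Equiv.Perm.smul_def, perm_apply_inv] at this
  exact this

/-- Transitivity of the pointwise stabiliser of an octad on the outside points. -/
theorem octFix_trans {o : Finset GolayPt} (ho : o ∈ octads) {p q : GolayPt} (hp : p ∉ o)
    (hq : q ∉ o) : ∃ k ∈ octFix o, k p = q := by
  have hO : bO ∈ octads := Cfsg.Agent.Lib.Helper10.fs_mem_octads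
    Cfsg.Agent.Lib.Helper10.octO_lt Cfsg.Agent.Lib.Helper10.octO_enc
    Cfsg.Agent.Lib.Helper10.octO_pc
  obtain ⟨⟨a, ha⟩, hao⟩ := Cfsg.Agent.S0367.result bO o hO ho
  have hao' : a • bO = o := hao
  subst hao'
  obtain ⟨k, hk, hkpq⟩ := base_trans (not_mem_of_smul hp) (not_mem_of_smul hq)
  refine ⟨a * k * a⁻¹, conj_mem_octFix ha hk, ?_⟩
  rw [Equiv.Perm.mul_apply, Equiv.Perm.mul_apply, hkpq, perm_apply_inv]

/-- Freeness of the pointwise stabiliser of an octad on the outside points. -/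
theorem octFix_free {o : Finset GolayPt} (ho : o ∈ octads) {g : Equiv.Perm GolayPt}
    (hg : g ∈ octFix o) {p : GolayPt} (hp : p ∉ o) (hgp : g p = p) : g = 1 := by
  have hO : bO ∈ octads := Cfsg.Agent.Lib.Helper10.fs_mem_octads
    Cfsg.Agent.Lib.Helper10.octO_lt Cfsg.Agent.Lib.Helper10.octO_enc
    Cfsg.Agent.Lib.Helper10.octO_pc
  obtain ⟨⟨a, ha⟩, hao⟩ := Cfsg.Agent.S0367.result bO o hO ho
  have hao' : a • bO = o := hao
  subst hao'
  have h1 : a⁻¹ * g * a⁻¹⁻¹ ∈ octFix (a⁻¹ • a • bO) := conj_mem_octFix (M24.inv_mem ha) hg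
  rw [inv_smul_smul, inv_inv] at h1
  have h2 : a⁻¹ * g * a = 1 := by
    apply base_free h1 (not_mem_of_smul hp)
    rw [Equiv.Perm.mul_apply, Equiv.Perm.mul_apply, perm_apply_inv, hgp]
  have h3 : g = a * (a⁻¹ * g * a) * a⁻¹ := by group
  rw [h3, h2]
  group

end Cfsg.Agent.Lib.Helper35
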