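import Mathlib

/-!
# Congruence classes modulo twice an even lattice without roots

Conway's counting argument: in an even positive definite lattice without vectors of norm 2,
two distinct non-opposite vectors of norm at most 8 congruent modulo twice the lattice
both have norm 8 and are orthogonal.
-/

set_option autoImplicit false
open Matrix

namespace Cfsg.Agent.Lib.Helper35.LatticeMod2

variable {n : ℕ} (B : Matrix (Fin n) (Fin n) ℤ)

/-- the bilinear form attached to `B` -/
def bil (u v : Fin n → ℤ) : ℤ := u ⬝ᵥ (B *ᵥ v)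

lemma bil_add_left (u u' v : Fin n → ℤ) : bil B (u + u') v = bil B u v + bil B u' v := by
  simp [bil, add_dotProduct]

lemma bil_add_right (u v v' : Fin n → ℤ) : bil B u (v + v') = bil B u v + bil B u v' := by
  simp [bil, mulVec_add, dotProduct_add]

lemma bil_neg_left (u v : Fin n → ℤ) : bil B (-u) v = - bil B u v := by
  simp [bil, neg_dotProduct]

lemma bil_neg_right (u v : Fin n → ℤ) : bil B u (-v) = - bil B u v := by
  simp [bil, mulVec_neg, dotProduct_neg]

lemma bil_smul_left (c : ℤ) (u v : Fin n → ℤ) : bil B (c • u) v = c * bil B u v := by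
  unfold bil; rw [smul_dotProduct, smul_eq_mul]

lemma bil_smul_right (c : ℤ) (u v : Fin n → ℤ) : bil B u (c • v) = c * bil B u v := by
  unfold bil; rw [mulVec_smul, dotProduct_smul, smul_eq_mul]

lemma bil_comm (hsymm : B.IsSymm) (u v : Fin n → ℤ) : bil B u v = bil B v u := by
  unfold bil
  rw [dotProduct_mulVec, ← mulVec_transpose, hsymm.eq, dotProduct_comm]

lemma bil_zero_left (v : Fin n → ℤ) : bil B 0 v = 0 := by simp [bil]

lemma bil_neg_neg (u : Fin n → ℤ) : bil B (-u) (-u) = bil B u u := by
  rw [bil_neg_left, bil_neg_right, neg_neg]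

lemma bil_add_self (hsymm : B.IsSymm) (u v : Fin n → ℤ) :
    bil B (u + v) (u + v) = bil B u u + 2 * bil B u v + bil B v v := by
  rw [bil_add_left, bil_add_right, bil_add_right, bil_comm B hsymm v u]; ring

lemma bil_sub_self (hsymm : B.IsSymm) (u v : Fin n → ℤ) :
    bil B (u - v) (u - v) = bil B u u - 2 * bil B u v + bil B v v := by
  rw [sub_eq_add_neg, bil_add_self B hsymm, bil_neg_right, bil_neg_neg]; ring

/-- minimal norm 4 -/
lemma four_le (hpos : ∀ x : Fin n → ℤ, x ≠ 0 → 0 < bil B x x)
    (heven : ∀ x : Fin n → ℤ, (2 : ℤ) ∣ bil B x x) (h2 : ∀ x : Fin n → ℤ, bil B x x ≠ 2)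
    {w : Fin n → ℤ} (hw : w ≠ 0) : 4 ≤ bil B w w := by
  have h1 := hpos w hw
  obtain ⟨k, hk⟩ := heven w
  have h3 := h2 w
  omega

/-- Conway's lemma. -/
lemma key (hsymm : B.IsSymm) (hpos : ∀ x : Fin n → ℤ, x ≠ 0 → 0 < bil B x x)
    (heven : ∀ x : Fin n → ℤ, (2 : ℤ) ∣ bil B x x) (h2 : ∀ x : Fin n → ℤ, bil B x x ≠ 2)
    {u v : Fin n → ℤ} (hu : bil B u u ≤ 8) (hv : bil B v v ≤ 8)
    (hcong : ∀ i, (2 : ℤ) ∣ (u - v) i) (hne : u ≠ v) (hne' : u ≠ -v) :
    bil B u u = 8 ∧ bil B v v = 8 ∧ bil B u v = 0 := by
  choose a ha using hcong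
  have hsub : u - v = (2 : ℤ) • a := by
    funext i; rw [ha i]; simp
  have hadd : u + v = (2 : ℤ) • (a + v) := by
    have : u + v = (u - v) + (2 : ℤ) • v := by
      funext i; simp; ring
    rw [this, hsub, smul_add]
  have ha0 : a ≠ 0 := by
    intro h; apply hne
    have : u - v = 0 := by rw [hsub, h, smul_zero]
    exact sub_eq_zero.mp this
  have hb0 : a + v ≠ 0 := by
    intro h; apply hne'
    have : u + v = 0 := by rw [hadd, h, smul_zero]
    exact eq_neg_of_add_eq_zero_left this
  have h4a := four_le B hpos heven h2 ha0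
  have h4b := four_le B hpos heven h2 hb0
  have e1 : bil B (u - v) (u - v) = 4 * bil B a a := by
    rw [hsub, bil_smul_left, bil_smul_right]; ring
  have e2 : bil B (u + v) (u + v) = 4 * bil B (a + v) (a + v) := by
    rw [hadd, bil_smul_left, bil_smul_right]; ring
  rw [bil_sub_self B hsymm] at e1
  rw [bil_add_self B hsymm] at e2
  refine ⟨by omega, by omega, by omega⟩

/-- pairwise orthogonal anisotropic vectors are at most `n` in number -/
lemma card_le_of_ortho {ι : Type*} [Fintype ι] (r : ι → (Fin n → ℤ))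
    (hq : ∀ i, bil B (r i) (r i) ≠ 0) (ho : ∀ i j, i ≠ j → bil B (r i) (r j) = 0) :
    Fintype.card ι ≤ n := by
  classical
  have hli : LinearIndependent ℤ r := by
    rw [linearIndependent_iff']
    intro s g hg i hi
    have h := congrArg (fun w => bil B w (r i)) hg
    simp only [bil, sum_dotProduct, smul_dotProduct, zero_dotProduct] at h
    rw [Finset.sum_eq_single i] at h
    · have h' : g i * bil B (r i) (r i) = 0 := by simpa [bil] using h
      rcases mul_eq_zero.mp h' with h0 | h0
      · exact h0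
      · exact absurd h0 (hq i)
    · intro j _ hji
      have : r j ⬝ᵥ B *ᵥ r i = 0 := ho j i hji
      rw [this]; simp
    · intro h0; exact absurd hi h0
  have h := hli.fintype_card_le_finrank
  simpa using h

/-- a set of vectors that are pairwise equal, opposite or orthogonal has at most `2n` elements -/
lemma frame_card_le (F : Finset (Fin n → ℤ)) (hq : ∀ u ∈ F, bil B u u ≠ 0)
    (hF : ∀ u ∈ F, ∀ v ∈ F, u = v ∨ u = -v ∨ bil B u v = 0) : F.card ≤ 2 * n := by
  classical
  let f : (Fin n → ℤ) → Finset (Fin n → ℤ) := fun u => {u, -u}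
  have hf : ∀ u v, f u = f v → v = u ∨ v = -u := by
    intro u v h
    have hv : v ∈ f v := by simp [f]
    rw [← h] at hv
    simpa [f] using hv
  have h1 : F.card ≤ 2 * (F.image f).card := by
    apply Finset.card_le_mul_card_image
    intro c hc
    obtain ⟨u0, hu0, rfl⟩ := Finset.mem_image.mp hc
    have hsub : F.filter (fun v => f v = f u0) ⊆ {u0, -u0} := by
      intro v hv
      have := hf u0 v (Finset.mem_filter.mp hv).2.symm
      simpa using this
    exact (Finset.card_le_card hsub).trans Finset.card_le_two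
  have hex : ∀ c : ↥(F.image f), ∃ u, u ∈ F ∧ f u = c.1 := by
    intro c
    obtain ⟨u, hu, hfu⟩ := Finset.mem_image.mp c.2
    exact ⟨u, hu, hfu⟩
  choose r hrF hrf using hex
  have h2 : Fintype.card ↥(F.image f) ≤ n := by
    apply card_le_of_ortho B r
    · intro c; exact hq _ (hrF c)
    · intro c c' hcc
      rcases hF _ (hrF c) _ (hrF c') with h | h | h
      · exfalso; apply hcc; apply Subtype.ext
        rw [← hrf c, ← hrf c', h]
      · exfalso; apply hcc; apply Subtype.ext
        rw [← hrf c, ← hrf c', h]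
        simp only [f, neg_neg]
        exact Finset.pair_comm _ _
      · exact h
  rw [Fintype.card_coe] at h2
  omega

end Cfsg.Agent.Lib.Helper35.LatticeMod2
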