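import Mathlib

/-!
Bit masks of finsets: a finset `s : Finset α` together with an indexing `idx : α → ℕ` is encoded
as the natural number whose binary digits are the indicator of `idx '' s`.  All operations on the
encoded side (`&&&`, `|||`, `^^^`, `Nat.testBit`, shifts) are evaluated quickly by the kernel.
-/

set_option autoImplicit false

namespace Cfsg.Agent.Lib.Helper35

variable {α : Type*}

/-- The mask of a finset: bitwise OR of the bits `2 ^ idx a`, `a ∈ s`. -/
def maskOf (idx : α → ℕ) (s : Finset α) : ℕ :=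
  s.fold (· ||| ·) 0 (fun a => 2 ^ idx a)

theorem maskOf_empty (idx : α → ℕ) : maskOf idx (∅ : Finset α) = 0 := by
  simp [maskOf]

theorem testBit_maskOf [DecidableEq α] (idx : α → ℕ) (s : Finset α) (i : ℕ) :
    (maskOf idx s).testBit i = decide (∃ a ∈ s, idx a = i) := by
  induction s using Finset.induction_on with
  | empty => simp [maskOf]
  | insert a s ha ih =>
    unfold maskOf at ih ⊢
    rw [Finset.fold_insert ha, Nat.testBit_or, ih, Nat.testBit_two_pow]
    simp only [Finset.mem_insert, exists_eq_or_imp, Bool.decide_or]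

theorem testBit_maskOf_iff [DecidableEq α] (idx : α → ℕ) (s : Finset α) (i : ℕ) :
    (maskOf idx s).testBit i = true ↔ ∃ a ∈ s, idx a = i := by
  rw [testBit_maskOf]; simp

theorem testBit_maskOf_idx [DecidableEq α] {idx : α → ℕ} (hinj : Function.Injective idx)
    (s : Finset α) (a : α) : (maskOf idx s).testBit (idx a) = decide (a ∈ s) := by
  rw [testBit_maskOf]
  congr 1
  apply propext
  constructor
  · rintro ⟨b, hb, hba⟩
    rwa [← hinj hba]
  · intro h
    exact ⟨a, h, rfl⟩

theorem maskOf_injective [DecidableEq α] {idx : α → ℕ} (hinj : Function.Injective idx) :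
    Function.Injective (maskOf idx) := by
  intro s t h
  ext a
  have h1 := testBit_maskOf_idx hinj s a
  have h2 := testBit_maskOf_idx hinj t a
  rw [h] at h1
  rw [h1] at h2
  simpa using h2

theorem maskOf_union [DecidableEq α] (idx : α → ℕ) (s t : Finset α) :
    maskOf idx (s ∪ t) = maskOf idx s ||| maskOf idx t := by
  apply Nat.eq_of_testBit_eq
  intro i
  rw [Nat.testBit_or, testBit_maskOf, testBit_maskOf, testBit_maskOf, ← Bool.decide_or]
  congr 1
  apply propext
  constructor
  · rintro ⟨a, ha, rfl⟩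
    rcases Finset.mem_union.mp ha with h | h
    · exact Or.inl ⟨a, h, rfl⟩
    · exact Or.inr ⟨a, h, rfl⟩
  · rintro (⟨a, ha, rfl⟩ | ⟨a, ha, rfl⟩)
    · exact ⟨a, Finset.mem_union_left _ ha, rfl⟩
    · exact ⟨a, Finset.mem_union_right _ ha, rfl⟩

theorem maskOf_inter [DecidableEq α] {idx : α → ℕ} (hinj : Function.Injective idx)
    (s t : Finset α) : maskOf idx (s ∩ t) = maskOf idx s &&& maskOf idx t := by
  apply Nat.eq_of_testBit_eq
  intro i
  rw [Nat.testBit_and, testBit_maskOf, testBit_maskOf, testBit_maskOf, ← Bool.decide_and]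
  congr 1
  apply propext
  constructor
  · rintro ⟨a, ha, rfl⟩
    rw [Finset.mem_inter] at ha
    exact ⟨⟨a, ha.1, rfl⟩, ⟨a, ha.2, rfl⟩⟩
  · rintro ⟨⟨a, ha, rfl⟩, ⟨b, hb, hba⟩⟩
    have := hinj hba
    subst this
    exact ⟨b, Finset.mem_inter.mpr ⟨ha, hb⟩, rfl⟩

theorem testBit_maskOf_of_not_range [DecidableEq α] {idx : α → ℕ} (s : Finset α) {i : ℕ}
    (h : ¬ ∃ a, idx a = i) : (maskOf idx s).testBit i = false := by
  rw [testBit_maskOf]
  simp only [decide_eq_false_iff_not, not_exists, not_and]
  intro a _ ha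
  exact h ⟨a, ha⟩

theorem maskOf_symmDiff [DecidableEq α] {idx : α → ℕ} (hinj : Function.Injective idx)
    (s t : Finset α) : maskOf idx (symmDiff s t) = maskOf idx s ^^^ maskOf idx t := by
  apply Nat.eq_of_testBit_eq
  intro i
  rw [Nat.testBit_xor]
  by_cases h : ∃ a, idx a = i
  · obtain ⟨a, rfl⟩ := h
    rw [testBit_maskOf_idx hinj, testBit_maskOf_idx hinj, testBit_maskOf_idx hinj]
    by_cases h1 : a ∈ s <;> by_cases h2 : a ∈ t <;> simp [Finset.mem_symmDiff, h1, h2]
  · rw [testBit_maskOf_of_not_range _ h, testBit_maskOf_of_not_range _ h,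
      testBit_maskOf_of_not_range _ h]
    rfl

theorem maskOf_sdiff [DecidableEq α] {idx : α → ℕ} (hinj : Function.Injective idx)
    (s t : Finset α) :
    maskOf idx (s \ t) = maskOf idx s ^^^ (maskOf idx s &&& maskOf idx t) := by
  apply Nat.eq_of_testBit_eq
  intro i
  rw [Nat.testBit_xor, Nat.testBit_and]
  by_cases h : ∃ a, idx a = i
  · obtain ⟨a, rfl⟩ := h
    rw [testBit_maskOf_idx hinj, testBit_maskOf_idx hinj, testBit_maskOf_idx hinj]
    by_cases h1 : a ∈ s <;> by_cases h2 : a ∈ t <;> simp [Finset.mem_sdiff, h1, h2]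
  · rw [testBit_maskOf_of_not_range _ h, testBit_maskOf_of_not_range _ h,
      testBit_maskOf_of_not_range _ h]
    rfl

theorem maskOf_subset_iff [DecidableEq α] {idx : α → ℕ} (hinj : Function.Injective idx)
    (s t : Finset α) : s ⊆ t ↔ maskOf idx s &&& maskOf idx t = maskOf idx s := by
  rw [← maskOf_inter hinj]
  constructor
  · intro h
    rw [Finset.inter_eq_left.mpr h]
  · intro h
    exact Finset.inter_eq_left.mp (maskOf_injective hinj h)

theorem maskOf_disjoint_iff [DecidableEq α] {idx : α → ℕ} (hinj : Function.Injective idx)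
    (s t : Finset α) : Disjoint s t ↔ maskOf idx s &&& maskOf idx t = 0 := by
  rw [← maskOf_inter hinj, Finset.disjoint_iff_inter_eq_empty]
  constructor
  · intro h
    rw [h, maskOf_empty]
  · intro h
    rw [← maskOf_empty idx] at h
    exact maskOf_injective hinj h

theorem maskOf_lt [DecidableEq α] {idx : α → ℕ} {n : ℕ} (hlt : ∀ a, idx a < n) (s : Finset α) :
    maskOf idx s < 2 ^ n := by
  apply Nat.lt_pow_two_of_testBit
  intro i hi
  rw [testBit_maskOf]
  simp only [decide_eq_false_iff_not, not_exists, not_and]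
  intro a _ h
  have := hlt a
  omega

/-- Number of one bits among the lowest `n` bits. -/
def popc : ℕ → ℕ → ℕ
  | 0, _ => 0
  | k + 1, m => m % 2 + popc k (m / 2)

theorem popc_eq_sum (n m : ℕ) :
    popc n m = ∑ i ∈ Finset.range n, if m.testBit i then 1 else 0 := by
  induction n generalizing m with
  | zero => simp [popc]
  | succ k ih =>
    rw [popc, ih, Finset.sum_range_succ']
    simp only [Nat.testBit_succ, Nat.testBit_zero]
    have : m % 2 = if decide (m % 2 = 1) = true then 1 else 0 := by
      rcases Nat.mod_two_eq_zero_or_one m with h | h <;> simp [h]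
    omega

theorem card_eq_popc [DecidableEq α] {idx : α → ℕ} (hinj : Function.Injective idx) {n : ℕ}
    (hlt : ∀ a, idx a < n) (s : Finset α) : s.card = popc n (maskOf idx s) := by
  rw [popc_eq_sum, ← Finset.card_filter, ← Finset.card_image_of_injective s hinj]
  congr 1
  ext i
  simp only [Finset.mem_image, Finset.mem_filter, Finset.mem_range, testBit_maskOf_iff]
  constructor
  · rintro ⟨a, ha, rfl⟩
    exact ⟨hlt a, a, ha, rfl⟩
  · rintro ⟨_, h⟩
    exact h

/-- The finset decoded from a mask. -/
def ofMask [Fintype α] (idx : α → ℕ) (m : ℕ) : Finset α :=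
  Finset.univ.filter fun a => m.testBit (idx a) = true

theorem mem_ofMask [Fintype α] (idx : α → ℕ) (m : ℕ) (a : α) :
    a ∈ ofMask idx m ↔ m.testBit (idx a) = true := by
  simp [ofMask]

theorem ofMask_maskOf [Fintype α] [DecidableEq α] {idx : α → ℕ} (hinj : Function.Injective idx)
    (s : Finset α) : ofMask idx (maskOf idx s) = s := by
  ext a
  rw [mem_ofMask, testBit_maskOf_idx hinj]
  simp

theorem maskOf_ofMask [Fintype α] [DecidableEq α] {idx : α → ℕ} {n : ℕ}
    (hsurj : ∀ i < n, ∃ a, idx a = i) {m : ℕ} (hm : m < 2 ^ n) :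
    maskOf idx (ofMask idx m) = m := by
  apply Nat.eq_of_testBit_eq
  intro i
  rw [testBit_maskOf]
  by_cases hi : i < n
  · obtain ⟨a, rfl⟩ := hsurj i hi
    by_cases hb : m.testBit (idx a) = true
    · rw [hb]
      simp only [decide_eq_true_eq]
      exact ⟨a, (mem_ofMask idx m a).mpr hb, rfl⟩
    · rw [Bool.not_eq_true] at hb
      rw [hb]
      simp only [decide_eq_false_iff_not, not_exists, not_and]
      intro b hb' hba
      rw [mem_ofMask, hba, hb] at hb'
      exact Bool.false_ne_true hb'
  · have : m.testBit i = false := by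
      apply Nat.testBit_lt_two_pow
      exact lt_of_lt_of_le hm (Nat.pow_le_pow_right (by norm_num) (by omega))
    rw [this]
    simp only [decide_eq_false_iff_not, not_exists, not_and]
    intro b hb' hba
    rw [mem_ofMask, hba, this] at hb'
    exact Bool.false_ne_true hb'

/-- Image of a mask under a map of bit positions (only the lowest `n` bits are read). -/
def mapMask (f : ℕ → ℕ) : ℕ → ℕ → ℕ
  | 0, _ => 0
  | k + 1, m => (if m.testBit k then 2 ^ f k else 0) ||| mapMask f k m

theorem testBit_mapMask (f : ℕ → ℕ) (n m i : ℕ) :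
    (mapMask f n m).testBit i = decide (∃ k < n, m.testBit k = true ∧ f k = i) := by
  induction n with
  | zero => simp [mapMask]
  | succ k ih =>
    rw [mapMask, Nat.testBit_or, ih]
    by_cases hk : m.testBit k = true
    · simp only [hk, if_true, Nat.testBit_two_pow, ← Bool.decide_or]
      congr 1
      apply propext
      constructor
      · rintro (h | ⟨j, hj, h1, h2⟩)
        · exact ⟨k, Nat.lt_succ_self k, hk, h⟩
        · exact ⟨j, Nat.lt_succ_of_lt hj, h1, h2⟩
      · rintro ⟨j, hj, h1, h2⟩
        rcases Nat.lt_succ_iff_lt_or_eq.mp hj with h | h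
        · exact Or.inr ⟨j, h, h1, h2⟩
        · subst h; exact Or.inl h2
    · have hk' : m.testBit k = false := by simpa using hk
      simp only [hk', Bool.false_eq_true, if_false, Nat.zero_testBit, Bool.false_or]
      congr 1
      apply propext
      constructor
      · rintro ⟨j, hj, h1, h2⟩
        exact ⟨j, Nat.lt_succ_of_lt hj, h1, h2⟩
      · rintro ⟨j, hj, h1, h2⟩
        rcases Nat.lt_succ_iff_lt_or_eq.mp hj with h | h
        · exact ⟨j, h, h1, h2⟩
        · subst h; rw [hk'] at h1; exact absurd h1 Bool.false_ne_true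

theorem maskOf_image [DecidableEq α] {idx : α → ℕ} {n : ℕ} (hlt : ∀ a, idx a < n)
    (g : α → α) (f : ℕ → ℕ) (hgf : ∀ a, idx (g a) = f (idx a)) (s : Finset α) :
    maskOf idx (s.image g) = mapMask f n (maskOf idx s) := by
  apply Nat.eq_of_testBit_eq
  intro i
  rw [testBit_maskOf, testBit_mapMask]
  congr 1
  apply propext
  constructor
  · rintro ⟨b, hb, rfl⟩
    obtain ⟨a, ha, rfl⟩ := Finset.mem_image.mp hb
    exact ⟨idx a, hlt a, (testBit_maskOf_iff idx s _).mpr ⟨a, ha, rfl⟩, (hgf a).symm⟩
  · rintro ⟨k, _, hk, rfl⟩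
    obtain ⟨a, ha, rfl⟩ := (testBit_maskOf_iff idx s _).mp hk
    exact ⟨g a, Finset.mem_image_of_mem g ha, hgf a⟩

end Cfsg.Agent.Lib.Helper35
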