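import Mathlib
import Cfsg.Agent.Lib.Helper35.Co3Data

/-! The automorphism group of the graph on 552 vertices has order at most 991533312000. -/

set_option autoImplicit false
set_option maxRecDepth 100000
set_option maxHeartbeats 4000000

namespace Cfsg.Agent.Lib.Helper35.C3

open Cfsg.Agent.Lib.Helper35.StSearch Cfsg.Agent.Lib.Helper35.GraphTab

/-- The automorphism group of the graph. -/
abbrev A : Subgroup (Equiv.Perm (Fin 552)) := GAut 552 am

def irRounds0 : List (List ℕ) := []

def irMask0 : ℕ := 0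

def irCell0 : List ℕ := [0, 1, 2, 3, 4, 5, 6, 7, 8, 9, 10, 11, 12, 13, 14, 15, 16, 17, 18, 19, 20, 21, 22, 23, 24, 25, 26, 27, 28, 29, 30, 31, 32, 33, 34, 35, 36, 37, 38, 39, 40, 41, 42, 43, 44, 45, 46, 47, 48, 49, 50, 51, 52, 53, 54, 55, 56, 57, 58, 59, 60, 61, 62, 63, 64, 65, 66, 67, 68, 69, 70, 71, 72, 73, 74, 75, 76, 77, 78, 79, 80, 81, 82, 83, 84, 85, 86, 87, 88, 89, 90, 91, 92, 93, 94, 95, 96, 97, 98, 99, 100, 101, 102, 103, 104, 105, 106, 107, 108, 109, 110, 111, 112, 113, 114, 115, 116, 117, 118, 119, 120, 121, 122, 123, 124, 125, 126, 127, 128, 129, 130, 131, 132, 133, 134, 135, 136, 137, 138, 139, 140, 141, 142, 143, 144, 145, 146, 147, 148, 149, 150, 151, 152, 153, 154, 155, 156, 157, 158, 159, 160, 161, 162, 163, 164, 165, 166, 167, 168, 169, 170, 171, 172, 173, 174, 175, 176, 177, 178, 179, 180, 181, 182, 183, 184, 185, 186, 187, 188, 189, 190, 191, 192, 193, 194, 195, 196, 197, 198, 199, 200, 201, 202, 203, 204, 205, 206, 207, 208, 209, 210, 211, 212, 213, 214, 215, 216, 217, 218,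 219, 220, 221, 222, 223, 224, 225, 226, 227, 228, 229, 230, 231, 232, 233, 234, 235, 236, 237, 238, 239, 240, 241, 242, 243, 244, 245, 246, 247, 248, 249, 250, 251, 252, 253, 254, 255, 256, 257, 258, 259, 260, 261, 262, 263, 264, 265, 266, 267, 268, 269, 270, 271, 272, 273, 274, 275, 276, 277, 278, 279, 280, 281, 282, 283, 284, 285, 286, 287, 288, 289, 290, 291, 292, 293, 294, 295, 296, 297, 298, 299, 300, 301, 302, 303, 304, 305, 306, 307, 308, 309, 310, 311, 312, 313, 314, 315, 316, 317, 318, 319, 320, 321, 322, 323, 324, 325, 326, 327, 328, 329, 330, 331, 332, 333, 334, 335, 336, 337, 338, 339, 340, 341, 342, 343, 344, 345, 346, 347, 348, 349, 350, 351, 352, 353, 354, 355, 356, 357, 358, 359, 360, 361, 362, 363, 364, 365, 366, 367, 368, 369, 370, 371, 372, 373, 374, 375, 376, 377, 378, 379, 380, 381, 382, 383, 384, 385, 386, 387, 388, 389, 390, 391, 392, 393, 394, 395, 396, 397, 398, 399, 400, 401, 402, 403, 404, 405, 406, 407, 408, 409, 410, 411, 412, 413, 414, 415, 416, 417, 418, 419, 420,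 421, 422, 423, 424, 425, 426, 427, 428, 429, 430, 431, 432, 433, 434, 435, 436, 437, 438, 439, 440, 441, 442, 443, 444, 445, 446, 447, 448, 449, 450, 451, 452, 453, 454, 455, 456, 457, 458, 459, 460, 461, 462, 463, 464, 465, 466, 467, 468, 469, 470, 471, 472, 473, 474, 475, 476, 477, 478, 479, 480, 481, 482, 483, 484, 485, 486, 487, 488, 489, 490, 491, 492, 493, 494, 495, 496, 497, 498, 499, 500, 501, 502, 503, 504, 505, 506, 507, 508, 509, 510, 511, 512, 513, 514, 515, 516, 517, 518, 519, 520, 521, 522, 523, 524, 525, 526, 527, 528, 529, 530, 531, 532, 533, 534, 535, 536, 537, 538, 539, 540, 541, 542, 543, 544, 545, 546, 547, 548, 549, 550, 551]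

theorem irClose0 : closeMask 552 am (listMask []) irRounds0 = some irMask0 := by
  rw [← closeMask2_eq am_length]
  decide +kernel

theorem irCellOK0 : cellOK 552 am irMask0 0 irCell0 = true := by
  rw [← cellOK2_eq am_length]
  decide +kernel

theorem irStep0 : Nat.card (stabL A []) ≤ 552 * Nat.card (stabL A [0]) := by
  have h := card_stabL_le A [] (b := 0) (by norm_num) irCell0 (fun σ hσ =>
    mem_cell hσ.1 (l := []) (fun s hs => ⟨by revert s; decide, hσ.2 s hs⟩) irRounds0 irClose0
      (by norm_num) irCellOK0)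
  have e : irCell0.length = 552 := by decide
  rw [e] at h
  exact h

def irRounds1 : List (List ℕ) := []

def irMask1 : ℕ := 1

def irCell1 : List ℕ := [24, 26, 27, 29, 31, 33, 34, 35, 36, 38, 39, 40, 43, 46, 48, 49, 50, 51, 53, 55, 56, 58, 61, 63, 64, 66, 67, 68, 70, 71, 72, 73, 74, 75, 77, 78, 79, 81, 83, 85, 86, 87, 88, 90, 91, 93, 94, 96, 97, 99, 100, 101, 104, 105, 106, 109, 110, 111, 114, 115, 116, 117, 118, 120, 121, 122, 123, 124, 126, 129, 130, 132, 134, 135, 136, 137, 139, 140, 141, 142, 144, 147, 148, 149, 150, 151, 153, 154, 155, 156, 158, 160, 161, 162, 164, 165, 166, 167, 170, 172, 173, 175, 177, 178, 179, 180, 181, 182, 184, 185, 186, 188, 189, 190, 192, 193, 194, 195, 196, 197, 199, 201, 203, 204, 205, 209, 210, 211, 213, 214, 215, 217, 218, 219, 220, 222, 223, 224, 225, 227, 230, 231, 232, 233, 234, 235, 237, 238, 239, 241, 242, 243, 244, 246, 247, 249, 250, 251, 252, 254, 255, 256, 257, 258, 261, 262, 263, 264, 266, 267, 268, 270, 272, 273, 274, 275, 276, 278, 281, 283, 285, 290,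 294, 295, 297, 298, 300, 305, 307, 310, 312, 313, 315, 318, 322, 329, 333, 335, 337, 342, 345, 348, 351, 355, 356, 360, 361, 365, 366, 372, 378, 380, 381, 384, 386, 391, 396, 398, 399, 405, 410, 412, 416, 421, 422, 424, 427, 429, 436, 440, 444, 451, 453, 455, 459, 460, 461, 465, 469, 474, 479, 481, 482, 489, 493, 498, 501, 506, 512, 513, 518, 522, 524, 530, 531, 532, 533, 534, 535, 536, 537, 538, 539, 540, 541, 542, 543, 544, 545, 546, 547, 548, 549, 550, 551]

theorem irClose1 : closeMask 552 am (listMask [0]) irRounds1 = some irMask1 := by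
  rw [← closeMask2_eq am_length]
  decide +kernel

theorem irCellOK1 : cellOK 552 am irMask1 24 irCell1 = true := by
  rw [← cellOK2_eq am_length]
  decide +kernel

theorem irStep1 : Nat.card (stabL A [0]) ≤ 275 * Nat.card (stabL A [0, 24]) := by
  have h := card_stabL_le A [0] (b := 24) (by norm_num) irCell1 (fun σ hσ =>
    mem_cell hσ.1 (l := [0]) (fun s hs => ⟨by revert s; decide, hσ.2 s hs⟩) irRounds1 irClose1
      (by norm_num) irCellOK1)
  have e : irCell1.length = 275 := by decide
  rw [e] at h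
  exact h

def irRounds2 : List (List ℕ) := []

def irMask2 : ℕ := 16777217

def irCell2 : List ℕ := [26, 27, 29, 31, 33, 35, 36, 38, 39, 40, 43, 46, 48, 50, 51, 55, 56, 58, 61, 63, 64, 67, 70, 71, 73, 75, 77, 78, 79, 81, 83, 85, 86, 90, 91, 94, 99, 100, 104, 105, 109, 110, 111, 115, 116, 117, 121, 122, 124, 126, 129, 132, 134, 137, 140, 144, 147, 148, 149, 151, 154, 155, 156, 158, 160, 162, 164, 166, 172, 175, 179, 180, 184, 185, 186, 193, 196, 199, 203, 204, 205, 209, 210, 213, 214, 215, 218, 220, 222, 225, 227, 230, 235, 237, 239, 241, 242, 243, 252, 255, 256, 261, 264, 267, 273, 290, 294, 300, 307, 313, 322, 329, 335, 345, 351, 355, 361, 366, 378, 380, 381, 386, 391, 396, 410, 412, 416, 421, 427, 429, 440, 444, 451, 459, 461, 469, 474, 479, 482, 489, 493, 498, 506, 513, 518, 522, 524, 531, 533, 537, 538, 539, 542, 543, 544, 545, 546, 547, 548, 549, 550, 551]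

theorem irClose2 : closeMask 552 am (listMask [0, 24]) irRounds2 = some irMask2 := by
  rw [← closeMask2_eq am_length]
  decide +kernel

theorem irCellOK2 : cellOK 552 am irMask2 26 irCell2 = true := by
  rw [← cellOK2_eq am_length]
  decide +kernel

theorem irStep2 : Nat.card (stabL A [0, 24]) ≤ 162 * Nat.card (stabL A [0, 24, 26]) := by
  have h := card_stabL_le A [0, 24] (b := 26) (by norm_num) irCell2 (fun σ hσ =>
    mem_cell hσ.1 (l := [0, 24]) (fun s hs => ⟨by revert s; decide, hσ.2 s hs⟩) irRounds2 irClose2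
      (by norm_num) irCellOK2)
  have e : irCell2.length = 162 := by decide
  rw [e] at h
  exact h

def irRounds3 : List (List ℕ) := []

def irMask3 : ℕ := 83886081

def irCell3 : List ℕ := [27, 29, 31, 33, 35, 36, 38, 39, 43, 46, 50, 51, 55, 56, 58, 61, 63, 70, 71, 75, 77, 78, 79, 83, 85, 86, 91, 100, 104, 109, 110, 111, 116, 117, 124, 126, 132, 134, 140, 144, 147, 148, 154, 155, 156, 162, 164, 166, 172, 175, 184, 185, 203, 204, 205, 209, 210, 213, 214, 218, 222, 227, 237, 239, 241, 255, 256, 273, 307, 322, 345, 355, 361, 366, 378, 380, 391, 412, 416, 421, 427, 429, 444, 451, 459, 474, 479, 482, 489, 498, 506, 513, 522, 524, 538, 539, 543, 544, 545, 546, 547, 548, 549, 550, 551]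

theorem irClose3 : closeMask 552 am (listMask [0, 24, 26]) irRounds3 = some irMask3 := by
  rw [← closeMask2_eq am_length]
  decide +kernel

theorem irCellOK3 : cellOK 552 am irMask3 27 irCell3 = true := by
  rw [← cellOK2_eq am_length]
  decide +kernel

theorem irStep3 : Nat.card (stabL A [0, 24, 26]) ≤ 105 * Nat.card (stabL A [0, 24, 26, 27]) := by
  have h := card_stabL_le A [0, 24, 26] (b := 27) (by norm_num) irCell3 (fun σ hσ =>
    mem_cell hσ.1 (l := [0, 24, 26]) (fun s hs => ⟨by revert s; decide, hσ.2 s hs⟩) irRounds3 irClose3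
      (by norm_num) irCellOK3)
  have e : irCell3.length = 105 := by decide
  rw [e] at h
  exact h

def irRounds4 : List (List ℕ) := []

def irMask4 : ℕ := 218103809

def irCell4 : List ℕ := [93, 130, 136, 141, 165, 182, 189, 194, 197, 223, 234, 238, 247, 254, 262, 263, 270, 272, 274, 275, 276, 283, 285, 297, 310, 356, 360, 405, 424, 453, 455, 536]

theorem irClose4 : closeMask 552 am (listMask [0, 24, 26, 27]) irRounds4 = some irMask4 := by
  rw [← closeMask2_eq am_length]
  decide +kernel

theorem irCellOK4 : cellOK 552 am irMask4 93 irCell4 = true := by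
  rw [← cellOK2_eq am_length]
  decide +kernel

theorem irStep4 : Nat.card (stabL A [0, 24, 26, 27]) ≤ 32 * Nat.card (stabL A [0, 24, 26, 27, 93]) := by
  have h := card_stabL_le A [0, 24, 26, 27] (b := 93) (by norm_num) irCell4 (fun σ hσ =>
    mem_cell hσ.1 (l := [0, 24, 26, 27]) (fun s hs => ⟨by revert s; decide, hσ.2 s hs⟩) irRounds4 irClose4
      (by norm_num) irCellOK4)
  have e : irCell4.length = 32 := by decide
  rw [e] at h
  exact h

def irRounds5 : List (List ℕ) := []

def irMask5 : ℕ := 9903520314283042199411097601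

def irCell5 : List ℕ := [192, 224, 250, 295, 298, 348]

theorem irClose5 : closeMask 552 am (listMask [0, 24, 26, 27, 93]) irRounds5 = some irMask5 := by
  rw [← closeMask2_eq am_length]
  decide +kernel

theorem irCellOK5 : cellOK 552 am irMask5 192 irCell5 = true := by
  rw [← cellOK2_eq am_length]
  decide +kernel

theorem irStep5 : Nat.card (stabL A [0, 24, 26, 27, 93]) ≤ 6 * Nat.card (stabL A [0, 24, 26, 27, 93, 192]) := by
  have h := card_stabL_le A [0, 24, 26, 27, 93] (b := 192) (by norm_num) irCell5 (fun σ hσ =>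
    mem_cell hσ.1 (l := [0, 24, 26, 27, 93]) (fun s hs => ⟨by revert s; decide, hσ.2 s hs⟩) irRounds5 irClose5
      (by norm_num) irCellOK5)
  have e : irCell5.length = 6 := by decide
  rw [e] at h
  exact h

def irRounds6 : List (List ℕ) := [[37, 146, 209, 257, 290, 399, 445],
  [28, 151, 186, 249, 261, 264, 279, 281, 404, 439, 502, 514, 517],
  [7, 9, 21, 35, 50, 60, 72, 75, 95, 131, 136, 140, 176, 181, 195, 208, 238, 240, 246, 248, 277, 280, 288, 303, 313, 325, 328, 346, 348, 384, 389, 393, 429, 434, 448, 461, 462, 491, 493, 499, 501, 510, 529, 536, 538, 550]]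

def irMask6 : ℕ := 3686636666812677615796258458370963987562584744536882072658414677920597471217840037121666196116078627972472466010661442155341540368056567112045406854739504694858613377

def irCell6 : List ℕ := [544, 546]

theorem irClose6 : closeMask 552 am (listMask [0, 24, 26, 27, 93, 192]) irRounds6 = some irMask6 := by
  rw [← closeMask2_eq am_length]
  decide +kernel

theorem irCellOK6 : cellOK 552 am irMask6 544 irCell6 = true := by
  rw [← cellOK2_eq am_length]
  decide +kernel

theorem irStep6 : Nat.card (stabL A [0, 24, 26, 27, 93, 192]) ≤ 2 * Nat.card (stabL A [0, 24, 26, 27, 93, 192, 544]) := by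
  have h := card_stabL_le A [0, 24, 26, 27, 93, 192] (b := 544) (by norm_num) irCell6 (fun σ hσ =>
    mem_cell hσ.1 (l := [0, 24, 26, 27, 93, 192]) (fun s hs => ⟨by revert s; decide, hσ.2 s hs⟩) irRounds6 irClose6
      (by norm_num) irCellOK6)
  have e : irCell6.length = 2 := by decide
  rw [e] at h
  exact h

def irRoundsF : List (List ℕ) := [[37, 139, 146, 165, 193, 209, 231, 238, 257, 290, 392, 399, 418, 445, 446, 484, 491],
  [2, 3, 4, 5, 6, 7, 9, 10, 12, 15, 16, 17, 22, 25, 28, 30, 31, 32, 34, 35, 40, 41, 43, 46, 47, 48, 49, 50, 52, 53, 54, 55, 56, 58, 59, 60, 62, 63, 64, 65, 66, 67, 68, 69, 70, 74, 76, 78, 80, 81, 82, 84, 85, 87, 88, 89, 90, 92, 95, 97, 100, 101, 104, 106, 112, 113, 114, 116, 120, 121, 126, 127, 128, 129, 131, 134, 136, 141, 142, 143, 145, 148, 149, 150, 151, 154, 156, 159, 160, 162, 163, 166, 167, 169, 170, 172, 173, 175, 176, 178, 179, 180, 182, 183, 185, 186, 187, 188, 189, 190, 191, 194, 195, 196, 198, 199, 205, 207, 210, 211, 212, 215, 219, 222, 225, 227, 229, 232,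 235, 236, 239, 240, 242, 243, 246, 247, 248, 249, 251, 252, 253, 254, 255, 258, 259, 261, 262, 264, 265, 266, 269, 271, 273, 277, 278, 279, 280, 281, 283, 284, 285, 287, 288, 293, 294, 296, 299, 300, 301, 302, 303, 305, 306, 307, 308, 309, 311, 312, 313, 315, 316, 317, 318, 319, 320, 321, 322, 323, 327, 329, 331, 333, 334, 335, 337, 338, 340, 341, 342, 343, 345, 346, 348, 350, 353, 354, 357, 359, 365, 366, 367, 369, 373, 374, 379, 380, 381, 382, 384, 387, 389, 394, 395, 396, 398, 401, 402, 403, 404, 407, 409, 412, 413, 415, 416, 419, 420, 422, 423, 425, 426, 428, 429, 431, 432, 433, 435, 436, 438, 439, 440, 441, 442, 443, 444, 447, 448, 449, 451, 452, 458, 460, 462, 463, 464, 465, 468, 472, 475, 478, 480, 482, 485, 488, 489, 492, 493, 495, 496, 499, 500, 501, 502, 504, 505, 506, 507, 508, 510, 511, 512, 514, 515, 517, 518, 519, 522, 524, 526, 529, 531, 532, 533, 534, 535, 536, 538, 539, 541, 545, 546, 551],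
  [1, 8, 11, 13, 14, 18, 19, 20, 21, 23, 29, 33, 36, 38, 39, 42, 44, 45, 51, 57, 61, 71, 72, 73, 75, 77, 79, 83, 86, 91, 94, 96, 98, 99, 102, 103, 105, 107, 108, 109, 110, 111, 115, 117, 118, 119, 122, 123, 124, 125, 130, 132, 133, 135, 137, 138, 140, 144, 147, 152, 153, 155, 157, 158, 161, 164, 168, 171, 174, 177, 181, 184, 197, 200, 201, 202, 203, 204, 206, 208, 213, 214, 216, 217, 218, 220, 221, 223, 224, 226, 228, 230, 233, 234, 237, 241, 244, 245, 250, 256, 260, 263, 267, 268, 270, 272, 274, 275, 276, 282, 286, 289, 291, 292, 295, 297, 298, 304, 310, 314, 324, 325, 326, 328, 330, 332, 336, 339, 344, 347, 349, 351, 352, 355, 356, 358, 360, 361, 362, 363, 364, 368, 370, 371, 372, 375, 376, 377, 378, 383, 385, 386, 388, 390, 391, 393, 397, 400, 405, 406, 408, 410, 411, 414, 417, 421, 424, 427, 430, 434, 437, 450, 453, 454, 455, 456, 457, 459, 461, 466, 467, 469, 470, 471, 473, 474, 476, 477, 479, 481, 483, 486, 487, 490, 494, 497, 498, 503, 509, 513, 516, 520, 521, 523, 525, 527, 528, 530, 537,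 540, 542, 543, 547, 548, 549, 550]]

theorem irCloseF : closeMask 552 am (listMask [0, 24, 26, 27, 93, 192, 544]) irRoundsF = some (2 ^ 552 - 1) := by
  rw [← closeMask2_eq am_length]
  decide +kernel

theorem card_stab_base : Nat.card (stabL A [0, 24, 26, 27, 93, 192, 544]) = 1 := by
  have : stabL A [0, 24, 26, 27, 93, 192, 544] = ⊥ := by
    rw [Subgroup.eq_bot_iff_forall]
    intro σ hσ
    exact eq_one_of_closeMask hσ.1 (l := [0, 24, 26, 27, 93, 192, 544]) (fun s hs => ⟨by revert s; decide, hσ.2 s hs⟩)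
      irRoundsF irCloseF
  rw [this, Subgroup.card_bot]

/-- The automorphism group has order at most 991533312000. -/
theorem card_A_le : Nat.card A ≤ 991533312000 := by
  have h0 := irStep0
  have h1 := irStep1
  have h2 := irStep2
  have h3 := irStep3
  have h4 := irStep4
  have h5 := irStep5
  have h6 := irStep6
  rw [card_stab_base] at h6
  rw [stabL_nil] at h0
  omega

end Cfsg.Agent.Lib.Helper35.C3
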