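import Mathlib
import Cfsg.Agent.Lib.Helper35.Co3Vec

/-! A part of the table of inner products of the 552 vectors. -/

set_option autoImplicit false
set_option maxRecDepth 100000
set_option maxHeartbeats 4000000

namespace Cfsg.Agent.Lib.Helper35.C3

theorem chunk0 : chunkOK 0 = true := by decide +kernel

theorem chunk1 : chunkOK 1 = true := by decide +kernel

theorem chunk2 : chunkOK 2 = true := by decide +kernel

end Cfsg.Agent.Lib.Helper35.C3
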