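import Mathlib
import Cfsg.Agent.Lib.Helper35.Co3VecA
import Cfsg.Agent.Lib.Helper35.Co3VecB
import Cfsg.Agent.Lib.Helper35.Co3VecC
import Cfsg.Agent.Lib.Helper35.Co3VecD

/-! The table of inner products of the 552 vectors. -/

set_option autoImplicit false

namespace Cfsg.Agent.Lib.Helper35.C3

open Cfsg.Agent.Lib.Helper35.StSearch Cfsg.Agent.Lib.Helper35.GraphTab

theorem dot_table : ((desc.zip am).zipIdx.all fun x => desc.zipIdx.all fun y =>
    pairOK x.1.1 y.1 x.1.2 x.2 y.2) = true := by
  have hl : (desc.zip am).zipIdx.length ≤ 46 * 12 := by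
    rw [List.length_zipIdx, List.length_zip, desc_length, am_length]; decide
  refine all_of_chunks rowOK _ 46 12 (by decide) ?_ hl
  intro k hk
  interval_cases k
  · exact chunk0
  · exact chunk1
  · exact chunk2
  · exact chunk3
  · exact chunk4
  · exact chunk5
  · exact chunk6
  · exact chunk7
  · exact chunk8
  · exact chunk9
  · exact chunk10
  · exact chunk11

end Cfsg.Agent.Lib.Helper35.C3
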