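import Cfsg.Agent.Lib.Helper35.M24Base

/-!
Counting supports of code words satisfying a Boolean condition on masks, by enumerating the 4096
code words; transport of such counts along elements of `M24`.
-/

set_option autoImplicit false

namespace Cfsg.Agent.Lib.Helper35

open Cfsg
open Cfsg.Agent.Lib.Helper10 (idx pt idx_pt idx_injective enc enc_mod enc_lt vec_xorSel_mem vec_basis_mem
  vec_mem_golayCode_iff)
open scoped Pointwise

theorem enc_mod_eq_all : (List.range 4096).all (fun k => enc k % 4096 == k) = true := by
  decide +kernel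

theorem enc_mod_eq {k : ℕ} (hk : k < 4096) : enc k % 4096 = k :=
  beq_iff_eq.mp (forall_lt_of_all' 4096 _ enc_mod_eq_all k hk)

theorem enc_enc (k : ℕ) : enc (enc k) = enc k := by
  have h : Cfsg.Agent.Lib.Helper10.vec (enc k) ∈ golayCode :=
    vec_xorSel_mem _ _ vec_basis_mem _ _
  exact (vec_mem_golayCode_iff (enc_lt k)).mp h

theorem setOfMask_gmask (s : Finset GolayPt) : setOfMask (gmask s) = s :=
  ofMask_maskOf idx_injective s

/-- Number of supports of code words whose mask satisfies `f`. -/
theorem ncard_supports_filter (f : ℕ → Bool) :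
    {s : Finset GolayPt | s ∈ supports (golayCode : Set (GolayPt → ZMod 2)) ∧
      f (gmask s) = true}.ncard =
      ((List.range 4096).filter (fun k => f (enc k))).length := by
  set L := (List.range 4096).filter (fun k => f (enc k)) with hL
  have hnd : L.Nodup := List.Nodup.filter _ List.nodup_range
  have hset : {s : Finset GolayPt | s ∈ supports (golayCode : Set (GolayPt → ZMod 2)) ∧
      f (gmask s) = true} = (fun k => setOfMask (enc k)) '' (L.toFinset : Set ℕ) := by
    ext s
    simp only [Set.mem_ofPred_eq, Set.mem_image, Finset.mem_coe, List.mem_toFinset, hL,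
      List.mem_filter, List.mem_range]
    constructor
    · rintro ⟨hs, hf⟩
      have hc := (mem_supports_iff s).mp hs
      refine ⟨gmask s % 4096, ⟨Nat.mod_lt _ (by norm_num), ?_⟩, ?_⟩
      · rw [enc_mod, hc]; exact hf
      · rw [enc_mod, hc]; exact setOfMask_gmask s
    · rintro ⟨k, ⟨_, hf⟩, rfl⟩
      have hg : gmask (setOfMask (enc k)) = enc k := gmask_setOfMask (enc_lt k)
      refine ⟨?_, ?_⟩
      · rw [mem_supports_iff, hg]; exact enc_enc k
      · rw [hg]; exact hf
  rw [hset, Set.InjOn.ncard_image, Set.ncard_coe_finset, List.toFinset_card_of_nodup hnd]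
  intro a ha b hb hab
  simp only [Finset.mem_coe, List.mem_toFinset, hL, List.mem_filter, List.mem_range] at ha hb
  have hab' : setOfMask (enc a) = setOfMask (enc b) := hab
  have h1 : gmask (setOfMask (enc a)) = gmask (setOfMask (enc b)) := by rw [hab']
  rw [gmask_setOfMask (enc_lt a), gmask_setOfMask (enc_lt b)] at h1
  rw [← enc_mod_eq ha.1, ← enc_mod_eq hb.1, h1]

/-- Transport of a count along an element of a group acting on a type. -/
theorem ncard_smul_transport {G X : Type*} [Group G] [MulAction G X] (g : G) (Q : X → Prop) :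
    {s : X | Q s}.ncard = {s : X | Q (g • s)}.ncard := by
  have : {s : X | Q s} = (fun s => g • s) '' {s : X | Q (g • s)} := by
    ext s
    simp only [Set.mem_ofPred_eq, Set.mem_image]
    constructor
    · intro h
      exact ⟨g⁻¹ • s, by rw [smul_inv_smul]; exact h, smul_inv_smul g s⟩
    · rintro ⟨t, ht, rfl⟩
      exact ht
  rw [this, Set.ncard_image_of_injective _ (MulAction.injective g)]

end Cfsg.Agent.Lib.Helper35
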