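import Mathlib
import Cfsg.Agent.Lib.Helper35.Co3Aut
import Cfsg.Agent.Lib.Helper35.Co3VecT
import Cfsg.Agent.Lib.Helper94.LeechC3f

/-! The stabiliser of the standard vector of the second length acts faithfully on the 552 vectors,
as a group of automorphisms of the graph on 552 vertices; the third Conway group is this
stabiliser. -/

set_option autoImplicit false
set_option maxRecDepth 100000
set_option maxHeartbeats 4000000

namespace Cfsg.Agent.Lib.Helper35.C3

open Cfsg MulAction
open Cfsg.Agent.Lib.Helper35.StSearch Cfsg.Agent.Lib.Helper35.GraphTab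
open Cfsg.Agent.Lib.Helper94 Cfsg.Agent.Lib.Helper95
open Cfsg.Agent.Lib.Helper10 (idx pt idx_lt pt_idx idx_pt idx_injective vec vec_apply enc
  vec_mem_golayCode_iff)

theorem all_getD {l : List ℕ} {p : ℕ → Bool} (h : l.all p = true) {j : ℕ} (hj : j < l.length) :
    p (l.getD j 0) = true := by
  rw [List.all_eq_true] at h
  apply h
  rw [List.getD_eq_getElem _ _ hj]
  exact List.getElem_mem hj

theorem onm_spec {j : ℕ} (hj : j < 253) : onm.getD j 0 < 2 ^ 24 ∧ enc (onm.getD j 0) = onm.getD j 0 ∧
    popc 24 (onm.getD j 0) = 8 ∧ (onm.getD j 0).testBit 23 = true := by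
  have := all_getD onm_ok (j := j) (by rw [onm_length]; exact hj)
  generalize onm.getD j 0 = o at this ⊢
  simp only [Bool.and_eq_true, decide_eq_true_eq, beq_iff_eq] at this
  obtain ⟨⟨⟨h1, h2⟩, h3⟩, h4⟩ := this
  exact ⟨h1, h2, h3, h4⟩

theorem idx_none : idx none = 23 := rfl

theorem idx_ne_of_ne_none {p : GolayPt} (h : p ≠ none) : idx p ≠ 23 := by
  intro e
  apply h
  rw [← pt_idx p, e]
  rfl

theorem pt_ne_none {i : ℕ} (hi : i < 23) : pt i ≠ none := by
  intro e
  have := congrArg idx e
  rw [idx_pt (by omega), idx_none] at this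
  omega

theorem vecF_A {i : ℕ} (hi : i < 23) : vecF i = twoVec none (pt i) 4 := by
  have hj : pt i ≠ none := pt_ne_none hi
  funext p
  have hrow : vecF i p = if idx p = 23 ∨ idx p = i then 4 else 0 := by
    unfold vecF vecG descF
    rw [if_pos hi]
    show (0 : ℤ) + 4 * bitZ _ (idx p) + 0 * dl (idx p) = _
    unfold bitZ
    rw [bitsA i hi (idx p) (idx_lt p)]
    by_cases h : idx p = 23 ∨ idx p = i
    · simp [h]
    · simp [h]
  rw [hrow]
  unfold twoVec
  rw [Pi.add_apply, Pi.single_apply, Pi.single_apply]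
  by_cases h1 : p = none
  · subst h1
    have : ¬ (none = pt i) := fun e => hj e.symm
    simp [idx_none, this]
  · have h2 : idx p ≠ 23 := idx_ne_of_ne_none h1
    by_cases h3 : p = pt i
    · subst h3
      rw [idx_pt (by omega)]
      simp [hj]
    · have h4 : idx p ≠ i := fun e => h3 (by rw [← pt_idx p, e])
      simp [h1, h2, h3, h4]

theorem vecF_B {i : ℕ} (h1 : 23 ≤ i) (h2 : i < 276) :
    vecF i = pmVec 2 (ofMask idx (onm.getD (i - 23) 0)) ∅ := by
  funext p
  unfold vecF vecG descF
  rw [if_neg (by omega), if_pos h2, pmVec_apply, if_neg (Finset.notMem_empty _)]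
  show (0 : ℤ) + 2 * bitZ _ (idx p) + 0 * dl (idx p) = _
  unfold bitZ
  by_cases h : (onm.getD (i - 23) 0).testBit (idx p) = true
  · rw [if_pos h, if_pos ((mem_ofMask idx _ p).mpr h)]
    norm_num
  · rw [if_neg h, if_neg (fun hp => h ((mem_ofMask idx _ p).mp hp))]
    norm_num

theorem vecF_C {i : ℕ} (h1 : 276 ≤ i) (h2 : i < 529) :
    vecF i = signVec (vec (onm.getD (i - 276) 0)) (oneVec {none} (-3)) := by
  obtain ⟨-, -, -, h23⟩ := onm_spec (j := i - 276) (by omega)
  funext p
  unfold vecF vecG descF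
  rw [if_neg (by omega), if_neg (by omega), if_pos h2, signVec_apply, oneVec_apply]
  show (1 : ℤ) + (-2) * bitZ _ (idx p) + 4 * dl (idx p) = _
  generalize onm.getD (i - 276) 0 = o at h23 ⊢
  unfold sgnOf
  rw [vec_apply]
  by_cases hp : p = none
  · subst hp
    have e1 : bitZ o (idx none) = 1 := by unfold bitZ; rw [idx_none, if_pos h23]
    have e2 : dl (idx none) = 1 := by unfold dl; rw [idx_none, if_pos rfl]
    have e3 : (none : GolayPt) ∈ ({none} : Finset GolayPt) := Finset.mem_singleton_self _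
    rw [e1, e2, idx_none, h23, if_pos rfl, if_pos e3, ZMod.val_one]
    norm_num
  · have e2 : dl (idx p) = 0 := by unfold dl; rw [if_neg (idx_ne_of_ne_none hp)]
    have e3 : p ∉ ({none} : Finset GolayPt) := by simpa using hp
    rw [e2, if_neg e3]
    by_cases h : o.testBit (idx p) = true
    · have e1 : bitZ o (idx p) = 1 := by unfold bitZ; rw [if_pos h]
      rw [e1, h, if_pos rfl, ZMod.val_one]
      norm_num
    · have h' : o.testBit (idx p) = false := by simpa using h
      have e1 : bitZ o (idx p) = 0 := by unfold bitZ; rw [if_neg h]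
      rw [e1, h', if_neg (by simp), ZMod.val_zero]
      norm_num

theorem vecF_D {i : ℕ} (h1 : 529 ≤ i) (h2 : i < 552) : vecF i = oneVec {pt (i - 529)} (-3) := by
  funext p
  unfold vecF vecG descF
  rw [if_neg (by omega), if_neg (by omega), if_neg (by omega), oneVec_apply]
  show (1 : ℤ) + (-4) * bitZ _ (idx p) + 0 * dl (idx p) = _
  unfold bitZ
  rw [Nat.testBit_two_pow]
  by_cases hp : p = pt (i - 529)
  · have e : idx p = i - 529 := by rw [hp, idx_pt (by omega)]
    rw [if_pos (by rw [e]; simp), if_pos (by rw [hp]; exact Finset.mem_singleton_self _)]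
    norm_num
  · have e : ¬ (i - 529 = idx p) := fun e => hp (by rw [← pt_idx p, ← e])
    rw [if_neg (by simpa using e), if_neg (by simpa using hp)]
    norm_num

theorem gmask_ofMask {o : ℕ} (ho : o < 2 ^ 24) : gmask (ofMask idx o) = o :=
  maskOf_ofMask (n := 24) (fun i hi => ⟨pt i, idx_pt hi⟩) ho

theorem vecF_mem {i : ℕ} (hi : i < 552) : vecF i ∈ set552 := by
  apply f552_sub
  unfold f552
  rw [Finset.mem_union, Finset.mem_union, Finset.mem_union]
  by_cases h1 : i < 23
  · left; left; left
    unfold f552A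
    rw [Finset.mem_image]
    refine ⟨pt i, ?_, (vecF_A h1).symm⟩
    rw [Finset.mem_filter]
    exact ⟨Finset.mem_univ _, pt_ne_none h1⟩
  · by_cases h2 : i < 276
    · left; left; right
      obtain ⟨ho, henc, hpop, h23⟩ := onm_spec (j := i - 23) (by omega)
      unfold f552B
      rw [Finset.mem_image]
      refine ⟨ofMask idx (onm.getD (i - 23) 0), ?_, (vecF_B (by omega) h2).symm⟩
      rw [mem_octThrough, codeSupps_eight_eq, Cfsg.Agent.Lib.Helper09.mem_blocks,
        Cfsg.Agent.Lib.Helper35.mem_octads_iff, gmask_ofMask ho]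
      refine ⟨⟨henc, hpop⟩, ?_⟩
      intro q hq
      rw [Finset.mem_singleton] at hq
      rw [mem_ofMask, hq]
      exact h23
    · by_cases h3 : i < 529
      · left; right
        obtain ⟨ho, henc, hpop, h23⟩ := onm_spec (j := i - 276) (by omega)
        unfold f552C
        rw [Finset.mem_image]
        refine ⟨vec (onm.getD (i - 276) 0), ?_, (vecF_C (by omega) h3).symm⟩
        rw [Finset.mem_filter, mem_codeWords]
        refine ⟨⟨(vec_mem_golayCode_iff ho).mpr henc, ?_⟩, ?_⟩
        · rw [hammingNorm_eq_card_bsupp, ← support₂_eq_bsupp]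
          have e : support₂ (vec (onm.getD (i - 276) 0)) = ofMask idx (onm.getD (i - 276) 0) := by
            conv_lhs => rw [← gmask_ofMask ho]
            exact support₂_vec_gmask _
          rw [e, card_eq_popc_gmask, gmask_ofMask ho, hpop]
        · rw [vec_apply, idx_none, h23, if_pos rfl]
      · right
        unfold f552D
        rw [Finset.mem_image]
        refine ⟨pt (i - 529), ?_, (vecF_D (by omega) hi).symm⟩
        rw [Finset.mem_filter]
        exact ⟨Finset.mem_univ _, pt_ne_none (by omega)⟩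

/-! ### Inner products -/

theorem sum_idx (f : ℕ → ℤ) : ∑ p : GolayPt, f (idx p) = ∑ k ∈ Finset.range 24, f k := by
  have h1 : (Finset.univ : Finset GolayPt).image idx = Finset.range 24 := by
    ext k
    rw [Finset.mem_image, Finset.mem_range]
    constructor
    · rintro ⟨p, -, rfl⟩; exact idx_lt p
    · intro hk; exact ⟨pt k, Finset.mem_univ _, idx_pt hk⟩
  rw [← h1, Finset.sum_image (fun p _ q _ h => idx_injective h)]

theorem sum_bitZ (s : ℕ) : ∑ k ∈ Finset.range 24, bitZ s k = (popc 24 s : ℕ) := by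
  rw [popc_eq_sum]
  push_cast
  apply Finset.sum_congr rfl
  intro k _
  unfold bitZ
  by_cases h : s.testBit k = true <;> simp [h]

theorem sum_dl : ∑ k ∈ Finset.range 24, dl k = 1 := by
  unfold dl
  rw [Finset.sum_ite_eq' (Finset.range 24) 23]
  simp

theorem sum_bitZ_mul (s s' : ℕ) :
    ∑ k ∈ Finset.range 24, bitZ s k * bitZ s' k = (popc 24 (s &&& s') : ℕ) := by
  rw [← sum_bitZ]
  apply Finset.sum_congr rfl
  intro k _
  unfold bitZ
  rw [Nat.testBit_and]
  by_cases h : s.testBit k = true <;> by_cases h' : s'.testBit k = true <;> simp [h, h']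

theorem sum_bitZ_dl (s : ℕ) : ∑ k ∈ Finset.range 24, bitZ s k * dl k = bitZ s 23 := by
  have : ∀ k ∈ Finset.range 24, bitZ s k * dl k = if k = 23 then bitZ s 23 else 0 := by
    intro k _
    unfold dl
    by_cases h : k = 23
    · subst h; simp
    · simp [h]
  rw [Finset.sum_congr rfl this, Finset.sum_ite_eq' (Finset.range 24) 23]
  simp

theorem sum_dl_dl : ∑ k ∈ Finset.range 24, dl k * dl k = 1 := by
  have : ∀ k ∈ Finset.range 24, dl k * dl k = dl k := by
    intro k _
    unfold dl
    by_cases h : k = 23 <;> simp [h]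
  rw [Finset.sum_congr rfl this, sum_dl]

theorem dotInt_vecG (d d' : ℕ × ℕ) : dotInt (vecG d) (vecG d') = ldot2 d d' := by
  unfold dotInt vecG ldot2
  rw [sum_idx (fun k => ((coef d.1).1 + (coef d.1).2.1 * bitZ d.2 k + (coef d.1).2.2 * dl k) *
    ((coef d'.1).1 + (coef d'.1).2.1 * bitZ d'.2 k + (coef d'.1).2.2 * dl k))]
  generalize (coef d.1).1 = c0
  generalize (coef d.1).2.1 = c1
  generalize (coef d.1).2.2 = c2
  generalize (coef d'.1).1 = e0
  generalize (coef d'.1).2.1 = e1
  generalize (coef d'.1).2.2 = e2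
  have hp : ∀ k ∈ Finset.range 24,
      (c0 + c1 * bitZ d.2 k + c2 * dl k) * (e0 + e1 * bitZ d'.2 k + e2 * dl k) =
        c0 * e0 + c0 * e1 * bitZ d'.2 k + c0 * e2 * dl k + c1 * e0 * bitZ d.2 k +
          c1 * e1 * (bitZ d.2 k * bitZ d'.2 k) + c1 * e2 * (bitZ d.2 k * dl k) + c2 * e0 * dl k +
          c2 * e1 * (bitZ d'.2 k * dl k) + c2 * e2 * (dl k * dl k) := by
    intro k _; ring
  rw [Finset.sum_congr rfl hp]
  simp only [Finset.sum_add_distrib, ← Finset.mul_sum, sum_bitZ, sum_dl, sum_bitZ_mul, sum_bitZ_dl,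
    sum_dl_dl, Finset.sum_const, Finset.card_range, nsmul_eq_mul]
  push_cast
  ring

theorem ldot3_eq (d d' : ℕ × ℕ × ℕ) (h : popc 24 d.2.1 = d.2.2) (h' : popc 24 d'.2.1 = d'.2.2) :
    ldot3 d d' = ldot2 (d.1, d.2.1) (d'.1, d'.2.1) := by
  unfold ldot3 ldot2
  rw [← h, ← h']

theorem chk_spec {v : ℤ} {b e : Bool} (h : chk v b e = true) :
    (v = 8 ↔ b = true) ∧ (e = true ↔ v = 32) := by
  cases v with
  | ofNat n =>
    simp only [chk, Bool.and_eq_true, beq_iff_eq] at h
    obtain ⟨h1, h2⟩ := h
    rw [Int.ofNat_eq_natCast]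
    constructor
    · rw [← h1, beq_iff_eq]
      constructor
      · intro hv; omega
      · intro hv; omega
    · rw [h2, beq_iff_eq]
      constructor
      · intro hv; omega
      · intro hv; omega
  | negSucc n =>
    simp only [chk, Bool.and_eq_true, Bool.not_eq_true'] at h
    obtain ⟨h1, h2⟩ := h
    constructor
    · rw [h1]
      constructor
      · intro hv; exact absurd hv (by omega)
      · intro hv; exact absurd hv (by simp)
    · rw [h2]
      constructor
      · intro hv; exact absurd hv (by simp)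
      · intro hv; exact absurd hv (by omega)

theorem all_zipIdx_spec {α : Type*} {l : List α} {p : α × ℕ → Bool} (h : l.zipIdx.all p = true)
    (i : ℕ) (hi : i < l.length) : p (l[i], i) = true := by
  rw [List.all_eq_true] at h
  apply h
  rw [List.mem_zipIdx_iff_getElem?]
  simp [hi]

theorem getElem_desc_aux (l : List (ℕ × ℕ × ℕ))
    (h1 : l.map (fun d => (d.1, d.2.1)) = (List.range 552).map descF)
    (h2 : l.all (fun d => popc 24 d.2.1 == d.2.2) = true) {i : ℕ} (hi : i < l.length) :
    (l[i].1, l[i].2.1) = descF i ∧ popc 24 l[i].2.1 = l[i].2.2 := by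
  constructor
  · have h3 := List.getElem_of_eq h1 (i := i) (by simpa using hi)
    simpa using h3
  · rw [List.all_eq_true] at h2
    have := h2 l[i] (List.getElem_mem hi)
    rwa [beq_iff_eq] at this

theorem pair_spec {i j : ℕ} (hi : i < 552) (hj : j < 552) :
    (ldot2 (descF i) (descF j) = 8 ↔ (am.getD i 0).testBit j = true) ∧
      (i = j ↔ ldot2 (descF i) (descF j) = 32) := by
  have hzl : (desc.zip am).length = 552 := by
    rw [List.length_zip, desc_length, am_length]; rfl
  have hi' : i < desc.length := by rw [desc_length]; exact hi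
  have hj' : j < desc.length := by rw [desc_length]; exact hj
  have h1 := all_zipIdx_spec dot_table i (by rw [hzl]; exact hi)
  have h2 := all_zipIdx_spec h1 j hj'
  simp only [List.getElem_zip] at h2
  obtain ⟨e1, p1⟩ := getElem_desc_aux desc desc_eq desc_popc hi'
  obtain ⟨e2, p2⟩ := getElem_desc_aux desc desc_eq desc_popc hj'
  unfold pairOK at h2
  rw [ldot3_eq _ _ p1 p2, e1, e2] at h2
  obtain ⟨h3, h4⟩ := chk_spec h2
  rw [List.getD_eq_getElem _ _ (by rw [am_length]; exact hi)]
  refine ⟨h3, ?_⟩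
  rw [← h4, beq_iff_eq]

theorem dotInt_vecF (i j : ℕ) : dotInt (vecF i) (vecF j) = ldot2 (descF i) (descF j) :=
  dotInt_vecG _ _

theorem adj_iff_dot {i j : ℕ} (hi : i < 552) (hj : j < 552) :
    adjB am i j = decide (dotInt (vecF i) (vecF j) = 8) := by
  have h := (pair_spec hi hj).1
  rw [dotInt_vecF]
  unfold adjB
  by_cases h8 : ldot2 (descF i) (descF j) = 8
  · rw [h.mp h8]; simp [h8]
  · have : (am.getD i 0).testBit j = false := by
      by_contra hc
      exact h8 (h.mpr (by simpa using hc))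
    rw [this]; simp [h8]

theorem vecF_inj {i j : ℕ} (hi : i < 552) (hj : j < 552) (h : vecF i = vecF j) : i = j := by
  have h1 := (pair_spec hi hj).2
  have h2 := (pair_spec hi hi).2
  have e : ldot2 (descF i) (descF j) = ldot2 (descF i) (descF i) := by
    rw [← dotInt_vecF, ← dotInt_vecF, h]
  rw [h1, e]
  exact h2.mp rfl

/-! ### The action on the 552 vectors -/

/-- The 552 vectors as a subtype of the lattice. -/
abbrev Y : Type := {x : leechLattice // x.1 ∈ set552}

/-- The enumeration of the 552 vectors. -/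
def enumY (i : Fin 552) : Y := ⟨⟨vecF i, (vecF_mem i.2).1⟩, vecF_mem i.2⟩

theorem enumY_injective : Function.Injective enumY := by
  intro i j h
  apply Fin.ext
  apply vecF_inj i.2 j.2
  exact congrArg (fun y : Y => (y.1.1 : GolayPt → ℤ)) h

theorem enumY_surjective : Function.Surjective enumY := by
  have hfin : set552.Finite := Set.finite_of_ncard_ne_zero (by rw [ncard_set552]; norm_num)
  have hsub : Set.range (fun i : Fin 552 => vecF i) ⊆ set552 := by
    rintro _ ⟨i, rfl⟩
    exact vecF_mem i.2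
  have hinj : Function.Injective (fun i : Fin 552 => vecF i) := fun i j h =>
    Fin.ext (vecF_inj i.2 j.2 h)
  have hcard : set552.ncard ≤ (Set.range (fun i : Fin 552 => vecF i)).ncard := by
    rw [ncard_set552, ← Set.image_univ, Set.ncard_image_of_injective _ hinj, Set.ncard_univ,
      Nat.card_fin]
  have heq := Set.eq_of_subset_of_ncard_le hsub hcard hfin
  intro y
  have : y.1.1 ∈ Set.range (fun i : Fin 552 => vecF i) := by rw [heq]; exact y.2
  obtain ⟨i, hi⟩ := this
  exact ⟨i, Subtype.ext (Subtype.ext hi)⟩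

/-- The enumeration as an equivalence. -/
noncomputable def EY : Fin 552 ≃ Y := Equiv.ofBijective enumY ⟨enumY_injective, enumY_surjective⟩

theorem EY_val (i : Fin 552) : ((EY i).1.1 : GolayPt → ℤ) = vecF i := rfl

theorem CO3_preservesY (g : ↥CO3) (x : leechLattice) (hx : x.1 ∈ set552) :
    (g • x).1 ∈ set552 := by
  have hgU : g.1 • U5 = U5 := (mem_CO3 g.1).mp g.2
  obtain ⟨-, h2, h3⟩ := hx
  refine ⟨(g • x).2, ?_, ?_⟩
  · exact (g.1.2.2 x).trans h2
  · have := co0_dot g.1.1 g.1.2 U5 x
    have e : g.1.1 U5 = U5 := hgU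
    rw [e] at this
    exact this.trans h3

theorem CO3_faithfulY (g : ↥CO3)
    (hg : ∀ x ∈ {x : leechLattice | x.1 ∈ set552}, g • x = x) : g = 1 := by
  have hgU : g.1 • U5 = U5 := (mem_CO3 g.1).mp g.2
  have hk : g.1.1 ∈ Co0 := g.1.2
  have fixA : ∀ j : GolayPt, j ≠ none → ∀ (hm : twoVec none j 4 ∈ leechLattice),
      g.1.1 ⟨twoVec none j 4, hm⟩ = ⟨twoVec none j 4, hm⟩ := by
    intro j hj hm
    apply hg
    show twoVec none j 4 ∈ set552
    apply f552_sub
    unfold f552
    rw [Finset.mem_union, Finset.mem_union, Finset.mem_union]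
    left; left; left
    unfold f552A
    rw [Finset.mem_image]
    exact ⟨j, by rw [Finset.mem_filter]; exact ⟨Finset.mem_univ _, hj⟩, rfl⟩
  apply Subtype.ext
  apply Subtype.ext
  show g.1.1 = 1
  apply Equiv.ext
  intro v
  apply Subtype.ext
  show ((g.1.1 v : leechLattice) : GolayPt → ℤ) = v.1
  set w : GolayPt → ℤ := ((g.1.1 v : leechLattice) : GolayPt → ℤ) with hw
  have d2 : dotInt u5 w = dotInt u5 v.1 := by
    have := co0_dot g.1.1 hk U5 v
    have e : g.1.1 U5 = U5 := hgU
    rw [e] at this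
    exact this
  rw [dotInt_u5, dotInt_u5] at d2
  have d1 : ∀ j : GolayPt, j ≠ none → w j - v.1 j = -(w none - v.1 none) := by
    intro j hj
    have hm : twoVec none j 4 ∈ leechLattice := twoVec_mem (Or.inl rfl)
    have := co0_dot g.1.1 hk ⟨twoVec none j 4, hm⟩ v
    rw [fixA j hj hm] at this
    have this' : dotInt (twoVec none j 4) w = dotInt (twoVec none j 4) v.1 := this
    rw [dotInt_comm', dotInt_twoVec, dotInt_comm', dotInt_twoVec] at this'
    omega
  have hsum : ∑ q, ((w q - v.1 q) + (w none - v.1 none)) = 2 * (w none - v.1 none) := by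
    rw [Finset.sum_eq_single none]
    · ring
    · intro q _ hq
      rw [d1 q hq]; ring
    · intro h; exact absurd (Finset.mem_univ _) h
  rw [Finset.sum_add_distrib, Finset.sum_sub_distrib, Finset.sum_const, Finset.card_univ] at hsum
  have h24 : Fintype.card GolayPt = 24 := by decide
  rw [h24] at hsum
  have hn : w none - v.1 none = 0 := by
    simp only [nsmul_eq_mul, Nat.cast_ofNat] at hsum
    omega
  ext q
  by_cases hq : q = none
  · subst hq; omega
  · have := d1 q hq
    omega

/-- The action of the stabiliser on the 552 vectors. -/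
noncomputable def rhoY : ↥CO3 →* Equiv.Perm Y where
  toFun g :=
    { toFun := fun y => ⟨g • y.1, CO3_preservesY g y.1 y.2⟩
      invFun := fun y => ⟨g⁻¹ • y.1, CO3_preservesY g⁻¹ y.1 y.2⟩
      left_inv := fun y => Subtype.ext (inv_smul_smul g y.1)
      right_inv := fun y => Subtype.ext (smul_inv_smul g y.1) }
  map_one' := by
    apply Equiv.ext
    intro y
    exact Subtype.ext (one_smul _ y.1)
  map_mul' := by
    intro g h
    apply Equiv.ext
    intro y
    exact Subtype.ext (mul_smul g h y.1)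

/-- The action on `Fin 552`. -/
noncomputable def iotaM : ↥CO3 →* Equiv.Perm (Fin 552) :=
  (EY.symm.permCongrHom.toMonoidHom).comp rhoY

theorem EY_iotaM (g : ↥CO3) (i : Fin 552) : EY (iotaM g i) = rhoY g (EY i) := by
  show EY (EY.symm (rhoY g (EY.symm.symm i))) = _
  rw [Equiv.apply_symm_apply]
  rfl

theorem iotaM_mem (g : ↥CO3) : iotaM g ∈ A := by
  intro i j
  rw [adj_iff_dot (iotaM g i).2 (iotaM g j).2, adj_iff_dot i.2 j.2]
  congr 1
  rw [← EY_val, ← EY_val, ← EY_val, ← EY_val, EY_iotaM, EY_iotaM]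
  exact congrArg (· = 8) (co0_dot g.1.1 g.1.2 (EY i).1 (EY j).1)

theorem iotaM_injective : Function.Injective iotaM := by
  rw [injective_iff_map_eq_one]
  intro g hg
  apply CO3_faithfulY
  intro x hx
  obtain ⟨i, hi⟩ := EY.surjective ⟨x, hx⟩
  have h1 := EY_iotaM g i
  rw [hg, Equiv.Perm.one_apply, hi] at h1
  exact (congrArg (fun y : Y => (y.1 : leechLattice)) h1).symm

/-- The image of the stabiliser. -/
noncomputable def Mimg : Subgroup (Equiv.Perm (Fin 552)) := iotaM.range

theorem Mimg_le : Mimg ≤ A := by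
  rintro _ ⟨g, rfl⟩
  exact iotaM_mem g

theorem card_Mimg : Nat.card Mimg = 495766656000 := by
  rw [← card_CO3]
  exact (Nat.card_congr (MonoidHom.ofInjective iotaM_injective).toEquiv).symm

/-! ### The third Conway group -/

theorem Co3_le_Co0 : Spor.Co3 ≤ Co0 := fun _ h => h.1

theorem leechV_eq : Spor.leechV = -U5 := by
  apply Subtype.ext
  show Spor.vecV = -u5
  funext p
  unfold Spor.vecV u5
  rw [Pi.neg_apply, oneVec_apply]
  by_cases hp : p = none
  · rw [if_pos hp, if_pos (by rw [hp]; exact Finset.mem_singleton_self _)]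
  · rw [if_neg hp, if_neg (by simpa using hp)]

theorem Co3_subgroupOf : Spor.Co3.subgroupOf Co0 = CO3 := by
  ext g
  rw [Subgroup.mem_subgroupOf, mem_CO3]
  unfold Spor.Co3
  rw [Subgroup.mem_inf, mem_stabilizer_iff, leechV_eq]
  constructor
  · rintro ⟨_, h1⟩
    have h3 : g.1 (-U5) = -U5 := h1
    rw [co0_neg g.1 g.2] at h3
    exact neg_injective h3
  · intro h1
    refine ⟨g.2, ?_⟩
    show g.1 (-U5) = -U5
    rw [co0_neg g.1 g.2]
    exact congrArg Neg.neg h1

/-- The third Conway group is isomorphic to the image of the stabiliser in the automorphism group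
of the graph. -/
theorem Co3_iso_Mimg : Nonempty (↥Spor.Co3 ≃* ↥Mimg) :=
  ⟨((Subgroup.subgroupOfEquivOfLe Co3_le_Co0).symm.trans
    (MulEquiv.subgroupCongr Co3_subgroupOf)).trans (MonoidHom.ofInjective iotaM_injective)⟩

end Cfsg.Agent.Lib.Helper35.C3
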