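import Mathlib
import Cfsg.Agent.Lib.Helper35.Co3EltsB
import Cfsg.Agent.Lib.Helper35.Co3EltsC

/-! Relations between four automorphisms of the graph on 552 vertices. -/

set_option autoImplicit false
set_option maxRecDepth 100000
set_option maxHeartbeats 4000000

namespace Cfsg.Agent.Lib.Helper35.C3

open Cfsg.Agent.Lib.Helper35.StSearch Cfsg.Agent.Lib.Helper35.GraphTab

theorem tE_sq : tE * tE = 1 := eq_one_of_isId (tE_tab.mul tE_tab) (by decide +kernel)

theorem cE_sq : cE * cE = 1 := eq_one_of_isId (cE_tab.mul cE_tab) (by decide +kernel)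

theorem aE_ne_one : aE ≠ 1 := by
  intro h
  have := isId_of_eq_one aE_tab h
  revert this
  decide +kernel

theorem tE_ne_one : tE ≠ 1 := by
  intro h
  have := isId_of_eq_one tE_tab h
  revert this
  decide +kernel

theorem rel_ma : mE * aE * mE⁻¹ = aE ^ 2 :=
  ((mE_tab.mul aE_tab).mul mE_inv_tab).ext aE_tab2 (by decide +kernel)

theorem rel_mt : mE * tE = tE * mE :=
  (mE_tab.mul tE_tab).ext (tE_tab.mul mE_tab) (by decide +kernel)

theorem rel_ca : cE * aE = aE * cE :=
  (cE_tab.mul aE_tab).ext (aE_tab.mul cE_tab) (by decide +kernel)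

theorem rel_cm : cE * mE = mE * cE :=
  (cE_tab.mul mE_tab).ext (mE_tab.mul cE_tab) (by decide +kernel)

theorem rel_ct : cE * tE = tE * cE :=
  (cE_tab.mul tE_tab).ext (tE_tab.mul cE_tab) (by decide +kernel)

theorem tE_inv : tE⁻¹ = tE := inv_eq_of_mul_eq_one_right tE_sq

theorem cE_inv : cE⁻¹ = cE := inv_eq_of_mul_eq_one_right cE_sq

end Cfsg.Agent.Lib.Helper35.C3
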