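import Mathlib
import Cfsg.Agent.Lib.Helper35.Co3Elts

/-! Centralisers of two automorphisms of the graph on 552 vertices. -/

set_option autoImplicit false
set_option maxRecDepth 100000
set_option maxHeartbeats 4000000

namespace Cfsg.Agent.Lib.Helper35.C3

open Cfsg.Agent.Lib.Helper35.StSearch Cfsg.Agent.Lib.Helper35.GraphTab

/-- The tables of the elements `aE ^ i * cE ^ e`. -/
def solA : List (List ℕ) :=
  (List.range 23).flatMap fun i => (List.range 2).map fun e =>
    tcomp 552 (tpowL 552 ta i) (tpowL 552 tc e)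

def seedsA : List ℕ := [243]

def roundsA : List (List ℕ) := [[0, 1, 2, 3, 4, 5, 6, 7, 8, 9, 10, 11, 12, 13, 14, 15, 16, 17, 18, 19, 20, 21, 22, 24, 25, 26, 27, 28, 29, 30, 31, 32, 33, 34, 35, 36, 37, 38, 39, 40, 41, 42, 43, 44, 46, 47, 48, 49, 50, 51, 52, 53, 55, 56, 57, 58, 59, 60, 61, 62, 63, 64, 65, 66, 67, 68, 69, 70, 71, 72, 74, 75, 76, 77, 78, 79, 80, 81, 83, 84, 85, 86, 87, 88, 89, 90, 91, 92, 93, 94, 95, 96, 97, 98, 99, 100, 101, 102, 103, 104, 105, 106, 107, 108, 109, 110, 111, 112, 113, 114, 115, 116, 117, 119, 120, 121, 122, 123, 124, 125, 126, 128, 129, 130, 131, 132, 133, 134, 136, 137, 138, 139, 140, 141, 142, 143, 145, 146, 147, 148, 149, 150, 151, 152, 153, 154, 155, 156, 157, 158, 159, 160, 161, 162, 163, 164, 165, 166, 167, 168, 169, 170, 171, 172, 174, 176, 177, 178, 179, 180, 181, 182, 183, 184, 185, 186, 187, 188, 189, 190, 191, 192, 193, 194, 195, 196, 197, 198, 199, 200, 201, 202, 203, 204, 206, 207, 208, 209, 210, 211, 212, 213, 214,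 215, 216, 217, 218, 219, 220, 221, 222, 223, 224, 225, 226, 227, 228, 229, 230, 231, 232, 233, 234, 235, 236, 237, 238, 239, 240, 241, 242, 244, 245, 246, 247, 249, 250, 251, 252, 253, 254, 255, 256, 257, 259, 260, 261, 262, 263, 264, 265, 266, 267, 268, 269, 270, 271, 272, 273, 274, 275, 276, 277, 278, 279, 280, 281, 282, 283, 284, 285, 286, 287, 288, 289, 290, 291, 292, 293, 294, 295, 296, 297, 298, 299, 300, 301, 302, 303, 304, 305, 306, 307, 308, 309, 310, 311, 312, 313, 314, 315, 316, 317, 318, 319, 320, 321, 322, 323, 324, 325, 326, 327, 328, 329, 330, 331, 332, 333, 334, 335, 336, 337, 338, 339, 340, 342, 343, 344, 345, 346, 347, 348, 349, 350, 351, 353, 354, 355, 356, 357, 358, 360, 361, 362, 363, 364, 365, 366, 367, 368, 369, 370, 371, 372, 373, 374, 375, 376, 377, 378, 379, 380, 381, 382, 383, 384, 386, 387, 388, 389, 390, 391, 392, 393, 394, 395, 396, 397, 398, 399, 400, 401, 402, 403, 404, 405, 406, 407, 408, 409, 410, 411, 412, 413, 414, 415, 416,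 417, 418, 419, 420, 421, 422, 423, 424, 425, 426, 427, 428, 429, 430, 431, 433, 434, 435, 436, 437, 438, 439, 440, 441, 442, 443, 444, 445, 446, 447, 448, 450, 451, 452, 453, 454, 457, 458, 459, 460, 461, 462, 463, 464, 465, 466, 467, 468, 469, 470, 471, 472, 473, 474, 475, 476, 477, 478, 479, 480, 481, 482, 483, 484, 485, 486, 487, 488, 489, 490, 491, 492, 493, 494, 495, 496, 497, 498, 499, 500, 501, 502, 503, 504, 505, 506, 507, 508, 509, 510, 511, 512, 513, 514, 515, 516, 517, 518, 519, 520, 521, 522, 523, 524, 525, 526, 527, 528, 529, 530, 531, 532, 533, 534, 535, 536, 537, 538, 539, 540, 541, 542, 543, 544, 545, 546, 547, 548, 549, 550, 551]]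

theorem searchA : csearch 552 am ta 23 solA seedsA seedsA [] [] [] = true := by
  rw [← csearch2_eq am_length]
  decide +kernel

theorem closeA : closeMask 552 am (listMask (seedsA.flatMap (orbL ta 23))) roundsA =
    some (2 ^ 552 - 1) := by
  rw [← closeMask2_eq am_length]
  decide +kernel

theorem cE_pow_mem (e : ℕ) : cE ^ e ∈ A := A.pow_mem cE_mem e

/-- The centraliser of `aE`. -/
theorem cent_a (σ : Equiv.Perm (Fin 552)) (hσ : σ ∈ A) (h : σ * aE = aE * σ) :
    ∃ i < 23, ∃ e < 2, σ = aE ^ i * cE ^ e := by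
  obtain ⟨tτ, h1, h2⟩ := csearch_spec hσ aE_tab h 23 solA seedsA seedsA [] [] []
    (by decide) (by simp) rfl searchA
  unfold solA at h1
  rw [List.mem_flatMap] at h1
  obtain ⟨i, hi, h1⟩ := h1
  rw [List.mem_map] at h1
  obtain ⟨e, he, rfl⟩ := h1
  rw [List.mem_range] at hi he
  refine ⟨i, hi, e, he, ?_⟩
  have hτ : IsTab (aE ^ i * cE ^ e) (tcomp 552 (tpowL 552 ta i) (tpowL 552 tc e)) :=
    (aE_tab.pow i).mul (cE_tab.pow e)
  have hcomm : (aE ^ i * cE ^ e) * aE = aE * (aE ^ i * cE ^ e) := by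
    have c1 : Commute (aE ^ i) aE := (Commute.refl aE).pow_left i
    have c2 : Commute (cE ^ e) aE := (show Commute cE aE from rel_ca).pow_left e
    exact (c1.mul_left c2).eq
  apply eq_of_seeds hσ (A.mul_mem (A.pow_mem aE_mem i) (cE_pow_mem e)) aE_tab h hcomm 23 seedsA
    (by decide) _ roundsA closeA
  intro x hx
  have hxn : x < 552 := by revert x; decide
  have h3 : ∀ y ∈ seedsA, (fun x => (tcomp 552 (tpowL 552 ta i) (tpowL 552 tc e)).getD x 0) y =
      ap σ y := by
    apply List.map_inj_left.mp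
    rw [h2]; simp
  rw [hτ x hxn]
  exact (h3 x hx).symm

/-- The tables of the elements `mE ^ i * tE ^ j * cE ^ e`. -/
def solM : List (List ℕ) :=
  (List.range 11).flatMap fun i => (List.range 2).flatMap fun j => (List.range 2).map fun e =>
    tcomp 552 (tcomp 552 (tpowL 552 tm i) (tpowL 552 tt j)) (tpowL 552 tc e)

def seedsM : List ℕ := [91, 354]

def roundsM : List (List ℕ) := [[0, 1, 2, 3, 4, 5, 6, 7, 8, 9, 11, 12, 13, 14, 15, 17, 18, 19, 20, 21, 22, 23, 25, 26, 27, 28, 29, 30, 32, 33, 34, 35, 36, 37, 38, 39, 40, 41, 42, 43, 44, 45, 46, 47, 48, 49, 50, 51, 52, 53, 54, 55, 56, 57, 58, 59, 60, 61, 62, 63, 64, 65, 66, 67, 69, 70, 71, 72, 73, 74, 75, 76, 77, 78, 79, 80, 81, 82, 83, 84, 85, 86, 87, 88, 89, 90, 92, 93, 94, 95, 96, 97, 98, 99, 100, 101, 102, 103, 104, 105, 106, 107, 108, 109, 110, 111, 112, 113, 114, 115, 116, 117, 118, 119, 120, 121, 122, 123, 124, 125, 126, 127, 128, 129, 130, 131, 133, 134, 136, 137, 138, 139, 140, 141, 142, 143, 144, 145,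 146, 147, 148, 149, 150, 151, 153, 155, 156, 157, 158, 159, 160, 161, 162, 163, 164, 165, 166, 167, 168, 169, 170, 171, 172, 173, 174, 175, 176, 177, 178, 179, 180, 181, 182, 183, 184, 185, 186, 187, 188, 189, 190, 191, 192, 193, 194, 195, 196, 197, 198, 200, 201, 202, 203, 204, 205, 206, 207, 208, 209, 210, 211, 212, 213, 214, 216, 217, 218, 219, 220, 221, 222, 223, 224, 225, 226, 227, 228, 229, 230, 231, 232, 233, 234, 235, 236, 237, 239, 240, 241, 242, 243, 244, 245, 246, 247, 248, 249, 250, 251, 252, 253, 254, 255, 256, 257, 258, 259, 260, 261, 262, 263, 264, 265, 266, 267, 268, 269, 270, 271, 272, 273, 274, 275, 276, 277, 278, 279, 280, 281, 282, 283, 284, 285, 286, 287, 288, 289, 290, 291, 292, 293, 294, 295, 296, 297, 298, 299, 300, 301, 302, 303, 304, 305, 306, 307, 308, 309, 310, 311, 312, 313, 314, 315, 316, 317, 318, 319, 320, 321, 322, 323, 324, 325, 326, 327, 328, 329, 330, 331, 332, 333, 334, 335, 336, 337, 338, 339, 340, 341, 342, 343, 344, 345,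 346, 347, 348, 349, 350, 351, 352, 353, 355, 356, 357, 358, 359, 361, 362, 363, 364, 365, 366, 367, 368, 369, 370, 371, 372, 373, 374, 375, 376, 377, 378, 379, 380, 381, 382, 383, 384, 385, 386, 387, 388, 389, 390, 391, 393, 394, 395, 396, 397, 398, 399, 400, 401, 402, 403, 404, 405, 406, 407, 408, 409, 410, 411, 412, 413, 414, 415, 416, 417, 418, 419, 420, 421, 422, 424, 425, 426, 427, 428, 429, 430, 431, 432, 433, 434, 435, 436, 438, 439, 440, 441, 442, 443, 444, 445, 446, 447, 448, 449, 450, 451, 452, 453, 454, 455, 456, 457, 458, 459, 460, 461, 462, 463, 464, 465, 466, 467, 468, 470, 471, 472, 474, 475, 476, 477, 478, 479, 480, 481, 482, 483, 484, 485, 486, 487, 488, 489, 490, 491, 492, 493, 494, 495, 496, 497, 498, 499, 500, 501, 502, 503, 504, 505, 506, 507, 508, 510, 511, 512, 513, 514, 515, 516, 517, 518, 519, 520, 521, 522, 523, 524, 525, 526, 527, 528, 530, 531, 532, 533, 534, 535, 536, 537, 538, 539, 540, 541, 542, 543, 544, 545, 546, 547, 548, 549,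 550, 551]]

theorem searchM : csearch 552 am tm 11 solM seedsM seedsM [] [] [] = true := by
  rw [← csearch2_eq am_length]
  decide +kernel

theorem closeM : closeMask 552 am (listMask (seedsM.flatMap (orbL tm 11))) roundsM =
    some (2 ^ 552 - 1) := by
  rw [← closeMask2_eq am_length]
  decide +kernel

/-- The centraliser of `mE`. -/
theorem cent_m (σ : Equiv.Perm (Fin 552)) (hσ : σ ∈ A) (h : σ * mE = mE * σ) :
    ∃ i < 11, ∃ j < 2, ∃ e < 2, σ = mE ^ i * tE ^ j * cE ^ e := by
  obtain ⟨tτ, h1, h2⟩ := csearch_spec hσ mE_tab h 11 solM seedsM seedsM [] [] []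
    (by decide) (by simp) rfl searchM
  unfold solM at h1
  rw [List.mem_flatMap] at h1
  obtain ⟨i, hi, h1⟩ := h1
  rw [List.mem_flatMap] at h1
  obtain ⟨j, hj, h1⟩ := h1
  rw [List.mem_map] at h1
  obtain ⟨e, he, rfl⟩ := h1
  rw [List.mem_range] at hi hj he
  refine ⟨i, hi, j, hj, e, he, ?_⟩
  have hτ : IsTab (mE ^ i * tE ^ j * cE ^ e)
      (tcomp 552 (tcomp 552 (tpowL 552 tm i) (tpowL 552 tt j)) (tpowL 552 tc e)) :=
    ((mE_tab.pow i).mul (tE_tab.pow j)).mul (cE_tab.pow e)
  have hcomm : (mE ^ i * tE ^ j * cE ^ e) * mE = mE * (mE ^ i * tE ^ j * cE ^ e) := by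
    have c1 : Commute (mE ^ i) mE := (Commute.refl mE).pow_left i
    have c2 : Commute (tE ^ j) mE := (show Commute tE mE from rel_mt.symm).pow_left j
    have c3 : Commute (cE ^ e) mE := (show Commute cE mE from rel_cm).pow_left e
    exact ((c1.mul_left c2).mul_left c3).eq
  apply eq_of_seeds hσ
    (A.mul_mem (A.mul_mem (A.pow_mem mE_mem i) (A.pow_mem tE_mem j)) (cE_pow_mem e)) mE_tab h hcomm
    11 seedsM (by decide) _ roundsM closeM
  intro x hx
  have hxn : x < 552 := by revert x; decide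
  have h3 : ∀ y ∈ seedsM, (fun x => (tcomp 552 (tcomp 552 (tpowL 552 tm i) (tpowL 552 tt j))
      (tpowL 552 tc e)).getD x 0) y = ap σ y := by
    apply List.map_inj_left.mp
    rw [h2]; simp
  rw [hτ x hxn]
  exact (h3 x hx).symm

end Cfsg.Agent.Lib.Helper35.C3
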