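import Mathlib
import Cfsg.Prelude.Def_Sporadic_a
import Cfsg.Agent.Lib.Helper35.BitMask

/-!
A certificate checker for uniqueness of Steiner systems with block size one more than the
strength, on the points `Fin n`: sets are bit masks, a certificate is a list of instructions
(branch on the block through a set, relabel the points, appeal to an earlier result, or compare a
complete family with the standard one) run against a stack of open goals.
-/

set_option autoImplicit false

namespace Cfsg.Agent.Lib.Helper35.StSearch

open Cfsg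

/-! ### Generalities on set systems -/

theorem steiner_image {α β : Type*} [DecidableEq α] [DecidableEq β] {t k : ℕ}
    {B : Set (Finset α)} (hB : IsSteinerSystem t k B) (e : α ≃ β) :
    IsSteinerSystem t k ((fun b => b.image e) '' B) := by
  refine ⟨?_, ?_⟩
  · rintro _ ⟨b, hb, rfl⟩
    rw [Finset.card_image_of_injective _ e.injective]
    exact hB.1 b hb
  · intro s hs
    have hs' : (s.image e.symm).card = t := by
      rw [Finset.card_image_of_injective _ e.symm.injective, hs]
    obtain ⟨b, ⟨hb, hsb⟩, huniq⟩ := hB.2 _ hs'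
    refine ⟨b.image e, ⟨⟨b, hb, rfl⟩, ?_⟩, ?_⟩
    · intro x hx
      rw [Finset.mem_image]
      exact ⟨e.symm x, hsb (Finset.mem_image_of_mem _ hx), by simp⟩
    · rintro _ ⟨⟨c, hc, rfl⟩, hsc⟩
      have : c = b := by
        apply huniq
        refine ⟨hc, ?_⟩
        intro x hx
        obtain ⟨y, hy, rfl⟩ := Finset.mem_image.mp hx
        obtain ⟨z, hz, hzy⟩ := Finset.mem_image.mp (hsc hy)
        have : z = e.symm y := by rw [← hzy]; simp
        rw [← this]; exact hz
      rw [this]

theorem steiner_eq {α : Type*} [DecidableEq α] {t k : ℕ} {B : Set (Finset α)}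
    (hB : IsSteinerSystem t k B) {b c : Finset α} (hb : b ∈ B) (hc : c ∈ B)
    (h : t ≤ (b ∩ c).card) : b = c := by
  obtain ⟨s, hs, hst⟩ := Finset.exists_subset_card_eq h
  obtain ⟨d, -, huniq⟩ := hB.2 s hst
  rw [huniq b ⟨hb, fun x hx => (Finset.mem_inter.mp (hs hx)).1⟩,
    huniq c ⟨hc, fun x hx => (Finset.mem_inter.mp (hs hx)).2⟩]

theorem iso_symm {α β : Type*} [DecidableEq α] [DecidableEq β] {B : Set (Finset α)}
    {B' : Set (Finset β)} (h : SetSystemIso B B') : SetSystemIso B' B := by
  obtain ⟨e, rfl⟩ := h
  refine ⟨e.symm, ?_⟩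
  rw [Set.image_image]
  convert Set.image_id B using 2
  rw [Finset.image_image]
  simp

theorem iso_trans {α β γ : Type*} [DecidableEq β] [DecidableEq γ] {B : Set (Finset α)}
    {B' : Set (Finset β)} {B'' : Set (Finset γ)} (h : SetSystemIso B B')
    (h' : SetSystemIso B' B'') : SetSystemIso B B'' := by
  obtain ⟨e, rfl⟩ := h
  obtain ⟨e', rfl⟩ := h'
  refine ⟨e.trans e', ?_⟩
  rw [Set.image_image]
  congr 1
  funext b
  rw [Finset.image_image]
  rfl

theorem iso_image {α β : Type*} [DecidableEq β] (B : Set (Finset α)) (e : α ≃ β) :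
    SetSystemIso B ((fun b => b.image e) '' B) := ⟨e, rfl⟩

/-! ### Masks on `Fin n` -/

/-- The index of a point. -/
def vl (n : ℕ) : Fin n → ℕ := fun i => i.val

theorem vl_inj (n : ℕ) : Function.Injective (vl n) := fun _ _ h => Fin.ext h

theorem vl_lt (n : ℕ) (a : Fin n) : vl n a < n := a.2

theorem vl_surj (n : ℕ) : ∀ i < n, ∃ a : Fin n, vl n a = i := fun i hi => ⟨⟨i, hi⟩, rfl⟩

/-- The mask of a set of points. -/
def mk (n : ℕ) (s : Finset (Fin n)) : ℕ := maskOf (vl n) s

theorem mk_inj (n : ℕ) : Function.Injective (mk n) := maskOf_injective (vl_inj n)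

theorem card_eq (n : ℕ) (s : Finset (Fin n)) : s.card = popc n (mk n s) :=
  card_eq_popc (vl_inj n) (vl_lt n) s

theorem mk_inter (n : ℕ) (s u : Finset (Fin n)) : mk n (s ∩ u) = mk n s &&& mk n u :=
  maskOf_inter (vl_inj n) s u

/-- The standard family given by a list of masks. -/
def stdSet (n : ℕ) (std : List ℕ) : Set (Finset (Fin n)) := {b | mk n b ∈ std}

/-- The masks of the list are masks of members of the family. -/
def Holds (n : ℕ) (B : Set (Finset (Fin n))) (g : List ℕ) : Prop :=
  ∀ m ∈ g, ∃ b ∈ B, mk n b = m

/-- Every Steiner system containing the sets of the list is isomorphic to the standard one. -/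
def GoalOK (n t : ℕ) (std g : List ℕ) : Prop :=
  ∀ B : Set (Finset (Fin n)), IsSteinerSystem t (t + 1) B → Holds n B g →
    SetSystemIso (stdSet n std) B

/-! ### Permutations from tables -/

/-- Validity of a table and its inverse. -/
def tblOKb (n : ℕ) (tb tb' : List ℕ) : Bool :=
  (List.range n).all fun i => decide (tb.getD i 0 < n) && decide (tb'.getD i 0 < n) &&
    decide (tb'.getD (tb.getD i 0) 0 = i) && decide (tb.getD (tb'.getD i 0) 0 = i)

theorem tblOKb_spec {n : ℕ} {tb tb' : List ℕ} (h : tblOKb n tb tb' = true) {i : ℕ} (hi : i < n) :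
    tb.getD i 0 < n ∧ tb'.getD i 0 < n ∧ tb'.getD (tb.getD i 0) 0 = i ∧
      tb.getD (tb'.getD i 0) 0 = i := by
  unfold tblOKb at h
  rw [List.all_eq_true] at h
  have := h i (List.mem_range.mpr hi)
  simp only [Bool.and_eq_true, decide_eq_true_eq] at this
  tauto

/-- The permutation given by a table and its inverse. -/
def tblPerm (n : ℕ) (tb tb' : List ℕ) (h : tblOKb n tb tb' = true) : Equiv.Perm (Fin n) where
  toFun i := ⟨tb.getD i.val 0, (tblOKb_spec h i.2).1⟩
  invFun i := ⟨tb'.getD i.val 0, (tblOKb_spec h i.2).2.1⟩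
  left_inv i := Fin.ext (tblOKb_spec h i.2).2.2.1
  right_inv i := Fin.ext (tblOKb_spec h i.2).2.2.2

/-- The image of a mask under a table. -/
def mapT (n : ℕ) (tb : List ℕ) (m : ℕ) : ℕ := mapMask (fun i => tb.getD i 0) n m

theorem mk_image_tbl (n : ℕ) (tb tb' : List ℕ) (h : tblOKb n tb tb' = true)
    (s : Finset (Fin n)) : mk n (s.image (tblPerm n tb tb' h)) = mapT n tb (mk n s) :=
  maskOf_image (vl_lt n) _ _ (fun _ => rfl) s

theorem mk_insert (n : ℕ) (a : Fin n) (S : Finset (Fin n)) :
    mk n (insert a S) = mk n S ||| 2 ^ a.val := by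
  unfold mk
  rw [Finset.insert_eq, maskOf_union, Nat.lor_comm]
  congr 1
  simp [maskOf, vl]

/-! ### The checker -/

/-- An instruction of a certificate. -/
inductive Instr
  | branch (s : ℕ) (ws : List ℕ)
  | relabel (tb tb' : List ℕ)
  | useReq
  | leaf (tb tb' : List ℕ)

/-- The candidate `x` for the block through `s` is excluded by the member of the list with
index `w - 1`. -/
def deadOK (n t : ℕ) (g : List ℕ) (s w x : ℕ) : Bool :=
  match g[w - 1]? with
  | some m => (m != (s ||| 2 ^ x)) && decide (t ≤ popc n (m &&& (s ||| 2 ^ x)))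
  | none => false

/-- The points outside `s`. -/
def outPts (n s : ℕ) : List ℕ := (List.range n).filter fun x => !s.testBit x

/-- The goals after branching on the block through `s`. -/
def branchGoals (n t : ℕ) (g : List ℕ) (s : ℕ) (ws : List ℕ) : Option (List (List ℕ)) :=
  if (decide (s < 2 ^ n) && decide (popc n s = t) &&
      (outPts n s).all (fun x => ws.getD x 0 == 0 || deadOK n t g s (ws.getD x 0) x)) = true then
    some (((outPts n s).filter fun x => ws.getD x 0 == 0).map fun x => (s ||| 2 ^ x) :: g)
  else none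

theorem branch_sound {n t : ℕ} {std g : List ℕ} {s : ℕ} {ws : List ℕ} {gs : List (List ℕ)}
    (h : branchGoals n t g s ws = some gs) (hgs : ∀ g' ∈ gs, GoalOK n t std g') :
    GoalOK n t std g := by
  intro B hB hg
  unfold branchGoals at h
  split_ifs at h with hc
  simp only [Bool.and_eq_true, decide_eq_true_eq] at hc
  obtain ⟨⟨hs2, hst⟩, hall⟩ := hc
  injection h with h
  subst h
  have hmS : mk n (ofMask (vl n) s) = s := maskOf_ofMask (vl_surj n) hs2
  have hcS : (ofMask (vl n) s).card = t := by rw [card_eq, hmS, hst]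
  obtain ⟨b, ⟨hbB, hSb⟩, -⟩ := hB.2 _ hcS
  have hcb : b.card = t + 1 := hB.1 b hbB
  have h1 : (b \ ofMask (vl n) s).card = 1 := by
    rw [Finset.card_sdiff_of_subset hSb]; omega
  obtain ⟨a, ha⟩ := Finset.card_eq_one.mp h1
  have ha' : a ∈ b \ ofMask (vl n) s := by rw [ha]; exact Finset.mem_singleton_self a
  have haS : a ∉ ofMask (vl n) s := (Finset.mem_sdiff.mp ha').2
  have hb_eq : b = insert a (ofMask (vl n) s) := by
    rw [← Finset.sdiff_union_of_subset hSb, ha]
    rfl
  have hmb : mk n b = s ||| 2 ^ a.val := by rw [hb_eq, mk_insert, hmS]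
  have hbit : s.testBit a.val = false := by
    rw [mem_ofMask] at haS
    simpa [vl] using haS
  have hout : a.val ∈ outPts n s := by
    unfold outPts
    rw [List.mem_filter, List.mem_range]
    exact ⟨a.2, by rw [hbit]; rfl⟩
  rw [List.all_eq_true] at hall
  have hx := hall _ hout
  rw [Bool.or_eq_true] at hx
  rcases hx with hx | hx
  · apply hgs ((s ||| 2 ^ a.val) :: g) _ B hB
    · intro m hm
      rcases List.mem_cons.mp hm with rfl | hm
      · exact ⟨b, hbB, hmb⟩
      · exact hg m hm
    · rw [List.mem_map]
      exact ⟨a.val, List.mem_filter.mpr ⟨hout, hx⟩, rfl⟩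
  · exfalso
    unfold deadOK at hx
    split at hx
    · rename_i m hm
      simp only [Bool.and_eq_true, bne_iff_ne, ne_eq, decide_eq_true_eq] at hx
      obtain ⟨b', hb'B, hb'm⟩ := hg m (List.mem_of_getElem? hm)
      have h2 : t ≤ (b' ∩ b).card := by
        rw [card_eq, mk_inter, hb'm, hmb]; exact hx.2
      have := steiner_eq hB hb'B hbB h2
      apply hx.1
      rw [← hb'm, this, hmb]
    · exact Bool.false_ne_true hx

theorem relabel_sound {n t : ℕ} {std g tb tb' : List ℕ} (h : tblOKb n tb tb' = true)
    (hg' : GoalOK n t std (g.map (mapT n tb))) : GoalOK n t std g := by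
  intro B hB hg
  have hB' := steiner_image hB (tblPerm n tb tb' h)
  have hh : Holds n ((fun b => b.image (tblPerm n tb tb' h)) '' B) (g.map (mapT n tb)) := by
    intro m hm
    obtain ⟨m0, hm0, rfl⟩ := List.mem_map.mp hm
    obtain ⟨b, hb, rfl⟩ := hg m0 hm0
    exact ⟨b.image (tblPerm n tb tb' h), ⟨b, hb, rfl⟩, mk_image_tbl n tb tb' h b⟩
  exact iso_trans (hg' _ hB' hh) (iso_symm (iso_image B (tblPerm n tb tb' h)))

theorem req_sound {n t : ℕ} {std req g : List ℕ} (hreq : GoalOK n t std req)
    (h : req.all (fun r => g.contains r) = true) : GoalOK n t std g := by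
  intro B hB hg
  apply hreq B hB
  intro m hm
  rw [List.all_eq_true] at h
  have := h m hm
  rw [List.contains_iff_mem] at this
  exact hg m this

theorem leaf_sound {n t : ℕ} {std g tb tb' : List ℕ}
    (hstd : ∀ S : Finset (Fin n), S.card = t → ∃ d ∈ stdSet n std, S ⊆ d)
    (h : tblOKb n tb tb' = true)
    (hall : std.all (fun d => g.contains (mapT n tb d)) = true) : GoalOK n t std g := by
  intro B hB hg
  refine ⟨tblPerm n tb tb' h, ?_⟩
  have h1 : ∀ d ∈ stdSet n std, d.image (tblPerm n tb tb' h) ∈ B := by
    intro d hd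
    have h2 : mapT n tb (mk n d) ∈ g := by
      rw [List.all_eq_true] at hall
      have := hall _ hd
      rwa [List.contains_iff_mem] at this
    obtain ⟨b, hb, hbm⟩ := hg _ h2
    rw [← mk_image_tbl n tb tb' h d] at hbm
    rw [← mk_inj n hbm]; exact hb
  apply Set.eq_of_subset_of_subset
  · rintro _ ⟨d, hd, rfl⟩; exact h1 d hd
  · intro b hb
    have hcb := hB.1 b hb
    obtain ⟨S', hS'b, hS'c⟩ := Finset.exists_subset_card_eq (show t ≤ b.card by omega)
    have hSc : (S'.image (tblPerm n tb tb' h).symm).card = t := by
      rw [Finset.card_image_of_injective _ (tblPerm n tb tb' h).symm.injective, hS'c]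
    obtain ⟨d, hd, hSd⟩ := hstd _ hSc
    refine ⟨d, hd, ?_⟩
    apply steiner_eq hB (h1 d hd) hb
    rw [← hS'c]
    apply Finset.card_le_card
    intro x hx
    rw [Finset.mem_inter]
    refine ⟨?_, hS'b hx⟩
    rw [Finset.mem_image]
    exact ⟨(tblPerm n tb tb' h).symm x, hSd (Finset.mem_image_of_mem _ hx), by simp⟩

/-- Running a certificate against a stack of goals. -/
def run (n t : ℕ) (std req : List ℕ) : List Instr → List (List ℕ) → Bool
  | [], stack => stack.isEmpty
  | _ :: _, [] => false
  | Instr.branch s ws :: is, g :: rest =>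
      match branchGoals n t g s ws with
      | some gs => run n t std req is (gs ++ rest)
      | none => false
  | Instr.relabel tb tb' :: is, g :: rest =>
      tblOKb n tb tb' && run n t std req is (g.map (mapT n tb) :: rest)
  | Instr.useReq :: is, g :: rest =>
      req.all (fun r => g.contains r) && run n t std req is rest
  | Instr.leaf tb tb' :: is, g :: rest =>
      tblOKb n tb tb' && std.all (fun d => g.contains (mapT n tb d)) && run n t std req is rest

theorem run_sound {n t : ℕ} {std req : List ℕ}
    (hstd : ∀ S : Finset (Fin n), S.card = t → ∃ d ∈ stdSet n std, S ⊆ d)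
    (hreq : GoalOK n t std req) :
    ∀ (is : List Instr) (stack : List (List ℕ)), run n t std req is stack = true →
      ∀ g ∈ stack, GoalOK n t std g := by
  intro is
  induction is with
  | nil =>
    intro stack h g hg
    cases stack with
    | nil => exact absurd hg (List.not_mem_nil)
    | cons a l => simp [run] at h
  | cons i is ih =>
    intro stack h g0 hg0
    cases stack with
    | nil => exact absurd hg0 (List.not_mem_nil)
    | cons g rest =>
      cases i with
      | branch s ws =>
        rw [run] at h
        split at h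
        · rename_i gs hgs
          have := ih _ h
          rcases List.mem_cons.mp hg0 with rfl | hr
          · exact branch_sound hgs fun g' hg' => this g' (List.mem_append_left _ hg')
          · exact this g0 (List.mem_append_right _ hr)
        · exact absurd h Bool.false_ne_true
      | relabel tb tb' =>
        rw [run, Bool.and_eq_true] at h
        have := ih _ h.2
        rcases List.mem_cons.mp hg0 with rfl | hr
        · exact relabel_sound h.1 (this _ (List.mem_cons_self ..))
        · exact this g0 (List.mem_cons_of_mem _ hr)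
      | useReq =>
        rw [run, Bool.and_eq_true] at h
        have := ih _ h.2
        rcases List.mem_cons.mp hg0 with rfl | hr
        · exact req_sound hreq h.1
        · exact this g0 hr
      | leaf tb tb' =>
        rw [run, Bool.and_eq_true, Bool.and_eq_true] at h
        have := ih _ h.2
        rcases List.mem_cons.mp hg0 with rfl | hr
        · exact leaf_sound hstd h.1.1 h.1.2
        · exact this g0 hr

end Cfsg.Agent.Lib.Helper35.StSearch
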