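import Mathlib
import Cfsg.Agent.Lib.Helper35.SteinerSearch

/-! Automorphisms of a graph on `Fin n` whose adjacency is given by a list of bit masks: table
calculus, rigidity by propagation of fixed vertices, an upper bound for the order from a base, a
search for centralisers, and a lower bound for generated subgroups. -/

set_option autoImplicit false

namespace Cfsg.Agent.Lib.Helper35.GraphTab

open Cfsg.Agent.Lib.Helper35.StSearch

/-- Adjacency read from the rows. -/
def adjB (am : List ℕ) (i j : ℕ) : Bool := (am.getD i 0).testBit j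

/-- The automorphism group of the graph. -/
def GAut (n : ℕ) (am : List ℕ) : Subgroup (Equiv.Perm (Fin n)) where
  carrier := {σ | ∀ i j : Fin n, adjB am (σ i).val (σ j).val = adjB am i.val j.val}
  mul_mem' := by
    intro σ τ hσ hτ i j
    show adjB am (σ (τ i)).val (σ (τ j)).val = _
    rw [hσ, hτ]
  one_mem' := fun _ _ => rfl
  inv_mem' := by
    intro σ hσ i j
    have := hσ (σ⁻¹ i) (σ⁻¹ j)
    rw [show σ (σ⁻¹ i) = i from σ.apply_symm_apply i,
      show σ (σ⁻¹ j) = j from σ.apply_symm_apply j] at this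
    exact this.symm

theorem mem_GAut {n : ℕ} {am : List ℕ} {σ : Equiv.Perm (Fin n)} :
    σ ∈ GAut n am ↔ ∀ i j : Fin n, adjB am (σ i).val (σ j).val = adjB am i.val j.val := Iff.rfl

/-- The action on numbers. -/
def ap {n : ℕ} (σ : Equiv.Perm (Fin n)) (x : ℕ) : ℕ := if h : x < n then (σ ⟨x, h⟩).val else x

theorem ap_lt {n : ℕ} (σ : Equiv.Perm (Fin n)) {x : ℕ} (h : x < n) : ap σ x < n := by
  unfold ap
  rw [dif_pos h]
  exact (σ ⟨x, h⟩).2

theorem ap_val {n : ℕ} (σ : Equiv.Perm (Fin n)) (i : Fin n) : ap σ i.val = (σ i).val := by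
  unfold ap
  rw [dif_pos i.2]

theorem ap_mk {n : ℕ} (σ : Equiv.Perm (Fin n)) {x : ℕ} (h : x < n) :
    σ ⟨x, h⟩ = ⟨ap σ x, ap_lt σ h⟩ := by
  apply Fin.ext
  show _ = ap σ x
  unfold ap
  rw [dif_pos h]

theorem ap_mul {n : ℕ} (σ τ : Equiv.Perm (Fin n)) {x : ℕ} (h : x < n) :
    ap (σ * τ) x = ap σ (ap τ x) := by
  have h1 : ap τ x < n := ap_lt τ h
  unfold ap at h1 ⊢
  rw [dif_pos h] at h1 ⊢
  rw [dif_pos h, dif_pos h1]
  rfl

theorem ap_one {n : ℕ} (x : ℕ) : ap (1 : Equiv.Perm (Fin n)) x = x := by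
  unfold ap
  split_ifs <;> rfl

theorem ap_inj {n : ℕ} (σ : Equiv.Perm (Fin n)) {x y : ℕ} (hx : x < n) (hy : y < n)
    (h : ap σ x = ap σ y) : x = y := by
  unfold ap at h
  rw [dif_pos hx, dif_pos hy] at h
  have := σ.injective (Fin.ext h)
  exact congrArg Fin.val this

theorem ap_inv_ap {n : ℕ} (σ : Equiv.Perm (Fin n)) {x : ℕ} (h : x < n) : ap σ⁻¹ (ap σ x) = x := by
  rw [← ap_mul _ _ h, inv_mul_cancel, ap_one]

theorem ext_ap {n : ℕ} {σ τ : Equiv.Perm (Fin n)} (h : ∀ x < n, ap σ x = ap τ x) : σ = τ := by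
  apply Equiv.ext
  intro i
  apply Fin.ext
  rw [← ap_val, ← ap_val]
  exact h _ i.2

theorem adj_ap {n : ℕ} {am : List ℕ} {σ : Equiv.Perm (Fin n)} (hσ : σ ∈ GAut n am) {x y : ℕ}
    (hx : x < n) (hy : y < n) : adjB am (ap σ x) (ap σ y) = adjB am x y := by
  have := hσ ⟨x, hx⟩ ⟨y, hy⟩
  rw [← ap_val, ← ap_val] at this
  exact this

/-! ### Tables -/

/-- `t` is the table of `σ`. -/
def IsTab {n : ℕ} (σ : Equiv.Perm (Fin n)) (t : List ℕ) : Prop := ∀ x < n, ap σ x = t.getD x 0

/-- Composite of tables. -/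
def tcomp (n : ℕ) (t s : List ℕ) : List ℕ := (List.range n).map fun i => t.getD (s.getD i 0) 0

theorem tcomp_getD (n : ℕ) (t s : List ℕ) {i : ℕ} (hi : i < n) :
    (tcomp n t s).getD i 0 = t.getD (s.getD i 0) 0 := by
  unfold tcomp
  rw [List.getD_eq_getElem _ _ (by simpa using hi)]
  simp

theorem IsTab.mul {n : ℕ} {σ τ : Equiv.Perm (Fin n)} {t s : List ℕ} (hσ : IsTab σ t)
    (hτ : IsTab τ s) : IsTab (σ * τ) (tcomp n t s) := by
  intro x hx
  rw [tcomp_getD _ _ _ hx, ← hτ x hx, ← hσ _ (ap_lt τ hx), ap_mul _ _ hx]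

theorem IsTab.one {n : ℕ} : IsTab (1 : Equiv.Perm (Fin n)) (List.range n) := by
  intro x hx
  rw [ap_one, List.getD_eq_getElem _ _ (by simpa using hx)]
  simp

theorem IsTab.ext {n : ℕ} {σ τ : Equiv.Perm (Fin n)} {t s : List ℕ} (hσ : IsTab σ t)
    (hτ : IsTab τ s) (h : ∀ i < n, t.getD i 0 = s.getD i 0) : σ = τ := by
  apply ext_ap
  intro x hx
  rw [hσ x hx, hτ x hx, h x hx]

theorem IsTab.inv {n : ℕ} {σ : Equiv.Perm (Fin n)} {t t' : List ℕ} (hσ : IsTab σ t)
    (h : tblOKb n t t' = true) : IsTab σ⁻¹ t' := by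
  intro x hx
  have h1 : ap σ⁻¹ x < n := ap_lt _ hx
  have h2 : ap σ (ap σ⁻¹ x) = x := by
    rw [← ap_mul _ _ hx, mul_inv_cancel, ap_one]
  have h3 := hσ _ h1
  rw [h2] at h3
  have h4 := (tblOKb_spec h h1).2.2.1
  rw [← h3] at h4
  exact h4.symm

/-- Powers of a table. -/
def tpowL (n : ℕ) (t : List ℕ) : ℕ → List ℕ
  | 0 => List.range n
  | k + 1 => tcomp n t (tpowL n t k)

theorem IsTab.pow {n : ℕ} {σ : Equiv.Perm (Fin n)} {t : List ℕ} (hσ : IsTab σ t) (k : ℕ) :
    IsTab (σ ^ k) (tpowL n t k) := by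
  induction k with
  | zero => rw [pow_zero]; exact IsTab.one
  | succ k ih => rw [pow_succ']; exact hσ.mul ih

/-- The table is that of the identity. -/
def isId (n : ℕ) (t : List ℕ) : Bool := (List.range n).all fun i => t.getD i 0 == i

theorem isId_of_eq_one {n : ℕ} {σ : Equiv.Perm (Fin n)} {t : List ℕ} (hσ : IsTab σ t)
    (h : σ = 1) : isId n t = true := by
  unfold isId
  rw [List.all_eq_true]
  intro i hi
  rw [List.mem_range] at hi
  rw [beq_iff_eq, ← hσ i hi, h, ap_one]

theorem eq_one_of_isId {n : ℕ} {σ : Equiv.Perm (Fin n)} {t : List ℕ} (hσ : IsTab σ t)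
    (h : isId n t = true) : σ = 1 := by
  unfold isId at h
  rw [List.all_eq_true] at h
  apply ext_ap
  intro x hx
  have := h x (List.mem_range.mpr hx)
  rw [beq_iff_eq] at this
  rw [hσ x hx, this, ap_one]

/-- The check that a table preserves adjacency. -/
def autOK (n : ℕ) (am t : List ℕ) : Bool :=
  (List.range n).all fun a =>
    let ra := am.getD a 0
    let rta := am.getD (t.getD a 0) 0
    (List.range n).all fun b => ra.testBit b == rta.testBit (t.getD b 0)

theorem autOK_spec {n : ℕ} {am t : List ℕ} (h : autOK n am t = true) {a b : ℕ} (ha : a < n)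
    (hb : b < n) : adjB am (t.getD a 0) (t.getD b 0) = adjB am a b := by
  unfold autOK at h
  rw [List.all_eq_true] at h
  have h1 := h a (List.mem_range.mpr ha)
  simp only [List.all_eq_true] at h1
  have h2 := h1 b (List.mem_range.mpr hb)
  rw [beq_iff_eq] at h2
  unfold adjB
  exact h2.symm

theorem isTab_tblPerm {n : ℕ} (t t' : List ℕ) (h : tblOKb n t t' = true) :
    IsTab (tblPerm n t t' h) t := by
  intro x hx
  unfold ap
  rw [dif_pos hx]
  rfl

theorem tblPerm_mem {n : ℕ} {am : List ℕ} (t t' : List ℕ) (h : tblOKb n t t' = true)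
    (haut : autOK n am t = true) : tblPerm n t t' h ∈ GAut n am := by
  intro i j
  exact autOK_spec haut i.2 j.2

/-! ### Propagation of fixed vertices -/

/-- The mask of a list of vertices. -/
def listMask (l : List ℕ) : ℕ := l.foldl (fun m v => m ||| 2 ^ v) 0

theorem testBit_foldl_or (l : List ℕ) (m s : ℕ) :
    (l.foldl (fun m v => m ||| 2 ^ v) m).testBit s = (m.testBit s || decide (s ∈ l)) := by
  induction l generalizing m with
  | nil => simp
  | cons a l ih =>
    rw [List.foldl_cons, ih, Nat.testBit_or, Nat.testBit_two_pow]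
    by_cases h : a = s
    · subst h; simp
    · have : ¬ s = a := fun e => h e.symm
      simp [h, this]

theorem testBit_listMask (l : List ℕ) (s : ℕ) : (listMask l).testBit s = decide (s ∈ l) := by
  unfold listMask
  rw [testBit_foldl_or]
  simp

/-- `σ` fixes the vertices of the mask, which are vertices. -/
def FixM {n : ℕ} (σ : Equiv.Perm (Fin n)) (m : ℕ) : Prop :=
  ∀ s, m.testBit s = true → s < n ∧ ap σ s = s

/-- `v` is the only vertex with its pattern on the mask. -/
def uniqOK (n : ℕ) (am : List ℕ) (mS v : ℕ) : Bool :=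
  let pv := am.getD v 0 &&& mS
  (List.range n).all fun w => w == v || (am.getD w 0 &&& mS != pv)

theorem pattern_eq {n : ℕ} {am : List ℕ} {σ : Equiv.Perm (Fin n)} (hσ : σ ∈ GAut n am) {mS : ℕ}
    (hS : FixM σ mS) {v : ℕ} (hv : v < n) :
    am.getD (ap σ v) 0 &&& mS = am.getD v 0 &&& mS := by
  apply Nat.eq_of_testBit_eq
  intro s
  rw [Nat.testBit_and, Nat.testBit_and]
  by_cases hs : mS.testBit s = true
  · obtain ⟨hsn, hfix⟩ := hS s hs
    have := adj_ap hσ hv hsn
    rw [hfix] at this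
    unfold adjB at this
    rw [this]
  · have : mS.testBit s = false := by simpa using hs
    rw [this, Bool.and_false, Bool.and_false]

theorem fix_of_uniqOK {n : ℕ} {am : List ℕ} {σ : Equiv.Perm (Fin n)} (hσ : σ ∈ GAut n am)
    {mS : ℕ} (hS : FixM σ mS) {v : ℕ} (hv : v < n) (h : uniqOK n am mS v = true) :
    ap σ v = v := by
  unfold uniqOK at h
  simp only [List.all_eq_true] at h
  have h1 := h (ap σ v) (List.mem_range.mpr (ap_lt σ hv))
  rw [Bool.or_eq_true, beq_iff_eq] at h1
  rcases h1 with h1 | h1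
  · exact h1
  · rw [pattern_eq hσ hS hv] at h1
    simp at h1

/-- Rounds of propagation: the final mask, if all the checks pass. -/
def closeMask (n : ℕ) (am : List ℕ) : ℕ → List (List ℕ) → Option ℕ
  | mS, [] => some mS
  | mS, new :: rest =>
    if new.all (fun v => decide (v < n) && uniqOK n am mS v) then
      closeMask n am (new.foldl (fun m v => m ||| 2 ^ v) mS) rest
    else none

theorem fixM_closeMask {n : ℕ} {am : List ℕ} {σ : Equiv.Perm (Fin n)} (hσ : σ ∈ GAut n am) :
    ∀ (rounds : List (List ℕ)) (mS mS' : ℕ), FixM σ mS → closeMask n am mS rounds = some mS' →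
      FixM σ mS'
  | [], mS, mS', hS, h => by
    rw [closeMask, Option.some.injEq] at h
    rw [← h]; exact hS
  | new :: rest, mS, mS', hS, h => by
    rw [closeMask] at h
    split_ifs at h with hc
    refine fixM_closeMask hσ rest _ mS' ?_ h
    intro s hs
    rw [testBit_foldl_or, Bool.or_eq_true, decide_eq_true_eq] at hs
    rcases hs with hs | hs
    · exact hS s hs
    · rw [List.all_eq_true] at hc
      have := hc s hs
      rw [Bool.and_eq_true, decide_eq_true_eq] at this
      exact ⟨this.1, fix_of_uniqOK hσ hS this.1 this.2⟩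

theorem fixM_listMask {n : ℕ} {σ : Equiv.Perm (Fin n)} {l : List ℕ}
    (h : ∀ s ∈ l, s < n ∧ ap σ s = s) : FixM σ (listMask l) := by
  intro s hs
  rw [testBit_listMask, decide_eq_true_eq] at hs
  exact h s hs

/-- Rigidity: an automorphism fixing a set whose closure is everything is trivial. -/
theorem eq_one_of_closeMask {n : ℕ} {am : List ℕ} {σ : Equiv.Perm (Fin n)} (hσ : σ ∈ GAut n am)
    {l : List ℕ} (h : ∀ s ∈ l, s < n ∧ ap σ s = s) (rounds : List (List ℕ))
    (hc : closeMask n am (listMask l) rounds = some (2 ^ n - 1)) : σ = 1 := by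
  have hF := fixM_closeMask hσ rounds _ _ (fixM_listMask h) hc
  apply ext_ap
  intro x hx
  rw [ap_one]
  apply (hF x _).2
  rw [Nat.testBit_two_pow_sub_one]
  simpa using hx

/-! ### Cells -/

/-- All the vertices outside the mask with the pattern of `b` on the mask are in the list. -/
def cellOK (n : ℕ) (am : List ℕ) (mS b : ℕ) (cell : List ℕ) : Bool :=
  !mS.testBit b && (List.range n).all fun w =>
    mS.testBit w || (am.getD w 0 &&& mS != am.getD b 0 &&& mS) || cell.contains w

theorem mem_cell {n : ℕ} {am : List ℕ} {σ : Equiv.Perm (Fin n)} (hσ : σ ∈ GAut n am)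
    {l : List ℕ} (h : ∀ s ∈ l, s < n ∧ ap σ s = s) (rounds : List (List ℕ)) {mS : ℕ}
    (hc : closeMask n am (listMask l) rounds = some mS) {b : ℕ} (hb : b < n) {cell : List ℕ}
    (hcell : cellOK n am mS b cell = true) : ap σ b ∈ cell := by
  have hF := fixM_closeMask hσ rounds _ _ (fixM_listMask h) hc
  unfold cellOK at hcell
  rw [Bool.and_eq_true] at hcell
  obtain ⟨hbS, hcell⟩ := hcell
  simp only [List.all_eq_true] at hcell
  have h1 := hcell (ap σ b) (List.mem_range.mpr (ap_lt σ hb))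
  rw [Bool.or_eq_true, Bool.or_eq_true] at h1
  rcases h1 with (h1 | h1) | h1
  · exfalso
    obtain ⟨h2, h3⟩ := hF _ h1
    have h4 : ap σ b = b := ap_inj σ h2 hb h3
    rw [h4] at h1
    rw [h1] at hbS
    simp at hbS
  · rw [pattern_eq hσ hF hb] at h1
    simp at h1
  · simpa using h1

/-! ### Counting along a base -/

/-- The pointwise stabiliser of a list of vertices in a subgroup. -/
def stabL {n : ℕ} (A : Subgroup (Equiv.Perm (Fin n))) (l : List ℕ) :
    Subgroup (Equiv.Perm (Fin n)) where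
  carrier := {σ | σ ∈ A ∧ ∀ s ∈ l, ap σ s = s}
  mul_mem' := by
    rintro σ τ ⟨h1, h2⟩ ⟨h3, h4⟩
    refine ⟨A.mul_mem h1 h3, fun s hs => ?_⟩
    by_cases hsn : s < n
    · rw [ap_mul _ _ hsn, h4 s hs, h2 s hs]
    · unfold ap; rw [dif_neg hsn]
  one_mem' := ⟨A.one_mem, fun s _ => ap_one s⟩
  inv_mem' := by
    rintro σ ⟨h1, h2⟩
    refine ⟨A.inv_mem h1, fun s hs => ?_⟩
    by_cases hsn : s < n
    · have := ap_inv_ap σ hsn
      rw [h2 s hs] at this
      exact this
    · unfold ap; rw [dif_neg hsn]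

theorem mem_stabL {n : ℕ} {A : Subgroup (Equiv.Perm (Fin n))} {l : List ℕ}
    {σ : Equiv.Perm (Fin n)} : σ ∈ stabL A l ↔ σ ∈ A ∧ ∀ s ∈ l, ap σ s = s := Iff.rfl

theorem stabL_nil {n : ℕ} (A : Subgroup (Equiv.Perm (Fin n))) : stabL A [] = A := by
  ext σ
  rw [mem_stabL]
  simp

/-- Upper bound: if the images of `b` lie in a list. -/
theorem card_stabL_le {n : ℕ} (A : Subgroup (Equiv.Perm (Fin n))) (l : List ℕ) {b : ℕ}
    (hb : b < n) (cell : List ℕ) (h : ∀ σ ∈ stabL A l, ap σ b ∈ cell) :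
    Nat.card (stabL A l) ≤ cell.length * Nat.card (stabL A (l ++ [b])) := by
  classical
  -- map to the cell, fibres are cosets
  let K := stabL A l
  let K' := stabL A (l ++ [b])
  have hK' : ∀ σ : Equiv.Perm (Fin n), σ ∈ K' ↔ σ ∈ K ∧ ap σ b = b := by
    intro σ
    show σ ∈ stabL A (l ++ [b]) ↔ σ ∈ stabL A l ∧ _
    rw [mem_stabL, mem_stabL]
    constructor
    · rintro ⟨h1, h2⟩
      exact ⟨⟨h1, fun s hs => h2 s (List.mem_append_left _ hs)⟩,
        h2 b (List.mem_append_right _ (List.mem_singleton_self b))⟩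
    · rintro ⟨⟨h1, h2⟩, h3⟩
      refine ⟨h1, fun s hs => ?_⟩
      rw [List.mem_append, List.mem_singleton] at hs
      rcases hs with hs | rfl
      · exact h2 s hs
      · exact h3
  -- injection K → cell.toFinset × K'
  have hfin : Finite K := inferInstance
  have key : Nat.card K ≤ Nat.card (↥cell.toFinset × K') := by
    -- choose for each value a representative
    let rep : ℕ → K := fun y => if hy : ∃ τ : K, ap τ.1 b = y then hy.choose else 1
    have hrep : ∀ σ : K, ap (rep (ap σ.1 b)).1 b = ap σ.1 b := by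
      intro σ
      have hy : ∃ τ : K, ap τ.1 b = ap σ.1 b := ⟨σ, rfl⟩
      show ap (dite _ _ _ : K).1 b = _
      rw [dif_pos hy]
      exact hy.choose_spec
    let f : K → ↥cell.toFinset × K' := fun σ =>
      (⟨ap σ.1 b, by rw [List.mem_toFinset]; exact h σ.1 σ.2⟩,
        ⟨(rep (ap σ.1 b)).1⁻¹ * σ.1, by
          rw [hK']
          refine ⟨K.mul_mem (K.inv_mem (rep (ap σ.1 b)).2) σ.2, ?_⟩
          have e := hrep σ
          rw [ap_mul _ _ hb]
          generalize rep (ap σ.1 b) = ρ at e ⊢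
          rw [← e]
          exact ap_inv_ap _ hb⟩)
    apply Nat.card_le_card_of_injective f
    intro σ τ hστ
    have h1 : ap σ.1 b = ap τ.1 b := congrArg (fun p => (p.1 : ℕ)) hστ
    have h2 : (rep (ap σ.1 b)).1⁻¹ * σ.1 = (rep (ap τ.1 b)).1⁻¹ * τ.1 :=
      congrArg (fun p => (p.2 : Equiv.Perm (Fin n))) hστ
    rw [h1] at h2
    exact Subtype.ext (mul_left_cancel h2)
  rw [Nat.card_prod, Nat.card_eq_fintype_card (α := ↥cell.toFinset), Fintype.card_coe] at key
  calc Nat.card K ≤ cell.toFinset.card * Nat.card K' := key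
    _ ≤ cell.length * Nat.card K' := Nat.mul_le_mul_right _ (List.toFinset_card_le cell)

/-- Lower bound: if distinct images of `b` are reached. -/
theorem card_stabL_ge {n : ℕ} (A : Subgroup (Equiv.Perm (Fin n))) (l : List ℕ) {b : ℕ}
    (hb : b < n) (orb : List ℕ) (hnd : orb.Nodup) (h : ∀ y ∈ orb, ∃ σ ∈ stabL A l, ap σ b = y) :
    orb.length * Nat.card (stabL A (l ++ [b])) ≤ Nat.card (stabL A l) := by
  classical
  let K := stabL A l
  let K' := stabL A (l ++ [b])
  have hK' : ∀ σ : Equiv.Perm (Fin n), σ ∈ K' ↔ σ ∈ K ∧ ap σ b = b := by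
    intro σ
    show σ ∈ stabL A (l ++ [b]) ↔ σ ∈ stabL A l ∧ _
    rw [mem_stabL, mem_stabL]
    constructor
    · rintro ⟨h1, h2⟩
      exact ⟨⟨h1, fun s hs => h2 s (List.mem_append_left _ hs)⟩,
        h2 b (List.mem_append_right _ (List.mem_singleton_self b))⟩
    · rintro ⟨⟨h1, h2⟩, h3⟩
      refine ⟨h1, fun s hs => ?_⟩
      rw [List.mem_append, List.mem_singleton] at hs
      rcases hs with hs | rfl
      · exact h2 s hs
      · exact h3
  have key : Nat.card (↥orb.toFinset × K') ≤ Nat.card K := by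
    let rep : ↥orb.toFinset → K := fun y =>
      ⟨(h y.1 (List.mem_toFinset.mp y.2)).choose, (h y.1 (List.mem_toFinset.mp y.2)).choose_spec.1⟩
    have hrep : ∀ y : ↥orb.toFinset, ap (rep y).1 b = y.1 := fun y =>
      (h y.1 (List.mem_toFinset.mp y.2)).choose_spec.2
    let f : ↥orb.toFinset × K' → K := fun p =>
      ⟨(rep p.1).1 * p.2.1, K.mul_mem (rep p.1).2 ((hK' _).mp p.2.2).1⟩
    apply Nat.card_le_card_of_injective f
    rintro ⟨y, τ⟩ ⟨y', τ'⟩ hp
    have h1 : (rep y).1 * τ.1 = (rep y').1 * τ'.1 := congrArg Subtype.val hp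
    have h2 := congrArg (fun ρ => ap ρ b) h1
    simp only [ap_mul _ _ hb] at h2
    rw [((hK' _).mp τ.2).2, ((hK' _).mp τ'.2).2, hrep, hrep] at h2
    have hy : y = y' := Subtype.ext h2
    subst hy
    have h3 : τ.1 = τ'.1 := mul_left_cancel h1
    rw [Subtype.ext h3]
  rw [Nat.card_prod, Nat.card_eq_fintype_card (α := ↥orb.toFinset), Fintype.card_coe,
    List.toFinset_card_of_nodup hnd] at key
  exact key

/-! ### Words -/

/-- The product of a word in a family of elements. -/
def wprod {n : ℕ} (gens : ℕ → Equiv.Perm (Fin n)) : List ℕ → Equiv.Perm (Fin n)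
  | [] => 1
  | k :: w => gens k * wprod gens w

/-- The composite of the tables along a word, pointwise. -/
def weval (gtab : ℕ → List ℕ) : List ℕ → ℕ → ℕ
  | [], i => i
  | k :: w, i => (gtab k).getD (weval gtab w i) 0

theorem ap_wprod {n : ℕ} {gens : ℕ → Equiv.Perm (Fin n)} {gtab : ℕ → List ℕ}
    (hg : ∀ k, IsTab (gens k) (gtab k)) : ∀ (w : List ℕ) {x : ℕ}, x < n →
      ap (wprod gens w) x = weval gtab w x ∧ weval gtab w x < n
  | [], x, hx => ⟨ap_one x, hx⟩
  | k :: w, x, hx => by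
    obtain ⟨h1, h2⟩ := ap_wprod hg w hx
    have : ap (wprod gens (k :: w)) x = weval gtab (k :: w) x := by
      show ap (gens k * wprod gens w) x = (gtab k).getD (weval gtab w x) 0
      rw [ap_mul _ _ hx, h1, hg k _ h2]
    refine ⟨this, ?_⟩
    rw [← this]
    exact ap_lt _ hx

theorem wprod_mem {n : ℕ} {gens : ℕ → Equiv.Perm (Fin n)} {H : Subgroup (Equiv.Perm (Fin n))}
    {m : ℕ} (hg : ∀ k < m, gens k ∈ H) : ∀ w : List ℕ, (w.all fun k => decide (k < m)) = true →
      wprod gens w ∈ H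
  | [], _ => H.one_mem
  | k :: w, h => by
    rw [List.all_cons, Bool.and_eq_true, decide_eq_true_eq] at h
    exact H.mul_mem (hg k h.1) (wprod_mem hg w h.2)

theorem wprod_append {n : ℕ} (gens : ℕ → Equiv.Perm (Fin n)) (w1 w2 : List ℕ) :
    wprod gens (w1 ++ w2) = wprod gens w1 * wprod gens w2 := by
  induction w1 with
  | nil => simp [wprod]
  | cons k w ih => simp [wprod, ih, mul_assoc]

theorem wprod_replicate {n : ℕ} (gens : ℕ → Equiv.Perm (Fin n)) (k m : ℕ) :
    wprod gens (List.replicate m k) = gens k ^ m := by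
  induction m with
  | zero => simp [wprod]
  | succ m ih => simp [wprod, List.replicate_succ, pow_succ', ih]

theorem wprod_flatten_replicate {n : ℕ} (gens : ℕ → Equiv.Perm (Fin n)) (w : List ℕ) (m : ℕ) :
    wprod gens (List.replicate m w).flatten = wprod gens w ^ m := by
  induction m with
  | zero => simp [wprod]
  | succ m ih => rw [List.replicate_succ, List.flatten_cons, wprod_append, ih, pow_succ']

theorem wprod_singleton {n : ℕ} (gens : ℕ → Equiv.Perm (Fin n)) (k : ℕ) :
    wprod gens [k] = gens k := by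
  simp [wprod]

/-- The check of one level of a chain of transversals. -/
def levelOK (n m : ℕ) (gtab : ℕ → List ℕ) (base : List ℕ) (b : ℕ) (orb : List ℕ)
    (words : List (List ℕ)) : Bool :=
  (List.range orb.length).all fun idx =>
    let w := words.getD idx []
    w.all (fun l => decide (l < m)) && base.all (fun i => weval gtab w i == i) &&
      (weval gtab w b == orb.getD idx n)

theorem level_spec {n m : ℕ} {gens : ℕ → Equiv.Perm (Fin n)} {gtab : ℕ → List ℕ}
    (hg : ∀ k, IsTab (gens k) (gtab k)) {H : Subgroup (Equiv.Perm (Fin n))}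
    (hH : ∀ k < m, gens k ∈ H) {base : List ℕ} (hbase : ∀ s ∈ base, s < n) {b : ℕ} (hb : b < n)
    {orb : List ℕ} {words : List (List ℕ)} (h : levelOK n m gtab base b orb words = true) :
    ∀ y ∈ orb, ∃ σ ∈ stabL H base, ap σ b = y := by
  intro y hy
  obtain ⟨idx, hidx, rfl⟩ := List.mem_iff_getElem.mp hy
  unfold levelOK at h
  simp only [List.all_eq_true] at h
  have h1 := h idx (List.mem_range.mpr hidx)
  simp only [Bool.and_eq_true, List.all_eq_true, beq_iff_eq, decide_eq_true_eq] at h1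
  obtain ⟨⟨h2, h3⟩, h4⟩ := h1
  refine ⟨wprod gens (words.getD idx []), ⟨?_, ?_⟩, ?_⟩
  · apply wprod_mem hH
    rw [List.all_eq_true]
    intro k hk
    rw [decide_eq_true_eq]
    exact h2 k hk
  · intro s hs
    rw [(ap_wprod hg _ (hbase s hs)).1]
    exact h3 s hs
  · rw [(ap_wprod hg _ hb).1, h4, List.getD_eq_getElem _ _ hidx]

/-! ### Centralisers -/

/-- The first `k` points of the orbit of `y` under a table. -/
def orbL (t : List ℕ) : ℕ → ℕ → List ℕ
  | 0, _ => []
  | k + 1, y => y :: orbL t k (t.getD y 0)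

/-- The pattern of a row on a list of vertices. -/
def pat (my : ℕ) (P : List ℕ) : List Bool := P.map my.testBit

/-- Search for the images of the seeds under the elements commuting with the element of table `t`:
every consistent choice of images is the restriction of a table of the list. -/
def csearch (n : ℕ) (am t : List ℕ) (k : ℕ) (sol : List (List ℕ)) (allSeeds : List ℕ) :
    List ℕ → List ℕ → List ℕ → List ℕ → Bool
  | [], _, _, ys => sol.any fun tτ => (allSeeds.map fun x => tτ.getD x 0) == ys.reverse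
  | x :: xs, PX, PY, ys =>
    (List.range n).all fun y =>
      (pat (am.getD y 0) PY != pat (am.getD x 0) PX) ||
        ((pat (am.getD y 0) (orbL t k y) != pat (am.getD x 0) (orbL t k x)) ||
          csearch n am t k sol allSeeds xs (orbL t k x ++ PX) (orbL t k y ++ PY) (y :: ys))

theorem ap_comm {n : ℕ} {σ c : Equiv.Perm (Fin n)} {t : List ℕ} (hc : IsTab c t)
    (hcomm : σ * c = c * σ) {x : ℕ} (hx : x < n) : ap σ (t.getD x 0) = t.getD (ap σ x) 0 := by
  rw [← hc x hx, ← ap_mul _ _ hx, hcomm, ap_mul _ _ hx, hc _ (ap_lt σ hx)]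

theorem orbL_lt {n : ℕ} {c : Equiv.Perm (Fin n)} {t : List ℕ} (hc : IsTab c t) :
    ∀ (k : ℕ) {x : ℕ}, x < n → ∀ p ∈ orbL t k x, p < n
  | 0, _, _, p, hp => by simp [orbL] at hp
  | k + 1, x, hx, p, hp => by
    rw [orbL, List.mem_cons] at hp
    rcases hp with rfl | hp
    · exact hx
    · refine orbL_lt hc k ?_ p hp
      rw [← hc x hx]
      exact ap_lt c hx

theorem orbL_map {n : ℕ} {σ c : Equiv.Perm (Fin n)} {t : List ℕ} (hc : IsTab c t)
    (hcomm : σ * c = c * σ) : ∀ (k : ℕ) {x : ℕ}, x < n →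
      orbL t k (ap σ x) = (orbL t k x).map (ap σ)
  | 0, _, _ => rfl
  | k + 1, x, hx => by
    rw [orbL, orbL, List.map_cons, ← ap_comm hc hcomm hx]
    congr 1
    refine orbL_map hc hcomm k ?_
    rw [← hc x hx]
    exact ap_lt c hx

theorem pat_map {n : ℕ} {am : List ℕ} {σ : Equiv.Perm (Fin n)} (hσ : σ ∈ GAut n am) {x : ℕ}
    (hx : x < n) {P : List ℕ} (hP : ∀ p ∈ P, p < n) :
    pat (am.getD (ap σ x) 0) (P.map (ap σ)) = pat (am.getD x 0) P := by
  unfold pat
  rw [List.map_map]
  apply List.map_congr_left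
  intro p hp
  exact adj_ap hσ hx (hP p hp)

theorem csearch_spec {n : ℕ} {am : List ℕ} {σ c : Equiv.Perm (Fin n)} (hσ : σ ∈ GAut n am)
    {t : List ℕ} (hc : IsTab c t) (hcomm : σ * c = c * σ) (k : ℕ) (sol : List (List ℕ))
    (allSeeds : List ℕ) :
    ∀ (seeds PX PY ys : List ℕ), (∀ x ∈ seeds, x < n) → (∀ x ∈ PX, x < n) →
      PY = PX.map (ap σ) → csearch n am t k sol allSeeds seeds PX PY ys = true →
      ∃ tτ ∈ sol, (allSeeds.map fun x => tτ.getD x 0) = ys.reverse ++ seeds.map (ap σ)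
  | [], PX, PY, ys, _, _, _, h => by
    rw [csearch, List.any_eq_true] at h
    obtain ⟨tτ, h1, h2⟩ := h
    rw [beq_iff_eq] at h2
    exact ⟨tτ, h1, by rw [h2]; simp⟩
  | x :: xs, PX, PY, ys, hs, hPX, hPY, h => by
    rw [csearch, List.all_eq_true] at h
    have hx : x < n := hs x (List.mem_cons_self ..)
    have h1 := h (ap σ x) (List.mem_range.mpr (ap_lt σ hx))
    rw [hPY, pat_map hσ hx hPX] at h1
    have hox : ∀ p ∈ orbL t k x, p < n := orbL_lt hc k hx
    rw [orbL_map hc hcomm k hx, pat_map hσ hx hox] at h1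
    simp only [bne_self_eq_false, Bool.false_or] at h1
    have hPX' : ∀ p ∈ orbL t k x ++ PX, p < n := by
      intro p hp
      rw [List.mem_append] at hp
      rcases hp with hp | hp
      · exact hox p hp
      · exact hPX p hp
    obtain ⟨tτ, h2, h3⟩ := csearch_spec hσ hc hcomm k sol allSeeds xs _ _ (ap σ x :: ys)
      (fun y hy => hs y (List.mem_cons_of_mem _ hy)) hPX' (by rw [List.map_append]) h1
    refine ⟨tτ, h2, ?_⟩
    rw [h3]
    simp

/-- Two automorphisms commuting with `c` that agree on seeds whose orbits propagate to everything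
are equal. -/
theorem eq_of_seeds {n : ℕ} {am : List ℕ} {σ τ c : Equiv.Perm (Fin n)} (hσ : σ ∈ GAut n am)
    (hτ : τ ∈ GAut n am) {t : List ℕ} (hc : IsTab c t) (hcσ : σ * c = c * σ)
    (hcτ : τ * c = c * τ) (k : ℕ) (seeds : List ℕ) (hs : ∀ x ∈ seeds, x < n)
    (hagree : ∀ x ∈ seeds, ap σ x = ap τ x) (rounds : List (List ℕ))
    (hclose : closeMask n am (listMask (seeds.flatMap (orbL t k))) rounds = some (2 ^ n - 1)) :
    σ = τ := by
  have h1 : τ⁻¹ * σ = 1 := by
    apply eq_one_of_closeMask ((GAut n am).mul_mem ((GAut n am).inv_mem hτ) hσ) _ rounds hclose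
    intro p hp
    rw [List.mem_flatMap] at hp
    obtain ⟨x, hx, hp⟩ := hp
    have hxn := hs x hx
    have hpn : p < n := orbL_lt hc k hxn p hp
    refine ⟨hpn, ?_⟩
    have e : (orbL t k x).map (ap σ) = (orbL t k x).map (ap τ) := by
      rw [← orbL_map hc hcσ k hxn, ← orbL_map hc hcτ k hxn, hagree x hx]
    have e2 : ap σ p = ap τ p := List.map_inj_left.mp e p hp
    rw [ap_mul _ _ hpn, e2, ap_inv_ap _ hpn]
  calc σ = τ * (τ⁻¹ * σ) := by group
    _ = τ := by rw [h1, mul_one]

end Cfsg.Agent.Lib.Helper35.GraphTab
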