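import Mathlib
import Cfsg.Agent.Lib.Helper35.GraphTab

/-! Faster versions of the checks of `GraphTab`, running through the rows instead of looking them
up, with proofs that they agree with the original ones. -/

set_option autoImplicit false

namespace Cfsg.Agent.Lib.Helper35.GraphTab

open Cfsg.Agent.Lib.Helper35.StSearch

theorem all_zipIdx_eq (l : List ℕ) (f : ℕ → ℕ → Bool) :
    (l.zipIdx.all fun p => f p.1 p.2) = (List.range l.length).all fun w => f (l.getD w 0) w := by
  rw [Bool.eq_iff_iff, List.all_eq_true, List.all_eq_true]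
  constructor
  · intro h w hw
    rw [List.mem_range] at hw
    have := h (l[w], w) (by rw [List.mem_zipIdx_iff_getElem?]; simp [hw])
    rw [List.getD_eq_getElem _ _ hw]
    exact this
  · intro h p hp
    rw [List.mem_zipIdx_iff_getElem?] at hp
    obtain ⟨hlt, hget⟩ := List.getElem?_eq_some_iff.mp hp
    have := h p.2 (List.mem_range.mpr hlt)
    rw [List.getD_eq_getElem _ _ hlt, hget] at this
    exact this

/-- Fast check that a table preserves adjacency. -/
def autOK2 (am t : List ℕ) : Bool :=
  am.zipIdx.all fun p => t.zipIdx.all fun q =>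
    p.1.testBit q.2 == (am.getD (t.getD p.2 0) 0).testBit q.1

theorem autOK2_eq {n : ℕ} {am t : List ℕ} (ham : am.length = n) (ht : t.length = n) :
    autOK2 am t = autOK n am t := by
  unfold autOK2 autOK
  rw [all_zipIdx_eq am (fun ra a => t.zipIdx.all fun q =>
    ra.testBit q.2 == (am.getD (t.getD a 0) 0).testBit q.1), ham]
  congr 1
  funext a
  rw [all_zipIdx_eq t (fun tb b => (am.getD a 0).testBit b == (am.getD (t.getD a 0) 0).testBit tb),
    ht]

/-- Fast uniqueness check. -/
def uniqOK2 (am : List ℕ) (mS v : ℕ) : Bool :=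
  am.zipIdx.all fun p => p.2 == v || (p.1 &&& mS != am.getD v 0 &&& mS)

theorem uniqOK2_eq {n : ℕ} {am : List ℕ} (ham : am.length = n) (mS v : ℕ) :
    uniqOK2 am mS v = uniqOK n am mS v := by
  unfold uniqOK2 uniqOK
  rw [all_zipIdx_eq am (fun mw w => w == v || (mw &&& mS != am.getD v 0 &&& mS)), ham]

/-- Fast rounds of propagation. -/
def closeMask2 (n : ℕ) (am : List ℕ) : ℕ → List (List ℕ) → Option ℕ
  | mS, [] => some mS
  | mS, new :: rest =>
    if new.all (fun v => decide (v < n) && uniqOK2 am mS v) then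
      closeMask2 n am (new.foldl (fun m v => m ||| 2 ^ v) mS) rest
    else none

theorem closeMask2_eq {n : ℕ} {am : List ℕ} (ham : am.length = n) :
    ∀ (rounds : List (List ℕ)) (mS : ℕ), closeMask2 n am mS rounds = closeMask n am mS rounds
  | [], _ => rfl
  | new :: rest, mS => by
    rw [closeMask2, closeMask]
    simp only [uniqOK2_eq ham]
    rw [closeMask2_eq ham rest]

/-- Fast cell check. -/
def cellOK2 (am : List ℕ) (mS b : ℕ) (cell : List ℕ) : Bool :=
  !mS.testBit b && am.zipIdx.all fun p =>
    mS.testBit p.2 || (p.1 &&& mS != am.getD b 0 &&& mS) || cell.contains p.2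

theorem cellOK2_eq {n : ℕ} {am : List ℕ} (ham : am.length = n) (mS b : ℕ) (cell : List ℕ) :
    cellOK2 am mS b cell = cellOK n am mS b cell := by
  unfold cellOK2 cellOK
  rw [all_zipIdx_eq am (fun mw w => mS.testBit w || (mw &&& mS != am.getD b 0 &&& mS) ||
    cell.contains w), ham]

/-- Fast search for centralisers. -/
def csearch2 (am t : List ℕ) (k : ℕ) (sol : List (List ℕ)) (allSeeds : List ℕ) :
    List ℕ → List ℕ → List ℕ → List ℕ → Bool
  | [], _, _, ys => sol.any fun tτ => (allSeeds.map fun x => tτ.getD x 0) == ys.reverse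
  | x :: xs, PX, PY, ys =>
    am.zipIdx.all fun p =>
      (pat p.1 PY != pat (am.getD x 0) PX) ||
        ((pat p.1 (orbL t k p.2) != pat (am.getD x 0) (orbL t k x)) ||
          csearch2 am t k sol allSeeds xs (orbL t k x ++ PX) (orbL t k p.2 ++ PY) (p.2 :: ys))

theorem csearch2_eq {n : ℕ} {am : List ℕ} (ham : am.length = n) (t : List ℕ) (k : ℕ)
    (sol : List (List ℕ)) (allSeeds : List ℕ) :
    ∀ (seeds PX PY ys : List ℕ), csearch2 am t k sol allSeeds seeds PX PY ys =
      csearch n am t k sol allSeeds seeds PX PY ys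
  | [], _, _, _ => rfl
  | x :: xs, PX, PY, ys => by
    rw [csearch2, csearch]
    rw [all_zipIdx_eq am (fun my y => (pat my PY != pat (am.getD x 0) PX) ||
        ((pat my (orbL t k y) != pat (am.getD x 0) (orbL t k x)) ||
          csearch2 am t k sol allSeeds xs (orbL t k x ++ PX) (orbL t k y ++ PY) (y :: ys))), ham]
    congr 1
    funext y
    rw [csearch2_eq ham t k sol allSeeds xs]

end Cfsg.Agent.Lib.Helper35.GraphTab
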