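import Mathlib
import Cfsg.Agent.Lib.Helper35.GraphTab2

/-! Checks over long lists cut into chunks, so that each chunk is a separate small theorem. -/

set_option autoImplicit false

namespace Cfsg.Agent.Lib.Helper35.GraphTab

theorem all_of_chunksG {α : Type*} (f : α → Bool) (l : List α) (c n : ℕ) (hc : 0 < c)
    (h : ∀ k < n, ((l.drop (c * k)).take c).all f = true) (hl : l.length ≤ c * n) :
    l.all f = true := by
  rw [List.all_eq_true]
  intro x hx
  obtain ⟨i, hi, rfl⟩ := List.getElem_of_mem hx
  have hk : i / c < n := Nat.div_lt_of_lt_mul (lt_of_lt_of_le hi hl)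
  have h1 := h (i / c) hk
  rw [List.all_eq_true] at h1
  apply h1
  have hm := Nat.mod_lt i hc
  have hd := Nat.div_add_mod i c
  rw [List.mem_iff_getElem]
  refine ⟨i % c, ?_, ?_⟩
  · rw [List.length_take, List.length_drop]
    omega
  · rw [List.getElem_take, List.getElem_drop]
    congr 1

/-- A chunk of rows of the automorphism test. -/
def autOK2c (am t : List ℕ) (c k : ℕ) : Bool :=
  ((am.zipIdx.drop (c * k)).take c).all fun p => t.zipIdx.all fun q =>
    p.1.testBit q.2 == (am.getD (t.getD p.2 0) 0).testBit q.1

theorem autOK2_of_chunks (am t : List ℕ) (c n : ℕ) (hc : 0 < c) (hl : am.length ≤ c * n)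
    (h : ∀ k < n, autOK2c am t c k = true) : autOK2 am t = true := by
  unfold autOK2
  exact all_of_chunksG _ _ c n hc h (by rw [List.length_zipIdx]; exact hl)

end Cfsg.Agent.Lib.Helper35.GraphTab
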