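import Mathlib
import Cfsg.Agent.Lib.Helper35.Co3Aut
import Cfsg.Agent.Lib.Helper35.GraphTab4

/-! Four automorphisms of the graph on 552 vertices. -/

set_option autoImplicit false
set_option maxRecDepth 100000
set_option maxHeartbeats 4000000

namespace Cfsg.Agent.Lib.Helper35.C3

open Cfsg.Agent.Lib.Helper35.StSearch Cfsg.Agent.Lib.Helper35.GraphTab

theorem ta_aut_0 : autOK2c am ta 46 0 = true := by decide +kernel

theorem ta_aut_1 : autOK2c am ta 46 1 = true := by decide +kernel

theorem ta_aut_2 : autOK2c am ta 46 2 = true := by decide +kernel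

theorem ta_aut_3 : autOK2c am ta 46 3 = true := by decide +kernel

theorem ta_aut_4 : autOK2c am ta 46 4 = true := by decide +kernel

theorem ta_aut_5 : autOK2c am ta 46 5 = true := by decide +kernel

theorem ta_aut_6 : autOK2c am ta 46 6 = true := by decide +kernel

theorem ta_aut_7 : autOK2c am ta 46 7 = true := by decide +kernel

theorem ta_aut_8 : autOK2c am ta 46 8 = true := by decide +kernel

theorem ta_aut_9 : autOK2c am ta 46 9 = true := by decide +kernel

theorem ta_aut_10 : autOK2c am ta 46 10 = true := by decide +kernel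

theorem ta_aut_11 : autOK2c am ta 46 11 = true := by decide +kernel

theorem ta_ok : tblOKb 552 ta ta' = true := by decide +kernel

theorem ta_aut : autOK 552 am ta = true := by
  rw [← autOK2_eq am_length ta_length]
  refine autOK2_of_chunks am ta 46 12 (by decide) (by have := am_length; omega) ?_
  intro k hk
  interval_cases k
  exacts [ta_aut_0, ta_aut_1, ta_aut_2, ta_aut_3, ta_aut_4, ta_aut_5, ta_aut_6, ta_aut_7, ta_aut_8, ta_aut_9, ta_aut_10, ta_aut_11]

/-- The automorphism with table `ta`. -/
def aE : Equiv.Perm (Fin 552) := tblPerm 552 ta ta' ta_ok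

theorem aE_mem : aE ∈ A := tblPerm_mem ta ta' ta_ok ta_aut

theorem aE_tab : IsTab aE ta := isTab_tblPerm _ _ _

theorem aE_inv_tab : IsTab aE⁻¹ ta' := aE_tab.inv ta_ok

theorem tm_aut_0 : autOK2c am tm 46 0 = true := by decide +kernel

theorem tm_aut_1 : autOK2c am tm 46 1 = true := by decide +kernel

theorem tm_aut_2 : autOK2c am tm 46 2 = true := by decide +kernel

theorem tm_aut_3 : autOK2c am tm 46 3 = true := by decide +kernel

theorem tm_aut_4 : autOK2c am tm 46 4 = true := by decide +kernel

theorem tm_aut_5 : autOK2c am tm 46 5 = true := by decide +kernel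

theorem tm_aut_6 : autOK2c am tm 46 6 = true := by decide +kernel

theorem tm_aut_7 : autOK2c am tm 46 7 = true := by decide +kernel

theorem tm_aut_8 : autOK2c am tm 46 8 = true := by decide +kernel

theorem tm_aut_9 : autOK2c am tm 46 9 = true := by decide +kernel

theorem tm_aut_10 : autOK2c am tm 46 10 = true := by decide +kernel

theorem tm_aut_11 : autOK2c am tm 46 11 = true := by decide +kernel

theorem tm_ok : tblOKb 552 tm tm' = true := by decide +kernel

theorem tm_aut : autOK 552 am tm = true := by
  rw [← autOK2_eq am_length tm_length]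
  refine autOK2_of_chunks am tm 46 12 (by decide) (by have := am_length; omega) ?_
  intro k hk
  interval_cases k
  exacts [tm_aut_0, tm_aut_1, tm_aut_2, tm_aut_3, tm_aut_4, tm_aut_5, tm_aut_6, tm_aut_7, tm_aut_8, tm_aut_9, tm_aut_10, tm_aut_11]

/-- The automorphism with table `tm`. -/
def mE : Equiv.Perm (Fin 552) := tblPerm 552 tm tm' tm_ok

theorem mE_mem : mE ∈ A := tblPerm_mem tm tm' tm_ok tm_aut

theorem mE_tab : IsTab mE tm := isTab_tblPerm _ _ _

theorem mE_inv_tab : IsTab mE⁻¹ tm' := mE_tab.inv tm_ok

theorem tt_aut_0 : autOK2c am tt 46 0 = true := by decide +kernel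

theorem tt_aut_1 : autOK2c am tt 46 1 = true := by decide +kernel

theorem tt_aut_2 : autOK2c am tt 46 2 = true := by decide +kernel

theorem tt_aut_3 : autOK2c am tt 46 3 = true := by decide +kernel

theorem tt_aut_4 : autOK2c am tt 46 4 = true := by decide +kernel

theorem tt_aut_5 : autOK2c am tt 46 5 = true := by decide +kernel

theorem tt_aut_6 : autOK2c am tt 46 6 = true := by decide +kernel

theorem tt_aut_7 : autOK2c am tt 46 7 = true := by decide +kernel

theorem tt_aut_8 : autOK2c am tt 46 8 = true := by decide +kernel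

theorem tt_aut_9 : autOK2c am tt 46 9 = true := by decide +kernel

theorem tt_aut_10 : autOK2c am tt 46 10 = true := by decide +kernel

theorem tt_aut_11 : autOK2c am tt 46 11 = true := by decide +kernel

theorem tt_ok : tblOKb 552 tt tt = true := by decide +kernel

theorem tt_aut : autOK 552 am tt = true := by
  rw [← autOK2_eq am_length tt_length]
  refine autOK2_of_chunks am tt 46 12 (by decide) (by have := am_length; omega) ?_
  intro k hk
  interval_cases k
  exacts [tt_aut_0, tt_aut_1, tt_aut_2, tt_aut_3, tt_aut_4, tt_aut_5, tt_aut_6, tt_aut_7, tt_aut_8, tt_aut_9, tt_aut_10, tt_aut_11]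

/-- The automorphism with table `tt`. -/
def tE : Equiv.Perm (Fin 552) := tblPerm 552 tt tt tt_ok

theorem tE_mem : tE ∈ A := tblPerm_mem tt tt tt_ok tt_aut

theorem tE_tab : IsTab tE tt := isTab_tblPerm _ _ _

theorem tE_inv_tab : IsTab tE⁻¹ tt := tE_tab.inv tt_ok

theorem tc_aut_0 : autOK2c am tc 46 0 = true := by decide +kernel

theorem tc_aut_1 : autOK2c am tc 46 1 = true := by decide +kernel

theorem tc_aut_2 : autOK2c am tc 46 2 = true := by decide +kernel

theorem tc_aut_3 : autOK2c am tc 46 3 = true := by decide +kernel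

theorem tc_aut_4 : autOK2c am tc 46 4 = true := by decide +kernel

theorem tc_aut_5 : autOK2c am tc 46 5 = true := by decide +kernel

theorem tc_aut_6 : autOK2c am tc 46 6 = true := by decide +kernel

theorem tc_aut_7 : autOK2c am tc 46 7 = true := by decide +kernel

theorem tc_aut_8 : autOK2c am tc 46 8 = true := by decide +kernel

theorem tc_aut_9 : autOK2c am tc 46 9 = true := by decide +kernel

theorem tc_aut_10 : autOK2c am tc 46 10 = true := by decide +kernel

theorem tc_aut_11 : autOK2c am tc 46 11 = true := by decide +kernel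

theorem tc_ok : tblOKb 552 tc tc = true := by decide +kernel

theorem tc_aut : autOK 552 am tc = true := by
  rw [← autOK2_eq am_length tc_length]
  refine autOK2_of_chunks am tc 46 12 (by decide) (by have := am_length; omega) ?_
  intro k hk
  interval_cases k
  exacts [tc_aut_0, tc_aut_1, tc_aut_2, tc_aut_3, tc_aut_4, tc_aut_5, tc_aut_6, tc_aut_7, tc_aut_8, tc_aut_9, tc_aut_10, tc_aut_11]

/-- The automorphism with table `tc`. -/
def cE : Equiv.Perm (Fin 552) := tblPerm 552 tc tc tc_ok

theorem cE_mem : cE ∈ A := tblPerm_mem tc tc tc_ok tc_aut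

theorem cE_tab : IsTab cE tc := isTab_tblPerm _ _ _

theorem cE_inv_tab : IsTab cE⁻¹ tc := cE_tab.inv tc_ok


end Cfsg.Agent.Lib.Helper35.C3
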