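import Mathlib
import Cfsg.Agent.Lib.Helper35.Co3Elts

/-! The subgroups generated by three, respectively four, automorphisms
of the graph on 552 vertices. -/

set_option autoImplicit false
set_option maxRecDepth 100000
set_option maxHeartbeats 4000000

namespace Cfsg.Agent.Lib.Helper35.C3

open Cfsg.Agent.Lib.Helper35.StSearch Cfsg.Agent.Lib.Helper35.GraphTab

/-- The generators and their inverses. -/
def gens : ℕ → Equiv.Perm (Fin 552)
  | 0 => aE
  | 1 => mE
  | 2 => tE
  | 3 => aE⁻¹
  | 4 => mE⁻¹
  | 5 => tE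
  | _ => cE

/-- Their tables. -/
def gtab : ℕ → List ℕ
  | 0 => ta
  | 1 => tm
  | 2 => tt
  | 3 => ta'
  | 4 => tm'
  | 5 => tt
  | _ => tc

theorem gens_tab (k : ℕ) : IsTab (gens k) (gtab k) := by
  rcases k with _ | _ | _ | _ | _ | _ | k
  exacts [aE_tab, mE_tab, tE_tab, aE_inv_tab, mE_inv_tab, tE_tab, cE_tab]

/-- The subgroup generated by the three elements. -/
def Hgen : Subgroup (Equiv.Perm (Fin 552)) := Subgroup.closure {aE, mE, tE}

/-- The subgroup generated by the four elements. -/
def Agen : Subgroup (Equiv.Perm (Fin 552)) := Subgroup.closure {aE, mE, tE, cE}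

theorem gens_mem_H {k : ℕ} (hk : k < 6) : gens k ∈ Hgen := by
  have ha : aE ∈ Hgen := Subgroup.subset_closure (by simp)
  have hm : mE ∈ Hgen := Subgroup.subset_closure (by simp)
  have ht : tE ∈ Hgen := Subgroup.subset_closure (by simp)
  rcases k with _ | _ | _ | _ | _ | _ | k
  · exact ha
  · exact hm
  · exact ht
  · exact Hgen.inv_mem ha
  · exact Hgen.inv_mem hm
  · exact ht
  · omega

theorem gens_mem_A {k : ℕ} (_hk : k < 7) : gens k ∈ Agen := by
  have ha : aE ∈ Agen := Subgroup.subset_closure (by simp)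
  have hm : mE ∈ Agen := Subgroup.subset_closure (by simp)
  have ht : tE ∈ Agen := Subgroup.subset_closure (by simp)
  have hc : cE ∈ Agen := Subgroup.subset_closure (by simp)
  rcases k with _ | _ | _ | _ | _ | _ | k
  · exact ha
  · exact hm
  · exact ht
  · exact Agen.inv_mem ha
  · exact Agen.inv_mem hm
  · exact ht
  · exact hc


end Cfsg.Agent.Lib.Helper35.C3
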