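import Mathlib
import Cfsg.Agent.Lib.Helper35.Co3GenD
import Cfsg.Agent.Lib.Helper35.Co3Cent

/-! A lower bound for the order of the subgroup generated by three automorphisms
of the graph on 552 vertices (stabiliser chain certificate). -/

set_option autoImplicit false
set_option maxRecDepth 100000
set_option maxHeartbeats 4000000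

namespace Cfsg.Agent.Lib.Helper35.C3

open Cfsg.Agent.Lib.Helper35.StSearch Cfsg.Agent.Lib.Helper35.GraphTab

def orbH0 : List ℕ := [0, 1, 2, 3, 4, 5, 6, 7, 8, 9, 10, 11, 12, 13, 14, 15, 16, 17, 18, 19, 20, 21, 22, 23, 24, 25, 26, 27, 28, 29, 30, 31, 32, 33, 34, 35, 36, 37, 38, 39, 40, 41, 42, 43, 44, 45, 46, 47, 48, 49, 50, 51, 52, 53, 54, 55, 56, 57, 58, 59, 60, 61, 62, 63, 64, 65, 66, 67, 68, 69, 70, 71, 72, 73, 74, 75, 76, 77, 78, 79, 80, 81, 82, 83, 84, 85, 86, 87, 88, 89, 90, 91, 92, 93, 94, 95, 96, 97, 98, 99, 100, 101, 102, 103, 104, 105, 106, 107, 108, 109, 110, 111, 112, 113, 114, 115, 116, 117, 118, 119, 120, 121, 122, 123, 124, 125, 126, 127,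 128, 129, 130, 131, 132, 133, 134, 135, 136, 137, 138, 139, 140, 141, 142, 143, 144, 145, 146, 147, 148, 149, 150, 151, 152, 153, 154, 155, 156, 157, 158, 159, 160, 161, 162, 163, 164, 165, 166, 167, 168, 169, 170, 171, 172, 173, 174, 175, 176, 177, 178, 179, 180, 181, 182, 183, 184, 185, 186, 187, 188, 189, 190, 191, 192, 193, 194, 195, 196, 197, 198, 199, 200, 201, 202, 203, 204, 205, 206, 207, 208, 209, 210, 211, 212, 213, 214, 215, 216, 217, 218, 219, 220, 221, 222, 223, 224, 225, 226, 227, 228, 229, 230, 231, 232, 233, 234, 235, 236, 237, 238, 239, 240, 241, 242, 243, 244, 245, 246, 247, 248, 249, 250, 251, 252, 253, 254, 255, 256, 257, 258, 259, 260,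 261, 262, 263, 264, 265, 266, 267, 268, 269, 270, 271, 272, 273, 274, 275, 276, 277, 278, 279, 280, 281, 282, 283, 284, 285, 286, 287, 288, 289, 290, 291, 292, 293, 294, 295, 296, 297, 298, 299, 300, 301, 302, 303, 304, 305, 306, 307, 308, 309, 310, 311, 312, 313, 314, 315, 316, 317, 318, 319, 320, 321, 322, 323, 324, 325, 326, 327, 328, 329, 330, 331, 332, 333, 334, 335, 336, 337, 338, 339, 340, 341, 342, 343, 344, 345, 346, 347, 348, 349, 350, 351, 352, 353, 354, 355, 356, 357, 358, 359, 360, 361, 362, 363, 364, 365, 366, 367, 368, 369, 370, 371, 372, 373, 374, 375, 376, 377, 378, 379, 380, 381, 382, 383, 384, 385, 386, 387, 388, 389, 390, 391, 392, 393,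 394, 395, 396, 397, 398, 399, 400, 401, 402, 403, 404, 405, 406, 407, 408, 409, 410, 411, 412, 413, 414, 415, 416, 417, 418, 419, 420, 421, 422, 423, 424, 425, 426, 427, 428, 429, 430, 431, 432, 433, 434, 435, 436, 437, 438, 439, 440, 441, 442, 443, 444, 445, 446, 447, 448, 449, 450, 451, 452, 453, 454, 455, 456, 457, 458, 459, 460, 461, 462, 463, 464, 465, 466, 467, 468, 469, 470, 471, 472, 473, 474, 475, 476, 477, 478, 479, 480, 481, 482, 483, 484, 485, 486, 487, 488, 489, 490, 491, 492, 493, 494, 495, 496, 497, 498, 499, 500, 501, 502, 503, 504, 505, 506, 507, 508, 509, 510, 511, 512, 513, 514, 515, 516, 517, 518, 519, 520, 521, 522, 523, 524, 525, 526,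 527, 528, 529, 530, 531, 532, 533, 534, 535, 536, 537, 538, 539, 540, 541, 542, 543, 544, 545, 546, 547, 548, 549, 550, 551]

def wordsH0 : List (List ℕ) := [[],
  [5, 1, 1, 0, 1, 2],
  [4, 3, 5, 0, 0],
  [2, 0, 0, 4, 0],
  [0, 2, 0, 2],
  [4, 4, 3, 2, 4],
  [5, 0, 1, 0, 2, 3],
  [0, 5, 4, 4, 3, 1],
  [0, 5, 3, 1, 3],
  [0, 4, 2, 0, 2, 0, 0],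
  [0, 0, 0, 2, 0, 5, 1],
  [0, 2, 0, 4],
  [1, 1, 3, 3, 2, 0],
  [3, 2, 3, 2],
  [0, 1, 0, 1, 1, 5, 0],
  [3, 3, 4, 3, 5],
  [1, 1, 0, 5, 3, 1],
  [3, 2, 1, 3, 1],
  [4, 3, 5, 3, 1],
  [5, 0, 4, 0, 2, 1, 3],
  [5, 1, 0, 2],
  [3, 2, 1, 0, 0],
  [3, 5, 3, 1, 1, 0, 2],
  [3, 1, 3, 5],
  [3, 1, 1, 5, 3],
  [5, 0, 4],
  [3, 1, 1, 1, 5, 3],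
  [4, 3, 4, 4, 4],
  [4, 2, 3, 5, 3, 1],
  [4, 3, 4, 4, 4, 4],
  [3, 5, 3, 3, 3, 2],
  [0, 0],
  [4, 4, 0, 1],
  [2, 0, 2, 4, 0, 4],
  [0, 0, 0, 0, 0],
  [0, 0, 0, 4, 0],
  [1, 0, 5, 3, 3, 2, 3],
  [5, 3, 5, 3, 5],
  [4, 0, 4, 5, 3],
  [5, 1, 0, 5, 3],
  [0, 5, 3, 1, 1],
  [3, 2, 3, 2, 1, 3, 1],
  [4, 3, 4, 4],
  [1, 1, 5, 3, 1],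
  [3, 4, 3, 4, 5],
  [4, 3, 1, 1],
  [3, 1, 1, 0, 1],
  [0, 1, 1, 1, 1],
  [1, 5, 1],
  [5, 3, 4, 3, 4],
  [1, 3, 2, 3, 1],
  [5, 3, 5, 4, 0],
  [1, 1, 0, 1],
  [4, 4, 5, 0, 4, 4],
  [5, 1],
  [2, 0, 0, 4],
  [1, 0, 5, 0],
  [1, 2, 0, 1, 1],
  [1, 1, 1, 1, 2],
  [4, 0, 4, 4, 4],
  [3, 4, 4, 3, 4],
  [5, 3, 3, 2],
  [2, 0, 0, 0, 5, 3],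
  [5, 0, 2, 1, 3, 3],
  [2, 4, 0, 1, 2, 0],
  [4, 3, 4, 4, 4, 5],
  [2, 0, 0, 0, 2, 3, 1],
  [2, 3, 3, 3, 5, 3],
  [0, 4],
  [2, 3, 1, 1],
  [1, 0, 1, 1],
  [0, 5, 4, 0, 4],
  [4, 4, 4, 0, 1],
  [1, 0, 0, 0],
  [1, 1, 0, 1, 2, 0],
  [4, 0, 4, 4, 4, 2],
  [4, 4, 0],
  [5, 3, 3],
  [3, 5, 0, 0, 4, 0],
  [3, 3, 2, 3, 5],
  [4, 5, 0, 5, 0, 0],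
  [1, 1, 0, 5, 0],
  [3, 1],
  [4, 4, 0, 5, 0, 4],
  [1, 0, 1, 5, 1, 1, 1],
  [1, 0, 1, 5, 0, 0],
  [1, 0, 1, 5, 3, 1],
  [5, 3, 4, 5, 4, 3],
  [0, 2, 0, 0],
  [5, 3, 4, 4],
  [5, 4, 4, 3, 1],
  [4, 3, 1, 1, 5, 3],
  [0, 4, 0],
  [1, 3, 1, 3],
  [5, 4, 3, 4, 3, 5, 3],
  [4, 3, 2, 0, 4, 0],
  [2, 3, 2, 0, 1, 5],
  [2, 4, 0, 2, 3],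
  [0, 2, 4, 4, 3, 4, 5],
  [0, 2, 4, 3, 2, 4],
  [1, 5, 3],
  [4, 0, 4, 0, 5, 3],
  [0, 2, 0, 1, 1],
  [1, 1, 1, 1, 3, 5],
  [3, 1, 1, 0, 2],
  [4, 4, 3, 1, 3],
  [4, 4, 2, 4, 3],
  [1, 1, 1, 1],
  [1, 1, 3, 5, 3, 4, 3, 5],
  [0, 0, 4, 0, 4],
  [5, 0, 2, 3],
  [0, 1, 1, 1, 5, 0],
  [1, 2, 1, 1, 0, 0],
  [1, 0, 0, 5, 3, 1, 1],
  [3, 2, 3, 2, 4, 4],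
  [4, 0, 1],
  [3, 4, 2, 3, 1],
  [3, 4, 2, 0, 4],
  [3, 2, 1],
  [5, 3, 4, 3, 2],
  [1, 2, 3, 5, 1, 1],
  [3, 5, 3, 4, 4],
  [0, 4, 0, 4],
  [5, 3, 3, 5, 4],
  [4, 3, 4, 4, 5, 0],
  [3, 1, 1, 5],
  [3, 3],
  [4, 3, 1, 1, 3],
  [3, 3, 3, 5],
  [4, 0, 2, 1, 0],
  [1, 3, 1, 1, 3],
  [2, 1, 0, 1, 5],
  [0, 5, 3, 1],
  [4, 2, 4, 0, 4, 0],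
  [4, 5, 0, 5, 3, 1],
  [1, 0, 0],
  [4, 3, 1, 2, 3, 2],
  [4, 2, 4],
  [5, 1, 1, 1, 1, 0],
  [1, 3, 1, 5, 3, 3],
  [5, 0, 1, 1, 3],
  [4, 3, 5],
  [2, 0, 1, 0, 1, 5],
  [2, 4, 0, 1, 1],
  [1, 3, 3, 5],
  [2, 3, 3, 3, 5],
  [1, 0, 2, 0, 1, 0],
  [5, 0, 0, 5, 3],
  [1, 1, 3, 1, 3],
  [0, 5, 1, 0, 1, 1],
  [3, 1, 3, 1, 1],
  [3, 3, 3, 2, 0],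
  [0, 5, 1, 0, 1, 0],
  [1, 1, 3, 2],
  [4, 4, 0, 2, 3, 1],
  [2, 0, 4, 0, 1],
  [0, 5, 1, 3, 3, 5],
  [4, 0, 5, 0, 2, 3],
  [0, 1, 1],
  [1, 5, 3, 1, 1],
  [1, 1, 1, 0, 1],
  [2, 4, 0, 1, 2],
  [1, 0, 5, 1],
  [5, 0, 1, 1, 1],
  [0, 0, 2, 0, 4],
  [5, 3, 1, 2, 1],
  [1, 5, 1, 0],
  [0],
  [2, 0, 2, 0, 2, 3],
  [3, 2, 0, 5, 4, 3],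
  [1, 1],
  [5, 3, 1, 1, 1, 1],
  [2, 3, 2, 0, 2],
  [1, 0, 5],
  [4, 3, 4],
  [0, 1, 0, 0, 0],
  [2, 3, 1, 3],
  [5, 3, 2, 4, 3, 1],
  [0, 0, 5, 0, 1, 2],
  [3, 3, 2, 3, 1],
  [0, 5, 3, 5, 4],
  [3, 1, 1, 2, 0, 5, 0],
  [5, 1, 3, 1],
  [1, 1, 0, 1, 1],
  [4, 4],
  [4, 0, 2, 3],
  [3, 2, 0],
  [0, 4, 4],
  [4, 4, 0, 4, 0],
  [0, 5, 0, 4, 0],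
  [1, 1, 1, 1, 0, 1],
  [3, 4, 3, 4],
  [1, 5, 0, 0],
  [2, 1, 1, 1],
  [4, 4, 0, 2, 0, 5, 3],
  [3, 5, 0, 4],
  [0, 2, 0, 1, 1, 0],
  [4, 3, 4, 2, 0, 4],
  [1, 0, 0, 4],
  [4, 4, 4, 0, 4],
  [0, 0, 2, 3, 1, 1],
  [0, 4, 4, 4, 3],
  [0, 0, 5, 3, 1],
  [1, 3, 2, 0, 4],
  [3, 4],
  [4, 0, 1, 1, 3],
  [2, 1, 0, 2, 1, 0],
  [1, 1, 1, 0, 2],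
  [3, 1, 1, 3, 1],
  [3, 3, 2, 3, 1, 3],
  [3, 2, 0, 4, 4, 3],
  [2, 1, 3, 2, 3, 2],
  [0, 1, 5, 3, 5, 1, 1],
  [2, 0, 2, 1],
  [0, 0, 4],
  [1, 3, 2, 3, 2, 0, 0],
  [4, 4, 4, 4],
  [2, 1, 3, 5, 0, 0],
  [4, 3, 2, 0, 4],
  [4, 3, 1],
  [0, 0, 0, 5, 3],
  [5, 3, 2, 0, 4, 2, 3],
  [1, 3, 1, 5, 3, 5],
  [4, 4, 2, 0, 2, 3],
  [4, 4, 3, 2, 0],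
  [3, 4, 2, 4],
  [3, 1, 3, 1, 3],
  [0, 1, 2, 3, 1],
  [1, 0, 2, 1, 1, 0],
  [4, 4, 4, 3, 1],
  [3, 3, 2, 3, 3, 4, 2],
  [3, 2, 1, 1, 0, 2, 1],
  [0, 1, 0, 2, 3],
  [1, 2, 1, 0, 0],
  [1, 1, 1, 3, 5],
  [4, 3, 2, 3, 5, 0, 2],
  [1, 5, 3, 2],
  [3, 3, 3, 5, 3, 5],
  [0, 1, 1, 1, 3],
  [3, 1, 5, 0, 1, 5],
  [3, 4, 3, 4, 4],
  [3, 1, 1, 1, 1],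
  [0, 1, 5, 0, 0],
  [1, 3],
  [3, 5, 4, 4, 3],
  [4, 3, 4, 3, 4],
  [5, 0, 1, 1],
  [4, 0, 4, 0],
  [0, 1, 0],
  [3, 1, 1, 0],
  [3, 2, 0, 1, 1],
  [1, 3, 3, 4, 2, 3],
  [3, 2, 1, 1, 3, 5],
  [0, 4, 0, 4, 0],
  [0, 1, 0, 1, 2, 0],
  [3, 3, 4, 2, 3, 4],
  [3, 1, 5, 3, 3],
  [4, 3, 4, 3, 4, 4],
  [1, 0],
  [5, 3, 4, 4, 2],
  [2, 3, 5, 0, 0],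
  [3, 5, 4, 0, 4, 4, 3],
  [4, 0, 1, 5, 0, 2],
  [4, 2, 4, 4, 4],
  [4, 4, 4, 0],
  [4, 4, 2, 0, 1],
  [3, 4, 3, 5],
  [5, 3, 3, 5, 0],
  [3, 3, 2, 4, 3],
  [2, 0, 0, 0],
  [5, 0, 1, 5, 0, 0],
  [1, 2, 0, 1],
  [4, 5, 3, 4, 2, 0, 4],
  [0, 4, 4, 4, 2, 3, 1],
  [4, 0, 2, 0, 0],
  [0, 2, 3],
  [2, 0, 0],
  [4, 4, 4, 4, 4],
  [3, 4, 3, 1, 2],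
  [0, 4, 4, 4, 4],
  [1, 3, 5, 3, 5],
  [5, 3],
  [0, 2, 1, 3, 1, 3],
  [0, 0, 5, 3, 2, 3, 3],
  [2, 3, 1, 3, 2],
  [2, 4, 0, 5, 0, 4],
  [1, 1, 0, 5, 3],
  [3, 3, 2, 0, 4],
  [4, 2, 0, 4],
  [3, 5, 0, 4, 4],
  [0, 5, 3, 3, 5],
  [1, 0, 1],
  [4, 0, 5, 4, 0, 4],
  [2, 0, 5, 3, 1, 1],
  [3, 2, 3, 1, 3, 1],
  [1, 1, 2, 1, 0],
  [1, 1, 3, 1],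
  [0, 1, 5, 1, 3, 3],
  [3, 3, 3, 5, 0, 0],
  [4, 5, 3],
  [0, 0, 2, 4, 4, 3, 4],
  [3, 3, 4, 4, 2, 3],
  [2, 1, 1, 3, 5, 0, 2],
  [1, 1, 3],
  [1, 1, 2, 0, 1, 1],
  [0, 2, 4, 3],
  [3, 3, 2, 0],
  [2, 0, 5, 3, 1],
  [3, 3, 5, 0, 2, 1],
  [2, 4, 0, 4, 0],
  [0, 5, 1, 3],
  [3, 4, 4, 5, 3, 4],
  [3, 2, 1, 3, 5],
  [3, 2, 3, 1, 1, 1, 1],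
  [0, 1, 1, 0, 1],
  [0, 1, 0, 0, 2, 3],
  [4, 2, 4, 3, 4, 5],
  [0, 2, 1, 0, 1, 1, 3],
  [0, 1, 1, 2, 0],
  [5, 1, 0],
  [4, 0, 1, 0],
  [5, 4, 3, 1, 3, 2],
  [2, 0, 5, 1, 3, 1],
  [3, 2, 4, 3],
  [4, 4, 0, 5, 1],
  [1, 1, 0, 1, 5, 1, 0],
  [3, 2, 4, 3, 5, 4],
  [0, 4, 2, 4, 4],
  [1, 0, 1, 5, 0],
  [1, 5, 1, 1, 3, 2],
  [4, 0, 4, 4, 0, 4],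
  [4, 2, 3, 1, 1],
  [4, 2, 0, 4, 4],
  [2, 3, 5],
  [5, 0, 4, 0],
  [2, 3, 1],
  [0, 0, 4, 4],
  [2, 4, 3, 4],
  [1, 1, 0, 1, 0],
  [1, 3, 1, 1],
  [2, 0, 2, 1, 1],
  [1, 3, 2],
  [1, 1, 1, 1, 0],
  [4, 4, 3, 1],
  [1, 1, 1, 1, 1],
  [2, 1, 1, 0, 2, 0],
  [1, 3, 3, 5, 3, 1],
  [2, 3, 1, 1, 3],
  [5, 1, 3, 1, 3],
  [0, 0, 0],
  [1, 1, 5, 1, 3],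
  [1, 3, 3, 5, 4],
  [1, 1, 0, 0, 4],
  [5, 3, 2, 3, 1],
  [1, 1, 0, 0],
  [0, 4, 0, 5, 1, 3],
  [4, 5, 0],
  [2, 3, 5, 4],
  [2, 1, 1, 1, 3, 3],
  [0, 1, 5],
  [0, 4, 2, 4, 3, 4],
  [4, 2, 3, 5, 0, 2],
  [5, 1, 1, 3, 3],
  [3, 1, 3, 5, 3, 3],
  [4, 0, 4, 4],
  [5, 0, 4, 0, 5, 3],
  [5, 4, 0, 1, 1, 3],
  [5, 3, 4, 4, 4],
  [2, 0, 5, 0, 4],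
  [4, 3, 1, 3],
  [0, 0, 4, 0],
  [0, 0, 2, 0, 0],
  [3, 3, 2, 0, 5, 1, 3, 1],
  [4, 0, 2, 0, 2],
  [1, 1, 1, 3, 1],
  [3, 1, 1, 5, 0, 5],
  [0, 1, 0, 1, 2, 3],
  [3, 1, 1, 3],
  [2, 3, 2, 3, 1, 3],
  [3, 4, 3, 2, 3, 1],
  [4, 4, 3, 4, 3, 5, 3],
  [3, 4, 3, 5, 0, 0],
  [3, 1, 1, 1, 1, 1],
  [3, 4, 3, 5, 3],
  [4, 4, 3],
  [1],
  [0, 2, 0],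
  [2],
  [2, 0, 1, 1, 0],
  [1, 0, 5, 3, 4, 5, 4],
  [3, 1, 1, 1, 2, 3, 2],
  [3, 4, 4],
  [4, 0, 4],
  [5, 3, 5, 1, 3, 1],
  [4, 4, 0, 2, 0, 0],
  [3, 4, 2],
  [4, 0, 4, 0, 2, 0],
  [3, 5, 0, 0],
  [2, 3, 4, 3, 2, 0, 0],
  [1, 3, 3, 3, 2, 0],
  [1, 2, 1, 1, 0, 1],
  [4, 5, 4, 4, 3, 4],
  [1, 0, 2, 3],
  [4, 4, 0, 5, 0],
  [0, 2, 0, 1, 0],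
  [2, 0, 2, 0, 4, 0],
  [4, 5, 4, 4, 0],
  [4],
  [3, 3, 3, 2, 3],
  [0, 5, 3, 5, 0, 0],
  [3, 2, 0, 5],
  [4, 3, 4, 5, 3],
  [3, 5, 0, 1, 5, 3, 1],
  [0, 0, 2, 3],
  [4, 4, 4, 4, 3],
  [4, 5, 4, 3],
  [5, 3, 3, 5, 4, 3],
  [4, 0, 1, 2],
  [3, 2, 3, 1, 3],
  [4, 4, 3, 4, 4],
  [0, 4, 0, 2, 3, 1],
  [0, 2, 0, 1, 1, 3],
  [1, 3, 1, 3, 1],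
  [1, 0, 2, 3, 1],
  [4, 4, 3, 4],
  [5, 0, 2, 0, 5, 0, 0],
  [4, 0, 2, 3, 2, 4],
  [0, 1, 1, 3, 2, 3, 3],
  [5, 4, 3, 4, 2],
  [3, 2, 0, 1, 0],
  [2, 3, 4, 3, 1],
  [3, 4, 4, 4],
  [3, 1, 3],
  [1, 1, 0, 2],
  [4, 0],
  [1, 3, 1],
  [3, 4, 2, 0],
  [0, 1, 1, 1, 1, 2, 0],
  [1, 1, 1, 3],
  [1, 1, 1, 1, 1, 0],
  [2, 1, 3, 3, 5, 3, 2],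
  [2, 0, 5, 0],
  [4, 0, 5, 0, 2, 1],
  [1, 0, 0, 5, 3],
  [1, 1, 3, 2, 0, 2],
  [0, 1, 1, 0],
  [2, 1, 1, 0, 5, 3, 1],
  [4, 3, 5, 3, 3],
  [4, 4, 0, 1, 1],
  [0, 1, 0, 0],
  [0, 4, 4, 0],
  [3, 3, 3, 2, 0, 4],
  [4, 3, 5, 1, 0, 2],
  [5, 0, 0, 0, 0, 0],
  [0, 5, 0, 5, 1],
  [0, 1],
  [4, 0, 1, 1],
  [3, 4, 4, 0, 2, 3, 1],
  [4, 3, 1, 5, 3, 1],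
  [0, 5, 0, 0, 4, 0],
  [5, 4, 4, 3, 1, 3],
  [5, 0, 4, 5, 3],
  [0, 5, 3, 4, 4, 5],
  [0, 1, 5, 0],
  [1, 0, 5, 3, 3, 5],
  [1, 1, 0, 0, 5, 3],
  [4, 4, 4, 3],
  [3, 4, 3, 5, 0, 4],
  [1, 0, 0, 0, 2, 3],
  [1, 3, 1, 1, 2, 3],
  [2, 3, 1, 1, 0],
  [0, 0, 0, 4],
  [4, 2, 3, 1],
  [3, 2, 3, 2, 0, 0],
  [1, 2, 3, 1, 3, 1],
  [0, 4, 4, 4],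
  [1, 1, 2, 3],
  [1, 1, 1, 0],
  [2, 0, 2, 3, 4, 4, 4],
  [2, 3, 5, 0, 4],
  [3, 1, 1],
  [3, 4, 4, 4, 2],
  [0, 4, 4, 2, 0, 4],
  [5, 3, 3, 4, 4],
  [4, 5],
  [1, 0, 2, 0, 1, 1],
  [1, 0, 1, 1, 0],
  [2, 4, 4, 0],
  [2, 0, 2, 1, 0],
  [5, 0, 2, 0, 0],
  [4, 4, 5, 4, 4, 4],
  [0, 4, 0, 2, 3],
  [3, 4, 4, 3],
  [0, 5, 0, 5, 0],
  [5, 4, 4, 3, 4],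
  [1, 0, 1, 0],
  [3, 5, 3, 1],
  [0, 2, 1, 1],
  [1, 3, 2, 3, 3],
  [4, 0, 2, 1, 3],
  [5, 1, 0, 5, 0],
  [5, 0, 5, 3, 1, 3],
  [1, 3, 2, 0, 0],
  [4, 0, 2, 0],
  [1, 0, 1, 1, 1],
  [4, 3, 4, 2, 4],
  [4, 2, 4, 0, 4],
  [3, 2, 0, 4, 0],
  [1, 1, 2, 1, 1, 1],
  [4, 4, 0, 4],
  [4, 0, 5, 0, 2, 0],
  [4, 3, 1, 2, 0, 0],
  [0, 2, 3, 4, 4, 4],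
  [2, 1, 3, 3, 2],
  [2, 0],
  [4, 4, 4, 3, 4, 5],
  [0, 2, 3, 3, 2, 0],
  [1, 5, 1, 3, 2],
  [4, 0, 5, 0, 4],
  [1, 1, 1, 3, 5, 0, 2],
  [4, 4, 0, 4, 4],
  [0, 1, 1, 1],
  [3, 5, 0, 5, 1],
  [5, 1, 0, 1, 0],
  [5, 4, 0, 5, 4, 3],
  [5, 0, 4, 4, 0],
  [3, 3, 4, 4],
  [3, 5],
  [1, 1, 1, 1, 3],
  [4, 0, 2, 3, 1],
  [4, 3],
  [3, 3, 2],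
  [0, 4, 2, 3, 1, 1],
  [3, 4, 4, 3, 4, 4],
  [0, 1, 5, 0, 2],
  [1, 2, 1, 1, 3, 1, 1],
  [0, 4, 4, 3, 1],
  [2, 0, 1, 0],
  [5, 3, 4],
  [4, 4, 4],
  [4, 5, 0, 1],
  [2, 0, 4, 4],
  [4, 4, 3, 4, 4, 4],
  [4, 4, 4, 5],
  [4, 2, 4, 3, 4, 4, 3],
  [1, 1, 1],
  [3, 1, 3, 1],
  [3],
  [0, 5, 0, 1, 2, 0],
  [0, 4, 4, 0, 4],
  [1, 1, 0],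
  [3, 3, 4, 2]]

theorem levelH0 : levelOK 552 6 gtab [] 0 orbH0 wordsH0 = true := by decide +kernel

theorem nodupH0 : orbH0.Nodup := by decide +kernel

theorem stepH0 : 552 * Nat.card (stabL Hgen [0]) ≤ Nat.card (stabL Hgen []) := by
  have h := card_stabL_ge Hgen [] (b := 0) (by norm_num) orbH0 nodupH0
    (level_spec gens_tab (fun k hk => gens_mem_H hk) (by decide) (by norm_num) levelH0)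
  have e : orbH0.length = 552 := by decide
  rw [e] at h
  exact h

def orbH1 : List ℕ := [1, 2, 3, 4, 5, 6, 7, 8, 9, 10, 11, 12, 13, 14, 15, 16, 17, 18, 19, 20, 21, 22, 23, 25, 28, 30, 32, 37, 41, 42, 44, 45, 47, 52, 54, 57, 59, 60, 62, 65, 69, 76, 80, 82, 84, 89, 92, 95, 98, 102, 103, 107, 108, 112, 113, 119, 125, 127, 128, 131, 133, 138, 143, 145, 146, 152, 157, 159, 163, 168, 169, 171, 174, 176, 183, 187, 191, 198, 200, 202, 206, 207, 208, 212, 216, 221, 226, 228, 229, 236, 240, 245, 248, 253, 259, 260, 265, 269, 271, 277, 279, 280, 282, 284, 286, 287, 288, 289, 291, 292, 293, 296, 299, 301, 302, 303, 304, 306, 308, 309, 311, 314, 316, 317, 319, 320,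 321, 323, 324, 325, 326, 327, 328, 330, 331, 332, 334, 336, 338, 339, 340, 341, 343, 344, 346, 347, 349, 350, 352, 353, 354, 357, 358, 359, 362, 363, 364, 367, 368, 369, 370, 371, 373, 374, 375, 376, 377, 379, 382, 383, 385, 387, 388, 389, 390, 392, 393, 394, 395, 397, 400, 401, 402, 403, 404, 406, 407, 408, 409, 411, 413, 414, 415, 417, 418, 419, 420, 423, 425, 426, 428, 430, 431, 432, 433, 434, 435, 437, 438, 439, 441, 442, 443, 445, 446, 447, 448, 449, 450, 452, 454, 456, 457, 458, 462, 463, 464, 466, 467, 468, 470, 471, 472, 473, 475, 476, 477, 478, 480, 483, 484, 485, 486, 487, 488, 490, 491, 492, 494, 495, 496, 497, 499, 500, 502, 503, 504, 505, 507,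 508, 509, 510, 511, 514, 515, 516, 517, 519, 520, 521, 523, 525, 526, 527, 528]

def wordsH1 : List (List ℕ) := [[],
  [1, 2, 0, 5, 0, 4, 5, 0, 5, 4],
  [5, 3, 2, 3, 2, 0, 5, 3, 4, 4],
  [4, 4, 0, 2, 0, 0, 2, 3, 4, 3, 5],
  [5, 0, 1, 0, 0, 2, 4, 0, 1, 5, 0, 2],
  [4, 0, 5, 0, 0, 0, 4, 0, 2, 3, 2, 4],
  [1, 0, 2, 0, 2, 3, 2],
  [3, 5, 0, 0, 0, 4, 0, 5, 0, 2, 0, 4, 0],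
  [4, 5, 0, 5, 0, 1],
  [0, 5, 0, 0, 0, 4, 0, 5, 3, 1, 3],
  [3, 3, 5, 3, 3, 3, 5, 0, 2, 3, 1],
  [0, 5, 0, 0, 4, 3, 5, 3, 3, 4],
  [0, 4, 0, 2, 3, 1, 3, 3, 3, 2, 3],
  [3, 5, 3, 1, 3, 1, 1, 5, 3, 5, 0, 4],
  [1, 3, 1, 1, 3, 5, 3, 3, 3, 2, 3, 1],
  [5, 0, 4, 2, 0, 5, 0, 1, 1, 2, 0],
  [1, 1, 0, 2, 3, 2, 0, 5, 3, 3],
  [3, 5, 3, 1, 2, 3, 2, 1, 1, 0],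
  [2, 0, 1, 0, 2, 0, 0, 5, 0, 1, 2, 0],
  [3, 4, 4, 3, 5, 0, 5, 0, 5, 3, 1, 3],
  [1, 3, 5, 0, 4, 2, 0, 4, 5, 4, 4, 3, 2],
  [0, 1, 1, 3, 1, 2, 0, 5, 3, 5, 3, 1, 3, 5],
  [3, 3, 2, 0, 5, 3, 2, 0, 2, 0, 1, 0, 5, 3],
  [3, 1, 3, 5, 3, 1, 3, 1, 2, 0, 1, 0],
  [4, 3, 5, 4, 1, 3, 2, 3, 5, 3, 5, 1],
  [3, 5, 3, 5, 0, 1, 1, 0, 5, 1, 1, 3],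
  [0, 5, 3, 5, 3, 5, 4, 0, 2, 0, 2, 4, 3, 4],
  [0, 0, 0, 5],
  [0, 0, 5, 4, 0, 2, 0, 4, 0, 4, 0],
  [5, 0, 1, 1, 1, 0, 2, 0, 5, 0, 2, 0],
  [3, 5, 0, 2, 3, 3, 4],
  [3, 4, 4, 0, 5, 3, 2, 4, 3, 4],
  [3, 5, 4, 0, 4, 2, 0, 5],
  [4, 4, 5, 3, 5, 3, 3, 3, 5, 4],
  [0, 1, 2, 1, 3, 2, 3, 2, 4],
  [3, 3, 2, 4, 4, 0, 1, 5, 3, 5, 0, 4],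
  [0, 5, 0, 0, 0, 4, 0, 2, 0, 1, 0, 5],
  [4, 0, 2, 4, 4, 0, 2, 0, 5, 4, 3],
  [2, 0, 1, 1, 3, 5, 3, 2, 4, 3, 5, 3],
  [1, 5, 1, 0, 0, 2, 0, 0, 4, 4],
  [1, 1, 0, 0, 2, 0, 1, 0, 0, 2, 0],
  [3, 3, 2, 0, 5, 1, 0, 1, 1, 0, 1],
  [2, 0, 2, 0, 0, 0, 2, 0, 1, 0, 5, 0],
  [0, 5, 3, 2, 3, 2, 3, 4, 5, 3, 4, 2, 0, 4],
  [5, 4, 0, 1, 0, 2, 1, 1, 3, 5, 1, 0, 5],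
  [4, 0, 5, 1, 0, 0, 0, 0, 5, 0, 4],
  [1, 0, 5, 0, 5, 1, 3, 3, 4],
  [2, 0, 1, 2, 1, 3, 2, 0, 2, 3, 3],
  [0, 4, 0, 5, 1, 0, 5, 0, 0, 5, 3],
  [0, 1, 2, 3, 1, 2, 3, 2, 3, 2, 3, 1, 3],
  [1, 3, 5, 0, 4, 4, 4, 3, 2, 0, 5, 4],
  [3, 4, 3, 2, 3, 3, 4, 4, 5, 0, 4, 4],
  [3, 1, 3, 2, 1, 0, 0, 2, 0, 0, 0, 2, 3, 1],
  [4, 5, 0, 5, 0, 1, 0, 0, 0, 2],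
  [3, 2, 3, 5, 0, 5, 0, 4, 0, 1, 0, 0],
  [1, 1, 2, 3, 1, 1, 5, 0, 2, 0, 0],
  [3, 4, 5, 3, 1, 1, 0, 5, 1, 3, 3, 5],
  [0, 2, 3, 4, 3, 4, 4, 3, 5, 3, 3],
  [3, 3, 5, 3, 2, 4, 4, 0, 5, 4, 4],
  [4, 3, 2, 3, 2, 1],
  [3, 4, 3, 2, 3, 2, 3, 3, 5, 4, 3, 5],
  [3, 4, 4, 0, 5, 4, 3, 2, 3, 2],
  [0, 5, 3, 1, 3, 3, 3, 2, 0, 5, 4, 3],
  [4, 3, 4, 4, 5, 4, 0, 2, 1, 3, 2, 3, 2],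
  [3, 1, 5, 0, 0, 4, 0, 5, 3, 1, 3],
  [2, 3, 4, 2, 3, 4, 3, 1, 5, 0, 1, 5],
  [3, 2, 1, 3, 5, 3],
  [5, 1, 1, 3, 1, 3, 5, 0, 5, 3],
  [3, 5, 4, 3, 1, 5, 3, 5, 3, 4, 3, 4],
  [1, 1, 5, 0, 5, 0, 1, 1, 2, 3, 3, 2, 3, 4],
  [0, 5, 3, 2, 0, 4, 5, 4, 3, 2, 3],
  [1, 0, 1, 5, 3, 2, 1, 3, 5, 3, 3, 3, 2],
  [2, 0, 2, 0, 4, 0, 5, 0, 4, 5, 0, 1],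
  [3, 3, 3, 5, 3, 4, 4, 4, 3],
  [2, 4, 3, 2, 1, 3, 1, 3, 5, 3, 5],
  [4, 3, 1, 1, 2, 0, 1, 1, 2, 0, 0, 4],
  [2, 1, 3, 1, 1, 0, 2, 0, 0, 0],
  [5, 3, 5, 3, 4, 5, 3, 2, 1, 1, 0, 5, 4],
  [4, 0, 2, 4, 4, 3, 4, 5, 0, 5, 0, 5],
  [3, 4, 3, 2, 3, 2, 3, 3, 3, 2, 0],
  [0, 1, 1, 1, 0, 2, 0, 0, 0],
  [0, 2, 3, 3, 3, 5, 4, 3, 1, 2, 0, 1, 0],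
  [4, 0, 2, 3, 5, 3, 5, 0, 5, 1, 0, 4, 0],
  [4, 4, 0, 2, 0, 5, 3, 1, 5, 1, 1],
  [2, 0, 5, 1, 3, 2, 0],
  [3, 1, 5, 0, 0, 4, 0, 2, 0, 1, 0, 5],
  [0, 0, 0, 2, 4, 3, 5, 3, 1, 2],
  [4, 5, 0, 5, 0, 1, 2, 3, 3, 3],
  [0, 5, 4, 4, 3, 5, 3, 3, 4, 4],
  [3, 1, 1, 1, 3, 5, 0, 0, 5, 4, 0],
  [4, 0, 4, 2, 4, 4, 3, 5, 3, 4, 4],
  [1, 0, 0, 5, 0, 5, 1, 1, 0, 2, 1, 3],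
  [4, 4, 0, 2, 3, 3, 4, 4, 2, 3, 5, 1, 3, 1],
  [0, 5, 1, 0, 2, 0, 5, 1, 3],
  [1, 3, 3, 2, 0, 4, 4, 4, 0, 2],
  [1, 1, 3, 1, 2, 3, 5, 0, 5, 3, 3, 5],
  [2, 4, 3, 2, 4, 0, 1, 0, 5, 1, 0, 5],
  [0, 1, 1, 1, 3, 2, 3, 4, 3, 5, 0, 5, 0],
  [2, 0, 4, 5, 0, 5, 0, 2, 0, 1, 1, 3, 3, 5],
  [2, 0, 2, 0, 4, 0, 4, 5, 0, 1, 5],
  [3, 3, 4, 5, 0, 4, 4, 5, 3, 4, 4],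
  [0, 4, 4, 5, 0, 2, 4, 0, 2, 3, 3, 2, 0],
  [3, 3, 2, 3, 2, 1, 0, 0, 4, 5, 0, 4, 4],
  [4, 2, 4, 0, 2, 3, 3, 2, 0, 1, 0],
  [0, 1, 2, 3, 1, 2, 1, 1, 0, 5, 0, 4],
  [2, 0, 5, 0, 0, 4, 3, 4, 2, 3, 1, 3, 3],
  [1, 5, 1, 3, 4, 2, 4, 0, 2, 3, 3, 4],
  [5, 3, 1, 1, 1, 3, 5, 0, 0, 4],
  [3, 5, 0, 5, 3, 3, 2, 3, 4, 3],
  [0, 1, 0, 0, 2, 0, 4, 4, 5, 3],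
  [2, 3, 4, 2, 0, 2, 0, 4, 0, 4, 0],
  [1, 1, 3, 3, 5, 3, 3, 4, 2, 4],
  [3, 3, 5, 3, 4, 4, 4, 4, 5, 0],
  [1, 1, 1, 0, 5, 1, 1, 0, 5, 3, 3, 5],
  [3, 2, 1, 3, 2, 0, 0, 2],
  [2, 0, 1, 3, 3, 2, 3, 4, 3],
  [4, 0, 1, 5, 3, 2, 0, 5, 0, 4],
  [0, 2, 1, 0, 1, 1, 2, 3, 1, 5, 1, 0, 0],
  [0, 4, 4, 3, 5, 3, 2, 1, 3, 2, 3, 3],
  [4, 0, 5, 3, 2, 0, 0, 0, 2, 0, 0],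
  [4, 4, 0, 4, 4, 2, 0, 5, 0, 1, 2, 0],
  [2, 3, 5, 1, 3, 1, 2, 0],
  [3, 4, 3, 4, 2, 3, 1, 5, 0, 2, 1, 3, 1, 3],
  [1, 3, 1, 1, 1, 5, 0, 5, 0, 1, 2],
  [0, 0, 0, 5, 0, 0, 0, 5],
  [0, 2, 3, 4, 4, 2, 4, 0, 4, 2, 0, 1],
  [0, 4, 4, 0, 5, 3, 3, 4, 4, 0, 5],
  [1, 0, 1, 5, 0, 2, 3, 1, 1, 0],
  [4, 4, 0, 5, 3, 3, 5, 3, 3, 5, 0, 4],
  [0, 4, 5, 0, 2, 1, 0, 2, 3, 3],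
  [3, 4, 5, 0, 5, 0, 2, 3, 5, 0],
  [1, 1, 1, 0, 5, 1, 3, 5, 0, 0, 5, 3],
  [0, 0, 4, 4, 4, 5, 4, 3, 4, 2, 3, 1],
  [4, 3, 2, 3, 1, 3, 3, 3],
  [3, 3, 2, 3, 4, 4, 4, 3, 2, 3],
  [0, 0, 5, 0, 4, 5, 0, 2, 0, 1, 1, 3],
  [1, 3, 2, 3, 3, 3, 3, 4, 2, 3, 1],
  [0, 2, 3, 3, 4, 5, 4, 0, 4, 4, 2, 0, 1, 5],
  [0, 4, 0, 2, 3, 1, 3, 3, 2, 4, 0],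
  [3, 3, 3, 5, 3, 4, 4, 0, 4, 5],
  [1, 0, 1, 1, 2, 1, 0, 5, 3, 1, 3, 1, 5],
  [4, 0, 2, 3, 5, 3, 5, 4, 4, 4, 3],
  [0, 0, 2, 3, 5, 0, 5, 3, 4, 4],
  [2, 3, 2, 4, 4, 0, 4, 4, 3, 2, 0, 4],
  [3, 3, 4, 2, 4, 3, 5, 3, 2, 0, 4, 0],
  [3, 1, 1, 3, 3, 2, 0, 5, 3, 2, 4, 3],
  [3, 1, 3, 5, 0, 2, 0, 1, 5, 1, 0, 0],
  [4, 0, 5, 0, 0, 0, 2, 0, 4, 4, 0, 4],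
  [4, 4, 0, 2, 4, 0, 2, 3, 5, 3, 2, 0],
  [4, 4, 0, 5, 3, 4, 4, 0, 2, 3, 1, 1],
  [1, 3, 2, 0, 2, 3, 1, 3, 3, 5, 3, 1],
  [3, 4, 3, 5, 0, 0, 5, 3, 1, 5, 1],
  [3, 2, 3, 5, 1, 0, 2, 3, 3],
  [5, 3, 4, 2, 0, 1, 1, 5, 0, 2, 0, 4, 0],
  [0, 1, 2, 1, 3, 2, 3, 3, 4, 3],
  [3, 4, 2, 3, 2, 1, 0, 5, 3, 2, 0, 4, 2, 3],
  [0, 4, 5, 0, 2, 1, 0, 2, 0, 2],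
  [3, 3, 4, 5, 3, 1, 3, 2, 0, 1, 1, 0],
  [3, 1, 1, 0, 5, 4, 0, 0, 2, 3, 2, 0],
  [0, 4, 0, 5, 0, 4, 4, 0, 5, 0, 2],
  [2, 0, 0, 5, 3, 1, 1, 3, 2, 0, 0],
  [3, 3, 3, 5, 0, 5, 0, 0, 4],
  [1, 3, 2, 0, 2, 4, 3, 1, 1, 5, 0, 0],
  [3, 2, 1, 0, 5, 3, 5, 3, 2, 3, 1, 1, 3, 3],
  [3, 5, 0, 0, 4, 0, 2, 0, 1, 0, 5, 0],
  [2, 3, 3, 3],
  [1, 3, 3, 2, 3, 2, 0, 0, 0],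
  [1, 0, 2, 3, 1, 2, 0],
  [1, 0, 1, 1, 2, 1, 0, 1, 5, 1, 0, 0],
  [1, 1, 0, 2, 1, 1, 3, 2, 1, 0, 0],
  [3, 5, 3, 2, 3, 1, 3, 2, 3, 3, 2, 0],
  [3, 4, 2, 4, 0, 5, 0, 4, 5, 3, 3, 4],
  [1, 0, 0, 2, 3, 1, 3, 2, 3],
  [0, 5, 0, 1, 1, 1, 0, 5, 0, 0],
  [1, 1, 0, 1, 1, 0, 5, 3, 2, 0, 1, 1],
  [3, 5, 4, 0, 5, 3, 4],
  [0, 2, 0, 0, 0, 5, 0, 5, 0, 2, 0, 4],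
  [3, 3, 4, 5, 3, 1, 5, 0, 5, 3, 1, 3],
  [3, 1, 3, 3, 2, 3, 3, 2, 3, 5, 0, 5],
  [1, 2, 0, 0, 0, 2, 0, 2, 1, 1],
  [4, 3, 1, 1, 3, 5, 0, 1, 2, 1],
  [1, 1, 0, 1, 0, 2, 0, 5, 0, 2, 0],
  [3, 4, 4, 0, 5, 3, 4, 4, 2, 0, 2],
  [0, 4, 2, 3, 5, 3, 4, 2, 3],
  [1, 3, 3, 5, 0, 1, 5, 0, 2, 3, 1, 3, 1, 5],
  [1, 3, 2, 3, 5, 0, 2, 4, 3, 1],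
  [3, 2, 1, 1, 1, 1, 0, 2, 0, 0],
  [4, 4, 3, 5, 3, 1, 3, 1, 1, 1, 5],
  [0, 2, 3, 3, 4, 3, 2, 3, 2, 3, 2, 0, 0],
  [1, 1, 0, 1, 5, 3, 1, 5, 3, 5, 0, 4],
  [0, 5, 4, 3, 4, 5, 3, 5, 4, 0],
  [1, 0, 0, 5, 3, 2, 0],
  [1, 2, 0, 2, 3, 2, 0, 2, 0, 0, 0, 0],
  [3, 2, 3, 5, 1, 0, 2, 0, 2],
  [4, 4, 0, 2, 0, 4, 2, 0, 2, 0, 1, 1],
  [1, 1, 0, 2, 3, 5, 3, 1, 1, 2, 0],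
  [3, 4, 4, 3, 5, 3, 2, 4, 3, 5, 3, 1, 3],
  [4, 0, 4, 0, 5, 0, 4, 5, 0, 4, 4, 0],
  [3, 4, 4, 0, 2, 0, 0, 5, 3, 1, 2, 0, 1, 0],
  [5, 3, 4, 5, 3, 2, 0, 4, 0, 1, 0, 0],
  [5, 0, 5, 3, 5, 3, 4],
  [3, 3, 5, 0, 4, 4, 0, 2, 3, 3, 5],
  [5, 1, 0, 2, 3, 3, 2, 3, 5, 0, 4],
  [5, 0, 5, 0, 1, 2, 3, 1, 1, 0],
  [5, 4, 3, 4, 4, 3, 5, 1, 1, 3, 2, 1],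
  [0, 2, 1, 0, 1, 2, 0, 5, 0, 2, 3, 3],
  [1, 3, 2, 0, 2, 4, 4, 0, 4, 0, 2, 0],
  [1, 2, 0, 5, 0, 4, 2, 4, 3],
  [5, 3, 2, 3, 1, 1, 3, 2, 3, 1, 3],
  [0, 1, 1, 1, 2, 0, 2, 0, 5, 3, 1],
  [0, 5, 3, 4, 3, 4, 4, 3, 5, 0, 5],
  [2, 3, 5, 0, 4, 2, 0, 2, 0, 1, 1, 3],
  [0, 4, 4, 0, 5, 0, 5, 1, 0, 5, 3],
  [4, 4, 3, 4, 2, 3, 4, 4, 0, 2, 0, 4, 4],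
  [4, 4, 0, 2, 0, 1, 5, 3, 1, 1],
  [1, 3, 2, 0, 5, 1, 0, 2, 3, 4, 4, 3],
  [5, 0, 4, 0, 2, 0, 4, 4, 3, 1, 2, 0, 0],
  [2, 4, 3, 2, 4, 0, 5, 0, 1, 0, 0, 0],
  [1, 1, 0, 0, 2, 0, 1, 5, 1, 0, 0, 5],
  [0, 2, 0, 4, 5, 0],
  [5, 1, 1, 0, 5, 1, 0, 1, 1, 1, 1],
  [2, 3, 4, 3, 5, 3, 1, 3, 3, 2, 4, 0],
  [2, 4, 3, 4, 5, 3, 1, 2, 3, 1, 5, 3],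
  [0, 5, 3, 1, 2, 0, 1, 1, 5, 0, 1, 0],
  [3, 1, 2, 0, 2, 1, 0, 5, 1, 0, 0, 5],
  [3, 5, 3, 2, 0, 2, 0, 5, 0, 1, 1, 1],
  [1, 5, 3, 3, 2, 3, 2, 3],
  [1, 1, 3, 2, 1, 1, 3, 5, 4, 4, 0, 5, 0, 0],
  [0, 0, 0, 4, 0, 5, 0, 1],
  [1, 1, 1, 1, 1, 0, 4, 5, 0, 2, 3, 2, 3],
  [1, 1, 0, 2, 3, 5, 0, 5, 0, 2],
  [1, 3, 2, 0, 5, 0, 0, 5, 3, 4, 2],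
  [3, 4, 2, 4, 0, 5, 0, 4, 2, 4, 3, 5],
  [0, 4, 2, 3, 4, 4, 5, 3, 2, 4, 3, 5],
  [1, 2, 0, 2, 3, 2, 3, 3, 4, 3, 2, 4],
  [0, 2, 3, 3, 4, 4, 5, 4, 3, 5, 1, 3, 2],
  [3, 5, 4, 3, 2, 3, 3, 5, 3, 4, 3, 5],
  [4, 5, 4, 3, 2, 0, 4, 4, 0, 1],
  [5, 0, 5, 0, 1, 5, 1, 1, 3, 3, 2],
  [4, 0, 1, 5, 3, 3, 5, 3, 3, 2, 4, 0],
  [4, 0, 2, 3, 1, 1, 1, 3, 2, 3, 4, 2, 0, 2, 1],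
  [0, 0, 5, 3, 4, 5, 3, 2, 1, 3],
  [4, 0, 1, 1, 2, 0, 1, 5, 0, 5, 1, 0, 1, 1],
  [1, 0, 1, 0, 0, 2, 3, 1, 1, 3],
  [3, 5, 0, 4, 2, 3, 5],
  [1, 0, 1, 0, 2, 3, 4, 5, 3, 1, 1],
  [0, 4, 0, 5, 0, 4, 4, 0, 5, 3, 3],
  [0, 2, 1, 3, 2, 3, 5, 1, 1, 3, 1],
  [1, 0, 1, 0, 2, 0, 2, 4, 0, 1, 2, 0],
  [3, 4, 4, 5, 0, 5, 4, 0, 2, 0],
  [5, 3, 5, 3, 4, 5, 3, 2, 1, 3],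
  [0, 0, 5, 0, 2, 0, 0, 5, 0, 0, 4, 0],
  [1, 3, 2, 0, 2, 4, 4, 4, 0, 5, 1, 3],
  [5, 0, 1, 0, 0, 2, 4, 0, 1, 5, 3, 3],
  [3, 5, 3, 1, 5, 0, 1, 0, 2, 3, 5],
  [4, 0, 4, 2, 4, 4, 3, 5, 4, 4, 3, 5],
  [3, 2, 3, 1, 1, 0, 1, 1, 5, 3, 1],
  [3, 5, 3, 2, 3, 5, 3, 4, 3, 4, 4],
  [5, 0, 5, 3, 4, 2, 0, 5],
  [3, 1, 3, 1, 3, 5, 3, 1, 2, 3, 3],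
  [1, 3, 3, 2, 0, 4, 4, 3, 4],
  [0, 2, 3, 1, 1, 1, 3, 2, 3, 1],
  [0, 4, 2, 0, 5, 3, 5, 3, 4, 3, 4, 4],
  [4, 4, 4, 3, 2, 3, 2, 0, 1, 5, 3, 3],
  [4, 4, 0, 2, 4, 0, 2, 3, 4, 3, 5],
  [5, 3, 3, 5, 0, 2, 4, 0],
  [1, 1, 3, 3, 2, 0, 5, 3, 3, 5, 4, 4],
  [0, 2, 3, 3, 2, 3, 4, 2, 3, 1, 3],
  [0, 4, 4, 0, 5, 3, 3, 4, 3, 4],
  [3, 1, 1, 1, 3, 5, 0, 5, 3],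
  [3, 5, 4, 3, 1, 5, 3, 3, 4, 5, 3, 1, 1],
  [1, 5, 0, 5, 3, 1, 3, 3, 3, 2, 3, 1],
  [4, 0, 4, 5, 3, 1, 2, 3, 5, 0, 0, 4, 0],
  [1, 0, 1, 1, 3, 5, 0, 0, 4],
  [3, 5, 3, 3, 3, 5, 3, 4, 2, 3]]

theorem levelH1 : levelOK 552 6 gtab [0] 1 orbH1 wordsH1 = true := by decide +kernel

theorem nodupH1 : orbH1.Nodup := by decide +kernel

theorem stepH1 : 275 * Nat.card (stabL Hgen [0, 1]) ≤ Nat.card (stabL Hgen [0]) := by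
  have h := card_stabL_ge Hgen [0] (b := 1) (by norm_num) orbH1 nodupH1
    (level_spec gens_tab (fun k hk => gens_mem_H hk) (by decide) (by norm_num) levelH1)
  have e : orbH1.length = 275 := by decide
  rw [e] at h
  exact h

def orbH2 : List ℕ := [2, 3, 4, 5, 6, 7, 8, 9, 10, 11, 12, 13, 14, 15, 16, 17, 18, 19, 20, 21, 22, 25, 30, 42, 44, 45, 57, 65, 84, 102, 107, 108, 131, 145, 163, 171, 191, 208, 212, 229, 248, 259, 279, 282, 284, 287, 289, 292, 293, 296, 299, 302, 303, 304, 309, 316, 319, 320, 321, 323, 325, 327, 328, 331, 336, 339, 340, 343, 344, 346, 349, 350, 352, 353, 354, 357, 359, 362, 363, 367, 369, 371, 373, 374, 375, 377, 379, 383, 385, 388,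 389, 392, 393, 394, 400, 401, 402, 406, 407, 408, 413, 414, 415, 417, 418, 420, 423, 425, 426, 428, 431, 434, 435, 438, 441, 442, 443, 445, 447, 448, 449, 450, 454, 458, 462, 463, 464, 466, 468, 470, 471, 472, 475, 477, 478, 480, 484, 485, 486, 487, 491, 494, 495, 497, 500, 502, 503, 504, 505, 507, 509, 510, 511, 515, 516, 517, 520, 521, 523, 525, 526, 527]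

def wordsH2 : List (List ℕ) := [[],
  [2, 3, 3, 4, 3, 2, 3, 5, 0, 2, 1, 0, 1, 0, 0, 4, 5, 0, 4],
  [0, 5, 0, 0, 5, 0, 1, 0, 2, 3, 3, 4, 5, 3, 4],
  [2, 3, 3, 4, 2, 4, 0, 2, 3, 1, 3, 5, 3, 3, 4],
  [4, 4, 0, 5, 4, 3, 1, 5, 1, 0, 5, 3, 2, 0, 4, 4],
  [3, 4, 3, 4, 2, 3, 5, 4, 3, 1, 1, 3, 5, 3, 5],
  [2, 0, 5, 1, 3, 2, 0, 2, 0, 2, 0, 0, 0, 5, 3, 2, 1, 1, 3],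
  [3, 1, 5, 0, 1, 0, 2, 3, 2, 0, 5, 3, 5, 3, 5, 0, 1, 0],
  [0, 4, 0, 5, 0, 5, 4, 4, 4, 3, 3, 2, 3, 5, 0, 4, 5],
  [3, 1, 3, 1, 5, 1, 3, 2, 3, 5, 3, 1],
  [4, 0, 2, 0, 5, 0, 4, 2, 4, 0, 4, 0],
  [3, 1, 5, 3, 1, 1, 0, 5, 3, 5, 0, 1, 0, 2, 1, 3],
  [1, 0, 0, 2, 0, 4, 0, 5, 3, 1, 5, 1, 0, 0, 5],
  [3, 5, 3, 5, 4, 0, 5, 0, 5, 3, 3, 3, 2, 4],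
  [3, 2, 0, 5, 1, 0, 0, 2, 4, 3, 5, 3, 2, 0, 4, 4, 5],
  [4, 4, 2, 4, 0, 2, 3, 5, 3, 1, 1, 1, 0, 1, 1, 2, 0, 2, 0, 4, 2, 4, 3, 4],
  [2, 1, 3, 3, 2, 3, 5, 0, 1, 3, 2, 3, 5, 0, 5, 0, 1, 2, 3],
  [0, 4, 0, 5, 0, 4, 4, 0, 5, 0, 2, 1, 3, 1, 2, 3, 1, 4, 3, 2, 0, 4, 4, 3, 1, 0, 2],
  [2, 0, 5, 1, 1, 0, 0, 4, 2, 0, 1, 5, 1, 0, 2, 3, 5],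
  [2, 0, 2, 0, 4, 4, 0, 1, 2, 0, 5, 1, 0, 1, 0],
  [4, 3, 2, 3, 1, 3, 2, 3, 4, 2, 0, 5, 0],
  [0, 4, 0, 2, 3, 1, 3, 3, 2, 4, 0, 1, 2, 1, 0, 2, 3, 4, 0, 2, 0, 5, 4, 0, 4],
  [2, 3, 5, 4, 0, 2, 0, 0, 2, 3, 5, 3, 3, 4, 3],
  [3, 4, 2, 0, 5, 3, 2, 1, 0, 0, 2, 3, 2, 0, 0, 4, 4],
  [5, 0, 1, 1, 0, 1, 5, 1, 1, 3, 1, 3, 5, 3, 5, 0, 4],
  [3, 1, 5, 0, 0, 4, 0, 2, 0, 1, 0, 5, 0, 0, 4, 2, 4, 3, 1, 3, 5, 3, 1, 3, 3],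
  [1, 3, 2, 3, 5, 0, 0, 5, 4, 0, 5, 0, 1, 2, 0, 1],
  [4, 0, 5, 3, 5, 0, 0, 2, 3, 3, 2, 4, 0, 4, 4, 5, 0, 2, 4],
  [1, 0, 2, 0, 2, 3, 2, 0, 2, 0, 5, 0, 0, 2, 4],
  [4, 4, 0, 2, 0, 2, 0, 2, 3, 4, 2, 4, 0, 4, 4, 4],
  [3, 5, 3, 1, 2, 3, 2, 1, 1, 0, 1, 1, 3, 2, 0, 1, 5, 3, 3, 4, 2],
  [3, 1, 3, 1, 2, 3, 5, 1, 1, 0, 5, 0, 4, 0, 5, 3],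
  [4, 0, 0, 0, 1, 5, 0, 0, 2, 0, 2, 0, 5, 0, 2, 4, 3, 1],
  [4, 3, 2, 0, 5, 3, 1, 3, 3, 5, 4, 3, 1, 1, 3, 2, 0],
  [1, 1, 0, 2, 0, 1, 0, 5, 0, 5, 0, 5, 4],
  [2, 1, 1, 3, 5, 0, 2, 0, 1, 5, 3, 3, 4, 2, 3, 5, 0],
  [4, 0, 5, 3, 2, 0, 0, 0, 2, 0, 0, 4, 0, 1, 5, 0, 2, 1, 3, 1, 1, 1, 0],
  [1, 0, 1, 1, 5, 0, 0, 5, 0, 1, 2, 1, 0, 0, 2, 0],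
  [0, 4, 2, 2, 4, 4, 0, 5, 3, 5, 1, 3, 3, 5, 0, 5, 0, 5, 3],
  [0, 2, 3, 2, 3, 2, 0, 0, 4, 2, 0, 2, 3, 1, 1, 5, 5, 1, 3],
  [0, 4, 2, 3, 1, 1, 0, 5, 0, 2, 0, 1, 0, 2, 0, 2],
  [0, 0, 0, 2, 0, 5, 3, 3, 4, 2, 4, 3, 4, 3, 5, 0, 5],
  [0, 0, 4, 2, 4, 4, 0, 2, 3, 5, 3, 2, 4, 4, 3],
  [1, 5, 0, 0, 0, 2, 3, 2, 3, 1, 2, 0, 2, 0],
  [0, 1, 1, 5, 0, 2, 0, 5, 3, 1, 1, 5, 1, 3, 3],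
  [2, 3, 3, 3, 2, 3, 3, 3, 3, 5, 4, 3, 2, 3, 2, 0, 5, 3, 1, 5, 3, 5, 1],
  [3, 5, 4, 0, 5, 3, 4, 0, 4, 4, 4, 3, 2, 0, 0, 0, 2, 0, 5, 0, 5],
  [0, 1, 1, 0, 5, 3, 4, 2, 3, 5, 0, 4, 3, 4, 3, 5, 3, 2, 1, 3, 5, 3, 4, 4],
  [3, 5, 4, 3, 2, 3, 3, 5, 3, 4, 3, 5, 1, 1, 0, 0, 2, 4, 0, 2, 3, 3, 4, 4, 4],
  [4, 2, 4, 5, 3, 4, 3, 5, 3, 5, 0, 2, 3, 5, 3, 3, 4, 5],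
  [0, 4, 0, 1, 0, 5, 3, 5, 3, 1, 1, 5, 1, 0, 1],
  [3, 3, 4, 3, 5, 3, 3, 4, 4, 2, 4, 0, 5, 3, 4, 4, 0],
  [3, 2, 0, 0, 2, 0, 5, 0, 1, 1, 5, 0, 0, 2, 0, 2, 1],
  [1, 0, 5, 3, 2, 1, 0, 5, 3, 2, 1, 0, 5, 3, 2],
  [0, 1, 1, 0, 1, 2, 0, 5, 3, 2, 0, 0, 0, 5, 0],
  [3, 3, 2, 0, 4, 2, 3, 1, 0, 1, 0, 5, 3, 5, 3, 1, 1],
  [2, 0, 1, 5, 3, 3, 5, 0, 1, 2, 3, 3, 5, 3, 5, 0],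
  [4, 5, 3, 1, 2, 0, 0, 2, 3, 1, 2, 3, 5, 0, 4, 4, 0, 2, 0],
  [1, 2, 3, 2, 1, 3, 2, 3, 5, 4, 3, 4, 3, 5, 3, 2, 1, 0, 4, 2, 3, 1, 3],
  [0, 0, 5, 0, 4, 5, 0, 2, 0, 1, 1, 3, 1, 2, 0, 2, 3, 4, 3, 2, 4, 3, 4, 4],
  [5, 0, 4, 2, 0, 4, 0, 4, 2, 4, 3, 1, 1, 5, 0, 2, 1],
  [3, 3, 5, 0, 1, 5, 0, 5, 3, 4, 2, 3, 2, 3, 4, 4],
  [1, 0, 2, 1, 0, 0, 5, 3, 4, 3, 2, 3, 3, 2, 3],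
  [4, 4, 4, 4, 3, 4, 2, 3, 4, 4, 2, 0, 4, 4, 3, 1, 2, 3, 4, 4, 2, 0, 0, 4, 0],
  [5, 3, 5, 0, 0, 2, 4, 0, 5, 4, 0, 4, 4, 4, 4],
  [3, 2, 0, 2, 0, 1, 0, 2, 3, 1, 1, 0, 0, 2],
  [1, 5, 3, 2, 1, 1, 3, 1, 5, 0, 0, 5, 3, 3, 2, 0, 2, 3, 1],
  [3, 2, 1, 0, 5, 3, 2, 0, 2, 0, 4, 0, 1, 0, 1, 2, 3, 1],
  [1, 0, 2, 0, 2, 1, 3, 5, 3, 1, 1, 3, 5, 3],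
  [2, 0, 5, 1, 0, 1, 2, 0, 2, 1, 0, 0, 0, 2, 0, 0, 0],
  [5, 0, 4, 5, 0, 5, 3, 2, 0, 0, 5, 4, 3, 1, 1],
  [0, 4, 4, 0, 5, 3, 3, 4, 3, 4, 0, 5, 3, 2, 0, 5, 1, 0, 5, 0, 0],
  [4, 2, 0, 5, 1, 1, 3, 5, 0, 1, 2, 3, 5, 3, 5, 1],
  [5, 0, 4, 4, 4, 0, 2, 0, 2, 3, 5, 3, 5, 0, 4, 4, 5],
  [4, 0, 2, 0, 4, 0, 2, 0, 4, 0, 2, 4, 0, 4],
  [3, 5, 0, 1, 1, 2, 0, 2, 3, 1, 1, 2, 1, 0],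
  [2, 1, 1, 3, 2, 0, 2, 0, 5, 3, 5, 3, 1, 1, 1, 3, 2],
  [1, 0, 1, 0, 2, 3, 1, 3, 2, 0, 5, 1, 0, 0, 0, 0, 5],
  [2, 4, 0, 5, 0, 1, 5, 0, 5, 3, 2, 0, 5, 3, 2, 0],
  [1, 3, 2, 0, 2, 0, 4, 0, 4, 4, 2, 4, 3, 4, 4, 3, 2],
  [1, 0, 2, 0, 2, 3, 2, 0, 2, 4, 4, 4, 0, 5, 3, 3, 4, 4, 2, 0],
  [3, 2, 4, 3, 2, 1, 1, 3, 3, 5, 3, 2, 0, 2, 1, 0, 1, 5],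
  [4, 0, 5, 1, 1, 3, 3, 2, 3, 5, 0, 1, 0, 1, 1, 2, 3],
  [1, 3, 1, 5, 3, 1, 3, 5, 3, 1, 3, 5, 3, 1],
  [1, 1, 1, 3, 1, 5, 1, 0, 5, 3, 5, 3, 5, 3, 1, 1],
  [5, 0, 2, 3, 4, 5, 0, 2, 3, 4, 5, 0, 2, 3, 4],
  [4, 3, 2, 0, 1, 5, 3, 3, 2, 0, 2, 0, 1, 3, 3, 3, 3],
  [5, 4, 3, 4, 5, 3, 5, 1, 0, 5, 3, 4, 4, 3, 2, 1, 0, 1],
  [4, 0, 5, 3, 3, 2, 0, 4, 5, 3, 5, 0, 2, 0, 0, 5],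
  [0, 4, 5, 3, 4, 3, 2, 0, 2, 3, 4, 4, 0, 2, 4, 0],
  [0, 0, 2, 0, 0, 5, 0, 2, 4, 4, 0, 5, 4, 4, 4, 0],
  [5, 3, 3, 3, 4, 3, 2, 3, 2, 1, 0, 4, 0, 4, 0, 2, 3, 4, 3, 3, 5, 0, 1],
  [1, 0, 2, 0, 0, 4, 0, 4, 5, 0, 5, 3, 5, 3, 1, 2],
  [4, 3, 5, 0, 1, 5, 3, 5, 0, 5, 3, 1, 3, 5, 3],
  [3, 5, 4, 3, 2, 0, 5, 1, 3, 3, 5, 3, 5, 1, 0],
  [0, 1, 0, 0, 2, 0, 2, 1, 0, 5, 1, 0, 1, 0, 4, 5, 0, 4, 0, 2],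
  [2, 1, 3, 5, 3, 2, 3, 5, 0, 2, 3, 2, 4, 3, 5, 0, 0],
  [4, 4, 3, 4, 2, 0, 2, 3, 2, 0, 5, 0, 0, 2, 0],
  [3, 4, 5, 4, 4, 0, 5, 3, 5, 4, 4, 3, 2, 0],
  [0, 1, 5, 0, 5, 3, 3, 3, 5, 1, 0, 5, 4, 4, 3, 4, 4, 3, 2],
  [0, 2, 0, 4, 4, 0, 2, 0, 4, 5, 3, 5, 3, 4],
  [1, 1, 5, 1, 3, 5, 0, 5, 3, 2, 4, 0, 1, 2, 3, 1, 1],
  [3, 1, 1, 1, 2, 3, 1, 1, 5, 3, 2, 3, 3, 5, 3, 3],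
  [1, 1, 1, 1, 3, 1, 2, 3, 1, 5, 3, 3, 2, 0, 2],
  [1, 1, 3, 5, 0, 2, 3, 4, 2, 4, 0, 1, 2, 3, 1, 1],
  [0, 5, 3, 2, 3, 4, 3, 5, 3, 5, 3, 2, 3, 4, 0, 4, 3, 2],
  [1, 1, 5, 0, 5, 3, 1, 3, 3, 5, 3, 4, 3, 5, 0],
  [5, 3, 3, 4, 4, 0, 5, 3, 4, 3, 5, 3, 5, 0],
  [1, 3, 2, 4, 3, 5, 3, 4, 3, 2, 0, 1, 0, 0, 5, 1, 0, 2],
  [3, 2, 3, 3, 3, 5, 0, 2, 3, 5, 4, 3, 4, 4, 3],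
  [3, 2, 3, 5, 1, 0, 5, 0, 4, 0, 5, 0, 1],
  [2, 3, 2, 1, 3, 1, 2, 0, 1, 0, 2, 3, 5, 0, 2, 3, 1, 5],
  [1, 0, 2, 3, 4, 4, 3, 2, 3, 5, 1, 3, 1, 1, 0],
  [2, 0, 5, 3, 4, 2, 4, 3, 5, 1, 3, 3, 4, 4, 2, 3, 5],
  [0, 0, 2, 0, 1, 1, 0, 1, 0, 5, 3, 4, 4, 3, 5, 3, 4, 4, 3, 5, 0, 1, 1, 0, 1, 3],
  [0, 0, 2, 0, 1, 1, 0, 1, 0, 5, 3, 2, 4, 3, 2, 4, 0, 4, 2, 3, 1, 0, 0, 5, 1],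
  [1, 3, 3, 4, 5, 0, 2, 3, 4, 4, 5, 0, 5, 0, 0, 0],
  [3, 1, 3, 5, 3, 4, 2, 3, 2, 3, 3, 5, 3, 1, 3, 2, 3],
  [0, 2, 0, 4, 0, 2, 3, 2, 0, 2, 4, 3, 2, 0, 1],
  [0, 1, 1, 1, 0, 2, 0, 0, 0, 0, 5, 1, 3, 5, 0, 2, 2, 0, 0, 4, 0, 2, 3],
  [2, 1, 0, 1, 5, 0, 2, 3, 5, 0, 1, 0, 0, 0],
  [5, 0, 1, 1, 0, 1, 1, 2, 3, 4, 2, 0, 0, 0, 2, 3, 2, 4, 3],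
  [2, 1, 0, 0, 2, 0, 5, 3, 2, 0, 2, 0, 1, 0, 2, 1, 5, 1],
  [5, 0, 2, 4, 4, 3, 2, 0, 4, 4, 2, 4, 4, 0, 2, 3],
  [0, 0, 0, 5, 3, 4, 4, 3, 5, 3, 2, 3, 3, 3, 3, 5, 3],
  [1, 3, 2, 1, 3, 3, 4, 3, 4, 5, 3, 2, 0, 5, 0, 1, 0, 0, 5],
  [5, 3, 5, 3, 4, 3, 5, 3, 2, 3, 4, 4, 0, 5, 1, 3],
  [2, 3, 2, 0, 1, 0, 1, 5, 1, 0, 0, 2, 3, 5, 3, 3, 3],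
  [4, 2, 0, 5, 3, 2, 0, 0, 2, 3, 5, 0, 1, 3, 2, 3, 2, 3],
  [1, 1, 1, 1, 0, 2, 3, 3, 5, 1, 3, 5, 3, 4, 4, 4],
  [3, 5, 3, 3, 4, 5, 4, 3, 2, 3, 3, 2, 4, 4, 3, 4],
  [3, 2, 4, 3, 4, 4, 3, 5, 3, 1, 2, 0, 0, 5, 3, 1, 1],
  [4, 5, 3, 2, 4, 4, 0, 1, 5, 1, 3, 1, 3, 5, 1, 3, 2],
  [2, 3, 1, 2, 1, 3, 5, 3, 5, 1, 0, 5, 0, 5, 3],
  [3, 2, 0, 1, 0, 2, 0, 0, 4, 0, 2, 3, 2, 4, 4],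
  [0, 5, 0, 5, 0, 4, 3, 2, 0, 5, 3, 3, 5, 0, 2, 3, 5, 1],
  [4, 4, 3, 2, 4, 4, 3, 5, 4, 0, 2, 3, 2, 0, 5, 0],
  [1, 1, 0, 2, 3, 2, 0, 5, 3, 3, 1, 1, 0, 2, 1, 0, 5, 4, 3, 4, 3, 1],
  [1, 2, 3, 2, 3, 2, 3, 4, 3, 5, 3, 4, 4],
  [1, 2, 0, 5, 3, 5, 0, 4, 0, 2, 0, 4, 4, 3, 4],
  [1, 3, 2, 0, 0, 2, 0, 0, 2, 3, 1, 1, 0, 2, 4, 3, 4, 2, 3, 2, 0, 0, 2, 4],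
  [0, 4, 2, 3, 5, 3, 4, 2, 3, 3, 4, 4, 3, 5, 4, 0, 4, 4, 4, 5, 0],
  [1, 5, 3, 3, 5, 0, 5, 0, 1, 0, 2, 3, 4, 3, 5, 3, 5],
  [3, 3, 3, 2, 3, 2, 1, 1, 0, 5, 3, 2, 1, 0, 0, 4],
  [1, 5, 3, 3, 2, 3, 5, 3, 5, 0, 5, 3, 5, 3, 4],
  [2, 1, 3, 1, 1, 0, 2, 0, 0, 0, 1, 3, 5, 0, 0, 0, 0, 2, 3, 5, 0, 1, 5],
  [3, 3, 3, 5, 3, 4, 4, 4, 3, 3, 5, 4, 3, 2, 3, 3, 5, 3, 2, 3, 5, 0],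
  [0, 1, 5, 1, 3, 2, 3, 5, 4, 0, 1, 2, 0, 0, 2, 0, 0, 5, 0, 5, 0, 4],
  [1, 0, 5, 4, 3, 4, 4, 0, 2, 0, 2, 0, 4, 4, 5, 3, 1, 2],
  [3, 2, 0, 2, 4, 0, 2, 3, 4, 2, 4, 3, 4, 4, 4],
  [1, 3, 3, 2, 3, 2, 0, 0, 0, 2, 3, 5, 0, 0, 5, 3, 5, 0, 1],
  [3, 4, 2, 0, 2, 0, 0, 4, 2, 3, 5, 0, 1, 2, 0],
  [5, 3, 3, 5, 0, 4, 5, 0, 1, 2, 0, 1, 5, 0, 2, 1, 3, 5, 0, 2, 1],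
  [0, 0, 4, 0, 2, 4, 3, 5, 3, 3, 3, 3, 5, 3, 4, 5, 0],
  [4, 0, 4, 0, 5, 3, 5, 5, 1, 3, 3, 2, 0, 5, 3, 5, 1, 0, 4],
  [3, 3, 3, 4, 3, 2, 0, 5, 3, 2, 4, 3, 4, 5],
  [5, 4, 0, 2, 0, 2, 3, 2, 1, 3, 1, 3, 3, 5, 3, 4],
  [4, 4, 2, 0, 5, 3, 1, 3, 1, 5, 0, 5, 3, 2, 3, 3, 5],
  [5, 3, 5, 3, 4, 2, 0, 5, 0, 4, 2, 3, 2, 3, 1, 0, 1, 1, 0, 5, 0],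
  [5, 1, 0, 5, 1, 0, 5, 0, 4, 4, 2, 3, 2, 3, 2, 3, 4, 4],
  [3, 2, 1, 0, 2, 0, 0, 0, 0, 2, 0, 1, 5, 3, 1, 3, 3],
  [1, 2, 1, 3, 2, 0, 1, 5, 1, 0, 1, 1, 0, 1, 2, 0]]

theorem levelH2 : levelOK 552 6 gtab [0, 1] 2 orbH2 wordsH2 = true := by decide +kernel

theorem nodupH2 : orbH2.Nodup := by decide +kernel

theorem stepH2 : 162 * Nat.card (stabL Hgen [0, 1, 2]) ≤ Nat.card (stabL Hgen [0, 1]) := by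
  have h := card_stabL_ge Hgen [0, 1] (b := 2) (by norm_num) orbH2 nodupH2
    (level_spec gens_tab (fun k hk => gens_mem_H hk) (by decide) (by norm_num) levelH2)
  have e : orbH2.length = 162 := by decide
  rw [e] at h
  exact h

def orbH3 : List ℕ := [3, 4, 5, 6, 7, 8, 9, 10, 11, 12, 13, 14, 15, 16, 17, 18, 19, 20, 21, 22, 45, 57, 108, 171, 208, 282, 287, 289, 293, 299, 303, 304, 309, 316, 320, 321, 323, 328, 339, 343, 344, 346, 349, 352, 354, 357, 362, 369, 373, 374, 377, 379, 383, 388, 389, 392, 393, 394, 400, 402, 406, 407, 413, 415, 418, 420, 423, 425, 428, 431, 435, 438, 442, 443, 447, 448, 449, 458, 462, 463, 468, 470, 471, 477, 478, 480, 484, 485,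 487, 491, 494, 495, 497, 502, 505, 507, 510, 515, 516, 517, 520, 523, 525, 526, 527]

def wordsH3 : List (List ℕ) := [[],
  [4, 3, 2, 3, 1, 3, 2, 3, 4, 2, 0, 5, 0, 3, 3, 5, 3, 2, 4, 4, 0, 5, 4, 4, 2, 0, 2, 0, 2, 3, 2, 0, 4, 0, 2, 0, 4],
  [5, 3, 4, 2, 3, 3, 4, 3, 5, 0, 1, 0, 2, 0, 1, 5, 0, 4, 5, 4, 0, 2, 0, 1, 5, 3, 3, 3, 4, 0, 4, 0, 5, 0, 5, 0, 2, 4, 4, 4],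
  [3, 4, 3, 4, 2, 3, 5, 4, 3, 1, 1, 3, 5, 3, 5, 1, 0, 2, 0, 2, 3, 2, 3, 2, 4, 3, 2, 4, 0, 2, 3, 5, 4, 0, 4],
  [0, 1, 1, 0, 1, 2, 0, 5, 3, 2, 0, 0, 0, 5, 0, 2, 3, 2, 3, 2, 1, 0, 1, 1, 5, 3, 1, 0, 2, 0, 0, 0, 5, 3, 5, 3, 2, 0, 1, 5, 3],
  [4, 4, 0, 2, 0, 2, 0, 2, 3, 4, 2, 4, 0, 4, 4, 4, 4, 5, 0, 4, 4, 2, 0, 1, 1, 0, 1, 2, 0, 0, 4, 5, 3, 2, 0, 5, 1, 0, 1, 2, 1],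
  [1, 1, 5, 0, 5, 3, 1, 3, 3, 5, 3, 4, 3, 5, 0, 2, 0, 1, 0, 5, 3, 1, 5, 3, 1, 1, 3, 4, 5, 3, 5, 0, 5, 4, 4, 3, 1, 1],
  [1, 3, 3, 4, 5, 0, 2, 3, 4, 4, 5, 0, 5, 0, 0, 0, 3, 5, 4, 4, 3, 2, 3, 5, 1, 3, 2, 1, 3, 2, 3, 5, 3, 2, 3, 3, 3, 2, 3],
  [1, 3, 2, 3, 5, 0, 2, 4, 3, 1, 3, 1, 3, 2, 0, 1, 2, 0, 5, 3, 5, 0, 4],
  [1, 5, 3, 3, 2, 3, 5, 3, 5, 0, 5, 3, 5, 3, 4, 2, 0, 1, 0, 5, 3, 1, 5, 3, 1, 1, 4, 0, 2, 0, 5, 1, 1, 1, 1, 0, 5, 1],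
  [0, 1, 1, 0, 1, 2, 0, 5, 3, 2, 0, 0, 0, 5, 0, 3, 2, 1, 3, 5, 3, 4, 0, 2, 0, 1, 4, 2, 3, 2, 1, 0, 1, 1],
  [0, 5, 0, 5, 0, 4, 3, 2, 0, 5, 3, 3, 5, 0, 2, 3, 5, 1, 1, 0, 0, 5, 3, 2, 0, 3, 4, 4, 5, 3, 4, 5, 1, 3, 2, 3, 2, 0, 1],
  [3, 2, 3, 5, 1, 0, 5, 0, 4, 0, 5, 0, 1, 0, 4, 5, 0, 2, 1, 0, 2, 0, 2, 0, 5, 0, 0, 0, 0, 1, 3, 2, 0, 0, 0, 2, 0],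
  [1, 3, 1, 5, 3, 1, 3, 5, 3, 1, 3, 5, 3, 1, 3, 1, 5, 0, 0, 4, 0, 5, 3, 1, 3, 0, 0, 4, 4, 4, 5, 3, 2, 4, 0, 2, 0, 4],
  [1, 0, 5, 3, 2, 1, 0, 5, 3, 2, 1, 0, 5, 3, 2, 4, 3, 4, 4, 3, 4, 2, 3, 5, 0, 0, 5, 0, 5, 0, 4, 5, 4, 3, 5, 3, 4, 5, 4],
  [0, 1, 1, 0, 1, 2, 0, 5, 3, 2, 0, 0, 0, 5, 0, 2, 3, 5, 1, 3, 1, 2, 0, 0, 2, 3, 1, 3, 2, 3, 1, 1, 1, 1, 5],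
  [1, 1, 0, 2, 0, 1, 0, 5, 0, 5, 0, 5, 4, 4, 0, 5, 3, 2, 0, 0, 0, 2, 0, 0, 1, 2, 0, 2, 3, 4, 5, 3, 4, 4, 0, 1],
  [1, 3, 1, 5, 3, 1, 3, 5, 3, 1, 3, 5, 3, 1, 4, 5, 0, 5, 0, 1, 4, 4, 5, 3, 5, 0, 4, 5, 4, 3, 1, 2],
  [1, 1, 3, 3, 5, 0, 5, 3, 3, 4, 5, 0, 2, 3, 5, 1, 0, 4, 0, 5, 0, 4, 4, 4, 0, 5, 3, 0, 4, 0, 2, 3, 2, 3, 5, 0, 1, 1, 0],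
  [1, 3, 2, 3, 5, 0, 2, 4, 3, 1, 5, 3, 2, 0, 4, 4, 5, 3, 3, 1, 5, 0, 4, 4, 0],
  [3, 5, 3, 3, 2, 3, 5, 0, 5, 3, 5, 1, 0, 1, 1, 4, 0, 5, 3, 2, 0, 0, 0, 2, 0, 0, 0, 1, 2, 3, 5, 0, 4, 0, 1, 1, 5, 3, 5, 4],
  [1, 1, 1, 1, 3, 1, 2, 3, 1, 5, 3, 3, 2, 0, 2, 0, 1, 0, 5, 0, 0, 2, 3, 2, 0, 1, 5, 1, 0, 1, 5, 3, 5, 0, 1, 1, 0, 4],
  [3, 3, 2, 0, 1, 5, 0, 5, 3, 2, 0, 5, 0, 2, 0, 4, 5, 2, 3, 5, 1, 3, 1, 2, 0, 2, 0, 1, 5, 0, 1, 2, 1, 0, 2, 1, 3],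
  [1, 1, 0, 5, 0, 5, 0, 5, 1, 1, 3, 2, 3, 4, 2, 3, 4, 2, 2, 3, 5, 1, 3, 1, 2, 0, 5, 3, 2, 0, 5, 1, 0, 2, 0, 0, 2, 4, 4],
  [5, 3, 3, 4, 4, 0, 5, 3, 4, 3, 5, 3, 5, 0, 1, 3, 3, 2, 3, 2, 0, 0, 0, 4, 4, 3, 5, 3, 2, 1, 3, 5, 3, 1, 1],
  [3, 5, 4, 3, 2, 0, 5, 1, 3, 3, 5, 3, 5, 1, 0, 0, 5, 0, 1, 1, 1, 0, 5, 0, 0, 4, 3, 1, 3, 5, 1, 1, 3, 1, 5, 0, 0, 5, 0],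
  [3, 4, 3, 4, 2, 3, 5, 4, 3, 1, 1, 3, 5, 3, 5, 0, 4, 0, 2, 3, 1, 3, 3, 3, 2, 3, 0, 0, 2, 4, 0, 5, 1, 1, 0, 5, 0, 4, 0],
  [1, 1, 1, 3, 1, 5, 1, 0, 5, 3, 5, 3, 5, 3, 1, 1, 2, 3, 5, 1, 0, 2, 3, 2, 0, 5, 3, 2, 0, 4, 4, 0, 4, 3],
  [0, 5, 4, 4, 3, 4, 3, 2, 0, 5, 0, 0, 4, 4, 2, 3, 1, 0, 5, 0, 1, 2, 1, 3, 5, 0, 2, 3, 2, 4, 3, 4, 3, 5, 1, 3, 1, 2, 0, 1, 5],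
  [2, 0, 1, 0, 5, 3, 1, 5, 3, 1, 1, 0, 4, 5, 3, 1, 2, 3, 1, 0, 0, 2, 3, 1],
  [1, 3, 3, 4, 5, 0, 2, 3, 4, 4, 5, 0, 5, 0, 0, 0, 0, 1, 2, 3, 5, 3, 1, 1, 5, 3, 1, 4, 0, 5, 3, 4, 3, 2, 0, 5, 0, 5, 0, 5],
  [3, 5, 4, 3, 2, 0, 5, 1, 3, 3, 5, 3, 5, 1, 0, 4, 3, 2, 3, 2, 1, 0, 5, 3, 4, 5, 3, 2, 3, 1, 1, 3],
  [5, 3, 5, 0, 0, 2, 4, 0, 5, 4, 0, 4, 4, 4, 4, 1, 3, 5, 0, 1, 1, 3, 1, 1, 5, 0, 5, 0, 4, 0, 5, 0, 0, 1, 1, 2, 0, 2, 0, 5, 4],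
  [1, 3, 1, 5, 3, 1, 3, 5, 3, 1, 3, 5, 3, 1, 2, 0, 5, 3, 4, 3, 2, 4, 0, 2, 0, 3, 4, 4, 0, 5, 3, 4, 3, 5, 1, 0],
  [3, 5, 4, 3, 2, 0, 5, 1, 3, 3, 5, 3, 5, 1, 0, 4, 5, 0, 4, 4, 2, 0, 1, 1, 0, 1, 2, 1, 3, 5, 0, 1, 0, 5, 3, 3, 2, 0, 5, 1],
  [4, 0, 2, 0, 5, 0, 4, 2, 4, 0, 4, 0, 0, 4, 5, 0, 2, 1, 0, 2, 3, 3, 4, 0, 2, 0, 0, 4, 5, 4, 3, 5, 0, 4, 0],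
  [5, 0, 2, 3, 4, 5, 0, 2, 3, 4, 5, 0, 2, 3, 4, 3, 5, 3, 2, 3, 5, 3, 4, 3, 4, 4, 4, 3, 5, 4, 1, 0, 5, 3, 3, 2, 0, 5],
  [3, 2, 3, 3, 3, 5, 0, 2, 3, 5, 4, 3, 4, 4, 3, 1, 1, 0, 1, 0, 2, 0, 5, 0, 2, 0, 5, 1, 0, 0, 5, 0, 0, 0, 5, 4, 0, 4, 4, 2, 0],
  [3, 4, 5, 4, 4, 0, 5, 3, 5, 4, 4, 3, 2, 0, 2, 3, 2, 0, 1, 1, 0, 1, 0, 2, 3, 2, 0, 0, 4, 5, 4, 3, 5, 4, 4, 0, 2],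
  [4, 4, 0, 2, 0, 2, 3, 4, 3, 4, 0, 5, 1, 3, 5, 0, 0, 3, 4, 4, 0, 5, 4, 3, 2, 3, 2, 0, 4, 0, 1, 1, 0, 5, 3, 2, 0, 1, 1, 2],
  [0, 0, 0, 0, 4, 3, 5, 3, 5, 0, 0, 2, 4, 3, 5, 0, 1, 4, 3, 2, 3, 1, 3, 3, 3, 3, 5, 3, 4, 5, 0, 1, 2, 0, 1, 2],
  [3, 4, 3, 4, 2, 3, 5, 4, 3, 1, 1, 3, 5, 3, 5, 0, 1, 0, 0, 5, 0, 4, 5, 4, 3, 3, 3, 5, 3, 4, 5, 3, 5, 0, 2, 3],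
  [4, 0, 2, 0, 4, 0, 2, 0, 4, 0, 2, 4, 0, 4, 0, 5, 1, 0, 2, 0, 0, 0, 2, 0, 0, 0, 5, 0, 4, 5, 3, 2, 0, 5, 4, 4, 2, 0],
  [0, 2, 3, 2, 3, 2, 0, 0, 4, 2, 0, 2, 3, 1, 1, 5, 5, 1, 3, 1, 0, 0, 4, 2, 3, 2, 3, 4, 4, 4, 0, 2, 4, 3, 2, 3, 1, 1],
  [0, 1, 1, 0, 1, 2, 0, 5, 3, 2, 0, 0, 0, 5, 0, 0, 0, 0, 4, 0, 5, 0, 1, 3, 5, 0, 0, 3, 2, 4, 4, 3, 2, 0, 1],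
  [5, 3, 4, 2, 3, 3, 4, 3, 5, 0, 1, 0, 2, 0, 1, 5, 0, 4, 3, 3, 3, 5, 3, 4, 4, 0, 4, 5, 4, 0, 5, 0, 4, 4, 4, 0, 5, 3],
  [4, 3, 5, 0, 1, 5, 3, 5, 0, 5, 3, 1, 3, 5, 3, 1, 0, 1, 5, 0, 2, 3, 1, 1, 0, 3, 4, 3, 5, 3, 4, 5, 0, 5, 0, 5, 0, 4, 0],
  [0, 2, 0, 4, 0, 2, 3, 2, 0, 2, 4, 3, 2, 0, 1, 1, 0, 1, 1, 3, 5, 0, 0, 4, 1, 3, 1, 3, 3, 5, 0, 5, 3, 5, 4],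
  [5, 3, 5, 0, 0, 2, 4, 0, 5, 4, 0, 4, 4, 4, 4, 0, 0, 2, 3, 1, 1, 3, 2, 3, 1, 3, 0, 4, 4, 3, 5, 3, 5, 1, 3, 5, 0, 5],
  [4, 2, 0, 2, 0, 5, 4, 3, 2, 0, 4, 4, 2, 3, 5, 1, 4, 0, 4, 4, 2, 0, 5, 0, 4, 5, 3, 1, 1, 0, 2, 0, 1, 0, 5, 0, 4, 2, 3],
  [3, 5, 3, 3, 2, 3, 5, 0, 5, 3, 5, 1, 0, 1, 1, 1, 1, 0, 2, 3, 5, 0, 5, 0, 2, 3, 5, 1, 0, 1, 2, 0, 2, 1, 3],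
  [3, 5, 3, 5, 4, 0, 5, 0, 5, 3, 3, 3, 2, 4, 3, 5, 4, 0, 5, 3, 4, 1, 1, 0, 1, 0, 1, 5, 4, 0, 2, 3, 1, 2, 3],
  [3, 3, 2, 0, 1, 5, 0, 5, 3, 2, 0, 5, 0, 2, 0, 4, 5, 0, 4, 5, 0, 2, 1, 0, 2, 3, 3, 3, 1, 1, 3, 1, 2, 1, 3, 2, 3, 2, 3, 3],
  [0, 4, 2, 3, 1, 1, 0, 5, 0, 2, 0, 1, 0, 2, 0, 2, 3, 5, 3, 2, 3, 5, 3, 4, 3, 4, 4, 1, 2, 0, 0, 4, 0, 5, 3, 2, 0, 5, 0],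
  [2, 0, 5, 1, 1, 0, 0, 4, 2, 0, 1, 5, 1, 0, 2, 3, 5, 3, 4, 4, 5, 0, 5, 4, 0, 2, 0, 2, 4, 3, 5, 0, 5, 0, 2, 3, 1, 3, 5],
  [1, 1, 0, 5, 0, 5, 0, 5, 1, 1, 3, 2, 3, 4, 2, 3, 4, 2, 1, 0, 0, 4, 2, 3, 2, 3, 4, 0, 5, 3, 2, 0, 4, 0, 4, 4, 2],
  [1, 1, 0, 5, 0, 5, 0, 5, 1, 1, 3, 2, 3, 4, 2, 3, 4, 2, 0, 1, 0, 5, 0, 0, 2, 3, 2, 0, 5, 4, 3, 2, 3, 3, 0, 4, 2, 4, 4, 0, 4],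
  [0, 0, 4, 0, 2, 4, 3, 5, 3, 3, 3, 3, 5, 3, 4, 5, 0, 0, 4, 5, 0, 2, 1, 0, 2, 3, 3, 2, 0, 5, 0, 0, 2, 0, 1, 1, 5, 1, 0],
  [3, 3, 3, 4, 3, 2, 0, 5, 3, 2, 4, 3, 4, 5, 5, 0, 0, 4, 4, 2, 4, 3, 2, 3, 2, 5, 1, 1, 1, 0, 5, 3, 2, 0, 1, 1, 1, 1],
  [1, 3, 2, 0, 2, 0, 4, 0, 4, 4, 2, 4, 3, 4, 4, 3, 2, 1, 3, 2, 3, 5, 0, 2, 4, 3, 1, 0, 4, 0, 5, 0, 4, 4, 5, 4, 0, 2, 0],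
  [0, 2, 0, 4, 4, 0, 2, 0, 4, 5, 3, 5, 3, 4, 4, 4, 0, 2, 4, 3, 5, 3, 1, 1, 2, 0, 1, 0, 0, 5, 1, 0, 5, 1, 1, 3],
  [2, 4, 3, 4, 5, 3, 5, 0, 2, 0, 0, 4, 4, 5, 0, 1, 5, 0, 0, 4, 4, 3, 5, 3, 5, 1, 3, 2, 0, 5, 0, 1, 1, 1, 3, 2, 0, 1, 1, 1, 5, 3],
  [4, 4, 0, 2, 0, 2, 0, 2, 3, 4, 2, 4, 0, 4, 4, 4, 3, 2, 1, 1, 1, 1, 0, 2, 0, 0, 1, 1, 0, 0, 2, 0, 1, 5, 1, 3],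
  [0, 5, 0, 0, 5, 0, 1, 0, 2, 3, 3, 4, 5, 3, 4, 3, 1, 3, 1, 3, 5, 3, 5, 1, 0, 5, 0, 4, 4, 0, 4, 0, 5, 3, 5, 4, 0, 5, 3],
  [3, 1, 3, 1, 5, 1, 3, 2, 3, 5, 3, 1, 0, 1, 5, 0, 2, 3, 5, 0, 0, 4, 4, 0, 4, 4, 5, 3, 5, 0, 1, 2, 0, 0, 4, 4],
  [2, 1, 1, 3, 5, 0, 2, 0, 1, 5, 3, 3, 4, 2, 3, 5, 0, 3, 3, 2, 3, 4, 4, 4, 3, 2, 3, 4, 0, 5, 0, 0, 2, 3, 2, 0, 1, 0],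
  [0, 2, 0, 4, 4, 0, 2, 0, 4, 5, 3, 5, 3, 4, 1, 1, 3, 3, 5, 3, 3, 4, 2, 4, 4, 3, 1, 1, 1, 5, 3, 1, 5, 4, 0, 0, 4, 4],
  [3, 2, 0, 2, 0, 1, 0, 2, 3, 1, 1, 0, 0, 2, 1, 1, 0, 0, 2, 0, 1, 1, 2, 3, 5, 0, 1, 0, 2, 0, 2, 0, 5, 0, 1, 1],
  [3, 5, 3, 3, 4, 5, 4, 3, 2, 3, 3, 2, 4, 4, 3, 4, 3, 5, 0, 4, 2, 3, 5, 3, 3, 3, 4, 3, 2, 1, 3, 5, 0, 5, 0],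
  [4, 2, 0, 2, 0, 5, 4, 3, 2, 0, 4, 4, 2, 3, 5, 1, 0, 4, 5, 0, 2, 1, 0, 2, 3, 3, 2, 0, 0, 2, 3, 4, 3, 2, 0, 0, 2, 3],
  [5, 4, 0, 2, 0, 2, 3, 2, 1, 3, 1, 3, 3, 5, 3, 4, 0, 4, 2, 3, 5, 3, 4, 2, 3, 3, 2, 3, 1, 1, 0, 0, 2, 0, 5, 4, 3],
  [4, 3, 2, 3, 1, 3, 2, 3, 4, 2, 0, 5, 0, 3, 5, 3, 1, 3, 1, 1, 5, 3, 5, 0, 4, 3, 4, 2, 0, 2, 1, 1, 3, 5, 0, 0, 4],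
  [1, 0, 2, 0, 2, 3, 2, 0, 2, 0, 5, 0, 0, 2, 4, 0, 1, 0, 0, 5, 0, 4, 5, 4, 3, 3, 1, 3, 1, 3, 2, 3, 1, 2, 0, 5],
  [3, 5, 4, 3, 2, 0, 5, 1, 3, 3, 5, 3, 5, 1, 0, 1, 5, 1, 0, 0, 2, 0, 0, 4, 4, 5, 1, 0, 0, 4, 5, 3, 5, 0, 4, 4],
  [4, 0, 2, 0, 4, 0, 2, 0, 4, 0, 2, 4, 0, 4, 0, 5, 0, 1, 1, 1, 0, 5, 0, 0, 3, 3, 3, 4, 3, 5, 3, 5, 1, 0, 5, 1],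
  [0, 2, 3, 1, 3, 2, 3, 4, 4, 2, 0, 5, 4, 0, 4, 0, 1, 0, 2, 0, 2, 3, 2, 4, 0, 4, 5, 0, 5, 0, 4, 0, 4, 5, 4, 4, 3, 3, 3, 2],
  [3, 5, 4, 3, 4, 4, 3, 4, 2, 4, 3, 5, 0, 4, 5, 4, 1, 2, 3, 2, 1, 3, 2, 3, 5, 4, 3, 3, 3, 4, 3, 2, 0, 0, 2, 1, 1, 0, 2],
  [1, 0, 1, 1, 5, 0, 0, 5, 0, 1, 2, 1, 0, 0, 2, 0, 0, 4, 2, 3, 5, 3, 4, 2, 3, 1, 0, 2, 3, 1, 1, 3, 2, 3],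
  [0, 4, 2, 3, 1, 1, 0, 5, 0, 2, 0, 1, 0, 2, 0, 2, 3, 4, 4, 5, 0, 5, 4, 0, 2, 0, 1, 3, 2, 3, 1, 5, 3, 1, 1, 3, 2, 0, 5, 1],
  [2, 3, 3, 3, 3, 4, 2, 3, 5, 0, 4, 0, 5, 3, 4, 3, 4, 4, 0, 1, 5, 3, 2, 0, 5, 0, 4, 2, 1, 0, 1, 0, 0, 5, 0, 5, 3, 2, 4],
  [1, 0, 2, 1, 0, 0, 5, 3, 4, 3, 2, 3, 3, 2, 3, 4, 0, 5, 0, 4, 4, 4, 0, 5, 3, 3, 2, 3, 4, 4, 4, 3, 2, 0, 2, 1],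
  [1, 1, 1, 0, 1, 5, 1, 0, 5, 3, 1, 5, 3, 5, 0, 3, 4, 3, 5, 0, 0, 5, 3, 1, 5, 1, 0, 5, 1, 3, 5, 0, 2, 3, 5, 4, 0, 2, 1, 0],
  [0, 0, 2, 0, 0, 5, 0, 2, 4, 4, 0, 5, 4, 4, 4, 0, 2, 3, 5, 1, 0, 2, 3, 2, 5, 1, 1, 0, 2, 3, 3, 2, 3, 1, 1, 5],
  [5, 3, 3, 4, 4, 0, 5, 3, 4, 3, 5, 3, 5, 0, 0, 2, 3, 2, 0, 4, 4, 4, 0, 0, 1, 5, 0, 4, 4, 3, 4, 5, 3, 2],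
  [1, 1, 1, 0, 2, 0, 4, 2, 0, 0, 5, 3, 4, 4, 4, 4, 0, 4, 4, 0, 5, 3, 3, 4, 3, 4, 4, 4, 3, 5, 3, 5, 0, 2, 0, 1, 2, 0],
  [0, 0, 2, 0, 0, 5, 0, 2, 4, 4, 0, 5, 4, 4, 4, 0, 1, 1, 3, 2, 1, 1, 0, 0, 5, 0, 1, 0, 4, 4, 4, 4, 3, 3, 5, 3, 2, 3, 4, 3, 2, 4],
  [0, 2, 0, 4, 4, 0, 2, 0, 4, 5, 3, 5, 3, 4, 0, 1, 0, 5, 0, 0, 4, 3, 5, 3, 4, 4, 3, 5, 3, 4, 0, 1, 1, 0, 4, 2, 0, 0],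
  [3, 5, 4, 4, 0, 2, 0, 5, 3, 4, 4, 0, 4, 0, 2, 3, 2, 4, 4, 3, 3, 4, 3, 2, 3],
  [1, 5, 3, 3, 2, 3, 5, 3, 5, 0, 5, 3, 5, 3, 4, 3, 4, 4, 5, 0, 5, 4, 0, 2, 0, 3, 4, 3, 5, 0, 5, 3, 3, 2, 3, 1],
  [1, 3, 1, 5, 3, 1, 3, 5, 3, 1, 3, 5, 3, 1, 0, 5, 1, 0, 2, 0, 5, 1, 3, 3, 5, 3, 1, 0, 4, 5, 3, 2, 3, 5, 0, 0, 1],
  [1, 1, 1, 1, 3, 1, 2, 3, 1, 5, 3, 3, 2, 0, 2, 0, 0, 5, 3, 4, 5, 3, 2, 1, 3, 3, 3, 3, 5, 3, 1, 5, 0, 2, 2, 0, 2, 0, 4],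
  [4, 3, 5, 0, 1, 5, 3, 5, 0, 5, 3, 1, 3, 5, 3, 4, 5, 0, 5, 0, 1, 4, 0, 4, 0, 5, 0, 5, 0, 5, 4, 4, 0, 4, 0, 5],
  [1, 0, 1, 1, 3, 5, 3, 1, 3, 2, 0, 2, 3, 5, 4, 3, 3, 2, 3, 4, 4, 4, 3, 2, 3, 3, 5, 0, 5, 3, 2, 0, 2, 3, 5],
  [4, 3, 5, 4, 3, 2, 3, 1, 2, 3, 3, 2, 0, 5, 0, 4, 1, 3, 5, 0, 1, 1, 3, 1, 1, 5, 0, 5, 0, 4, 0, 1, 5, 3, 3, 2, 3, 4, 4],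
  [1, 0, 5, 3, 2, 1, 0, 5, 3, 2, 1, 0, 5, 3, 2, 2, 1, 3, 1, 1, 0, 2, 0, 0, 0, 4, 0, 1, 1, 3, 5, 0, 5, 0, 4, 4, 4, 4],
  [2, 3, 2, 0, 1, 0, 1, 5, 1, 0, 0, 2, 3, 5, 3, 3, 3, 3, 5, 4, 0, 5, 3, 4, 5, 0, 1, 0, 2, 3, 5, 1, 3, 1, 1],
  [3, 5, 0, 4, 4, 0, 1, 2, 0, 0, 4, 0, 2, 3, 5, 0, 1, 0, 0, 0, 5, 4, 3, 2, 3, 2, 1, 1, 3, 5, 3, 1, 5, 0, 1, 5, 1, 1, 0, 2],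
  [3, 4, 5, 4, 4, 0, 5, 3, 5, 4, 4, 3, 2, 0, 3, 1, 3, 3, 2, 3, 3, 5, 3, 2, 3, 3, 1, 3, 1, 3, 3, 5, 3, 5, 3, 5, 0, 4],
  [3, 2, 1, 0, 2, 0, 0, 0, 0, 2, 0, 1, 5, 3, 1, 3, 3, 3, 5, 0, 2, 3, 3, 4, 3, 2, 3, 5, 4, 4, 0, 2, 0, 1, 1, 0, 5, 5, 1, 1],
  [5, 0, 1, 1, 0, 1, 5, 1, 1, 3, 1, 3, 5, 3, 5, 0, 4, 2, 3, 5, 1, 3, 1, 2, 0, 2, 1, 0, 1, 0, 2, 3, 3, 5, 0, 1, 0, 4, 4],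
  [3, 5, 3, 3, 2, 3, 5, 0, 5, 3, 5, 1, 0, 1, 1, 2, 0, 2, 0, 4, 0, 4, 5, 0, 1, 5, 4, 3, 1, 2, 0, 1, 2, 1, 3, 1, 5, 0, 2],
  [0, 1, 1, 5, 0, 2, 0, 5, 3, 1, 1, 5, 1, 3, 3, 1, 1, 3, 2, 1, 1, 0, 0, 5, 0, 1, 0, 1, 3, 3, 5, 4, 3, 5, 0, 5, 3, 4, 5],
  [3, 2, 1, 1, 1, 3, 1, 2, 0, 1, 1, 0, 0, 5, 1, 0, 2, 0, 5, 1, 3, 3, 1, 5, 0, 0, 2, 0, 0, 2, 4, 3, 1, 0, 5, 3, 4, 3, 2, 4, 0, 5, 0, 5, 4, 2, 4, 0],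
  [2, 0, 2, 0, 1, 0, 5, 3, 4, 3, 2, 3, 2, 0, 0, 2, 4, 1, 0, 1, 1, 3, 5, 0, 0, 4, 5, 0, 0, 4, 5, 4, 4, 3, 2, 3, 2],
  [0, 4, 5, 3, 4, 3, 2, 0, 2, 3, 4, 4, 0, 2, 4, 0, 2, 3, 5, 1, 0, 2, 3, 2, 3, 3, 5, 3, 1, 0, 5, 0, 1, 1, 2, 3, 1, 2]]

theorem levelH3 : levelOK 552 6 gtab [0, 1, 2] 3 orbH3 wordsH3 = true := by decide +kernel

theorem nodupH3 : orbH3.Nodup := by decide +kernel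

theorem stepH3 : 105 * Nat.card (stabL Hgen [0, 1, 2, 3]) ≤ Nat.card (stabL Hgen [0, 1, 2]) := by
  have h := card_stabL_ge Hgen [0, 1, 2] (b := 3) (by norm_num) orbH3 nodupH3
    (level_spec gens_tab (fun k hk => gens_mem_H hk) (by decide) (by norm_num) levelH3)
  have e : orbH3.length = 105 := by decide
  rw [e] at h
  exact h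

def orbH4 : List ℕ := [4, 6, 7, 8, 9, 10, 11, 12, 13, 15, 16, 18, 19, 20, 21, 22, 287, 293, 304, 316, 321, 323, 328, 339, 344, 349, 357, 373, 377, 379, 383, 388, 392, 394, 400, 406, 415, 420, 423, 428, 431, 435, 442, 443, 448, 449, 458, 463, 470, 477, 480, 485, 487, 491, 494, 497, 502, 507, 510, 516, 517, 523, 525, 526]

def wordsH4 : List (List ℕ) := [[],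
  [3, 1, 3, 2, 0, 1, 2, 1, 3, 3, 5, 3, 1, 0, 0, 5, 3, 4, 5, 3, 2, 1, 3, 3, 1, 3, 1, 5, 1, 3, 2, 3, 5, 3, 1, 5, 0, 1, 3, 1, 0, 5, 0, 2, 0, 2, 0, 1, 0, 5, 0, 2, 3, 3, 3, 4, 5, 0, 4, 4, 5, 3, 4, 4, 3, 5, 4, 4, 4, 4, 3, 3, 1, 5, 1, 3, 3, 5, 0],
  [3, 5, 1, 1, 2, 3, 5, 0, 2, 1, 3, 2, 3, 3, 3, 5, 3, 3, 3, 5, 3, 4, 2, 3, 1, 3, 1, 5, 3, 1, 3, 5, 3, 1, 3, 5, 3, 1, 5, 3, 5, 3, 4, 3, 5, 3, 2, 3, 4, 4, 0, 5, 1, 3, 1, 3, 2, 0, 2, 4, 4, 0, 4, 0, 2, 0, 3, 4, 5, 3, 5, 3, 1, 3, 5, 3, 1, 1, 2, 2],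
  [4, 4, 0, 2, 0, 4, 5, 0, 2, 0, 1, 1, 3, 3, 3, 5, 0, 5, 0, 0, 4, 3, 2, 0, 2, 0, 1, 0, 2, 3, 1, 1, 0, 0, 2, 3, 2, 0, 2, 0, 0, 5, 4, 3, 2, 0, 0, 2, 4, 3, 5, 3, 5, 0, 0, 0, 5, 0, 5, 0, 1, 0, 3, 3, 5, 3, 3, 4, 2, 4, 0, 4, 2, 3],
  [5, 3, 1, 1, 2, 0, 1, 2, 1, 3, 3, 5, 0, 5, 3, 4, 3, 4, 4, 3, 5, 0, 5, 3, 5, 0, 1, 1, 2, 0, 2, 3, 1, 1, 2, 1, 0, 1, 1, 1, 1, 3, 1, 2, 3, 1, 5, 3, 3, 2, 0, 2, 0, 2, 1, 1, 3, 5, 3, 3, 4, 3, 3, 5, 1, 0, 2, 0, 2, 3, 4, 3, 3, 2, 4, 5],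
  [4, 5, 3, 2, 0, 4, 5, 3, 2, 4, 3, 5, 4, 3, 2, 1, 3, 2, 0, 0, 2, 3, 1, 3, 5, 3, 2, 4, 4, 3, 5, 1, 0, 2, 2, 1, 0, 1, 1, 5, 3, 5, 3, 3, 4, 2, 0, 5, 1],
  [4, 0, 5, 3, 3, 4, 0, 5, 4, 0, 2, 1, 3, 4, 4, 0, 2, 4, 0, 2, 3, 4, 3, 5, 2, 4, 0, 5, 3, 2, 0, 5, 3, 4, 3, 5, 4, 0, 4, 5, 0, 5, 3, 2, 1, 3, 5, 3, 1, 3, 2, 3, 1, 2, 3, 5, 3, 4, 4, 2, 3],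
  [1, 1, 1, 1, 3, 2, 3, 2, 0, 4, 4, 3, 1, 3, 3, 3, 5, 3, 4, 4, 0, 4, 5, 5, 0, 2, 3, 4, 5, 0, 2, 3, 4, 5, 0, 2, 3, 4, 1, 1, 0, 2, 0, 1, 0, 5, 0, 5, 0, 5, 4, 0, 0, 5, 3, 4, 2, 0, 5, 0, 4, 0, 2, 4, 3, 4, 3, 2, 3, 2, 2, 3, 3, 5, 4, 3],
  [4, 4, 0, 4, 2, 0, 5, 3, 4, 3, 2, 1, 0, 2, 3, 1, 2, 0, 0, 0, 0, 2, 0, 5, 3, 3, 4, 2, 4, 3, 4, 3, 5, 0, 5, 3, 5, 3, 5, 4, 0, 5, 0, 5, 3, 3, 3, 2, 4, 0, 4, 2, 3, 5, 3, 4, 2, 3, 1, 0, 1, 0, 2, 2, 4, 3, 4, 5, 3, 5, 3, 4],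
  [3, 4, 2, 0, 1, 0, 2, 3, 1, 1, 0, 3, 5, 3, 1, 5, 0, 1, 0, 2, 3, 5, 4, 0, 2, 0, 4, 0, 2, 0, 4, 0, 2, 4, 0, 4, 4, 4, 0, 2, 0, 2, 3, 4, 3, 4, 0, 5, 1, 3, 5, 0, 0, 0, 5, 1, 0, 2, 0, 5, 1, 3, 0, 1, 5, 0, 2, 3, 2, 0, 0, 4, 4, 0],
  [0, 4, 4, 2, 3, 4, 2, 3, 3, 4, 3, 5, 4, 4, 0, 2, 0, 1, 5, 3, 1, 1, 1, 0, 2, 0, 2, 1, 3, 5, 3, 1, 1, 3, 5, 3, 2, 3, 3, 4, 2, 4, 0, 2, 3, 1, 3, 5, 3, 3, 4, 0, 1, 1, 1, 0, 2, 0, 0, 0, 2, 0, 2, 0, 0, 0, 0, 5, 0, 0, 1, 5, 3, 1, 0, 0],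
  [2, 0, 5, 3, 5, 0, 2, 3, 2, 0, 0, 5, 0, 1, 1, 1, 0, 5, 0, 0, 1, 2, 0, 5, 3, 5, 0, 4, 0, 2, 0, 4, 4, 3, 4, 2, 1, 0, 1, 5, 0, 2, 3, 5, 0, 1, 0, 0, 0, 0, 0, 2, 3, 1, 1, 3, 2, 3, 1, 3, 0, 0, 2, 2, 0, 1, 2, 0, 2, 0, 2, 3, 5],
  [3, 1, 3, 2, 0, 1, 2, 1, 3, 3, 5, 3, 1, 0, 0, 5, 3, 4, 5, 3, 2, 1, 3, 3, 1, 3, 1, 5, 1, 3, 2, 3, 5, 3, 1, 1, 1, 1, 0, 2, 0, 4, 2, 0, 0, 5, 3, 4, 4, 4, 4, 4, 4, 3, 5, 0, 2, 3, 4, 4, 3, 4, 4, 0, 1, 1, 1, 1, 3, 2, 3, 3, 4, 2, 3, 1, 3],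
  [1, 3, 2, 0, 2, 3, 5, 4, 3, 5, 0, 4, 0, 4, 0, 1, 5, 3, 2, 0, 5, 0, 4, 1, 0, 0, 2, 0, 4, 0, 5, 3, 1, 5, 1, 0, 0, 5, 3, 2, 1, 1, 1, 1, 0, 2, 0, 0, 0, 4, 2, 3, 1, 3, 1, 0, 2, 1, 3, 5, 3, 1, 3],
  [1, 3, 5, 3, 1, 3, 5, 0, 5, 3, 5, 3, 5, 1, 1, 2, 3, 1, 1, 5, 0, 2, 0, 0, 3, 2, 3, 5, 1, 0, 5, 0, 4, 0, 5, 0, 1, 3, 2, 3, 5, 0, 5, 3, 1, 2, 0, 1, 1, 5, 0, 1, 1, 1, 1, 0, 2, 3, 5, 0, 5, 0, 2, 3, 1, 3, 3, 2, 0, 2, 4, 0, 1, 5, 3, 1],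
  [5, 4, 0, 1, 2, 1, 3, 2, 0, 2, 1, 1, 4, 3, 2, 3, 2, 1, 4, 0, 2, 0, 4, 0, 2, 0, 4, 0, 2, 4, 0, 4, 0, 4, 2, 3, 1, 1, 0, 5, 0, 2, 0, 1, 0, 2, 0, 2, 4, 0, 1, 5, 3, 2, 0, 5, 0, 4, 4, 0, 1, 1, 2, 3, 4, 4, 5, 0, 2, 3, 1, 3],
  [1, 1, 5, 3, 3, 5, 3, 4, 2, 3, 5, 0, 2, 3, 5, 4, 0, 4, 2, 0, 5, 5, 1, 0, 5, 1, 0, 5, 0, 4, 4, 2, 3, 2, 3, 2, 3, 4, 4, 0, 2, 3, 2, 3, 4, 2, 0, 2, 0, 4, 5, 4, 0, 5, 5, 0, 0, 0, 2, 0, 4, 5, 0, 2, 4, 3, 4, 4, 2, 3, 5, 3, 3, 3, 0, 1, 3, 2, 0, 5, 1, 1, 0],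
  [2, 3, 5, 4, 0, 5, 0, 4, 0, 4, 0, 0, 1, 2, 1, 3, 2, 3, 3, 4, 3, 1, 5, 3, 3, 2, 3, 5, 3, 5, 0, 5, 3, 5, 3, 4, 2, 0, 2, 0, 1, 0, 5, 3, 4, 3, 2, 3, 2, 0, 0, 2, 4, 0, 4, 2, 3, 1, 1, 1, 5, 3, 5, 0, 4, 1, 2, 0, 1, 5, 0, 5, 0, 2, 1, 1, 3, 3],
  [4, 5, 3, 5, 0, 1, 1, 1, 0, 5, 0, 0, 2, 3, 1, 1, 1, 3, 2, 3, 1, 0, 5, 0, 0, 5, 0, 1, 0, 2, 3, 3, 4, 5, 3, 4, 2, 1, 0, 0, 2, 0, 5, 3, 2, 0, 2, 0, 1, 0, 2, 1, 5, 1, 4, 4, 0, 2, 4, 3, 5, 3, 1, 1, 3, 3, 2, 3, 5, 3, 2, 1, 1, 1, 3, 2, 3, 4, 3, 5],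
  [0, 5, 3, 2, 0, 2, 1, 0, 2, 0, 0, 0, 1, 2, 1, 3, 2, 3, 3, 4, 3, 2, 0, 2, 0, 4, 4, 0, 1, 2, 0, 5, 1, 0, 1, 0, 2, 0, 0, 5, 0, 2, 3, 2, 4, 0, 4, 0, 2, 3, 5, 1, 1, 0, 1, 1, 0, 5, 3, 4, 2, 3, 5, 0, 4, 1, 2, 3, 3, 2, 3, 2, 0, 0, 2],
  [3, 5, 1, 1, 0, 0, 2, 3, 1, 1, 1, 5, 3, 5, 0, 5, 3, 5, 3, 4, 1, 5, 0, 5, 0, 4, 5, 4, 3, 3, 3, 4, 3, 5, 3, 5, 4, 0, 1, 0],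
  [0, 4, 4, 2, 3, 4, 2, 3, 3, 4, 3, 5, 4, 4, 0, 2, 0, 1, 5, 3, 1, 1, 1, 0, 2, 0, 2, 1, 3, 5, 3, 1, 1, 3, 5, 3, 0, 1, 1, 0, 1, 2, 0, 5, 3, 2, 0, 0, 0, 5, 0, 2, 0, 1, 0, 5, 3, 1, 5, 3, 1, 1, 3, 5, 4, 4, 3, 2, 3, 5, 1, 3, 2],
  [3, 1, 1, 3, 2, 4, 0, 0, 2, 1, 1, 3, 5, 0, 2, 4, 0, 1, 5, 3, 2, 0, 5, 0, 4, 2, 0, 5, 3, 4, 2, 4, 3, 5, 1, 3, 3, 4, 4, 2, 3, 5, 0, 2, 3, 2, 0, 4, 0, 4, 4, 2, 3, 2, 4, 3, 2, 0, 2, 3, 1, 3, 4, 2],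
  [3, 2, 3, 5, 0, 2, 3, 1, 3, 3, 5, 4, 1, 1, 0, 1, 0, 2, 0, 5, 0, 2, 0, 5, 3, 5, 3, 4, 3, 5, 3, 2, 3, 4, 4, 0, 5, 1, 3, 3, 4, 3, 4, 2, 3, 5, 4, 3, 1, 1, 3, 5, 3, 5, 4, 5, 0, 5, 0, 1, 0, 0, 2, 0, 4, 0, 3, 2, 3, 5, 0, 0, 5, 4, 4],
  [4, 0, 5, 3, 3, 4, 0, 5, 4, 0, 2, 1, 3, 4, 4, 0, 2, 4, 0, 2, 3, 4, 3, 5, 0, 1, 1, 0, 1, 2, 0, 5, 3, 2, 0, 0, 0, 5, 0, 1, 1, 0, 2, 3, 2, 0, 5, 3, 3, 1, 3, 1, 5, 3, 5, 0, 2, 3, 3, 3, 4, 3],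
  [4, 0, 5, 3, 3, 4, 0, 5, 4, 0, 2, 1, 3, 4, 4, 0, 2, 4, 0, 2, 3, 4, 3, 5, 3, 5, 4, 3, 2, 0, 5, 1, 3, 3, 5, 3, 5, 1, 0, 3, 2, 1, 1, 1, 1, 0, 2, 0, 0, 4, 5, 3, 4, 4, 5, 0, 4, 2, 4, 0, 2, 3, 1],
  [2, 4, 4, 0, 5, 0, 0, 5, 3, 4, 4, 2, 5, 0, 5, 3, 4, 2, 0, 5, 3, 1, 1, 1, 2, 3, 1, 1, 5, 3, 2, 3, 3, 5, 3, 3, 1, 3, 3, 4, 5, 0, 2, 3, 4, 4, 5, 0, 5, 0, 0, 0, 5, 0, 5, 0, 1, 2, 3, 1, 1, 0, 4, 0, 5, 3, 1, 3, 1, 0, 2, 0, 1, 0, 1, 1],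
  [4, 3, 1, 1, 0, 2, 1, 0, 5, 3, 5, 4, 3, 3, 5, 3, 3, 3, 5, 0, 2, 3, 1, 1, 2, 3, 2, 3, 2, 3, 4, 3, 5, 3, 4, 4, 1, 0, 1, 1, 5, 0, 0, 5, 0, 1, 2, 1, 0, 0, 2, 0, 1, 5, 0, 5, 3, 1, 3, 3, 3, 2, 3, 1, 0, 2, 3, 5, 3, 1, 1, 3, 1, 2, 3, 1, 1, 2],
  [5, 4, 0, 1, 2, 1, 3, 2, 0, 2, 1, 1, 4, 3, 2, 3, 2, 1, 4, 0, 2, 0, 4, 0, 2, 0, 4, 0, 2, 4, 0, 4, 0, 4, 4, 5, 0, 2, 3, 3, 3, 5, 3, 5, 3, 5, 0, 4, 2, 3, 5, 1, 0, 0, 4, 2, 3, 2, 3, 4, 5, 0, 4, 3, 5, 3, 5, 0, 4, 2, 3, 3],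
  [0, 4, 5, 3, 5, 4, 3, 4, 2, 0, 5, 3, 2, 3, 2, 0, 5, 3, 4, 4, 4, 4, 3, 4, 2, 0, 2, 3, 2, 0, 5, 0, 0, 2, 0, 3, 2, 0, 1, 0, 2, 0, 0, 4, 0, 2, 3, 2, 4, 4, 2, 0, 2, 0, 4, 0, 4, 5, 0, 1, 5, 4, 0, 4, 0, 4, 5, 0, 5, 4, 3, 2, 3, 3],
  [5, 3, 2, 4, 0, 4, 5, 4, 3, 5, 4, 0, 1, 2, 4, 3, 2, 1, 3, 1, 3, 5, 3, 5, 4, 4, 3, 4, 2, 0, 2, 3, 2, 0, 5, 0, 0, 2, 0, 4, 3, 4, 2, 4, 4, 0, 2, 0, 2, 3, 4, 3, 1, 3, 3, 1, 5, 3, 2, 0, 0, 2, 0, 0, 5, 0, 4, 3, 5, 0, 4, 0, 5, 3, 2, 3],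
  [1, 3, 5, 3, 1, 3, 5, 0, 5, 3, 5, 3, 5, 1, 1, 2, 3, 1, 1, 5, 0, 2, 0, 0, 3, 2, 3, 5, 1, 0, 5, 0, 4, 0, 5, 0, 1, 3, 4, 3, 4, 2, 3, 5, 4, 3, 1, 1, 3, 5, 3, 5, 3, 1, 5, 0, 0, 4, 0, 2, 0, 1, 0, 5, 4, 5, 0, 2, 0, 2, 0, 5, 0, 1],
  [0, 2, 0, 4, 4, 0, 2, 0, 4, 5, 3, 5, 3, 4, 3, 5, 4, 3, 2, 3, 5, 1, 1, 3, 1, 1, 0, 4, 0, 4, 4, 2, 3, 4, 3, 5, 0, 2, 1],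
  [0, 4, 4, 0, 5, 0, 2, 1, 0, 2, 3, 4, 5, 0, 5, 0, 1, 3, 4, 2, 0, 2, 0, 0, 4, 2, 3, 5, 0, 1, 2, 0, 4, 3, 5, 4, 3, 2, 3, 1, 2, 3, 3, 2, 0, 5, 0, 4, 2, 0, 5, 3, 4, 3, 2, 4, 0, 2, 0, 0, 1, 5, 0, 0, 4, 5, 0, 1, 2, 3, 1, 3, 2],
  [0, 5, 3, 2, 0, 2, 1, 0, 2, 0, 0, 0, 1, 2, 1, 3, 2, 3, 3, 4, 3, 2, 0, 2, 0, 4, 4, 0, 1, 2, 0, 5, 1, 0, 1, 0, 0, 5, 4, 3, 2, 3, 2, 0, 5, 0, 4, 3, 2, 0, 5, 0, 0, 4, 5, 1, 2, 0, 0, 0, 2, 0, 2, 1, 1, 0, 2, 4, 4, 0, 1, 2, 3, 3, 4, 3, 2, 1, 0],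
  [0, 1, 3, 1, 1, 3, 5, 0, 2, 3, 5, 0, 5, 3, 4, 2, 0, 5, 4, 4, 0, 2, 0, 2, 0, 2, 3, 4, 2, 4, 0, 4, 4, 4, 2, 3, 3, 3, 3, 4, 2, 3, 5, 0, 4, 0, 5, 3, 4, 3, 4, 1, 1, 0, 2, 0, 1, 1, 5, 1, 3, 1, 0, 0, 4, 5, 3, 2, 0, 4, 0, 1, 0, 0],
  [5, 4, 0, 1, 2, 1, 3, 2, 0, 2, 1, 1, 4, 3, 2, 3, 2, 1, 4, 0, 2, 0, 4, 0, 2, 0, 4, 0, 2, 4, 0, 4, 3, 5, 3, 3, 2, 3, 5, 0, 5, 3, 5, 1, 0, 1, 1, 2, 1, 3, 1, 1, 0, 2, 0, 0, 0, 4, 4, 3, 5, 3, 2, 3, 5, 4, 3, 3, 3, 2],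
  [3, 5, 3, 3, 3, 5, 0, 4, 3, 3, 3, 3, 2, 3, 5, 3, 5, 3, 4, 5, 3, 2, 1, 3, 4, 3, 2, 3, 1, 3, 2, 3, 4, 2, 0, 5, 0, 1, 2, 3, 2, 3, 2, 3, 4, 3, 5, 3, 4, 4, 0, 0, 5, 3, 4, 2, 0, 5, 0, 3, 4, 4, 0, 5, 3, 4, 0, 5, 1, 3, 3, 4],
  [1, 1, 3, 3, 5, 4, 3, 2, 0, 2, 1, 1, 3, 1, 1, 3, 3, 2, 0, 5, 3, 2, 4, 3, 4, 0, 2, 0, 5, 0, 4, 2, 4, 0, 4, 0, 0, 0, 4, 0, 2, 4, 3, 5, 3, 3, 3, 3, 5, 3, 4, 5, 0, 1, 5, 0, 1, 0, 0, 5, 0, 5, 3, 5, 4, 4, 4, 0, 2, 4, 0, 4, 4, 4, 5, 3, 2, 1, 5, 1],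
  [1, 3, 1, 2, 0, 5, 3, 1, 5, 0, 1, 5, 0, 5, 0, 5, 3, 5, 3, 4, 2, 0, 2, 0, 4, 4, 0, 1, 2, 0, 5, 1, 0, 1, 0, 1, 0, 5, 3, 2, 1, 0, 5, 3, 2, 1, 0, 5, 3, 2, 3, 5, 0, 0, 0, 5, 0, 5, 0, 1, 0, 0, 5, 3, 4, 3, 2, 0, 2, 0, 2, 1, 3, 4, 2, 1],
  [0, 2, 4, 3, 5, 0, 2, 0, 2, 3, 3, 3, 5, 3, 4, 0, 2, 4, 4, 3, 4, 5, 0, 5, 0, 5, 3, 2, 3, 3, 3, 5, 0, 2, 3, 5, 4, 3, 4, 4, 3, 4, 3, 2, 3, 1, 3, 2, 3, 4, 2, 0, 5, 0, 3, 5, 4, 0, 4, 2, 0, 5, 1, 3, 3, 4, 4, 2, 3, 2, 1, 3, 3, 4, 5, 4],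
  [2, 3, 1, 3, 1, 1, 2, 3, 2, 3, 2, 3, 1, 3, 1, 4, 3, 2, 3, 2, 1, 0, 2, 0, 4, 0, 2, 3, 2, 0, 2, 4, 3, 2, 0, 1, 1, 1, 3, 3, 5, 0, 5, 3, 3, 4, 5, 0, 2, 3, 5, 1, 0, 1, 3, 3, 2, 3, 2, 0, 0, 0, 2, 0, 1, 5, 3, 1, 3, 5, 3],
  [2, 0, 5, 3, 5, 0, 2, 3, 2, 0, 0, 5, 0, 1, 1, 1, 0, 5, 0, 0, 1, 2, 0, 5, 3, 5, 0, 4, 0, 2, 0, 4, 4, 3, 4, 2, 3, 3, 5, 3, 2, 0, 2, 1, 3, 5, 0, 0, 2, 3, 1, 3, 5, 0, 2, 3, 3, 4, 3, 5, 0, 0, 0, 2, 3, 4, 4, 2, 4, 0, 0, 4],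
  [0, 5, 0, 1, 0, 0, 1, 1, 5, 0, 5, 3, 1, 3, 1, 1, 0, 2, 3, 5, 3, 1, 1, 2, 0, 3, 1, 5, 3, 1, 1, 0, 5, 3, 5, 0, 1, 0, 2, 1, 3, 1, 0, 2, 3, 1, 2, 0, 3, 4, 3, 5, 3, 4, 2, 3, 2, 0, 1, 0, 5, 0],
  [4, 2, 3, 4, 2, 0, 2, 0, 1, 0, 0, 0, 3, 3, 2, 3, 4, 4, 4, 3, 2, 3, 1, 3, 1, 5, 3, 1, 3, 5, 3, 1, 3, 5, 3, 1, 5, 0, 2, 3, 4, 5, 0, 2, 3, 4, 5, 0, 2, 3, 4, 0, 1, 2, 3, 5, 0, 0, 0, 4, 0, 2, 3, 2, 0, 4, 5, 0, 5, 3, 1, 0, 0, 4, 5, 0, 2],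
  [3, 2, 3, 3, 2, 4, 0, 4, 4, 2, 0, 4, 0, 1, 3, 3, 2, 3, 4, 4, 4, 3, 2, 3, 3, 4, 2, 0, 2, 0, 0, 4, 2, 3, 5, 0, 1, 2, 0, 0, 1, 0, 0, 2, 0, 5, 3, 3, 5, 3, 1, 2, 0, 5, 0, 0, 5, 4, 0, 2, 0, 4, 0, 4, 0, 4, 0, 4, 5, 0, 5, 0, 1, 2, 1, 0, 0, 2, 3, 4],
  [0, 4, 5, 3, 5, 4, 3, 4, 2, 0, 5, 3, 2, 3, 2, 0, 5, 3, 4, 4, 4, 4, 3, 4, 2, 0, 2, 3, 2, 0, 5, 0, 0, 2, 0, 5, 3, 4, 2, 3, 3, 4, 3, 5, 0, 1, 0, 2, 0, 1, 5, 0, 4, 1, 1, 0, 0, 2, 0, 1, 1, 2, 3, 1, 3, 1, 1, 1, 0, 4, 5, 0, 2, 0, 0, 5],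
  [4, 3, 1, 1, 0, 2, 1, 0, 5, 3, 5, 4, 3, 3, 5, 3, 3, 3, 5, 0, 2, 3, 1, 1, 2, 3, 2, 3, 2, 3, 4, 3, 5, 3, 4, 4, 3, 2, 0, 2, 0, 1, 0, 2, 3, 1, 1, 0, 0, 2, 1, 5, 0, 5, 3, 1, 3, 3, 3, 2, 3, 1, 0, 2, 3, 3, 4, 4, 0, 4, 4, 5, 0, 2, 0],
  [1, 2, 0, 2, 3, 2, 0, 0, 4, 0, 4, 1, 3, 3, 2, 0, 4, 4, 3, 4, 4, 3, 5, 0, 1, 5, 3, 5, 0, 5, 3, 1, 3, 5, 3, 0, 5, 0, 0, 5, 0, 1, 0, 2, 3, 3, 4, 5, 3, 4, 4, 5, 4, 3, 2, 0, 4, 4, 0, 1, 1, 3, 1, 5, 1, 0, 5, 1, 0, 5, 0],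
  [1, 2, 0, 2, 4, 4, 3, 1, 3, 2, 0, 5, 4, 3, 3, 3, 5, 3, 3, 3, 5, 0, 2, 3, 1, 4, 4, 3, 4, 2, 0, 2, 3, 2, 0, 5, 0, 0, 2, 0, 1, 0, 1, 1, 3, 5, 3, 1, 3, 2, 0, 2, 3, 5, 4, 2, 3, 2, 0, 5, 0, 0, 5, 0, 0, 4, 0, 4, 4, 3, 5, 3, 3, 5, 0, 0, 4, 3, 2, 3],
  [4, 0, 5, 3, 3, 4, 0, 5, 4, 0, 2, 1, 3, 4, 4, 0, 2, 4, 0, 2, 3, 4, 3, 5, 3, 4, 4, 0, 4, 2, 0, 5, 0, 1, 1, 0, 5, 3, 4, 1, 1, 3, 2, 1, 1, 0, 0, 5, 0, 1, 0, 5, 3, 4, 4, 4, 3, 2, 1, 0, 0, 5, 0, 2],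
  [0, 5, 0, 1, 0, 0, 1, 1, 5, 0, 5, 3, 1, 3, 1, 1, 0, 2, 3, 5, 3, 1, 1, 2, 0, 1, 5, 3, 2, 1, 1, 3, 1, 5, 0, 0, 5, 3, 3, 2, 0, 2, 3, 1, 0, 2, 3, 4, 2, 3, 2, 3, 1, 1, 3, 3, 3, 2, 0, 2, 1, 3, 5, 3, 2, 3, 2],
  [0, 4, 4, 0, 5, 0, 2, 1, 0, 2, 3, 4, 5, 0, 5, 0, 1, 3, 4, 2, 0, 2, 0, 0, 4, 2, 3, 5, 0, 1, 2, 0, 0, 0, 4, 0, 2, 4, 3, 5, 3, 3, 3, 3, 5, 3, 4, 5, 0, 1, 0, 2, 0, 2, 3, 2, 3, 4, 4, 3, 5, 3, 3, 2, 0, 5, 1, 1, 0, 5],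
  [1, 1, 0, 5, 0, 0, 2, 4, 3, 1, 3, 2, 3, 2, 4, 4, 0, 4, 4, 3, 2, 0, 4, 1, 3, 2, 3, 5, 0, 0, 5, 4, 0, 5, 0, 1, 2, 0, 1, 3, 5, 4, 3, 2, 0, 5, 1, 3, 3, 5, 3, 5, 1, 0, 0, 5, 0, 1, 2, 1, 3, 5, 0, 2, 3, 0, 0, 4, 5, 3, 2, 0, 2, 0, 1, 1, 1],
  [4, 5, 3, 5, 0, 1, 1, 1, 0, 5, 0, 0, 2, 3, 1, 1, 1, 3, 2, 3, 1, 0, 5, 0, 0, 5, 0, 1, 0, 2, 3, 3, 4, 5, 3, 4, 3, 2, 0, 2, 0, 0, 5, 4, 3, 2, 0, 0, 2, 4, 3, 5, 4, 0, 5, 0, 0, 0, 2, 0, 4, 4, 0, 4, 4, 0, 2, 3, 4, 3, 2, 4, 0, 2, 1, 3],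
  [0, 4, 2, 4, 3, 5, 3, 3, 4, 4, 3, 3, 5, 3, 4, 4, 4, 4, 5, 0, 1, 1, 1, 3, 1, 5, 1, 0, 5, 3, 5, 3, 5, 3, 1, 1, 5, 3, 3, 4, 4, 0, 5, 3, 4, 3, 5, 3, 5, 0, 4, 0, 4, 4, 2, 0, 5, 0, 4, 5, 3, 0, 1, 2, 1, 4, 0, 5, 0, 2, 1, 0, 0, 5],
  [3, 4, 5, 3, 1, 2, 0, 5, 3, 2, 0, 4, 2, 3, 4, 2, 4, 0, 2, 3, 3, 2, 0, 1, 0, 3, 2, 0, 2, 4, 0, 2, 3, 4, 2, 4, 3, 4, 4, 4, 4, 4, 0, 2, 3, 3, 5, 4, 0, 2, 0, 1, 1, 0, 1, 5, 0, 5, 4, 3, 2, 3, 2, 4, 4, 4, 0, 4, 4, 3, 1, 3, 5, 3, 1, 1, 3, 2, 1, 3, 2, 1],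
  [3, 1, 1, 3, 2, 4, 0, 0, 2, 1, 1, 3, 5, 0, 2, 4, 0, 1, 5, 3, 2, 0, 5, 0, 4, 0, 2, 0, 4, 4, 0, 2, 0, 4, 5, 3, 5, 3, 4, 1, 1, 0, 0, 2, 0, 1, 1, 2, 3, 0, 1, 5, 3, 3, 5, 3, 2, 1, 3, 2, 0],
  [0, 2, 3, 1, 2, 0, 2, 3, 1, 3, 1, 1, 3, 2, 3, 4, 2, 0, 2, 0, 4, 0, 4, 0, 1, 0, 2, 1, 0, 0, 5, 3, 4, 3, 2, 3, 3, 2, 3, 5, 3, 1, 3, 2, 1, 3, 4, 3, 4, 2, 3, 4, 5, 3, 5, 3, 3, 4, 3, 3, 2, 1, 1, 1, 1, 0, 2, 0, 0, 0, 4, 2, 3, 5, 3, 2, 0, 4, 5],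
  [1, 3, 2, 0, 2, 0, 2, 0, 0, 4, 0, 4, 0, 0, 5, 0, 2, 0, 0, 5, 0, 0, 4, 0, 3, 5, 0, 1, 1, 2, 0, 2, 3, 1, 1, 2, 1, 0, 3, 4, 5, 4, 4, 0, 5, 3, 5, 4, 4, 3, 2, 0, 3, 4, 4, 0, 5, 4, 3, 2, 3, 2, 1, 1, 0, 2, 0, 1, 5, 1, 1, 3, 1],
  [0, 4, 5, 3, 5, 4, 3, 4, 2, 0, 5, 3, 2, 3, 2, 0, 5, 3, 4, 4, 4, 4, 3, 4, 2, 0, 2, 3, 2, 0, 5, 0, 0, 2, 0, 5, 4, 0, 2, 0, 2, 3, 2, 1, 3, 1, 3, 3, 5, 3, 4, 1, 0, 2, 0, 2, 3, 2, 1, 5, 0, 1, 1, 5, 0, 5, 3, 2, 0, 1, 5, 3],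
  [1, 3, 5, 3, 1, 3, 5, 0, 5, 3, 5, 3, 5, 1, 1, 2, 3, 1, 1, 5, 0, 2, 0, 0, 3, 2, 3, 5, 1, 0, 5, 0, 4, 0, 5, 0, 1, 5, 3, 3, 4, 4, 0, 5, 3, 4, 3, 5, 3, 5, 0, 4, 0, 4, 4, 2, 0, 5, 0, 4, 5, 3, 5, 3, 5, 0, 5, 3, 2, 0, 1, 0, 5, 3],
  [4, 0, 5, 3, 3, 4, 0, 5, 4, 0, 2, 1, 3, 4, 4, 0, 2, 4, 0, 2, 3, 4, 3, 5, 1, 3, 1, 5, 3, 1, 3, 5, 3, 1, 3, 5, 3, 1, 3, 4, 4, 3, 5, 0, 4, 0, 2, 1, 0, 0, 1, 0, 1, 0, 2, 3, 2, 1, 3, 3, 3, 5],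
  [0, 5, 0, 1, 0, 0, 1, 1, 5, 0, 5, 3, 1, 3, 1, 1, 0, 2, 3, 5, 3, 1, 1, 2, 0, 1, 1, 3, 3, 5, 0, 5, 3, 3, 4, 5, 0, 2, 3, 5, 1, 0, 1, 0, 2, 0, 2, 3, 2, 1, 1, 0, 0, 2, 3, 2, 3, 4, 5, 0]]

theorem levelH4 : levelOK 552 6 gtab [0, 1, 2, 3] 4 orbH4 wordsH4 = true := by decide +kernel

theorem nodupH4 : orbH4.Nodup := by decide +kernel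

theorem stepH4 : 64 * Nat.card (stabL Hgen [0, 1, 2, 3, 4]) ≤ Nat.card (stabL Hgen [0, 1, 2, 3]) := by
  have h := card_stabL_ge Hgen [0, 1, 2, 3] (b := 4) (by norm_num) orbH4 nodupH4
    (level_spec gens_tab (fun k hk => gens_mem_H hk) (by decide) (by norm_num) levelH4)
  have e : orbH4.length = 64 := by decide
  rw [e] at h
  exact h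

def orbH5 : List ℕ := [5, 14, 17]

def wordsH5 : List (List ℕ) := [[],
  [1, 0, 2, 0, 2, 1, 0, 1, 5, 5, 3, 4, 3, 4, 0, 5, 1, 0, 2, 0, 5, 1, 3, 1, 5, 0, 0, 0, 2, 3, 2, 3, 1, 2, 0, 2, 0, 2, 3, 2, 0, 1, 0, 1, 5, 1, 0, 0, 2, 3, 5, 3, 3, 3, 3, 5, 4, 0, 5, 3, 4, 5, 0, 1, 0, 2, 3, 5, 1, 3, 1, 1, 5, 3, 4, 4, 2, 4, 3, 2, 4, 0, 2, 0, 4, 4, 5, 0, 5, 0, 1, 2, 3, 3, 3, 4, 3, 2, 0, 5, 3, 1, 3, 3, 5, 4, 3, 1, 1, 3, 2, 0, 4, 3, 5, 0, 1, 5, 3, 5, 0, 5, 3, 1, 3, 5, 3, 0, 4, 0, 2, 3, 1, 3, 3, 2, 4, 0, 1, 3, 2, 3, 5, 3, 5, 3, 3, 2, 4, 0],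
  [0, 2, 3, 4, 3, 5, 0, 2, 3, 2, 0, 2, 0, 2, 1, 3, 2, 3, 5, 1, 1, 3, 1, 3, 2, 0, 2, 0, 1, 0, 2, 3, 1, 1, 0, 0, 2, 4, 3, 2, 3, 1, 3, 2, 3, 4, 2, 0, 5, 0, 3, 3, 5, 3, 2, 4, 4, 0, 5, 4, 4, 2, 0, 2, 0, 2, 3, 2, 0, 4, 0, 2, 0, 4, 1, 3, 5, 3, 1, 3, 5, 0, 5, 3, 5, 3, 5, 1, 1, 2, 3, 1, 1, 5, 0, 2, 0, 0, 3, 2, 3, 5, 1, 0, 5, 0, 4, 0, 5, 0, 1, 2, 3, 3, 3, 3, 4, 2, 3, 5, 0, 4, 0, 5, 3, 4, 3, 4, 3, 4, 3, 2, 4, 4, 3, 5, 4, 0, 2, 3, 5, 1, 1, 1, 3, 1, 2, 0, 2, 0, 0, 4, 0]]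

theorem levelH5 : levelOK 552 6 gtab [0, 1, 2, 3, 4] 5 orbH5 wordsH5 = true := by decide +kernel

theorem nodupH5 : orbH5.Nodup := by decide +kernel

theorem stepH5 : 3 * Nat.card (stabL Hgen [0, 1, 2, 3, 4, 5]) ≤ Nat.card (stabL Hgen [0, 1, 2, 3, 4]) := by
  have h := card_stabL_ge Hgen [0, 1, 2, 3, 4] (b := 5) (by norm_num) orbH5 nodupH5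
    (level_spec gens_tab (fun k hk => gens_mem_H hk) (by decide) (by norm_num) levelH5)
  have e : orbH5.length = 3 := by decide
  rw [e] at h
  exact h

theorem card_Hgen_ge : 495766656000 ≤ Nat.card Hgen := by
  have h0 := stepH0
  have h1 := stepH1
  have h2 := stepH2
  have h3 := stepH3
  have h4 := stepH4
  have h5 := stepH5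
  have hp : 1 ≤ Nat.card (stabL Hgen [0, 1, 2, 3, 4, 5]) := Nat.card_pos
  rw [stabL_nil] at h0
  omega


end Cfsg.Agent.Lib.Helper35.C3
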