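import Mathlib
import Cfsg.Agent.Lib.Helper35.Co3GenH
import Cfsg.Agent.Lib.Helper35.Co3GenA

/-! The two lower bounds together. -/

set_option autoImplicit false
set_option maxRecDepth 100000
set_option maxHeartbeats 4000000

namespace Cfsg.Agent.Lib.Helper35.C3

open Cfsg.Agent.Lib.Helper35.StSearch Cfsg.Agent.Lib.Helper35.GraphTab


end Cfsg.Agent.Lib.Helper35.C3
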