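import Mathlib
import Cfsg.Prelude.Def_KGroupFacts
import Cfsg.Agent.Lib.Helper35.Co3Cent
import Cfsg.Agent.Lib.Helper35.Co3Gen
import Cfsg.Agent.Lib.Helper35.Co3Bridge
import Cfsg.Agent.Lib.Helper10.AutNorm

/-! The outer automorphism group of the third Conway group is trivial. -/

set_option autoImplicit false
set_option maxRecDepth 100000
set_option maxHeartbeats 4000000

namespace Cfsg.Agent.Lib.Helper35.C3

open Cfsg
open Cfsg.Agent.Lib.Helper35.StSearch Cfsg.Agent.Lib.Helper35.GraphTab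

/-! ### Orders -/

theorem Hgen_le_A : Hgen ≤ A := by
  unfold Hgen
  rw [Subgroup.closure_le]
  intro x hx
  simp only [Set.mem_insert_iff, Set.mem_singleton_iff] at hx
  rcases hx with rfl | rfl | rfl
  exacts [aE_mem, mE_mem, tE_mem]

theorem Agen_le_A : Agen ≤ A := by
  unfold Agen
  rw [Subgroup.closure_le]
  intro x hx
  simp only [Set.mem_insert_iff, Set.mem_singleton_iff] at hx
  rcases hx with rfl | rfl | rfl | rfl
  exacts [aE_mem, mE_mem, tE_mem, cE_mem]

theorem card_A : Nat.card A = 991533312000 := by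
  apply le_antisymm card_A_le
  exact card_Agen_ge.trans (Subgroup.card_le_of_le Agen_le_A)

/-- The image of the stabiliser inside the group `A`. -/
noncomputable def KM : Subgroup ↥A := Mimg.subgroupOf A

theorem card_KM : Nat.card KM = 495766656000 := by
  rw [← card_Mimg]
  exact Nat.card_congr (Subgroup.subgroupOfEquivOfLe Mimg_le).toEquiv

theorem index_KM : KM.index = 2 := by
  have h := KM.card_mul_index
  rw [card_KM] at h
  have h2 : Nat.card ↥A = 991533312000 := card_A
  rw [h2] at h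
  omega

theorem odd_mem {x : Equiv.Perm (Fin 552)} (hx : x ∈ A) (k : ℕ) (h : x ^ (2 * k + 1) = 1) :
    x ∈ Mimg := by
  have h1 : ((⟨x, hx⟩ : ↥A) ^ (k + 1)) ^ 2 ∈ KM := Subgroup.sq_mem_of_index_two index_KM _
  have h2 : ((⟨x, hx⟩ : ↥A) ^ (k + 1)) ^ 2 = ⟨x, hx⟩ := by
    apply Subtype.ext
    show (x ^ (k + 1)) ^ 2 = x
    rw [← pow_mul, show (k + 1) * 2 = (2 * k + 1) + 1 by ring, pow_succ, h, one_mul]
  rw [h2] at h1
  exact Subgroup.mem_subgroupOf.mp h1

theorem tE_mem_Mimg : tE ∈ Mimg := by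
  have hu : tE * aE * mE ∈ Mimg :=
    odd_mem (A.mul_mem (A.mul_mem tE_mem aE_mem) mE_mem) 7 rel_u
  have ha : aE ∈ Mimg := odd_mem aE_mem 11 aE_pow
  have hm : mE ∈ Mimg := odd_mem mE_mem 5 mE_pow
  have : tE = (tE * aE * mE) * mE⁻¹ * aE⁻¹ := by group
  rw [this]
  exact Mimg.mul_mem (Mimg.mul_mem hu (Mimg.inv_mem hm)) (Mimg.inv_mem ha)

theorem Hgen_le_Mimg : Hgen ≤ Mimg := by
  unfold Hgen
  rw [Subgroup.closure_le]
  intro x hx
  simp only [Set.mem_insert_iff, Set.mem_singleton_iff] at hx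
  rcases hx with rfl | rfl | rfl
  · exact odd_mem aE_mem 11 aE_pow
  · exact odd_mem mE_mem 5 mE_pow
  · exact tE_mem_Mimg

theorem Hgen_eq_Mimg : Hgen = Mimg := by
  apply Subgroup.eq_of_le_of_card_ge Hgen_le_Mimg
  rw [card_Mimg]
  exact card_Hgen_ge

theorem card_Hgen : Nat.card Hgen = 495766656000 := by
  rw [Hgen_eq_Mimg, card_Mimg]

theorem cE_notMem : cE ∉ Hgen := by
  intro h
  have h1 : Agen ≤ Hgen := by
    unfold Agen
    rw [Subgroup.closure_le]
    intro x hx
    simp only [Set.mem_insert_iff, Set.mem_singleton_iff] at hx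
    rcases hx with rfl | rfl | rfl | rfl
    · exact Subgroup.subset_closure (by simp)
    · exact Subgroup.subset_closure (by simp)
    · exact Subgroup.subset_closure (by simp)
    · exact h
  have h2 := Subgroup.card_le_of_le h1
  have h3 := card_Agen_ge
  rw [card_Hgen] at h2
  omega

/-! ### The generators as elements of the subgroup -/

def a' : Hgen := ⟨aE, Subgroup.subset_closure (by simp)⟩
def m' : Hgen := ⟨mE, Subgroup.subset_closure (by simp)⟩
def t' : Hgen := ⟨tE, Subgroup.subset_closure (by simp)⟩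

/-- The centraliser of `aE` meets the subgroup in the powers of `aE`. -/
theorem cent_a' (x : Hgen) (h : x * a' = a' * x) : x ∈ Subgroup.zpowers a' := by
  have h1 : x.1 * aE = aE * x.1 := congrArg Subtype.val h
  obtain ⟨i, -, e, he, hx⟩ := cent_a x.1 (Hgen_le_A x.2) h1
  interval_cases e
  · rw [pow_zero, mul_one] at hx
    refine ⟨(i : ℤ), ?_⟩
    apply Subtype.ext
    rw [hx]
    simp [a']
  · exfalso
    apply cE_notMem
    have : cE = (aE ^ i)⁻¹ * x.1 := by rw [hx, pow_one]; group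
    rw [this]
    exact Hgen.mul_mem (Hgen.inv_mem (Hgen.pow_mem a'.2 i)) x.2

/-- The square of `mE ^ i * tE ^ j` fixes the vertex 0. -/
def sqOK (i j : ℕ) : Bool :=
  weval gtab (List.replicate i 1 ++ List.replicate j 2 ++ (List.replicate i 1 ++ List.replicate j 2))
    0 == 0

theorem sq_check : ∀ i < 11, ∀ j < 2, sqOK i j = true → i = 0 := by decide +kernel

/-- The image of the third generator under an automorphism fixing the second. -/
theorem image_t (θ : Hgen ≃* Hgen) (hm : θ m' = m') : θ t' = t' := by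
  have hcomm : (θ t').1 * mE = mE * (θ t').1 := by
    have h1 : θ (t' * m') = θ (m' * t') := by
      rw [show t' * m' = m' * t' from Subtype.ext rel_mt.symm]
    rw [map_mul, map_mul, hm] at h1
    exact congrArg Subtype.val h1
  obtain ⟨i, hi, j, hj, e, he, hx⟩ := cent_m _ (Hgen_le_A (θ t').2) hcomm
  have he0 : e = 0 := by
    interval_cases e
    · rfl
    · exfalso
      apply cE_notMem
      have : cE = (mE ^ i * tE ^ j)⁻¹ * (θ t').1 := by rw [hx, pow_one]; group
      rw [this]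
      exact Hgen.mul_mem
        (Hgen.inv_mem (Hgen.mul_mem (Hgen.pow_mem m'.2 i) (Hgen.pow_mem t'.2 j))) (θ t').2
  subst he0
  rw [pow_zero, mul_one] at hx
  -- the square is trivial
  have hsq : (mE ^ i * tE ^ j) * (mE ^ i * tE ^ j) = 1 := by
    have h1 : θ (t' * t') = 1 := by
      rw [show t' * t' = 1 from Subtype.ext tE_sq, map_one]
    rw [map_mul] at h1
    have := congrArg Subtype.val h1
    rw [← hx]
    exact this
  have hs : sqOK i j = true := by
    unfold sqOK
    rw [beq_iff_eq, ← (ap_wprod gens_tab _ (show 0 < 552 by norm_num)).1, wprod_append,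
      wprod_append, wprod_replicate, wprod_replicate]
    show ap ((mE ^ i * tE ^ j) * (mE ^ i * tE ^ j)) 0 = 0
    rw [hsq, ap_one]
  have hi0 := sq_check i hi j hj hs
  subst hi0
  rw [pow_zero, one_mul] at hx
  interval_cases j
  · exfalso
    rw [pow_zero] at hx
    have h1 : θ t' = 1 := Subtype.ext hx
    have h2 : t' = 1 := by
      have := θ.injective (h1.trans (map_one θ).symm)
      exact this
    exact tE_ne_one (congrArg Subtype.val h2)
  · rw [pow_one] at hx
    exact Subtype.ext hx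

/-- The word of the order test. -/
def wNeg : List ℕ := (List.replicate 15 [3, 1, 2]).flatten

theorem neg_check : (weval gtab wNeg 0 == 0) = false := by decide +kernel

theorem rel_w' : (a' * m' * t') ^ 15 = 1 := Subtype.ext rel_w

/-- An automorphism fixing the three generators is the identity. -/
theorem fix_gens (θ : Hgen ≃* Hgen) (ha : θ a' = a') (hm : θ m' = m') (ht : θ t' = t') :
    ∀ x, θ x = x := by
  have key : ∀ y ∈ Hgen, ∀ hy : y ∈ Hgen, θ ⟨y, hy⟩ = ⟨y, hy⟩ := by
    intro y hy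
    unfold Hgen at hy
    induction hy using Subgroup.closure_induction with
    | mem y hy' =>
      intro hy
      simp only [Set.mem_insert_iff, Set.mem_singleton_iff] at hy'
      rcases hy' with rfl | rfl | rfl
      exacts [ha, hm, ht]
    | one => intro _; exact map_one θ
    | mul y w hy' hw' ihy ihw =>
      intro hyw
      have hy : y ∈ Hgen := hy'
      have hw : w ∈ Hgen := hw'
      have : (⟨y * w, hyw⟩ : Hgen) = ⟨y, hy⟩ * ⟨w, hw⟩ := rfl
      rw [this, map_mul, ihy hy, ihw hw]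
    | inv y hy' ihy =>
      intro hyi
      have hy : y ∈ Hgen := hy'
      have : (⟨y⁻¹, hyi⟩ : Hgen) = (⟨y, hy⟩ : Hgen)⁻¹ := rfl
      rw [this, map_inv, ihy hy]
  intro x
  exact key x.1 x.2 x.2

theorem zmod_gen : ∀ t : ZMod 23, t ≠ 0 →
    ∃ s : ℕ, t * ((2 : ℕ) : ZMod 23) ^ s = 1 ∨ t * ((2 : ℕ) : ZMod 23) ^ s = -1 := by
  have h : ∀ t : ZMod 23, t ≠ 0 →
      ∃ s < 11, t * ((2 : ℕ) : ZMod 23) ^ s = 1 ∨ t * ((2 : ℕ) : ZMod 23) ^ s = -1 := by decide
  intro t ht
  obtain ⟨s, -, hs⟩ := h t ht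
  exact ⟨s, hs⟩

theorem zmod_q : ((1 : ℕ) : ZMod 23) * (((2 : ℕ) : ZMod 23) - 1) = 1 := by decide

/-- Every automorphism of the subgroup is inner. -/
theorem all_aut (φ : Hgen ≃* Hgen) : ∃ k : Hgen, ∀ x, φ x = k * x * k⁻¹ := by
  have : Fact (Nat.Prime 23) := ⟨by norm_num⟩
  have ha : orderOf a' = 23 := by
    apply orderOf_eq_prime
    · exact Subtype.ext aE_pow
    · intro h
      exact aE_ne_one (congrArg Subtype.val h)
  have hm : m' * a' * m'⁻¹ = a' ^ 2 := Subtype.ext rel_ma
  obtain ⟨ψ, ⟨k0, hk0⟩, hψa, hψm⟩ :=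
    Cfsg.Agent.Lib.Helper10.aut_normalize_r a' m' 23 21555072000 2 1 (by rw [card_Hgen])
      (by norm_num) ha hm zmod_gen zmod_q cent_a' φ
  have hφ : ∀ x, φ x = k0⁻¹ * ψ x * k0⁻¹⁻¹ := by
    intro x
    rw [hk0 x]
    group
  have hψt := image_t ψ hψm
  rcases hψa with hψa | hψa
  · refine ⟨k0⁻¹, fun x => ?_⟩
    rw [hφ x, fix_gens ψ hψa hψm hψt x]
  · exfalso
    have h1 : ψ ((a' * m' * t') ^ 15) = 1 := by rw [rel_w', map_one]
    rw [map_pow, map_mul, map_mul, hψa, hψm, hψt] at h1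
    have h2 : (aE⁻¹ * mE * tE) ^ 15 = 1 := by
      have h1' := congrArg Subtype.val h1
      rw [Subgroup.coe_pow, Subgroup.coe_mul, Subgroup.coe_mul, Subgroup.coe_inv,
        Subgroup.coe_one] at h1'
      exact h1'
    have h3 : wprod gens wNeg = (aE⁻¹ * mE * tE) ^ 15 := by
      unfold wNeg
      rw [wprod_flatten_replicate]
      congr 1
    have h4 : weval gtab wNeg 0 = 0 := by
      rw [← (ap_wprod gens_tab wNeg (show 0 < 552 by norm_num)).1, h3, h2, ap_one]
    have h5 := neg_check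
    rw [h4] at h5
    simp at h5

theorem card_out_Hgen : Nat.card (Cfsg.Out ↥Hgen) = 1 :=
  Cfsg.Agent.Lib.Helper10.card_out_eq_one all_aut

/-- Outer automorphism groups of isomorphic groups have the same order. -/
theorem card_out_congr_c3 {G G' : Type*} [Group G] [Group G'] (e : G ≃* G') :
    Nat.card (Cfsg.Out G) = Nat.card (Cfsg.Out G') := by
  have h : (Cfsg.Inn G).map (MulAut.congr e).toMonoidHom = Cfsg.Inn G' := by
    ext β
    constructor
    · rintro ⟨_, ⟨g, rfl⟩, rfl⟩
      refine ⟨e g, ?_⟩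
      apply MulEquiv.ext
      intro x
      simp [MulAut.congr]
    · rintro ⟨g', rfl⟩
      refine ⟨MulAut.conj (e.symm g'), ⟨_, rfl⟩, ?_⟩
      apply MulEquiv.ext
      intro x
      simp [MulAut.congr]
  exact Nat.card_congr (QuotientGroup.congr _ _ (MulAut.congr e) h).toEquiv

theorem card_out_Co3 : Nat.card (Cfsg.Out ↥Cfsg.Spor.Co3) = 1 := by
  obtain ⟨e⟩ := Co3_iso_Mimg
  rw [card_out_congr_c3 (e.trans (MulEquiv.subgroupCongr Hgen_eq_Mimg.symm))]
  exact card_out_Hgen

end Cfsg.Agent.Lib.Helper35.C3
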