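import Cfsg.Agent.Lib.Helper35.Families

/-!
A kernel-friendly merge sort on lists of natural numbers (to check that a list has no
duplicates), and a counting principle: a duplicate-free list of `N` codes of elements of a set
with `N` elements contains the code of every element.
-/

set_option autoImplicit false

namespace Cfsg.Agent.Lib.Helper35

open scoped List

/-- Merge with fuel. -/
def mergeF : ℕ → List ℕ → List ℕ → List ℕ
  | 0, a, b => a ++ b
  | _ + 1, [], b => b
  | _ + 1, a, [] => a
  | f + 1, x :: a, y :: b =>
    if x ≤ y then x :: mergeF f a (y :: b) else y :: mergeF f (x :: a) b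

theorem mergeF_perm : ∀ (f : ℕ) (a b : List ℕ), mergeF f a b ~ a ++ b
  | 0, a, b => List.Perm.refl _
  | _ + 1, [], b => by simp [mergeF]
  | _ + 1, x :: a, [] => by simp [mergeF]
  | f + 1, x :: a, y :: b => by
    unfold mergeF
    split_ifs
    · exact (mergeF_perm f a (y :: b)).cons x
    · have h := (mergeF_perm f (x :: a) b).cons y
      refine h.trans ?_
      exact (List.perm_middle (a := y) (l₁ := x :: a) (l₂ := b)).symm

/-- Merge adjacent lists. -/
def mergePairs (f : ℕ) : List (List ℕ) → List (List ℕ)
  | a :: b :: rest => mergeF f a b :: mergePairs f rest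
  | [a] => [a]
  | [] => []

theorem mergePairs_perm (f : ℕ) : ∀ ls : List (List ℕ), (mergePairs f ls).flatten ~ ls.flatten
  | a :: b :: rest => by
    simp only [mergePairs, List.flatten_cons]
    rw [← List.append_assoc]
    exact (mergeF_perm f a b).append (mergePairs_perm f rest)
  | [a] => List.Perm.refl _
  | [] => List.Perm.refl _

/-- Repeatedly merge adjacent lists. -/
def mergeAll (f : ℕ) : ℕ → List (List ℕ) → List ℕ
  | 0, ls => ls.flatten
  | k + 1, ls => mergeAll f k (mergePairs f ls)

theorem mergeAll_perm (f : ℕ) : ∀ (k : ℕ) (ls : List (List ℕ)), mergeAll f k ls ~ ls.flatten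
  | 0, ls => List.Perm.refl _
  | k + 1, ls => (mergeAll_perm f k _).trans (mergePairs_perm f ls)

/-- Merge sort. -/
def msort (l : List ℕ) : List ℕ := mergeAll l.length 40 (l.map (fun x => [x]))

theorem msort_perm (l : List ℕ) : msort l ~ l := by
  unfold msort
  refine (mergeAll_perm _ _ _).trans ?_
  have : (l.map (fun x => [x])).flatten = l := by
    induction l with
    | nil => rfl
    | cons a l ih => simp [ih]
  rw [this]

/-- A list whose merge sort is strictly increasing has no duplicates. -/
theorem nodup_of_incr_msort {l : List ℕ} (h : incr (msort l) = true) : l.Nodup := by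
  have h1 : (msort l).Nodup := (pairwise_of_incr _ h).imp (fun hab => ne_of_lt hab)
  exact (msort_perm l).nodup_iff.mp h1

/-- Counting principle. -/
theorem mem_list_of_count {X : Type*} [Inhabited X] (Ω : Set X) (hfin : Ω.Finite) (enc : X → ℕ)
    (l : List ℕ) (hl : ∀ c ∈ l, ∃ x ∈ Ω, enc x = c) (hnd : l.Nodup)
    (hlen : Ω.ncard = l.length) : ∀ x ∈ Ω, enc x ∈ l := by
  classical
  let A : Set X := {x | x ∈ Ω ∧ enc x ∈ l}
  let f : ℕ → X := fun c => if h : c ∈ l then Classical.choose (hl c h) else default
  have hf : ∀ c (h : c ∈ l), f c ∈ Ω ∧ enc (f c) = c := by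
    intro c h
    simp only [f, dif_pos h]
    exact Classical.choose_spec (hl c h)
  have hAsub : A ⊆ Ω := fun x hx => hx.1
  have hAfin : A.Finite := hfin.subset hAsub
  have h1 : ((l.toFinset : Finset ℕ) : Set ℕ).ncard ≤ A.ncard := by
    apply Set.ncard_le_ncard_of_injOn f _ _ hAfin
    · intro c hc
      rw [Finset.mem_coe, List.mem_toFinset] at hc
      obtain ⟨h1, h2⟩ := hf c hc
      exact ⟨h1, by rw [h2]; exact hc⟩
    · intro c hc d hd hcd
      rw [Finset.mem_coe, List.mem_toFinset] at hc hd
      rw [← (hf c hc).2, ← (hf d hd).2, hcd]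
  rw [Set.ncard_coe_finset, List.toFinset_card_of_nodup hnd, ← hlen] at h1
  have hAeq : A = Ω := Set.eq_of_subset_of_ncard_le hAsub h1 hfin
  intro x hx
  have : x ∈ A := by rw [hAeq]; exact hx
  exact this.2

end Cfsg.Agent.Lib.Helper35
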