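import Cfsg.Agent.Lib.Helper35.TriadStab

/-!
Duads (2-element sets of points): `M24` is transitive on them, the stabiliser of a duad is
transitive on the duads meeting it in a given number of points, and the corresponding graphs are
connected.
-/

set_option autoImplicit false
set_option maxHeartbeats 4000000

namespace Cfsg.Agent.Lib.Helper35

open Cfsg
open Cfsg.Agent.Lib.Helper10 (idx pt idx_pt idx_injective enc enc_mod enc_lt genMask)
open scoped Pointwise

/-- Mask of the base duad. -/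
def u0m : ℕ := 3

/-- The base duad. -/
def u0 : Finset GolayPt := setOfMask u0m

theorem gmask_u0 : gmask u0 = u0m := gmask_setOfMask (by decide)

theorem u0_card : u0.card = 2 := by
  rw [card_eq_popc_gmask, gmask_u0]
  decide

/-- Orbit certificate for the duads under the generators of `M24`. -/
def duCert : List (ℕ × ℕ) := [(0, 6), (0, 12), (0, 24), (0, 48), (0, 96), (1, 5120), (4, 0), (2, 524800), (4, 0), (3, 2097154), (4, 0), (4, 0), (1, 1280), (4, 0), (2, 131584), (3, 6144), (4, 0), (4, 0), (3, 2097156), (0, 4194312), (4, 0), (3, 1048640), (4, 0), (4, 0), (4, 0), (1, 320), (0, 640), (1, 278528), (4, 0), (3, 4128), (4, 0), (4, 0), (2, 1572864), (3, 4195328), (4, 0), (4, 0), (3, 65538), (1, 516), (4, 0), (3, 270336), (4, 0), (4, 0), (4, 0), (2, 163840), (0, 327680), (4, 0), (1, 2176), (3, 524320), (4, 0), (4, 0), (4, 0), (4, 0), (1, 80), (0, 160), (1, 17408), (4, 0), (2, 8704), (4, 0), (3, 2097184), (1, 525312), (4, 0), (4, 0), (4, 0), (1, 4352), (2, 3145728), (4, 0), (4,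 0), (2, 655360), (0, 1310720), (4, 0), (4, 0), (4, 0), (2, 34816), (0, 69632), (0, 139264), (4, 0), (2, 2098176), (3, 1048704), (4, 0), (4, 0), (3, 8448), (4, 0), (4, 0), (1, 4194432), (1, 2113536), (4, 0), (3, 16416), (1, 1056), (4, 0), (4, 0), (4, 0), (3, 557056), (0, 1114112), (4, 0), (1, 32896), (4, 0), (4, 0), (4, 0), (3, 72), (0, 144), (0, 288), (4, 0), (1, 16640), (1, 65568), (4, 0), (4, 0), (4, 0), (1, 4160), (0, 8320), (1, 16392), (4, 0), (4, 0), (3, 258), (4, 0), (4, 0), (4, 0), (4, 0), (1, 20), (0, 40), (1, 1088), (1, 1052672), (2, 2097408), (4, 0), (4, 0), (2, 589824), (4, 0), (4, 0), (2, 33280), (0, 66560), (4, 0), (1, 262272), (0, 524544), (4, 0), (4, 0), (3, 36864), (4, 0), (4, 0), (3, 2097160), (0, 4194320), (4, 0), (1, 524352), (4, 0), (3, 1048584), (3, 1032), (4, 0), (4, 0), (4, 0), (4, 0), (1, 272), (0, 544), (1, 263168), (1, 1056768), (4, 0), (2, 81920), (4, 0), (4, 0), (4, 0), (1, 65792), (1, 66048), (4, 0), (2, 1049600), (4, 0), (3, 73728), (0, 147456),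 (4, 0), (4, 0), (4, 0), (2, 1179648), (3, 3072), (4, 0), (4, 0), (3, 65540), (0, 131080), (0, 262160), (4, 0), (1, 2112), (4, 0), (2, 32784), (4, 0), (4, 0), (1, 528), (4, 0), (4, 0), (4, 0), (2, 133120), (0, 266240), (0, 532480), (4, 0), (4, 0), (3, 526336), (3, 4718592), (4, 0), (4, 0), (4, 0), (3, 68), (0, 136), (1, 16448), (4, 0), (2, 40960), (4, 0), (4, 0), (1, 4112), (0, 8224), (4, 0), (2, 2228224), (4, 0), (4, 0), (3, 66), (0, 132), (4, 0), (1, 4100), (4, 0), (3, 262146), (0, 524292), (4, 0), (4, 0), (4, 0), (4, 0), (4, 0), (2, 4196352), (0, 4097), (0, 8194), (3, 262656), (4, 0), (4, 0), (4, 0), (1, 6291456), (0, 4194305), (3, 16385), (3, 131073), (4, 0), (4, 0), (4, 0), (1, 2621440), (0, 5242880), (4, 0), (4, 0), (2, 4098), (0, 8196), (4, 0), (3, 262400), (4, 0), (4, 0), (3, 1064960), (0, 2129920), (4, 0), (1, 131104), (4, 0), (3, 132096), (4, 0), (4, 0), (4, 0), (3, 540672), (0, 1081344), (0, 2162688), (4, 0), (1, 131200), (3, 2080), (4, 0), (4, 0), (2, 264), (4, 0),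 (3, 33792), (4, 0), (4, 0), (1, 32800), (0, 65600), (4, 0), (1, 1152), (4, 0), (2, 520), (4, 0), (4, 0), (3, 4325376), (1, 2099200), (0, 4198400), (4, 0), (4, 0), (3, 18432), (4, 0), (4, 0), (4, 0), (4, 0), (3, 262208), (0, 524416), (0, 1048832), (0, 2097664), (4, 0), (1, 196608), (4, 0), (4, 0), (1, 49152), (0, 98304), (4, 0), (4, 0), (2, 8256), (0, 16512), (4, 0), (1, 4104), (4, 0), (4, 0), (3, 4194336), (4, 0), (4, 0), (1, 12288), (0, 24576), (4, 0), (2, 2097280), (0, 4194560), (4, 0), (3, 1048608), (4, 0), (4, 0), (3, 768), (0, 1536), (4, 0), (4, 0), (4, 0), (3, 18), (0, 36), (1, 1040), (4, 0), (2, 2560), (3, 528384), (4, 0), (4, 0), (3, 2097216), (4, 0), (4, 0), (1, 260), (1, 65552), (4, 0), (2, 1050624), (4, 0), (4, 0), (3, 262148), (0, 524296), (4, 0), (1, 8208), (4, 0), (4, 0), (4, 0), (4, 0), (4, 0), (1, 5), (0, 10), (2, 4227072), (0, 65537), (0, 131074), (4, 0), (4, 0), (4, 0), (3, 262152), (0, 524304), (1, 33024), (4, 0), (2, 131136), (3, 2050), (4, 0), (4, 0), (3,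 4194308), (4, 0), (4, 0), (4, 0), (4, 0), (1, 17), (0, 34), (1, 1028), (1, 1048592), (1, 131328), (4, 0), (4, 0), (2, 67584), (0, 135168), (4, 0), (4, 0), (3, 192), (0, 384), (4, 0), (4, 0), (4, 0), (2, 4194816), (0, 1025), (4, 0), (3, 20480), (4, 0), (4, 0), (3, 2359296), (4, 0), (4, 0), (1, 257), (0, 514), (4, 0), (4, 0), (2, 8519680), (0, 8650752), (3, 8388624), (4, 0), (4, 0), (4, 0), (4, 0), (2, 8390656), (0, 8392704), (0, 8396800), (1, 8388616), (4, 0), (3, 8389120), (4, 0), (4, 0), (2, 2097153), (0, 4194306), (4, 0), (3, 1048577), (4, 0), (4, 0), (3, 8388864), (4, 0), (4, 0), (3, 8912896), (4, 0), (4, 0), (3, 65), (0, 130), (1, 16388), (0, 32776), (4, 0), (2, 264192), (4, 0), (4, 0), (2, 4202496), (3, 16896), (4, 0), (4, 0), (3, 262176), (1, 9216), (4, 0), (3, 2097168), (4, 0), (4, 0), (4, 0), (4, 0), (4, 0), (2, 12582912), (0, 8388609), (0, 8388610), (0, 8388612), (2, 2049), (4, 0), (4, 0), (4, 0), (4, 0), (1, 10485760), (3, 9437184), (3, 8389632), (4, 0), (4, 0), (4,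 0), (3, 8404992), (0, 8421376), (0, 8454144), (4, 0), (4, 0), (1, 8388640), (0, 8388672), (4, 0), (4, 0), (4, 0), (4, 0), (3, 262145), (0, 524290), (0, 1048580), (1, 131088), (3, 2052), (4, 0), (4, 0), (2, 2304), (0, 4608), (4, 0), (1, 4259840), (4, 0), (4, 0), (4, 0), (1, 32772), (0, 65544), (1, 576), (4, 0), (3, 8200), (4, 0), (4, 0), (2, 2056), (4, 0), (3, 32832), (0, 65664), (4, 0), (1, 4224), (4, 0), (3, 32770), (3, 294912), (4, 0), (4, 0), (4, 0), (4, 0), (2, 4194368), (0, 129), (3, 33), (4, 0), (4, 0), (1, 2101248), (4, 0), (4, 0), (3, 4456448), (0, 524289), (0, 1048578), (4, 0), (1, 32769), (4, 0), (4, 0), (1, 2105344), (0, 4210688), (4, 0), (3, 1049088), (4, 0), (4, 0), (3, 16400), (3, 131076), (4, 0), (4, 0), (4, 0), (4, 0), (1, 8193), (0, 16386), (3, 393216), (0, 786432), (4, 0), (1, 10240), (4, 0), (3, 2064), (4, 0), (4, 0), (4, 0), (1, 9), (4, 0), (2, 8388736), (4, 0), (3, 513), (0, 1026), (4, 0), (4, 0), (4, 0), (4, 0)]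
/-- Bitmap of the keys of the duads. -/
def duBM : ℕ := 7371021020000194153606756114687546831301234535631160247945347538426759839729242702028468956090611717079082944613998480347159731787152822295080521619746275568727883774
theorem duCert_ok : checkDFS actsM24 duCert [u0m] = true := by decide +kernel

theorem duBM_ok : keyBitmap (keyK 2) (u0m :: pushed 4 duCert) = duBM := by decide +kernel

theorem duBM_complete : (subs 24 2).all (fun m => duBM.testBit (keyK 2 m)) = true := by
  decide +kernel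

/-- The group generated by the four generators is transitive on duads. -/
theorem exists_smul_u0_eq_K {s : Finset GolayPt} (hs : s.card = 2) : ∃ g ∈ Kgen, g • u0 = s := by
  apply exists_smul_eq_of_cert_key gensK_models u0 duCert _ (keyK 2) (unkeyK 2) 2 u0_card
    (fun s hs => unkey_key2 hs) hs
  · rw [gmask_u0]
    show (keyBitmap (keyK 2) (u0m :: pushed 4 duCert)).testBit _ = true
    rw [duBM_ok]
    exact List.all_eq_true.mp duBM_complete _ (gmask_mem_subs hs)
  · rw [gmask_u0]; exact duCert_ok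

/-- `M24` is transitive on duads. -/
theorem exists_smul_u0_eq {s : Finset GolayPt} (hs : s.card = 2) : ∃ g ∈ M24, g • u0 = s := by
  obtain ⟨g, hg, h⟩ := exists_smul_u0_eq_K hs
  exact ⟨g, Kgen_le hg, h⟩

/-- The stabiliser of the base duad in `M24`. -/
def Hu : Subgroup (Equiv.Perm GolayPt) := M24 ⊓ MulAction.stabilizer (Equiv.Perm GolayPt) u0

theorem Hu_le : Hu ≤ M24 := inf_le_left

/-- Table of a generator of the stabiliser. -/
def us1T : List ℕ := [1, 0, 8, 21, 13, 15, 16, 12, 5, 20, 4, 17, 19, 3, 18, 2, 10, 9, 11, 22, 14, 7, 23, 6]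
/-- Inverse table. -/
def us1T' : List ℕ := [1, 0, 15, 13, 10, 8, 23, 21, 2, 17, 16, 18, 7, 4, 20, 5, 6, 11, 14, 12, 9, 3, 19, 22]
theorem us1_ok : TblOK us1T us1T' := by decide +kernel
/-- A generator of the stabiliser. -/
def us1 : Equiv.Perm GolayPt := tblPerm us1T us1T' us1_ok
theorem us1_mem : us1 ∈ M24 := tblPerm_mem_M24 _ _ _ (by decide +kernel)
theorem us1_models : Models gmask us1 (applyTbl us1T) := tblPerm_models _ _ _
theorem us1_fix : us1 • u0 = u0 := by
  apply gmask_injective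
  rw [us1_models u0, gmask_u0]
  decide +kernel
theorem us1_memH : us1 ∈ Hu := ⟨us1_mem, us1_fix⟩

/-- Table of a generator of the stabiliser. -/
def us2T : List ℕ := [1, 0, 17, 5, 11, 22, 12, 8, 13, 7, 6, 18, 19, 2, 16, 20, 4, 9, 23, 10, 3, 14, 21, 15]
/-- Inverse table. -/
def us2T' : List ℕ := [1, 0, 13, 20, 16, 3, 10, 9, 7, 17, 19, 4, 6, 8, 21, 23, 14, 2, 11, 12, 15, 22, 5, 18]
theorem us2_ok : TblOK us2T us2T' := by decide +kernel
/-- A generator of the stabiliser. -/
def us2 : Equiv.Perm GolayPt := tblPerm us2T us2T' us2_ok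
theorem us2_mem : us2 ∈ M24 := tblPerm_mem_M24 _ _ _ (by decide +kernel)
theorem us2_models : Models gmask us2 (applyTbl us2T) := tblPerm_models _ _ _
theorem us2_fix : us2 • u0 = u0 := by
  apply gmask_injective
  rw [us2_models u0, gmask_u0]
  decide +kernel
theorem us2_memH : us2 ∈ Hu := ⟨us2_mem, us2_fix⟩

/-- The generator actions on masks. -/
def uactsH : List (ℕ → ℕ) := [applyTbl us1T, applyTbl us2T]

/-- The generators. -/
def ugensH : List (Equiv.Perm GolayPt) := [us1, us2]

theorem ugensH_models :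
    List.Forall₂ (fun g act => g ∈ Hu ∧ Models gmask g act) ugensH uactsH :=
  List.Forall₂.cons ⟨us1_memH, us1_models⟩ (List.Forall₂.cons ⟨us2_memH, us2_models⟩ (List.Forall₂.nil))

/-- The class of a pair of masks: the size of the intersection. -/
def uclsG (a b : ℕ) : ℕ := popc 24 (a &&& b)

theorem card_inter_eq_uclsG (T U : Finset GolayPt) : (T ∩ U).card = uclsG (gmask T) (gmask U) :=
  card_inter_eq_popc T U

theorem card_inter_smul_perm (g : Equiv.Perm GolayPt) (T U : Finset GolayPt) :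
    ((g • T) ∩ (g • U)).card = (T ∩ U).card := by
  rw [← Finset.smul_finset_inter, Finset.card_smul_finset]

/-- Mask of the representative of class 1. -/
def ur1m : ℕ := 5
/-- The representative of class 1. -/
def ur1 : Finset GolayPt := setOfMask ur1m
theorem gmask_ur1 : gmask ur1 = ur1m := gmask_setOfMask (by decide)
theorem ur1_card : ur1.card = 2 := by
  rw [card_eq_popc_gmask, gmask_ur1]
  decide
/-- Orbit certificate for class 1. -/
def ucert1 : List (ℕ × ℕ) := [(0, 258), (0, 33), (0, 32770), (1, 1048577), (0, 16386), (0, 262145), (0, 2050), (2, 0), (1, 8388610), (0, 65), (2, 0), (2, 0), (2, 0), (1, 65537), (0, 1026), (2, 0), (1, 18), (2, 0), (2, 0), (2, 0), (2, 0), (2, 0), (1, 4194306), (0, 8388609), (0, 66), (2, 0), (2, 0), (1, 2097153), (2, 0), (2, 0), (2, 0), (1, 8193), (0, 10), (2, 0), (1, 6), (0, 257), (0, 34), (0, 32769), (2, 0), (1, 4194305), (2, 0), (2, 0), (1, 8194), (2, 0), (2, 0), (1, 131073), (0, 514), (1, 129), (0, 4098), (0, 524289), (2, 0), (2, 0), (2,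 0), (2, 0), (2, 0), (2, 0), (2, 0), (2, 0), (1, 131074), (0, 513), (0, 1048578), (0, 16385), (0, 262146), (0, 2049), (2, 0), (2, 0), (1, 65538), (0, 1025), (2, 0), (1, 17), (2, 0), (2, 0), (2, 0), (1, 9), (0, 2097154), (2, 0), (2, 0), (2, 0), (1, 130), (0, 4097), (0, 524290), (2, 0), (2, 0), (2, 0), (2, 0), (2, 0)]
/-- Bitmap of the keys of the duads of class 1. -/
def ubm1 : ℕ := 281474926379004
theorem ucert1_ok : checkDFS uactsH ucert1 [ur1m] = true := by decide +kernel
theorem ubm1_ok : keyBitmap (keyK 2) (ur1m :: pushed 2 ucert1) = ubm1 := by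
  decide +kernel
theorem ureach1 {p : Finset GolayPt} (hp : p.card = 2)
    (hbit : ubm1.testBit (keyK 2 (gmask p)) = true) : ∃ g ∈ Hu, g • ur1 = p := by
  apply exists_smul_eq_of_cert_key ugensH_models ur1 ucert1 _ (keyK 2) (unkeyK 2) 2 ur1_card
    (fun s hs => unkey_key2 hs) hp
  · rw [gmask_ur1]
    show (keyBitmap (keyK 2) (ur1m :: pushed 2 ucert1)).testBit _ = true
    rw [ubm1_ok]
    exact hbit
  · rw [gmask_ur1]; exact ucert1_ok

/-- Mask of the representative of class 0. -/
def ur0m : ℕ := 12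
/-- The representative of class 0. -/
def ur0 : Finset GolayPt := setOfMask ur0m
theorem gmask_ur0 : gmask ur0 = ur0m := gmask_setOfMask (by decide)
theorem ur0_card : ur0.card = 2 := by
  rw [card_eq_popc_gmask, gmask_ur0]
  decide
/-- Orbit certificate for class 0. -/
def ucert0 : List (ℕ × ℕ) := [(0, 2097408), (0, 160), (0, 36864), (0, 524292), (1, 132096), (0, 528), (0, 1056768), (2, 0), (1, 2176), (0, 135168), (0, 524800), (2, 0), (2, 0), (2, 0), (2, 0), (1, 576), (0, 1114112), (0, 17408), (0, 262160), (0, 10240), (2, 0), (2, 0), (2, 0), (2, 0), (2, 0), (2, 0), (2, 0), (1, 1572864), (0, 4210688), (0, 8650752), (0, 2112), (2, 0), (1, 8421376), (2, 0), (2, 0), (1, 2162688), (0, 1152), (0, 4112), (2, 0), (2, 0), (1, 16400), (0, 270336), (0, 2056), (2, 0), (2, 0), (1, 67584), (2, 0), (2, 0), (2, 0), (2, 0), (1, 1032), (0, 2097168), (0, 8320), (0, 4104), (2, 0), (1, 260), (1, 139264), (2, 0), (2, 0), (2, 0), (1, 18432), (0, 393216), (1, 8389120), (0, 1048640), (2, 0), (2, 0),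 (2, 0), (2, 0), (2, 0), (1, 96), (0, 98304), (0, 1028), (0, 272), (2, 0), (1, 131136), (2, 0), (2, 0), (1, 1048592), (2, 0), (2, 0), (1, 4198400), (0, 8912896), (0, 4194368), (2, 0), (1, 33792), (2, 0), (2, 0), (1, 2621440), (2, 0), (2, 0), (2, 0), (2, 0), (2, 0), (2, 0), (1, 4194560), (0, 8388640), (0, 32832), (1, 1052672), (0, 540672), (0, 4456448), (0, 8390656), (2, 0), (2, 0), (1, 66560), (2, 0), (2, 0), (1, 524296), (1, 1056), (2, 0), (2, 0), (2, 0), (2, 0), (1, 4227072), (0, 8388612), (0, 320), (0, 65568), (2, 0), (1, 12288), (2, 0), (2, 0), (1, 163840), (0, 516), (2, 0), (1, 1049088), (2, 0), (2, 0), (2, 0), (1, 3145728), (1, 16392), (2, 0), (2, 0), (2, 0), (2, 0), (1, 2105344), (0, 136), (0, 2101248), (0, 524416), (2, 0), (2, 0), (1, 288), (0, 32800), (0, 32772), (2, 0), (1, 5242880), (1, 2097160), (2, 0), (2, 0), (2, 0), (1, 4202496), (0, 8388616), (2, 0), (2, 0), (2, 0), (2, 0), (1, 16388), (0, 262400), (0, 2080), (2, 0), (1, 8396800), (0, 72), (2, 0), (2, 0), (2, 0),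 (1, 196608), (0, 1536), (1, 192), (2, 0), (2, 0), (2, 0), (2, 0), (2, 0), (2, 0), (2, 0), (1, 24576), (0, 262152), (0, 2099200), (0, 131200), (0, 4608), (2, 0), (1, 768), (2, 0), (2, 0), (1, 278528), (0, 264192), (0, 133120), (0, 131584), (2, 0), (2, 0), (2, 0), (1, 8454144), (0, 1088), (0, 65552), (1, 2064), (2, 0), (2, 0), (1, 4160), (2, 0), (2, 0), (1, 32784), (0, 8196), (2, 0), (1, 1050624), (2, 0), (2, 0), (2, 0), (2, 0), (2, 0), (2, 0), (1, 65540), (0, 1280), (0, 48), (0, 40960), (2, 0), (1, 4196352), (0, 8519680), (2, 0), (1, 2359296), (1, 8404992), (2, 0), (2, 0), (2, 0), (2, 0), (1, 8256), (0, 65544), (0, 2098176), (0, 144), (2, 0), (2, 0), (2, 0), (1, 4100), (1, 655360), (2, 0), (2, 0), (2, 0), (2, 0), (1, 131088), (0, 8704), (0, 1048584), (0, 2113536), (1, 81920), (0, 263168), (2, 0), (2, 0), (2, 0), (1, 40), (2, 0), (2, 0), (1, 132), (0, 4352), (0, 524320), (2, 0), (1, 532480), (2, 0), (2, 0), (1, 131328), (2, 0), (2, 0), (2, 0), (1, 2560), (0, 1179648), (0, 16896),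 (1, 65664), (0, 5120), (2, 0), (2, 0), (2, 0), (1, 520), (2, 0), (2, 0), (1, 262272), (0, 6144), (2, 0), (1, 8388864), (2, 0), (2, 0), (2, 0), (2, 0), (2, 0), (2, 0), (2, 0), (1, 131104), (0, 33280), (0, 1048580), (0, 16640), (0, 262176), (0, 34816), (0, 131076), (2, 0), (1, 1310720), (2, 0), (2, 0), (1, 12582912), (0, 8388672), (0, 65600), (2, 0), (2, 0), (1, 2129920), (1, 1064960), (2, 0), (2, 0), (2, 0), (2, 0), (1, 73728), (1, 20), (0, 8448), (2, 0), (2, 0), (2, 0), (2, 0), (1, 131080), (0, 2097664), (1, 16512), (0, 266240), (0, 526336), (0, 4325376), (2, 0), (2, 0), (2, 0), (1, 65792), (2, 0), (2, 0), (2, 0), (1, 544), (0, 1081344), (2, 0), (1, 4194432), (0, 8392704), (0, 524352), (0, 4259840), (2, 0), (2, 0), (1, 557056), (2, 0), (2, 0), (2, 0), (2, 0), (2, 0), (2, 0), (1, 1048704), (0, 20480), (0, 786432), (1, 8389632), (0, 80), (2, 0), (2, 0), (2, 0), (1, 589824), (0, 4195328), (1, 2097216), (2, 0), (2, 0), (1, 1040), (0, 8208), (0, 8200), (1, 36), (2, 0), (2, 0), (1,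 2052), (2, 0), (2, 0), (2, 0), (2, 0), (2, 0), (1, 264), (0, 2097184), (0, 32896), (1, 1048832), (0, 16416), (0, 294912), (2, 0), (2, 0), (2, 0), (2, 0), (2, 0), (1, 8224), (1, 4194308), (1, 2228224), (0, 640), (2, 0), (2, 0), (2, 0), (2, 0), (2, 0), (2, 0), (2, 0), (1, 4194816), (0, 9437184), (0, 16448), (0, 327680), (0, 3072), (1, 262208), (2, 0), (2, 0), (1, 8388624), (2, 0), (2, 0), (1, 69632), (0, 525312), (0, 4194320), (2, 0), (2, 0), (1, 524304), (2, 0), (2, 0), (2, 0), (1, 32776), (0, 2097156), (0, 384), (0, 4128), (2, 0), (2, 0), (1, 147456), (0, 262656), (1, 8388736), (1, 33024), (2, 0), (2, 0), (2, 0), (1, 66048), (0, 1049600), (2, 0), (2, 0), (2, 0), (2, 0), (1, 1048608), (0, 49152), (0, 262148), (0, 2304), (2, 0), (2, 0), (2, 0), (1, 4194312), (0, 10485760), (2, 0), (2, 0), (2, 0), (2, 0), (2, 0), (1, 2097280), (0, 4224), (0, 528384), (0, 4718592), (2, 0), (2, 0), (1, 524544), (0, 4194336), (1, 6291456), (2, 0), (2, 0), (1, 9216), (0, 24), (2, 0), (1, 68), (2, 0),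 (2, 0), (2, 0), (2, 0), (2, 0), (2, 0), (2, 0)]
/-- Bitmap of the keys of the duads of class 0. -/
def ubm0 : ℕ := 7371021020000194153606756114687546831301234535631160247945347538426759839729242702028468956090611717079082944613998480347159731787152822295080521619745994093801504768
theorem ucert0_ok : checkDFS uactsH ucert0 [ur0m] = true := by decide +kernel
theorem ubm0_ok : keyBitmap (keyK 2) (ur0m :: pushed 2 ucert0) = ubm0 := by
  decide +kernel
theorem ureach0 {p : Finset GolayPt} (hp : p.card = 2)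
    (hbit : ubm0.testBit (keyK 2 (gmask p)) = true) : ∃ g ∈ Hu, g • ur0 = p := by
  apply exists_smul_eq_of_cert_key ugensH_models ur0 ucert0 _ (keyK 2) (unkeyK 2) 2 ur0_card
    (fun s hs => unkey_key2 hs) hp
  · rw [gmask_ur0]
    show (keyBitmap (keyK 2) (ur0m :: pushed 2 ucert0)).testBit _ = true
    rw [ubm0_ok]
    exact hbit
  · rw [gmask_ur0]; exact ucert0_ok

/-- Dispatch of a duad mask to the bitmap of its class. -/
def udispatch (c m : ℕ) : Bool :=
  (c == 2 && m == u0m) || (c == 1 && ubm1.testBit (keyK 2 m)) ||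
    (c == 0 && ubm0.testBit (keyK 2 m))

theorem udispatch_all : (subs 24 2).all (fun m => udispatch (uclsG u0m m) m) = true := by
  decide +kernel

/-- Representative of a class. -/
def urepOf (j : ℕ) : Finset GolayPt := if j = 2 then u0 else if j = 1 then ur1 else ur0

/-- Every duad is the image of the representative of its class under the stabiliser of the base
duad. -/
theorem ureach_rep {p : Finset GolayPt} (hp : p.card = 2) :
    ((u0 ∩ p).card = 2 ∧ p = u0 ∨ (u0 ∩ p).card = 1 ∨ (u0 ∩ p).card = 0) ∧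
    ∃ g ∈ Hu, g • urepOf (u0 ∩ p).card = p := by
  have h := List.all_eq_true.mp udispatch_all _ (gmask_mem_subs hp)
  rw [← gmask_u0, ← card_inter_eq_uclsG] at h
  unfold udispatch at h
  simp only [Bool.or_eq_true, Bool.and_eq_true, beq_iff_eq] at h
  rcases h with (⟨hj, hm⟩ | ⟨hj, hb⟩) | ⟨hj, hb⟩
  · have hpt : p = u0 := by
      apply gmask_injective
      rw [gmask_u0, hm]
    refine ⟨Or.inl ⟨hj, hpt⟩, 1, Hu.one_mem, ?_⟩
    rw [hj, one_smul]
    exact hpt.symm
  · refine ⟨Or.inr (Or.inl hj), ?_⟩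
    rw [hj]; exact ureach1 hp hb
  · refine ⟨Or.inr (Or.inr hj), ?_⟩
    rw [hj]; exact ureach0 hp hb

/-- The stabiliser of the base duad is transitive on each class of duads. -/
theorem duad_base_stab_transitive {p' p'' : Finset GolayPt} (h' : p'.card = 2)
    (h'' : p''.card = 2) (h : (u0 ∩ p').card = (u0 ∩ p'').card) : ∃ g ∈ Hu, g • p' = p'' := by
  obtain ⟨_, g₁, hg₁, e₁⟩ := ureach_rep h'
  obtain ⟨_, g₂, hg₂, e₂⟩ := ureach_rep h''
  refine ⟨g₂ * g₁⁻¹, Hu.mul_mem hg₂ (Hu.inv_mem hg₁), ?_⟩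
  rw [mul_smul, ← e₁, inv_smul_smul, h, e₂]

/-- Two duads meeting a duad `T` in equally many points are in one orbit of the stabiliser of
`T`. -/
theorem duad_stab_transitive {T U U' : Finset GolayPt} (hT : T.card = 2) (hU : U.card = 2)
    (hU' : U'.card = 2) (h : (T ∩ U).card = (T ∩ U').card) :
    ∃ g : Equiv.Perm GolayPt, g ∈ M24 ∧ g • T = T ∧ g • U = U' := by
  obtain ⟨a, ha, rfl⟩ := exists_smul_u0_eq hT
  have hai : a⁻¹ ∈ M24 := M24.inv_mem ha
  have e : ∀ q : Finset GolayPt, (u0 ∩ a⁻¹ • q).card = (a • u0 ∩ q).card := by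
    intro q
    rw [← card_inter_smul_perm a u0 (a⁻¹ • q), smul_inv_smul]
  obtain ⟨g, hg, hgp⟩ := duad_base_stab_transitive (p' := a⁻¹ • U) (p'' := a⁻¹ • U')
    (by rw [Finset.card_smul_finset]; exact hU) (by rw [Finset.card_smul_finset]; exact hU')
    (by rw [e, e, h])
  refine ⟨a * g * a⁻¹, M24.mul_mem (M24.mul_mem ha (Hu_le hg)) hai, ?_, ?_⟩
  · rw [mul_smul, mul_smul, inv_smul_smul]
    have : g • u0 = u0 := MulAction.mem_stabilizer_iff.mp hg.2
    rw [this]
  · rw [mul_smul, mul_smul, hgp, smul_inv_smul]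

/-! ### Connectivity of the class graphs -/

/-- Validity of a duad mask. -/
def uvalid (m : ℕ) : Bool := decide (m < 2 ^ 24) && (popc 24 m == 2)

theorem uvalid_spec (m : ℕ) (h : uvalid m = true) :
    m < 2 ^ 24 ∧ setOfMask m ∈ {s : Finset GolayPt | s.card = 2} := by
  unfold uvalid at h
  simp only [Bool.and_eq_true, decide_eq_true_eq, beq_iff_eq] at h
  refine ⟨h.1, ?_⟩
  show (setOfMask m).card = 2
  rw [card_eq_popc_gmask, gmask_setOfMask h.1]
  exact h.2

/-- A path in the graph of class 1. -/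
def upath1A : List ℕ := [6]
/-- A path in the graph of class 1. -/
def upath1B : List ℕ := [5]
/-- A path in the graph of class 1. -/
def upath1C : List ℕ := [4194305, 12582912]
/-- A path in the graph of class 1. -/
def upath1D : List ℕ := [262145]
/-- The graph of class 1 on duads is connected. -/
theorem duads_connected1 :
    ConnectedBy {s : Finset GolayPt | s.card = 2} (fun a b => (a ∩ b).card = 1) u0 := by
  apply connectedBy_of_gen_paths M24
    (fun g _ y hy => by
      show (g • y).card = 2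
      rw [Finset.card_smul_finset]; exact hy)
    (fun g _ a b hab => by rw [card_inter_smul_perm]; exact hab)
    {gA, gB, gC, gD} (by
      intro g hg
      rcases hg with rfl | rfl | rfl | rfl
      · exact gA_mem
      · exact gB_mem
      · exact gC_mem
      · exact gD_mem)
  · intro g hg
    rcases hg with rfl | rfl | rfl | rfl
    · exact path_of_checkPath card_inter_eq_uclsG uvalid_spec 1 u0_card gA_models upath1A
        (by rw [gmask_u0]; decide +kernel) (by rw [gmask_u0]; decide +kernel)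
    · exact path_of_checkPath card_inter_eq_uclsG uvalid_spec 1 u0_card gB_models upath1B
        (by rw [gmask_u0]; decide +kernel) (by rw [gmask_u0]; decide +kernel)
    · exact path_of_checkPath card_inter_eq_uclsG uvalid_spec 1 u0_card gC_models upath1C
        (by rw [gmask_u0]; decide +kernel) (by rw [gmask_u0]; decide +kernel)
    · exact path_of_checkPath card_inter_eq_uclsG uvalid_spec 1 u0_card gD_models upath1D
        (by rw [gmask_u0]; decide +kernel) (by rw [gmask_u0]; decide +kernel)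
  · intro z hz
    exact exists_smul_u0_eq_K hz

/-- A path in the graph of class 0. -/
def upath0A : List ℕ := [24, 6]
/-- A path in the graph of class 0. -/
def upath0B : List ℕ := [24, 5]
/-- A path in the graph of class 0. -/
def upath0C : List ℕ := [12582912]
/-- A path in the graph of class 0. -/
def upath0D : List ℕ := [12, 262145]
/-- The graph of class 0 on duads is connected. -/
theorem duads_connected0 :
    ConnectedBy {s : Finset GolayPt | s.card = 2} (fun a b => (a ∩ b).card = 0) u0 := by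
  apply connectedBy_of_gen_paths M24
    (fun g _ y hy => by
      show (g • y).card = 2
      rw [Finset.card_smul_finset]; exact hy)
    (fun g _ a b hab => by rw [card_inter_smul_perm]; exact hab)
    {gA, gB, gC, gD} (by
      intro g hg
      rcases hg with rfl | rfl | rfl | rfl
      · exact gA_mem
      · exact gB_mem
      · exact gC_mem
      · exact gD_mem)
  · intro g hg
    rcases hg with rfl | rfl | rfl | rfl
    · exact path_of_checkPath card_inter_eq_uclsG uvalid_spec 0 u0_card gA_models upath0A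
        (by rw [gmask_u0]; decide +kernel) (by rw [gmask_u0]; decide +kernel)
    · exact path_of_checkPath card_inter_eq_uclsG uvalid_spec 0 u0_card gB_models upath0B
        (by rw [gmask_u0]; decide +kernel) (by rw [gmask_u0]; decide +kernel)
    · exact path_of_checkPath card_inter_eq_uclsG uvalid_spec 0 u0_card gC_models upath0C
        (by rw [gmask_u0]; decide +kernel) (by rw [gmask_u0]; decide +kernel)
    · exact path_of_checkPath card_inter_eq_uclsG uvalid_spec 0 u0_card gD_models upath0D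
        (by rw [gmask_u0]; decide +kernel) (by rw [gmask_u0]; decide +kernel)
  · intro z hz
    exact exists_smul_u0_eq_K hz

end Cfsg.Agent.Lib.Helper35
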