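import Mathlib

/-!
A criterion for a point stabiliser to be a maximal subgroup: if the stabiliser of `x` is transitive
on each "suborbit class" (the points `y` with a given value of an invariant `c x y`), and each
class graph is connected, then every subgroup properly containing the stabiliser is transitive,
hence is the whole group.
-/

set_option autoImplicit false

namespace Cfsg.Agent.Lib.Helper35

variable {G : Type*} [Group G] {X : Type*} [MulAction G X]

/-- Connectivity of the graph `E` on `Ω` from the base point `x`, as an induction principle. -/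
def ConnectedBy (Ω : Set X) (E : X → X → Prop) (x : X) : Prop :=
  ∀ P : X → Prop, P x → (∀ a b, P a → a ∈ Ω → b ∈ Ω → E a b → P b) → ∀ z ∈ Ω, P z

theorem ConnectedBy.smul {Ω : Set X} {E : X → X → Prop} {x : X} (h : ConnectedBy Ω E x)
    (hΩ : ∀ (g : G) (y : X), y ∈ Ω → g • y ∈ Ω)
    (hE : ∀ (g : G) (a b : X), E a b → E (g • a) (g • b)) (g : G) :
    ConnectedBy Ω E (g • x) := by
  intro P hx hstep z hz
  have key := h (fun y => P (g • y)) hx
    (fun a b ha haΩ hbΩ hab => hstep _ _ ha (hΩ g a haΩ) (hΩ g b hbΩ) (hE g a b hab))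
    (g⁻¹ • z) (hΩ g⁻¹ z hz)
  simpa using key

/-- Maximality of a point stabiliser from transitivity on suborbit classes and connectivity of
the class graphs. -/
theorem isCoatom_stabilizer_of_connected (x : X) (Ω : Set X)
    (hΩ : ∀ g : G, g • x ∈ Ω) (c : X → X → ℕ)
    (hc : ∀ (g : G) (y z : X), c (g • y) (g • z) = c y z)
    (htrans : ∀ y z, y ∈ Ω → z ∈ Ω → y ≠ x → z ≠ x → c x y = c x z →
      ∃ h ∈ MulAction.stabilizer G x, h • y = z)
    (hconn : ∀ y ∈ Ω, y ≠ x → ConnectedBy Ω (fun a b => c a b = c x y) x)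
    (hinv : ∀ (g : G) (y : X), y ∈ Ω → g • y ∈ Ω)
    (hne : ∃ g : G, g • x ≠ x) : IsCoatom (MulAction.stabilizer G x) := by
  constructor
  · intro htop
    obtain ⟨g, hg⟩ := hne
    have : g ∈ MulAction.stabilizer G x := by rw [htop]; exact Subgroup.mem_top g
    exact hg (MulAction.mem_stabilizer_iff.mp this)
  · intro K hK
    obtain ⟨hle, hnle⟩ := lt_iff_le_not_ge.mp hK
    obtain ⟨k, hkK, hkS⟩ := Set.not_subset.mp hnle
    have hy : k • x ≠ x := fun h => hkS (MulAction.mem_stabilizer_iff.mpr h)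
    have hyΩ : k • x ∈ Ω := hΩ k
    have reach : ∀ z ∈ Ω, ∃ k' ∈ K, k' • x = z := by
      apply hconn (k • x) hyΩ hy (fun z => ∃ k' ∈ K, k' • x = z) ⟨1, K.one_mem, one_smul _ _⟩
      rintro a b ⟨k₁, hk₁, rfl⟩ haΩ hbΩ hab
      by_cases hb : k₁⁻¹ • b = x
      · refine ⟨k₁, hk₁, ?_⟩
        rw [← hb, smul_inv_smul]
      · have hb'Ω : k₁⁻¹ • b ∈ Ω := hinv _ _ hbΩ
        have hcb : c x (k • x) = c x (k₁⁻¹ • b) := by
          rw [← hab, ← hc k₁⁻¹ (k₁ • x) b, inv_smul_smul]
        obtain ⟨h, hh, hhy⟩ := htrans (k • x) (k₁⁻¹ • b) hyΩ hb'Ω hy hb hcb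
        refine ⟨k₁ * h * k, K.mul_mem (K.mul_mem hk₁ (hle hh)) hkK, ?_⟩
        rw [mul_smul, mul_smul, hhy, smul_inv_smul]
    rw [eq_top_iff]
    intro g _
    obtain ⟨k', hk', hk'x⟩ := reach (g • x) (hΩ g)
    have : k'⁻¹ * g ∈ MulAction.stabilizer G x := by
      rw [MulAction.mem_stabilizer_iff, mul_smul, ← hk'x, inv_smul_smul]
    have := K.mul_mem hk' (hle this)
    simpa using this

end Cfsg.Agent.Lib.Helper35
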