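import Cfsg.Agent.Lib.Helper35.M24Base
import Cfsg.Agent.Lib.Helper35.Maximal
import Cfsg.Agent.Lib.Helper35.Counting

/-!
Connectivity of an invariant graph on an orbit, from paths joining the base point to its images
under a generating set, and a checker for such paths on masks.
-/

set_option autoImplicit false

namespace Cfsg.Agent.Lib.Helper35

open Cfsg
open scoped Pointwise

/-- If the base point is joined to its image under each generator, and the group generated is
transitive on `Ω`, then the invariant graph `E` on `Ω` is connected. -/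
theorem connectedBy_of_gen_paths {G X : Type*} [Group G] [Finite G] [MulAction G X]
    {Ω : Set X} {E : X → X → Prop} {x : X} (K : Subgroup G)
    (hΩ : ∀ g ∈ K, ∀ y ∈ Ω, g • y ∈ Ω)
    (hE : ∀ g ∈ K, ∀ a b, E a b → E (g • a) (g • b))
    (S : Set G) (hS : S ⊆ K)
    (hpath : ∀ g ∈ S, ∀ P : X → Prop, P x → (∀ a b, P a → a ∈ Ω → b ∈ Ω → E a b → P b) →
      P (g • x))
    (htrans : ∀ z ∈ Ω, ∃ g ∈ Subgroup.closure S, g • x = z) : ConnectedBy Ω E x := by
  have key : ∀ g ∈ Submonoid.closure S, g ∈ K ∧ ∀ P : X → Prop, P x →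
      (∀ a b, P a → a ∈ Ω → b ∈ Ω → E a b → P b) → P (g • x) := by
    intro g hg
    induction hg using Submonoid.closure_induction with
    | mem g hg => exact ⟨hS hg, hpath g hg⟩
    | one =>
      refine ⟨K.one_mem, fun P hx _ => ?_⟩
      rw [one_smul]; exact hx
    | mul g h _ _ ihg ihh =>
      refine ⟨K.mul_mem ihg.1 ihh.1, fun P hx hstep => ?_⟩
      rw [mul_smul]
      exact ihh.2 (fun y => P (g • y)) (ihg.2 P hx hstep)
        (fun a b ha haΩ hbΩ hab => hstep _ _ ha (hΩ g ihg.1 a haΩ) (hΩ g ihg.1 b hbΩ)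
          (hE g ihg.1 a b hab))
  intro P hx hstep z hz
  obtain ⟨g, hg, rfl⟩ := htrans z hz
  have hg' : g ∈ Submonoid.closure S := by
    rw [← Subgroup.closure_toSubmonoid_of_finite]
    exact hg
  exact (key g hg').2 P hx hstep

/-- Check that the list of masks is a path of valid masks, consecutive ones being in class `j`. -/
def checkPath (cls : ℕ → ℕ → ℕ) (valid : ℕ → Bool) (j : ℕ) : ℕ → List ℕ → Bool
  | _, [] => true
  | a, b :: rest => valid b && (cls a b == j) && checkPath cls valid j b rest

theorem reach_of_checkPath {Ω : Set (Finset GolayPt)}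
    {c : Finset GolayPt → Finset GolayPt → ℕ} {cls : ℕ → ℕ → ℕ} {valid : ℕ → Bool}
    (hcls : ∀ s u, c s u = cls (gmask s) (gmask u))
    (hvalid : ∀ m, valid m = true → m < 2 ^ 24 ∧ setOfMask m ∈ Ω)
    (j : ℕ) (P : Finset GolayPt → Prop)
    (hstep : ∀ a b, P a → a ∈ Ω → b ∈ Ω → c a b = j → P b) :
    ∀ (l : List ℕ) (a : Finset GolayPt), a ∈ Ω → P a →
      checkPath cls valid j (gmask a) l = true → P (setOfMask (l.getLastD (gmask a))) := by
  intro l
  induction l with
  | nil =>
    intro a _ hPa _
    rw [List.getLastD_nil, setOfMask_gmask]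
    exact hPa
  | cons b rest ih =>
    intro a haΩ hPa hchk
    unfold checkPath at hchk
    simp only [Bool.and_eq_true, beq_iff_eq] at hchk
    obtain ⟨⟨hv, hj⟩, hrest⟩ := hchk
    obtain ⟨hlt, hbΩ⟩ := hvalid b hv
    have hb : gmask (setOfMask b) = b := gmask_setOfMask hlt
    have hPb : P (setOfMask b) := by
      apply hstep a _ hPa haΩ hbΩ
      rw [hcls, hb]
      exact hj
    rw [List.getLastD_cons]
    have := ih (setOfMask b) hbΩ hPb (by rw [hb]; exact hrest)
    rw [hb] at this
    exact this

/-- The hypothesis `hpath` of `connectedBy_of_gen_paths` for one generator, from a checked path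
ending at the mask of the image of the base point. -/
theorem path_of_checkPath {Ω : Set (Finset GolayPt)}
    {c : Finset GolayPt → Finset GolayPt → ℕ} {cls : ℕ → ℕ → ℕ} {valid : ℕ → Bool}
    (hcls : ∀ s u, c s u = cls (gmask s) (gmask u))
    (hvalid : ∀ m, valid m = true → m < 2 ^ 24 ∧ setOfMask m ∈ Ω)
    (j : ℕ) {x : Finset GolayPt} (hx : x ∈ Ω) {g : Equiv.Perm GolayPt} {act : ℕ → ℕ}
    (hg : Models gmask g act) (l : List ℕ)
    (hchk : checkPath cls valid j (gmask x) l = true)
    (hend : l.getLastD (gmask x) = act (gmask x)) (P : Finset GolayPt → Prop) (hPx : P x)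
    (hstep : ∀ a b, P a → a ∈ Ω → b ∈ Ω → c a b = j → P b) : P (g • x) := by
  have h := reach_of_checkPath hcls hvalid j P hstep l x hx hPx hchk
  rw [hend, ← hg x, setOfMask_gmask] at h
  exact h

end Cfsg.Agent.Lib.Helper35
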