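import Cfsg.Agent.Lib.Helper35.KeySets
import Cfsg.Agent.Lib.Helper35.GenConn

/-!
Families of `n` sets of points (sextets, trios) coded as natural numbers: the sorted list of the
masks of the members, packed in base `2 ^ 24`.  The action of table permutations on codes, an
invariant of pairs of families computed on codes, and decoding of codes.
-/

set_option autoImplicit false

namespace Cfsg.Agent.Lib.Helper35

open Cfsg
open scoped Pointwise

theorem toFinset_map' {α β : Type*} [DecidableEq α] [DecidableEq β] (f : α → β) (l : List α) :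
    (l.map f).toFinset = l.toFinset.image f := by
  ext x
  simp

/-- Pack a list of masks into one number. -/
def pack : List ℕ → ℕ
  | [] => 0
  | m :: l => m + 2 ^ 24 * pack l

/-- Unpack `n` masks from a number. -/
def unpack : ℕ → ℕ → List ℕ
  | 0, _ => []
  | n + 1, c => (c % 2 ^ 24) :: unpack n (c / 2 ^ 24)

theorem unpack_length (n c : ℕ) : (unpack n c).length = n := by
  induction n generalizing c with
  | zero => rfl
  | succ n ih => simp [unpack, ih]

theorem unpack_lt {n c m : ℕ} (h : m ∈ unpack n c) : m < 2 ^ 24 := by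
  induction n generalizing c with
  | zero => simp [unpack] at h
  | succ n ih =>
    simp only [unpack, List.mem_cons] at h
    rcases h with rfl | h
    · exact Nat.mod_lt _ (by positivity)
    · exact ih h

theorem unpack_pack (l : List ℕ) (hl : ∀ m ∈ l, m < 2 ^ 24) : unpack l.length (pack l) = l := by
  induction l with
  | nil => rfl
  | cons a l ih =>
    have ha : a < 2 ^ 24 := hl a (by simp)
    have hl' : ∀ m ∈ l, m < 2 ^ 24 := fun m hm => hl m (List.mem_cons_of_mem _ hm)
    show ((a + 2 ^ 24 * pack l) % 2 ^ 24) :: unpack l.length ((a + 2 ^ 24 * pack l) / 2 ^ 24) =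
      a :: l
    rw [Nat.add_mul_mod_self_left, Nat.mod_eq_of_lt ha, Nat.add_mul_div_left _ _ (by positivity),
      Nat.div_eq_of_lt ha, zero_add, ih hl']

/-- The sorted list of the masks of the members of a family. -/
noncomputable def fmasks (S : Finset (Finset GolayPt)) : List ℕ := (S.image gmask).sort

/-- The code of a family. -/
noncomputable def fcode (S : Finset (Finset GolayPt)) : ℕ := pack (fmasks S)

theorem mem_fmasks {S : Finset (Finset GolayPt)} {m : ℕ} :
    m ∈ fmasks S ↔ ∃ s ∈ S, gmask s = m := by
  unfold fmasks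
  rw [Finset.mem_sort, Finset.mem_image]

theorem fmasks_length (S : Finset (Finset GolayPt)) : (fmasks S).length = S.card := by
  unfold fmasks
  rw [Finset.length_sort, Finset.card_image_of_injective _ gmask_injective]

theorem fmasks_lt {S : Finset (Finset GolayPt)} {m : ℕ} (h : m ∈ fmasks S) : m < 2 ^ 24 := by
  obtain ⟨s, _, rfl⟩ := mem_fmasks.mp h
  exact gmask_lt s

theorem unpack_fcode {S : Finset (Finset GolayPt)} {n : ℕ} (h : S.card = n) :
    unpack n (fcode S) = fmasks S := by
  rw [← h, ← fmasks_length]
  exact unpack_pack _ (fun m hm => fmasks_lt hm)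

theorem fmasks_injective {S S' : Finset (Finset GolayPt)} (h : fmasks S = fmasks S') : S = S' := by
  have h1 : S.image gmask = S'.image gmask := by
    rw [← Finset.sort_toFinset (S.image gmask) (· ≤ ·), ← Finset.sort_toFinset (S'.image gmask) (· ≤ ·)]
    exact congrArg List.toFinset h
  exact Finset.image_injective gmask_injective h1

theorem fcode_inj {S S' : Finset (Finset GolayPt)} {n : ℕ} (h : S.card = n) (h' : S'.card = n)
    (hc : fcode S = fcode S') : S = S' :=
  fmasks_injective (by rw [← unpack_fcode h, ← unpack_fcode h', hc])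

theorem image_gmask_smul {σ : Equiv.Perm GolayPt} {act : ℕ → ℕ} (h : Models gmask σ act)
    (S : Finset (Finset GolayPt)) : (σ • S).image gmask = (S.image gmask).image act := by
  rw [← Finset.image_smul, Finset.image_image, Finset.image_image]
  apply Finset.image_congr
  intro s _
  exact h s

theorem sort_image_eq (K : Finset ℕ) (f : ℕ → ℕ) (hinj : Set.InjOn f K) :
    (K.image f).sort = ((K.sort).map f).insertionSort (· ≤ ·) := by
  apply List.Perm.eq_of_pairwise' (Finset.pairwise_sort _ _) (List.pairwise_insertionSort _ _)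
  refine List.Perm.trans ?_ (List.perm_insertionSort _ _).symm
  apply List.perm_of_nodup_nodup_toFinset_eq (Finset.sort_nodup _ _)
  · exact List.Nodup.map_on
      (fun a ha b hb hab => hinj ((Finset.mem_sort _).mp ha) ((Finset.mem_sort _).mp hb) hab)
      (Finset.sort_nodup _ _)
  · rw [Finset.sort_toFinset, toFinset_map', Finset.sort_toFinset]

/-- The action on codes of families of `n` sets. -/
def fact (n : ℕ) (act : ℕ → ℕ) (c : ℕ) : ℕ :=
  pack (((unpack n c).map act).insertionSort (· ≤ ·))

theorem fcode_smul {σ : Equiv.Perm GolayPt} {act : ℕ → ℕ} (h : Models gmask σ act) {n : ℕ}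
    (S : Finset (Finset GolayPt)) (hS : S.card = n) :
    fcode (σ • S) = fact n act (fcode S) := by
  unfold fact
  rw [unpack_fcode hS]
  unfold fcode fmasks
  rw [image_gmask_smul h, sort_image_eq]
  intro a ha b hb hab
  obtain ⟨s, _, rfl⟩ := Finset.mem_image.mp ha
  obtain ⟨u, _, rfl⟩ := Finset.mem_image.mp hb
  rw [← h s, ← h u] at hab
  rw [smul_left_cancel σ (gmask_injective hab)]

theorem fam_modelsOn {σ : Equiv.Perm GolayPt} {act : ℕ → ℕ} (h : Models gmask σ act) (n : ℕ) :
    ModelsOn (fun S : Finset (Finset GolayPt) => S.card = n) fcode σ (fact n act) :=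
  fun S hS => ⟨by
    show (σ • S).card = n
    rw [Finset.card_smul_finset]; exact hS, fcode_smul h S hS⟩

/-! ### Decoding -/

/-- The family with a given code. -/
def famOfCode (n c : ℕ) : Finset (Finset GolayPt) := ((unpack n c).map setOfMask).toFinset

/-- Strictly increasing list. -/
def incr : List ℕ → Bool
  | [] => true
  | [_] => true
  | a :: b :: l => decide (a < b) && incr (b :: l)

theorem pairwise_of_incr : ∀ l : List ℕ, incr l = true → l.Pairwise (· < ·)
  | [], _ => List.Pairwise.nil
  | [_], _ => List.pairwise_singleton _ _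
  | a :: b :: l, h => by
    unfold incr at h
    simp only [Bool.and_eq_true, decide_eq_true_eq] at h
    have ih := pairwise_of_incr (b :: l) h.2
    refine List.Pairwise.cons ?_ ih
    intro c hc
    rcases List.mem_cons.mp hc with rfl | hc'
    · exact h.1
    · exact lt_trans h.1 (List.rel_of_pairwise_cons ih hc')

/-- Validity of a code of a family of `n` sets. -/
def validCode (n c : ℕ) : Bool := (pack (unpack n c) == c) && incr (unpack n c)

theorem fmasks_famOfCode {n c : ℕ} (h : validCode n c = true) :
    fmasks (famOfCode n c) = unpack n c := by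
  unfold validCode at h
  simp only [Bool.and_eq_true, beq_iff_eq] at h
  have hp := pairwise_of_incr _ h.2
  have hnd : (unpack n c).Nodup := hp.imp (fun hab => ne_of_lt hab)
  have himg : (famOfCode n c).image gmask = (unpack n c).toFinset := by
    unfold famOfCode
    rw [← toFinset_map', List.map_map]
    congr 1
    conv_rhs => rw [← List.map_id (unpack n c)]
    apply List.map_congr_left
    intro m hm
    exact gmask_setOfMask (unpack_lt hm)
  unfold fmasks
  rw [himg]
  exact (List.toFinset_sort (· ≤ ·) hnd).mpr (hp.imp (fun hab => le_of_lt hab))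

theorem famOfCode_card {n c : ℕ} (h : validCode n c = true) : (famOfCode n c).card = n := by
  rw [← fmasks_length, fmasks_famOfCode h, unpack_length]

theorem fcode_famOfCode {n c : ℕ} (h : validCode n c = true) : fcode (famOfCode n c) = c := by
  unfold fcode
  rw [fmasks_famOfCode h]
  unfold validCode at h
  simp only [Bool.and_eq_true, beq_iff_eq] at h
  exact h.1

theorem famOfCode_fcode {S : Finset (Finset GolayPt)} {n : ℕ} (h : S.card = n) :
    famOfCode n (fcode S) = S := by
  unfold famOfCode
  rw [unpack_fcode h]
  unfold fmasks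
  rw [toFinset_map', Finset.sort_toFinset, Finset.image_image]
  conv_rhs => rw [← Finset.image_id (s := S)]
  apply Finset.image_congr
  intro s _
  exact setOfMask_gmask s

theorem mem_famOfCode {n c : ℕ} {s : Finset GolayPt} (h : s ∈ famOfCode n c) :
    ∃ m ∈ unpack n c, s = setOfMask m ∧ gmask s = m := by
  unfold famOfCode at h
  rw [List.mem_toFinset, List.mem_map] at h
  obtain ⟨m, hm, rfl⟩ := h
  exact ⟨m, hm, rfl, gmask_setOfMask (unpack_lt hm)⟩

/-! ### An invariant of pairs of families -/

/-- The sum of the squares of the sizes of the intersections of the members of two families. -/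
noncomputable def famClass (S X : Finset (Finset GolayPt)) : ℕ :=
  ∑ s ∈ S, ∑ x ∈ X, ((s ∩ x).card) ^ 2

/-- The same on lists of masks. -/
def clsL (a b : List ℕ) : ℕ :=
  (a.map (fun s => (b.map (fun x => (popc 24 (s &&& x)) ^ 2)).sum)).sum

/-- The same on codes. -/
def clsP (n a b : ℕ) : ℕ := clsL (unpack n a) (unpack n b)

theorem sum_eq_fmasks (S : Finset (Finset GolayPt)) (F : ℕ → ℕ) :
    ∑ s ∈ S, F (gmask s) = ((fmasks S).map F).sum := by
  unfold fmasks
  rw [← List.sum_toFinset F (Finset.sort_nodup _ _), Finset.sort_toFinset,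
    Finset.sum_image (fun a _ b _ h => gmask_injective h)]

theorem famClass_eq_clsL (S X : Finset (Finset GolayPt)) :
    famClass S X = clsL (fmasks S) (fmasks X) := by
  unfold famClass clsL
  rw [← sum_eq_fmasks S]
  apply Finset.sum_congr rfl
  intro s _
  rw [← sum_eq_fmasks X]
  apply Finset.sum_congr rfl
  intro x _
  rw [card_inter_eq_popc]

theorem famClass_eq {S X : Finset (Finset GolayPt)} {n : ℕ} (hS : S.card = n) (hX : X.card = n) :
    famClass S X = clsP n (fcode S) (fcode X) := by
  unfold clsP
  rw [unpack_fcode hS, unpack_fcode hX, famClass_eq_clsL]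

theorem famClass_smul (σ : Equiv.Perm GolayPt) (S X : Finset (Finset GolayPt)) :
    famClass (σ • S) (σ • X) = famClass S X := by
  unfold famClass
  rw [← Finset.image_smul (s := S), Finset.sum_image (fun a _ b _ h => smul_left_cancel σ h)]
  apply Finset.sum_congr rfl
  intro s _
  rw [← Finset.image_smul (s := X), Finset.sum_image (fun a _ b _ h => smul_left_cancel σ h)]
  apply Finset.sum_congr rfl
  intro x _
  rw [← Finset.smul_finset_inter, Finset.card_smul_finset]

/-! ### Paths of codes -/

/-- A path checker for graphs on coded objects. -/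
theorem reach_of_checkPath' {X : Type*} {Ω : Set X} {c : X → X → ℕ} {enc : X → ℕ} {dec : ℕ → X}
    {cls : ℕ → ℕ → ℕ} {valid : ℕ → Bool}
    (hcls : ∀ s ∈ Ω, ∀ u ∈ Ω, c s u = cls (enc s) (enc u))
    (hvalid : ∀ m, valid m = true → enc (dec m) = m ∧ dec m ∈ Ω)
    (hdec : ∀ x ∈ Ω, dec (enc x) = x)
    (j : ℕ) (P : X → Prop)
    (hstep : ∀ a b, P a → a ∈ Ω → b ∈ Ω → c a b = j → P b) :
    ∀ (l : List ℕ) (a : X), a ∈ Ω → P a →
      checkPath cls valid j (enc a) l = true → P (dec (l.getLastD (enc a))) := by
  intro l
  induction l with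
  | nil =>
    intro a ha hPa _
    rw [List.getLastD_nil, hdec a ha]
    exact hPa
  | cons b rest ih =>
    intro a haΩ hPa hchk
    unfold checkPath at hchk
    simp only [Bool.and_eq_true, beq_iff_eq] at hchk
    obtain ⟨⟨hv, hj⟩, hrest⟩ := hchk
    obtain ⟨hb, hbΩ⟩ := hvalid b hv
    have hPb : P (dec b) := by
      apply hstep a _ hPa haΩ hbΩ
      rw [hcls a haΩ _ hbΩ, hb]
      exact hj
    rw [List.getLastD_cons]
    have := ih (dec b) hbΩ hPb (by rw [hb]; exact hrest)
    rw [hb] at this
    exact this

end Cfsg.Agent.Lib.Helper35
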