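import Cfsg.Agent.Lib.Helper35.M24Base
import Cfsg.Agent.Lib.Helper35.Maximal

/-!
Connectivity certificates for graphs on the supports of code words of a given weight, two
supports being joined when they meet in a prescribed number of points.
-/

set_option autoImplicit false

namespace Cfsg.Agent.Lib.Helper35

open Cfsg
open Cfsg.Agent.Lib.Helper10 (idx pt idx_pt enc enc_mod enc_lt genMask)
open scoped Pointwise

/-- Step validation: `m` is the mask of a code word of weight `w` meeting `top` in `j` points. -/
def edgeStep (w j : ℕ) (_i top m : ℕ) : Bool :=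
  (enc m == m) && (popc 24 m == w) && (popc 24 (top &&& m) == j)

/-- The supports of the code words of weight `w`. -/
def wordsW (w : ℕ) : Set (Finset GolayPt) :=
  wordsOfWeight (golayCode : Set (GolayPt → ZMod 2)) w

theorem mem_wordsW_iff (w : ℕ) (s : Finset GolayPt) :
    s ∈ wordsW w ↔ enc (gmask s) = gmask s ∧ popc 24 (gmask s) = w := by
  unfold wordsW wordsOfWeight
  rw [Set.mem_ofPred_eq, mem_supports_iff, card_eq_popc_gmask]

theorem connectedBy_of_cert (w j : ℕ) (x₀ : Finset GolayPt) (hx₀ : x₀ ∈ wordsW w)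
    (cert : List (ℕ × ℕ)) (hc : checkWalk (edgeStep w j) 1 cert [gmask x₀] = true) (BM : ℕ)
    (hbm : idxBitmap (gmask x₀ :: pushed 1 cert) = BM)
    (hcomplete : (List.range 4096).all
      (fun k => (popc 24 (enc k) != w) || BM.testBit (enc k % 4096)) = true) :
    ConnectedBy (wordsW w) (fun a b => (a ∩ b).card = j) x₀ := by
  intro P hx hstep z hz
  have hR := walk_of_cert (step := edgeStep w j) (n := 1)
    (fun m => ∃ s ∈ wordsW w, gmask s = m ∧ P s)
    (by
      rintro i top m _ ⟨s, hs, rfl, hP⟩ hst
      unfold edgeStep at hst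
      simp only [Bool.and_eq_true, beq_iff_eq] at hst
      obtain ⟨⟨h1, h2⟩, h3⟩ := hst
      have hm : m < 2 ^ 24 := h1 ▸ enc_lt m
      have hb : gmask (setOfMask m) = m := gmask_setOfMask hm
      have hbΩ : setOfMask m ∈ wordsW w := by
        rw [mem_wordsW_iff, hb]
        exact ⟨h1, h2⟩
      refine ⟨setOfMask m, hbΩ, hb, hstep s _ hP hs hbΩ ?_⟩
      show (s ∩ setOfMask m).card = j
      rw [card_inter_eq_popc, hb]
      exact h3)
    (gmask x₀) ⟨x₀, hx₀, rfl, hx⟩ cert hc
  have hzc := (mem_wordsW_iff w z).mp hz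
  have hbit : BM.testBit (gmask z % 4096) = true := by
    have h := forall_supports_bool (fun m => (popc 24 m != w) || BM.testBit (m % 4096))
      hcomplete z hz.1
    rw [Bool.or_eq_true] at h
    rcases h with h | h
    · rw [hzc.2] at h
      simp at h
    · exact h
  have hmem : gmask z ∈ gmask x₀ :: pushed 1 cert := by
    apply mem_of_bitmap _ hzc.1 (by rw [hbm]; exact hbit)
    intro m hm
    obtain ⟨s, hs, rfl, _⟩ := hR m hm
    exact ((mem_wordsW_iff w s).mp hs).1
  obtain ⟨s, _, hsz, hP⟩ := hR _ hmem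
  rw [gmask_injective hsz] at hP
  exact hP

end Cfsg.Agent.Lib.Helper35
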