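import Mathlib

/-!
Kernel-checkable walk certificates.

A certificate is a depth-first traversal of a tree: a list of instructions `(i, m)`; `i < n` means
"move from the top of the stack to the code `m` by a step of kind `i` (this must be validated by
`step i top m`) and push `m`"; any `i ≥ n` means "pop".  If the check succeeds and some predicate
`R` is propagated by valid steps, then `R` holds for every pushed code.

The main instance: objects of a `G`-set `X` are encoded as natural numbers by `enc`, finitely many
group elements are modelled by functions on codes, and `R m` says that `m` is the code of `g • x₀`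
for some `g` in a subgroup containing the generators.
-/

set_option autoImplicit false

namespace Cfsg.Agent.Lib.Helper35

/-- The general certificate checker. -/
def checkWalk (step : ℕ → ℕ → ℕ → Bool) (n : ℕ) : List (ℕ × ℕ) → List ℕ → Bool
  | [], _ => true
  | e :: rest, stack =>
    match stack with
    | [] => false
    | top :: st =>
      if e.1 < n then step e.1 top e.2 && checkWalk step n rest (e.2 :: top :: st)
      else checkWalk step n rest st

/-- The codes pushed by a certificate. -/
def pushed (n : ℕ) (cert : List (ℕ × ℕ)) : List ℕ :=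
  (cert.filter (fun e => decide (e.1 < n))).map Prod.snd

theorem checkWalk_sound {step : ℕ → ℕ → ℕ → Bool} {n : ℕ} (R : ℕ → Prop)
    (hstep : ∀ i top m, i < n → R top → step i top m = true → R m)
    (cert : List (ℕ × ℕ)) (stack : List ℕ) (hstack : ∀ m ∈ stack, R m)
    (hc : checkWalk step n cert stack = true) : ∀ m ∈ pushed n cert, R m := by
  induction cert generalizing stack with
  | nil => intro m hm; simp [pushed] at hm
  | cons e rest ih =>
    cases stack with
    | nil => simp [checkWalk] at hc
    | cons top st =>
      unfold checkWalk at hc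
      by_cases he : e.1 < n
      · simp only [he, if_true, Bool.and_eq_true] at hc
        obtain ⟨hact, hrest⟩ := hc
        have hnew : R e.2 := hstep e.1 top e.2 he (hstack top (by simp)) hact
        have hstack' : ∀ m ∈ e.2 :: top :: st, R m := by
          intro m hm
          rcases List.mem_cons.mp hm with rfl | hm'
          · exact hnew
          · exact hstack m hm'
        intro m hm
        have : m = e.2 ∨ m ∈ pushed n rest := by
          simp only [pushed, List.filter_cons, he, decide_true, if_true, List.map_cons,
            List.mem_cons] at hm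
          exact hm
        rcases this with rfl | hm'
        · exact hnew
        · exact ih _ hstack' hrest m hm'
      · simp only [he, if_false] at hc
        have hstack' : ∀ m ∈ st, R m :=
          fun m hm => hstack m (List.mem_cons_of_mem _ hm)
        intro m hm
        have : m ∈ pushed n rest := by
          simp only [pushed, List.filter_cons, he, decide_false] at hm
          exact hm
        exact ih _ hstack' hc m this

/-- Soundness starting from a single root. -/
theorem walk_of_cert {step : ℕ → ℕ → ℕ → Bool} {n : ℕ} (R : ℕ → Prop)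
    (hstep : ∀ i top m, i < n → R top → step i top m = true → R m)
    (root : ℕ) (hroot : R root) (cert : List (ℕ × ℕ))
    (hc : checkWalk step n cert [root] = true) : ∀ m ∈ root :: pushed n cert, R m := by
  intro m hm
  rcases List.mem_cons.mp hm with rfl | hm'
  · exact hroot
  · exact checkWalk_sound R hstep cert [root]
      (fun m hm => by rw [List.mem_singleton.mp hm]; exact hroot) hc m hm'

/-! ### Orbit certificates -/

/-- The step function of an orbit certificate: apply the `i`-th action. -/
def actStep (acts : List (ℕ → ℕ)) (i top m : ℕ) : Bool := (acts.getD i id) top == m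

/-- The orbit certificate checker. -/
def checkDFS (acts : List (ℕ → ℕ)) (cert : List (ℕ × ℕ)) (stack : List ℕ) : Bool :=
  checkWalk (actStep acts) acts.length cert stack

variable {G : Type*} [Group G] {X : Type*} [MulAction G X]

/-- `act` models the action of `g` on the codes of the objects satisfying `Inv`. -/
def ModelsOn (Inv : X → Prop) (enc : X → ℕ) (g : G) (act : ℕ → ℕ) : Prop :=
  ∀ x, Inv x → Inv (g • x) ∧ enc (g • x) = act (enc x)

/-- `act` models the action of `g` on codes. -/
def Models (enc : X → ℕ) (g : G) (act : ℕ → ℕ) : Prop := ∀ x, enc (g • x) = act (enc x)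

theorem Models.modelsOn {enc : X → ℕ} {g : G} {act : ℕ → ℕ} (h : Models enc g act) :
    ModelsOn (fun _ => True) enc g act := fun x _ => ⟨trivial, h x⟩

theorem forall₂_getD {H : Subgroup G} {Inv : X → Prop} {enc : X → ℕ} {gs : List G}
    {acts : List (ℕ → ℕ)}
    (h : List.Forall₂ (fun g act => g ∈ H ∧ ModelsOn Inv enc g act) gs acts) {i : ℕ}
    (hi : i < acts.length) : ∃ g ∈ H, ModelsOn Inv enc g (acts.getD i id) := by
  induction h generalizing i with
  | nil => simp at hi
  | cons hga _ ih =>
    cases i with
    | zero => exact ⟨_, hga.1, by simpa using hga.2⟩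
    | succ j =>
      have hj := Nat.lt_of_succ_lt_succ (by simpa using hi)
      obtain ⟨g, hg, hm⟩ := ih hj
      exact ⟨g, hg, by simpa using hm⟩

/-- Soundness of orbit certificates (with an invariant). -/
theorem orbit_of_cert_on {H : Subgroup G} {Inv : X → Prop} {enc : X → ℕ} {gs : List G}
    {acts : List (ℕ → ℕ)}
    (hmod : List.Forall₂ (fun g act => g ∈ H ∧ ModelsOn Inv enc g act) gs acts) (x₀ : X)
    (hx₀ : Inv x₀) (cert : List (ℕ × ℕ)) (hc : checkDFS acts cert [enc x₀] = true) :
    ∀ m ∈ enc x₀ :: pushed acts.length cert, ∃ g ∈ H, Inv (g • x₀) ∧ enc (g • x₀) = m := by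
  apply walk_of_cert (fun m => ∃ g ∈ H, Inv (g • x₀) ∧ enc (g • x₀) = m) _ (enc x₀)
    ⟨1, H.one_mem, by rw [one_smul]; exact hx₀, by rw [one_smul]⟩ cert hc
  rintro i top m hi ⟨a, ha, hinv, hta⟩ hact
  obtain ⟨g, hg, hm⟩ := forall₂_getD hmod hi
  refine ⟨g * a, H.mul_mem hg ha, ?_, ?_⟩
  · rw [mul_smul]; exact (hm _ hinv).1
  · rw [mul_smul, (hm _ hinv).2, hta]
    exact beq_iff_eq.mp hact

/-- Soundness of orbit certificates. -/
theorem orbit_of_cert {H : Subgroup G} {enc : X → ℕ} {gs : List G} {acts : List (ℕ → ℕ)}
    (hmod : List.Forall₂ (fun g act => g ∈ H ∧ Models enc g act) gs acts) (x₀ : X)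
    (cert : List (ℕ × ℕ)) (hc : checkDFS acts cert [enc x₀] = true) :
    ∀ m ∈ enc x₀ :: pushed acts.length cert, ∃ g ∈ H, enc (g • x₀) = m := by
  have hmod' : List.Forall₂ (fun g act => g ∈ H ∧ ModelsOn (fun _ => True) enc g act) gs acts :=
    hmod.imp (fun _ _ h => ⟨h.1, h.2.modelsOn⟩)
  intro m hm
  obtain ⟨g, hg, _, h⟩ := orbit_of_cert_on hmod' x₀ trivial cert hc m hm
  exact ⟨g, hg, h⟩

end Cfsg.Agent.Lib.Helper35
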