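import Cfsg.Agent.Lib.Helper10.M24Mem
import Cfsg.Agent.Lib.Helper35.BitMask
import Cfsg.Agent.Lib.Helper35.Orbit

/-!
Bridge between finsets of the 24 points, their 24-bit masks, the code model of `Lib.Helper10.Golay`,
and permutations given by tables.
-/

set_option autoImplicit false

namespace Cfsg.Agent.Lib.Helper35

open Cfsg
open Cfsg.Agent.Lib.Helper10 (idx pt idx_lt pt_idx idx_pt idx_injective vec vec_apply wmask
  testBit_wmask_nat vec_wmask wmask_lt wmask_vec enc mem_golayCode_iff vec_mem_golayCode_iff
  genMask qrWord_eq one_eq permWord permWord_apply mem_M24_of_gens mem_M24_iff forall_code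
  smul_support₂ mem_support₂)
open scoped Pointwise

/-- The 24-bit mask of a set of points. -/
abbrev gmask (s : Finset GolayPt) : ℕ := maskOf idx s

theorem gmask_lt (s : Finset GolayPt) : gmask s < 2 ^ 24 := maskOf_lt (n := 24) idx_lt s

theorem gmask_injective : Function.Injective gmask := maskOf_injective idx_injective

theorem card_eq_popc_gmask (s : Finset GolayPt) : s.card = popc 24 (gmask s) :=
  card_eq_popc idx_injective idx_lt s

theorem wmask_eq_gmask (w : GolayPt → ZMod 2) : wmask w = gmask (support₂ w) := by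
  apply Nat.eq_of_testBit_eq
  intro i
  rw [testBit_wmask_nat, testBit_maskOf]
  by_cases hi : i < 24
  · simp only [hi, decide_true, Bool.true_and]
    congr 1
    apply propext
    constructor
    · intro h
      exact ⟨pt i, (mem_support₂ w _).mpr h, idx_pt hi⟩
    · rintro ⟨a, ha, rfl⟩
      rw [pt_idx]
      exact (mem_support₂ w a).mp ha
  · simp only [hi, decide_false, Bool.false_and]
    symm
    simp only [decide_eq_false_iff_not, not_exists, not_and]
    intro a _ h
    exact hi (h ▸ idx_lt a)

theorem support₂_vec_gmask (s : Finset GolayPt) : support₂ (vec (gmask s)) = s := by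
  ext p
  rw [mem_support₂, vec_apply, testBit_maskOf_idx idx_injective]
  by_cases h : p ∈ s <;> simp [h]

theorem mem_supports_iff (s : Finset GolayPt) :
    s ∈ supports (golayCode : Set (GolayPt → ZMod 2)) ↔ enc (gmask s) = gmask s := by
  constructor
  · rintro ⟨w, hw, rfl⟩
    rw [← wmask_eq_gmask]
    exact (mem_golayCode_iff w).mp hw
  · intro h
    refine ⟨vec (gmask s), ?_, support₂_vec_gmask s⟩
    exact (vec_mem_golayCode_iff (gmask_lt s)).mpr h

theorem mem_octads_iff (s : Finset GolayPt) :
    s ∈ octads ↔ enc (gmask s) = gmask s ∧ popc 24 (gmask s) = 8 := by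
  unfold octads wordsOfWeight
  rw [Set.mem_ofPred_eq, mem_supports_iff, card_eq_popc_gmask]

theorem mem_dodecads_iff (s : Finset GolayPt) :
    s ∈ dodecads ↔ enc (gmask s) = gmask s ∧ popc 24 (gmask s) = 12 := by
  unfold dodecads wordsOfWeight
  rw [Set.mem_ofPred_eq, mem_supports_iff, card_eq_popc_gmask]

/-- A property of masks checked on all 4096 code words holds for all supports of code words. -/
theorem forall_supports (P : ℕ → Prop) (h : ∀ k < 4096, P (enc k)) :
    ∀ s ∈ supports (golayCode : Set (GolayPt → ZMod 2)), P (gmask s) := by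
  rintro s ⟨w, hw, rfl⟩
  rw [← wmask_eq_gmask]
  exact forall_code P h w hw

/-! ### Permutations from tables -/

/-- Action of a table on masks. -/
def applyTbl (t : List ℕ) (m : ℕ) : ℕ := mapMask (fun i => t.getD i 0) 24 m

theorem gmask_smul (σ : Equiv.Perm GolayPt) (t : List ℕ)
    (h : ∀ p, idx (σ p) = t.getD (idx p) 0) (s : Finset GolayPt) :
    gmask (σ • s) = applyTbl t (gmask s) := by
  have : σ • s = s.image (fun x => σ x) := by
    rw [Finset.smul_finset_def]
    rfl
  rw [this]
  exact maskOf_image (n := 24) idx_lt (fun x => σ x) (fun i => t.getD i 0) h s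

theorem models_of_table (σ : Equiv.Perm GolayPt) (t : List ℕ)
    (h : ∀ p, idx (σ p) = t.getD (idx p) 0) :
    Models (G := Equiv.Perm GolayPt) gmask σ (applyTbl t) :=
  fun s => gmask_smul σ t h s

theorem permWord_vec (σ : Equiv.Perm GolayPt) (t : List ℕ)
    (h : ∀ p, idx (σ p) = t.getD (idx p) 0) (m : ℕ) :
    permWord σ (vec m) = vec (applyTbl t m) := by
  funext p
  rw [permWord_apply, vec_apply, vec_apply]
  congr 1
  unfold applyTbl
  rw [testBit_mapMask]
  apply propext
  constructor
  · intro hb
    simp only [decide_eq_true_eq]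
    refine ⟨idx (σ.symm p), idx_lt _, hb, ?_⟩
    rw [← h, Equiv.apply_symm_apply]
  · intro hb
    simp only [decide_eq_true_eq] at hb
    obtain ⟨k, hk, hbit, htk⟩ := hb
    have h1 : idx (σ (pt k)) = idx p := by rw [h, idx_pt hk]; exact htk
    have h2 : σ (pt k) = p := idx_injective h1
    have h3 : σ.symm p = pt k := by rw [← h2, Equiv.symm_apply_apply]
    rw [h3, idx_pt hk]
    exact hbit

theorem applyTbl_lt (σ : Equiv.Perm GolayPt) (t : List ℕ)
    (h : ∀ p, idx (σ p) = t.getD (idx p) 0) (m : ℕ) : applyTbl t m < 2 ^ 24 := by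
  apply Nat.lt_pow_two_of_testBit
  intro i hi
  unfold applyTbl
  rw [testBit_mapMask]
  simp only [decide_eq_false_iff_not, not_exists, not_and]
  intro k hk _ htk
  have h1 : idx (σ (pt k)) = i := by rw [h, idx_pt hk]; exact htk
  have := idx_lt (σ (pt k))
  omega

/-- Membership in `M24` of a permutation given by a table, checked on masks. -/
theorem mem_M24_of_tbl (σ : Equiv.Perm GolayPt) (t : List ℕ)
    (h : ∀ p, idx (σ p) = t.getD (idx p) 0)
    (hc : ∀ g ∈ genMask, enc (applyTbl t g) = applyTbl t g) : σ ∈ M24 := by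
  have key : ∀ g ∈ genMask, permWord σ (vec g) ∈ golayCode := by
    intro g hg
    rw [permWord_vec σ t h]
    exact (vec_mem_golayCode_iff (applyTbl_lt σ t h g)).mpr (hc g hg)
  apply mem_M24_of_gens
  · intro r
    have hr : r.val < 24 := lt_trans (ZMod.val_lt r) (by decide)
    have hmem : genMask.getD r.val 0 ∈ genMask := by
      rw [List.getD_eq_getElem _ _ (show r.val < genMask.length from hr)]
      exact List.getElem_mem _
    have : qrWord r = vec (genMask.getD r.val 0) := funext (qrWord_eq r)
    rw [this]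
    exact key _ hmem
  · have : (1 : GolayPt → ZMod 2) = vec 16777215 := funext one_eq
    rw [this]
    exact key _ (by decide)

/-! ### Table permutations -/

/-- The function on points given by a table of images of indices. -/
def tblFun (t : List ℕ) (p : GolayPt) : GolayPt := pt (t.getD (idx p) 0)

/-- Validity of a pair of mutually inverse tables. -/
def TblOK (t t' : List ℕ) : Prop :=
  (∀ p, tblFun t' (tblFun t p) = p) ∧ (∀ p, tblFun t (tblFun t' p) = p) ∧
    ∀ i : Fin 24, t.getD i 0 < 24

instance (t t' : List ℕ) : Decidable (TblOK t t') := by unfold TblOK; infer_instance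

/-- The permutation of the 24 points given by a table and its inverse table. -/
def tblPerm (t t' : List ℕ) (h : TblOK t t') : Equiv.Perm GolayPt where
  toFun := tblFun t
  invFun := tblFun t'
  left_inv := h.1
  right_inv := h.2.1

theorem idx_tblPerm (t t' : List ℕ) (h : TblOK t t') (p : GolayPt) :
    idx (tblPerm t t' h p) = t.getD (idx p) 0 := by
  show idx (pt (t.getD (idx p) 0)) = _
  exact idx_pt (h.2.2 ⟨idx p, idx_lt p⟩)

theorem tblPerm_models (t t' : List ℕ) (h : TblOK t t') :
    Models (G := Equiv.Perm GolayPt) gmask (tblPerm t t' h) (applyTbl t) :=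
  models_of_table _ t (idx_tblPerm t t' h)

theorem tblPerm_mem_M24 (t t' : List ℕ) (h : TblOK t t')
    (hc : ∀ g ∈ genMask, enc (applyTbl t g) = applyTbl t g) : tblPerm t t' h ∈ M24 :=
  mem_M24_of_tbl _ t (idx_tblPerm t t' h) hc

/-! ### `M24` preserves the supports, octads, dodecads -/

theorem smul_mem_supports {σ : Equiv.Perm GolayPt} (hσ : σ ∈ M24) {s : Finset GolayPt}
    (hs : s ∈ supports (golayCode : Set (GolayPt → ZMod 2))) :
    σ • s ∈ supports (golayCode : Set (GolayPt → ZMod 2)) := by
  have h := MulAction.mem_stabilizer_iff.mp hσ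
  rw [← h]
  exact Set.smul_mem_smul_set hs

theorem smul_mem_octads {σ : Equiv.Perm GolayPt} (hσ : σ ∈ M24) {s : Finset GolayPt}
    (hs : s ∈ octads) : σ • s ∈ octads :=
  ⟨smul_mem_supports hσ hs.1, by rw [Finset.card_smul_finset]; exact hs.2⟩

theorem smul_mem_dodecads {σ : Equiv.Perm GolayPt} (hσ : σ ∈ M24) {s : Finset GolayPt}
    (hs : s ∈ dodecads) : σ • s ∈ dodecads :=
  ⟨smul_mem_supports hσ hs.1, by rw [Finset.card_smul_finset]; exact hs.2⟩

theorem card_inter_eq_popc (s u : Finset GolayPt) :
    (s ∩ u).card = popc 24 (gmask s &&& gmask u) := by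
  rw [card_eq_popc_gmask, gmask, maskOf_inter idx_injective]

end Cfsg.Agent.Lib.Helper35
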