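import Mathlib
import Cfsg.Agent.Lib.Helper35.GraphTab

/-! Replacing the table of a permutation by an equal one, so that long products can be computed
through explicit intermediate tables. -/

set_option autoImplicit false

namespace Cfsg.Agent.Lib.Helper35.GraphTab

/-- The two tables agree below `n`. -/
def tblEqb (n : ℕ) (t u : List ℕ) : Bool := (List.range n).all fun i => t.getD i 0 == u.getD i 0

theorem IsTab.congr {n : ℕ} {σ : Equiv.Perm (Fin n)} {t u : List ℕ} (h : IsTab σ t)
    (he : tblEqb n t u = true) : IsTab σ u := by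
  intro x hx
  unfold tblEqb at he
  rw [List.all_eq_true] at he
  have h1 := he x (List.mem_range.mpr hx)
  rw [beq_iff_eq] at h1
  rw [h x hx, h1]

/-- The table of a square. -/
theorem IsTab.sq {n : ℕ} {σ : Equiv.Perm (Fin n)} {t u : List ℕ} (k : ℕ) (h : IsTab (σ ^ k) t)
    (he : tblEqb n (tcomp n t t) u = true) : IsTab (σ ^ (2 * k)) u := by
  have h1 := (h.mul h).congr he
  rwa [← pow_add, ← two_mul] at h1

/-- The table of a product of two powers. -/
theorem IsTab.pow_mul_pow {n : ℕ} {σ : Equiv.Perm (Fin n)} {t s : List ℕ} (k l : ℕ)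
    (h : IsTab (σ ^ k) t) (h' : IsTab (σ ^ l) s) : IsTab (σ ^ (k + l)) (tcomp n t s) := by
  have h1 := h.mul h'
  rwa [← pow_add] at h1

end Cfsg.Agent.Lib.Helper35.GraphTab
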