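import Mathlib
import Cfsg.Prelude.Def_Sporadic_a

/-!
The graph on an extra vertex, the points and the blocks of a family of sets: adjacency, the graph
isomorphism induced by an isomorphism of families, the stabiliser of the extra vertex in the
automorphism group of the graph, and a counting criterion for the order of that group.
-/

set_option autoImplicit false

namespace Cfsg.Agent.Lib.Helper35.PBG

open Cfsg

open scoped Pointwise

universe u v

variable {α : Type u} {β : Type v}

/-! ### Adjacency -/

section Adj

variable (B : Set (Finset α))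

@[simp] theorem adj_none_inl (a : α) : (pointBlockGraph B).Adj none (some (Sum.inl a)) := by
  simp [pointBlockGraph, pointBlockRel]

@[simp] theorem adj_inl_none (a : α) : (pointBlockGraph B).Adj (some (Sum.inl a)) none :=
  (adj_none_inl B a).symm

@[simp] theorem not_adj_none_inr (b : B) :
    ¬ (pointBlockGraph B).Adj none (some (Sum.inr b)) := by
  simp [pointBlockGraph, pointBlockRel]

@[simp] theorem not_adj_inr_none (b : B) :
    ¬ (pointBlockGraph B).Adj (some (Sum.inr b)) none := fun h => not_adj_none_inr B b h.symm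

@[simp] theorem not_adj_inl_inl (a a' : α) :
    ¬ (pointBlockGraph B).Adj (some (Sum.inl a)) (some (Sum.inl a')) := by
  simp [pointBlockGraph, pointBlockRel]

@[simp] theorem adj_inl_inr (a : α) (b : B) :
    (pointBlockGraph B).Adj (some (Sum.inl a)) (some (Sum.inr b)) ↔ a ∈ (b : Finset α) := by
  simp [pointBlockGraph, pointBlockRel]

@[simp] theorem adj_inr_inl (a : α) (b : B) :
    (pointBlockGraph B).Adj (some (Sum.inr b)) (some (Sum.inl a)) ↔ a ∈ (b : Finset α) := by
  rw [SimpleGraph.adj_comm, adj_inl_inr]

@[simp] theorem adj_inr_inr (b c : B) :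
    (pointBlockGraph B).Adj (some (Sum.inr b)) (some (Sum.inr c)) ↔
      b ≠ c ∧ Disjoint (b : Finset α) (c : Finset α) := by
  simp [pointBlockGraph, pointBlockRel, disjoint_comm]

theorem adj_none_iff (v : Option (α ⊕ B)) :
    (pointBlockGraph B).Adj none v ↔ ∃ a, v = some (Sum.inl a) := by
  rcases v with _ | a | b
  · simp
  · simp
  · simp

end Adj

/-! ### The isomorphism of graphs induced by an isomorphism of families -/

section Iso

variable [DecidableEq α] [DecidableEq β] {B : Set (Finset α)} {B' : Set (Finset β)}

/-- The bijection between the blocks. -/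
def blockEquiv (e : α ≃ β) (he : (fun b => b.image e) '' B = B') : B ≃ B' where
  toFun b := ⟨(b : Finset α).image e, he ▸ Set.mem_image_of_mem _ b.2⟩
  invFun b' := ⟨(b' : Finset β).image e.symm, by
    obtain ⟨c, hc, hcb⟩ : (b' : Finset β) ∈ (fun b => b.image e) '' B := he ▸ b'.2
    rw [← hcb, Finset.image_image]
    simpa using hc⟩
  left_inv b := by
    apply Subtype.ext
    simp [Finset.image_image]
  right_inv b' := by
    apply Subtype.ext
    simp [Finset.image_image]

@[simp] theorem blockEquiv_coe (e : α ≃ β) (he : (fun b => b.image e) '' B = B') (b : B) :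
    ((blockEquiv e he b : B') : Finset β) = (b : Finset α).image e := rfl

/-- The graph isomorphism induced by an isomorphism of families. -/
def isoOfEquiv (e : α ≃ β) (he : (fun b => b.image e) '' B = B') :
    pointBlockGraph B ≃g pointBlockGraph B' where
  toEquiv := Equiv.optionCongr (Equiv.sumCongr e (blockEquiv e he))
  map_rel_iff' := by
    intro u v
    rcases u with _ | a | b <;> rcases v with _ | a' | b' <;>
      simp [Finset.disjoint_image e.injective, Finset.mem_image]

@[simp] theorem isoOfEquiv_none (e : α ≃ β) (he : (fun b => b.image e) '' B = B') :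
    isoOfEquiv e he none = none := rfl

@[simp] theorem isoOfEquiv_inl (e : α ≃ β) (he : (fun b => b.image e) '' B = B') (a : α) :
    isoOfEquiv e he (some (Sum.inl a)) = some (Sum.inl (e a)) := rfl

@[simp] theorem isoOfEquiv_inr (e : α ≃ β) (he : (fun b => b.image e) '' B = B') (b : B) :
    isoOfEquiv e he (some (Sum.inr b)) = some (Sum.inr (blockEquiv e he b)) := rfl

end Iso

/-! ### The stabiliser of the extra vertex -/

section Stab

variable [DecidableEq α] {B : Set (Finset α)}

theorem smul_family (σ : Equiv.Perm α) (B : Set (Finset α)) :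
    σ • B = (fun b => b.image σ) '' B := by
  rw [← Set.image_smul]
  apply Set.image_congr
  intro b _
  ext x
  simp [Finset.mem_smul_finset]

/-- The graph automorphism induced by an automorphism of the family. -/
def autToIso (σ : setSystemAut B) : pointBlockGraph B ≃g pointBlockGraph B :=
  isoOfEquiv (σ : Equiv.Perm α) (by rw [← smul_family]; exact MulAction.mem_stabilizer_iff.mp σ.2)

@[simp] theorem autToIso_none (σ : setSystemAut B) : autToIso σ none = none := rfl

@[simp] theorem autToIso_inl (σ : setSystemAut B) (a : α) :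
    autToIso σ (some (Sum.inl a)) = some (Sum.inl ((σ : Equiv.Perm α) a)) := rfl

theorem autToIso_inr_coe (σ : setSystemAut B) (b : B) :
    ∃ b' : B, autToIso σ (some (Sum.inr b)) = some (Sum.inr b') ∧
      (b' : Finset α) = (b : Finset α).image (σ : Equiv.Perm α) := ⟨_, rfl, rfl⟩

theorem autToIso_injective : Function.Injective (autToIso (B := B)) := by
  intro σ τ h
  apply Subtype.ext
  ext a
  have := congrArg (fun ψ : pointBlockGraph B ≃g pointBlockGraph B => ψ (some (Sum.inl a))) h
  simpa using this

omit [DecidableEq α] in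
/-- An automorphism fixing the extra vertex permutes the points. -/
theorem exists_perm_of_fix (ψ : pointBlockGraph B ≃g pointBlockGraph B) (h : ψ none = none) :
    ∃ σ : Equiv.Perm α, ∀ a, ψ (some (Sum.inl a)) = some (Sum.inl (σ a)) := by
  have h' : ψ.symm none = none := by
    conv_lhs => rw [← h]
    exact ψ.symm_apply_apply none
  have key : ∀ (φ : pointBlockGraph B ≃g pointBlockGraph B), φ none = none →
      ∀ a, ∃ a', φ (some (Sum.inl a)) = some (Sum.inl a') := by
    intro φ hφ a
    have : (pointBlockGraph B).Adj (φ none) (φ (some (Sum.inl a))) :=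
      φ.map_adj_iff.mpr (adj_none_inl B a)
    rw [hφ] at this
    exact (adj_none_iff B _).mp this
  choose f hf using key ψ h
  choose g hg using key ψ.symm h'
  refine ⟨⟨f, g, fun a => ?_, fun a => ?_⟩, hf⟩
  · have := hg (f a)
    rw [← hf, RelIso.symm_apply_apply] at this
    simpa using this.symm
  · have := hf (g a)
    rw [← hg, RelIso.apply_symm_apply] at this
    simpa using this.symm

/-- An automorphism fixing the extra vertex and acting as `σ` on the points maps blocks to their
images under `σ`. -/
theorem block_image_of_fix (ψ : pointBlockGraph B ≃g pointBlockGraph B) (h : ψ none = none)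
    (σ : Equiv.Perm α) (hσ : ∀ a, ψ (some (Sum.inl a)) = some (Sum.inl (σ a))) (b : B) :
    ∃ b' : B, ψ (some (Sum.inr b)) = some (Sum.inr b') ∧
      (b' : Finset α) = (b : Finset α).image σ := by
  rcases hv : ψ (some (Sum.inr b)) with _ | a | b'
  · rw [← h] at hv
    exact absurd (ψ.injective hv) (by simp)
  · have := hσ (σ.symm a)
    rw [Equiv.apply_symm_apply, ← hv] at this
    exact absurd (ψ.injective this) (by simp)
  · refine ⟨b', rfl, ?_⟩
    ext x
    have h1 : (pointBlockGraph B).Adj (ψ (some (Sum.inl (σ.symm x)))) (ψ (some (Sum.inr b))) ↔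
        (pointBlockGraph B).Adj (some (Sum.inl (σ.symm x))) (some (Sum.inr b)) := ψ.map_adj_iff
    rw [hσ, hv, Equiv.apply_symm_apply, adj_inl_inr, adj_inl_inr] at h1
    rw [h1, Finset.mem_image]
    constructor
    · intro hx
      exact ⟨_, hx, Equiv.apply_symm_apply σ x⟩
    · rintro ⟨y, hy, rfl⟩
      simpa using hy

theorem exists_aut_of_fix (ψ : pointBlockGraph B ≃g pointBlockGraph B) (h : ψ none = none) :
    ∃ σ : setSystemAut B, autToIso σ = ψ := by
  obtain ⟨σ, hσ⟩ := exists_perm_of_fix ψ h
  have h' : ψ.symm none = none := by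
    conv_lhs => rw [← h]
    exact ψ.symm_apply_apply none
  have hσ' : ∀ a, ψ.symm (some (Sum.inl a)) = some (Sum.inl (σ.symm a)) := by
    intro a
    have := hσ (σ.symm a)
    rw [Equiv.apply_symm_apply] at this
    rw [← this, RelIso.symm_apply_apply]
  have hmem : σ ∈ setSystemAut B := by
    rw [MulAction.mem_stabilizer_iff, smul_family]
    apply Set.Subset.antisymm
    · rintro _ ⟨b, hb, rfl⟩
      obtain ⟨b', -, hb'⟩ := block_image_of_fix ψ h σ hσ ⟨b, hb⟩
      show Finset.image (⇑σ) b ∈ B
      have : Finset.image (⇑σ) b = (b' : Finset α) := hb'.symm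
      rw [this]
      exact b'.2
    · intro b hb
      obtain ⟨b', -, hb'⟩ := block_image_of_fix ψ.symm h' σ.symm hσ' ⟨b, hb⟩
      refine ⟨b', b'.2, ?_⟩
      show Finset.image (⇑σ) (b' : Finset α) = b
      rw [hb']
      show Finset.image (⇑σ) (Finset.image (⇑σ.symm) b) = b
      rw [Finset.image_image]
      simp
  refine ⟨⟨σ, hmem⟩, ?_⟩
  apply RelIso.ext
  intro v
  rcases v with _ | a | b
  · rw [autToIso_none, h]
  · rw [autToIso_inl, hσ]
  · obtain ⟨b1, h1, h1'⟩ := autToIso_inr_coe ⟨σ, hmem⟩ b
    obtain ⟨b2, h2, h2'⟩ := block_image_of_fix ψ h σ hσ b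
    rw [h1, h2]
    congr 2
    apply Subtype.ext
    rw [h1', h2']

theorem card_stabilizer_none :
    Nat.card (MulAction.stabilizer (pointBlockGraph B ≃g pointBlockGraph B)
      (none : Option (α ⊕ B))) = Nat.card (setSystemAut B) := by
  symm
  refine Nat.card_congr (Equiv.ofBijective
    (fun σ => ⟨autToIso σ, by rw [MulAction.mem_stabilizer_iff]; rfl⟩) ⟨?_, ?_⟩)
  · intro σ τ hστ
    exact autToIso_injective (congrArg Subtype.val hστ)
  · rintro ⟨ψ, hψ⟩
    obtain ⟨σ, hσ⟩ := exists_aut_of_fix ψ (MulAction.mem_stabilizer_iff.mp hψ)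
    exact ⟨σ, Subtype.ext hσ⟩

/-- If the automorphisms of the family are transitive on the points, the blocks are nonempty and
some automorphism of the graph moves the extra vertex to a point, then the automorphism group of
the graph is transitive on the vertices. -/
theorem exists_move [Nonempty α] (htrans : MulAction.IsPretransitive (setSystemAut B) α)
    (hne : ∀ b ∈ B, b.Nonempty)
    (ψ : pointBlockGraph B ≃g pointBlockGraph B) (a0 : α) (hψ : ψ none = some (Sum.inl a0))
    (v : Option (α ⊕ B)) :
    ∃ g : pointBlockGraph B ≃g pointBlockGraph B, g none = v := by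
  have hpt : ∀ a : α, ∃ g : pointBlockGraph B ≃g pointBlockGraph B,
      g none = some (Sum.inl a) := by
    intro a
    obtain ⟨σ, hσ⟩ := htrans.exists_smul_eq a0 a
    refine ⟨autToIso σ * ψ, ?_⟩
    rw [RelIso.mul_apply, hψ, autToIso_inl]
    exact congrArg (fun x => some (Sum.inl x)) hσ
  rcases v with _ | a | b
  · exact ⟨1, rfl⟩
  · exact hpt a
  · obtain ⟨a, ha⟩ := hne b b.2
    obtain ⟨g, hg⟩ := hpt a
    have h1 : (pointBlockGraph B).Adj (g none) (g (g.symm (some (Sum.inr b)))) := by
      rw [hg, RelIso.apply_symm_apply]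
      exact (adj_inl_inr B a b).mpr ha
    rw [g.map_adj_iff] at h1
    obtain ⟨q, hq⟩ := (adj_none_iff B _).mp h1
    obtain ⟨g', hg'⟩ := hpt q
    refine ⟨g * g', ?_⟩
    rw [RelIso.mul_apply, hg', ← hq, RelIso.apply_symm_apply]

/-- The order of the automorphism group of the graph when it is transitive on the vertices. -/
theorem card_iso_of_move [Finite α] [Nonempty α] [Finite B]
    (htrans : MulAction.IsPretransitive (setSystemAut B) α)
    (hne : ∀ b ∈ B, b.Nonempty)
    (ψ : pointBlockGraph B ≃g pointBlockGraph B) (a0 : α) (hψ : ψ none = some (Sum.inl a0)) :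
    Nat.card (pointBlockGraph B ≃g pointBlockGraph B) =
      Nat.card (setSystemAut B) * (Nat.card α + Nat.card B + 1) := by
  rw [← Subgroup.card_mul_index (MulAction.stabilizer (pointBlockGraph B ≃g pointBlockGraph B)
    (none : Option (α ⊕ B))), card_stabilizer_none, MulAction.index_stabilizer]
  congr 1
  have : MulAction.orbit (pointBlockGraph B ≃g pointBlockGraph B) (none : Option (α ⊕ B)) =
      Set.univ := by
    apply Set.eq_univ_of_forall
    intro v
    obtain ⟨g, hg⟩ := exists_move htrans hne ψ a0 hψ v
    exact ⟨g, hg⟩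
  rw [this, Set.ncard_univ, Finite.card_option, Nat.card_sum]

end Stab

end Cfsg.Agent.Lib.Helper35.PBG
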