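import Mathlib
import Cfsg.Prelude.Def_Sporadic_a
import Cfsg.Agent.Lib.Helper35.SteinerSearch
import Cfsg.Agent.Lib.Helper35.PointBlock

/-!
A concrete Steiner system S(3, 6, 22) on `Fin 22` given by 77 bit masks, its point-block graph
coded on the numbers below 100, and an automorphism of that graph moving the extra vertex.
-/

set_option autoImplicit false
set_option maxHeartbeats 4000000
set_option maxRecDepth 100000

namespace Cfsg.Agent.Lib.Helper35.HS100

open Cfsg Cfsg.Agent.Lib.Helper35 Cfsg.Agent.Lib.Helper35.StSearch Cfsg.Agent.Lib.Helper35.PBG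

/-- The 77 blocks as bit masks. -/
def std22 : List ℕ := [1594, 4773, 12036, 16601, 21574, 41666, 55680, 58401, 67881, 73751, 78984, 102512, 115212, 134275, 137244, 143650, 150112, 164165, 197520, 267080, 278836, 288778, 297489, 329924, 361730, 402512, 426152, 479233, 525792, 538689, 541443, 559142, 565528, 609296, 680068, 693760, 720970, 787469, 790674, 860704, 1048974, 1053969, 1058992, 1084488, 1120770, 1139008, 1188361, 1228818, 1246244, 1310819, 1328768, 1355780, 1573460, 1593384, 1671297, 1968384, 2099538, 2105452, 2126352, 2131092, 2134027, 2164289, 2179234, 2245896, 2336768, 2366496, 2367873, 2490886, 2624136, 2691332, 2752561, 2932800, 3164165, 3179296, 3281088, 3473432, 3679234]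

theorem std22_lt : ∀ b ∈ std22, b < 2 ^ 22 := by decide +kernel

theorem std22_pop : ∀ b ∈ std22, popc 22 b = 6 := by decide +kernel

theorem std22_nodup : std22.Nodup := by decide +kernel

theorem std22_length : std22.length = 77 := by decide +kernel

/-- The mask of three points. -/
def tm (a b c : ℕ) : ℕ := (2 ^ c ||| 2 ^ b) ||| 2 ^ a

/-- Every three distinct points lie in exactly one block of the list. -/
def tripOK : Bool :=
  (List.range 22).all fun a => (List.range 22).all fun b => (List.range 22).all fun c =>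
    (a == b || a == c || b == c) ||
      ((std22.filter fun x => (tm a b c &&& x) == tm a b c).length == 1)

theorem tripOK_true : tripOK = true := by decide +kernel

/-- The standard family. -/
abbrev B22 : Set (Finset (Fin 22)) := stdSet 22 std22

theorem mk_triple (a b c : Fin 22) :
    mk 22 {a, b, c} = tm a.val b.val c.val := by
  have h1 : ({a, b, c} : Finset (Fin 22)) = insert a (insert b (insert c ∅)) := by
    ext x; simp
  rw [h1, mk_insert, mk_insert, mk_insert]
  have h0 : mk 22 (∅ : Finset (Fin 22)) = 0 := maskOf_empty _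
  rw [h0, Nat.zero_or]
  rfl

theorem steiner22 : IsSteinerSystem 3 6 B22 := by
  refine ⟨fun b hb => ?_, fun s hs => ?_⟩
  · rw [card_eq 22 b]
    exact std22_pop _ hb
  · obtain ⟨a, b, c, hab, hac, hbc, rfl⟩ := Finset.card_eq_three.mp hs
    have hchk := tripOK_true
    unfold tripOK at hchk
    rw [List.all_eq_true] at hchk
    have h1 := hchk a.val (List.mem_range.mpr a.2)
    rw [List.all_eq_true] at h1
    have h2 := h1 b.val (List.mem_range.mpr b.2)
    rw [List.all_eq_true] at h2
    have h3 := h2 c.val (List.mem_range.mpr c.2)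
    have hab' : a.val ≠ b.val := fun h => hab (Fin.ext h)
    have hac' : a.val ≠ c.val := fun h => hac (Fin.ext h)
    have hbc' : b.val ≠ c.val := fun h => hbc (Fin.ext h)
    simp only [Bool.or_eq_true, beq_iff_eq, hab', hac', hbc', or_self, false_or] at h3
    obtain ⟨x, hx⟩ := List.length_eq_one_iff.mp h3
    have hxmem : x ∈ std22.filter fun x => (tm a.val b.val c.val &&& x) == tm a.val b.val c.val := by
      rw [hx]; exact List.mem_singleton_self x
    rw [List.mem_filter] at hxmem
    obtain ⟨hx1, hx2⟩ := hxmem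
    rw [beq_iff_eq] at hx2
    have hxlt := std22_lt x hx1
    have hmk : mk 22 (ofMask (vl 22) x) = x := maskOf_ofMask (vl_surj 22) hxlt
    refine ⟨ofMask (vl 22) x, ⟨?_, ?_⟩, ?_⟩
    · show mk 22 (ofMask (vl 22) x) ∈ std22
      rw [hmk]; exact hx1
    · rw [maskOf_subset_iff (vl_inj 22)]
      show mk 22 {a, b, c} &&& mk 22 (ofMask (vl 22) x) = mk 22 {a, b, c}
      rw [hmk, mk_triple]; exact hx2
    · rintro d ⟨hd1, hd2⟩
      have hd1' : mk 22 d ∈ std22 := hd1
      rw [maskOf_subset_iff (vl_inj 22)] at hd2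
      have hd2' : mk 22 {a, b, c} &&& mk 22 d = mk 22 {a, b, c} := hd2
      rw [mk_triple] at hd2'
      have : mk 22 d ∈ std22.filter fun x => (tm a.val b.val c.val &&& x) == tm a.val b.val c.val := by
        rw [List.mem_filter]
        exact ⟨hd1', by rw [beq_iff_eq]; exact hd2'⟩
      rw [hx, List.mem_singleton] at this
      apply mk_inj 22
      rw [this, hmk]

/-! ### Indexing the blocks -/

/-- The mask of the block of given index. -/
def msk (j : ℕ) : ℕ := std22.getD j 0

theorem msk_mem {j : ℕ} (hj : j < 77) : msk j ∈ std22 := by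
  unfold msk
  rw [List.getD_eq_getElem _ _ (by rw [std22_length]; exact hj)]
  exact List.getElem_mem _

/-- The block of given index. -/
def blk (j : Fin 77) : Finset (Fin 22) := ofMask (vl 22) (msk j.val)

theorem mk_blk (j : Fin 77) : mk 22 (blk j) = msk j.val :=
  maskOf_ofMask (vl_surj 22) (std22_lt _ (msk_mem j.2))

theorem blk_mem (j : Fin 77) : blk j ∈ B22 := by
  show mk 22 (blk j) ∈ std22
  rw [mk_blk]; exact msk_mem j.2

theorem msk_inj {i j : ℕ} (hi : i < 77) (hj : j < 77) (h : msk i = msk j) : i = j := by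
  unfold msk at h
  rw [List.getD_eq_getElem _ _ (by rw [std22_length]; exact hi),
    List.getD_eq_getElem _ _ (by rw [std22_length]; exact hj)] at h
  exact (std22_nodup.getElem_inj_iff).mp h

/-- The blocks are indexed by the numbers below 77. -/
noncomputable def eB : Fin 77 ≃ B22 :=
  Equiv.ofBijective (fun j => ⟨blk j, blk_mem j⟩) (by
    constructor
    · intro i j h
      have h1 : blk i = blk j := congrArg Subtype.val h
      have h2 : msk i.val = msk j.val := by rw [← mk_blk, ← mk_blk, h1]
      exact Fin.ext (msk_inj i.2 j.2 h2)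
    · rintro ⟨b, hb⟩
      have hb' : mk 22 b ∈ std22 := hb
      obtain ⟨j, hj, hjb⟩ := List.mem_iff_getElem.mp hb'
      have hj' : j < 77 := by rw [std22_length] at hj; exact hj
      refine ⟨⟨j, hj'⟩, Subtype.ext ?_⟩
      show ofMask (vl 22) (msk j) = b
      unfold msk
      rw [List.getD_eq_getElem _ _ hj, hjb]
      exact ofMask_maskOf (vl_inj 22) b)

theorem eB_coe (j : Fin 77) : ((eB j : B22) : Finset (Fin 22)) = blk j := rfl

/-! ### The graph on the numbers below 100 -/

/-- Adjacency in terms of codes: 0 is the extra vertex, 1..22 the points, 23..99 the blocks. -/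
def adjB (a b : ℕ) : Bool :=
  if a = 0 then decide (0 < b ∧ b < 23)
  else if a < 23 then
    (if b = 0 then true else if b < 23 then false else (msk (b - 23)).testBit (a - 1))
  else
    (if b = 0 then false else if b < 23 then (msk (a - 23)).testBit (b - 1)
      else (a != b && (msk (a - 23) &&& msk (b - 23) == 0)))

/-- The vertices. -/
abbrev V22 : Type := Option (Fin 22 ⊕ B22)

/-- The code of a vertex. -/
noncomputable def num : V22 → ℕ
  | none => 0
  | some (Sum.inl i) => i.val + 1
  | some (Sum.inr b) => (eB.symm b).val + 23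

theorem num_lt (v : V22) : num v < 100 := by
  rcases v with _ | i | b
  · show 0 < 100; norm_num
  · show i.val + 1 < 100; have := i.2; omega
  · show (eB.symm b).val + 23 < 100; have := (eB.symm b).2; omega

/-- The vertex of a code. -/
noncomputable def den (k : Fin 100) : V22 :=
  if h0 : k.val = 0 then none
  else if h1 : k.val < 23 then some (Sum.inl ⟨k.val - 1, by omega⟩)
  else some (Sum.inr (eB ⟨k.val - 23, by have := k.2; omega⟩))

theorem num_den (k : Fin 100) : num (den k) = k.val := by
  unfold den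
  split_ifs with h0 h1
  · exact h0.symm
  · show k.val - 1 + 1 = k.val; omega
  · show (eB.symm (eB _)).val + 23 = k.val
    rw [Equiv.symm_apply_apply]
    show k.val - 23 + 23 = k.val
    omega

theorem den_pt (k : Fin 100) (h0 : ¬ k.val = 0) (h1 : k.val < 23) :
    den k = some (Sum.inl ⟨k.val - 1, by omega⟩) := by
  unfold den
  rw [dif_neg h0, dif_pos h1]

theorem den_blk (k : Fin 100) (h0 : ¬ k.val = 0) (h1 : ¬ k.val < 23) :
    den k = some (Sum.inr (eB ⟨k.val - 23, by have := k.2; omega⟩)) := by
  unfold den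
  rw [dif_neg h0, dif_neg h1]

theorem den_num (v : V22) : den ⟨num v, num_lt v⟩ = v := by
  rcases v with _ | i | b
  · rfl
  · have h0 : ¬ ((⟨num (some (Sum.inl i)), num_lt _⟩ : Fin 100).val = 0) := by
      show ¬ (i.val + 1 = 0); omega
    have h1 : (⟨num (some (Sum.inl i)), num_lt _⟩ : Fin 100).val < 23 := by
      show i.val + 1 < 23; have := i.2; omega
    rw [den_pt _ h0 h1]
    congr 2
  · have h0 : ¬ ((⟨num (some (Sum.inr b)), num_lt _⟩ : Fin 100).val = 0) := by
      show ¬ ((eB.symm b).val + 23 = 0); omega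
    have h1 : ¬ (⟨num (some (Sum.inr b)), num_lt _⟩ : Fin 100).val < 23 := by
      show ¬ ((eB.symm b).val + 23 < 23); omega
    rw [den_blk _ h0 h1]
    congr 2
    apply (Equiv.eq_symm_apply eB).mp
    apply Fin.ext
    show (eB.symm b).val + 23 - 23 = (eB.symm b).val
    omega

/-- The coding of the vertices. -/
noncomputable def E : V22 ≃ Fin 100 where
  toFun v := ⟨num v, num_lt v⟩
  invFun := den
  left_inv := den_num
  right_inv k := Fin.ext (num_den k)

theorem adj_iff (u v : V22) : (pointBlockGraph B22).Adj u v ↔ adjB (num u) (num v) = true := by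
  rcases u with _ | i | b <;> rcases v with _ | i' | b'
  · simp [num, adjB]
  · have := i'.2
    simp [num, adjB]
    omega
  · simp [num, adjB]
  · have := i.2
    have h0 : ¬ (i.val + 1 = 0) := by omega
    have h1 : i.val + 1 < 23 := by omega
    simp [num, adjB, h1]
  · have := i.2
    have := i'.2
    have h1 : i.val + 1 < 23 := by omega
    have h1' : i'.val + 1 < 23 := by omega
    simp [num, adjB, h1, h1']
  · obtain ⟨j, rfl⟩ := eB.surjective b'
    have := i.2
    have h1 : i.val + 1 < 23 := by omega
    simp only [adj_inl_inr, eB_coe, blk, mem_ofMask, vl, num, Equiv.symm_apply_apply, adjB]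
    simp [h1]
  · obtain ⟨j, rfl⟩ := eB.surjective b
    simp [num, adjB]
  · obtain ⟨j, rfl⟩ := eB.surjective b
    have := i'.2
    have h1 : i'.val + 1 < 23 := by omega
    simp only [adj_inr_inl, eB_coe, blk, mem_ofMask, vl, num, Equiv.symm_apply_apply, adjB]
    simp [h1]
  · obtain ⟨j, rfl⟩ := eB.surjective b
    obtain ⟨j', rfl⟩ := eB.surjective b'
    rw [adj_inr_inr, eB_coe, eB_coe, maskOf_disjoint_iff (vl_inj 22)]
    have e1 : maskOf (vl 22) (blk j) = msk j.val := mk_blk j
    have e2 : maskOf (vl 22) (blk j') = msk j'.val := mk_blk j'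
    rw [e1, e2]
    simp only [num, Equiv.symm_apply_apply, adjB]
    have hne : (eB j ≠ eB j') ↔ j.val ≠ j'.val := by
      rw [Ne, Ne, EmbeddingLike.apply_eq_iff_eq, Fin.ext_iff]
    rw [hne]
    simp

/-! ### An automorphism moving the extra vertex -/

/-- The table of the automorphism. -/
def tbPsi : List ℕ := [1, 0, 24, 32, 84, 40, 93, 72, 26, 83, 64, 77, 89, 45, 60, 52, 53, 95, 36, 31, 50, 30, 69, 44, 5, 39, 7, 86, 87, 71, 20, 22, 3, 38, 33, 49, 8, 76, 68, 35, 2, 62, 57, 73, 70, 9, 58, 48, 81, 74, 12, 25, 19, 13, 66, 65, 23, 96, 80, 55, 17, 99, 28, 78, 16, 67, 37, 59, 41, 11, 98, 42, 6, 90, 97, 91, 63, 15, 75, 56, 29, 85, 88, 10, 21, 47, 43, 34, 27, 4, 94, 54, 51, 18, 82, 14, 46, 92, 61, 79]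

/-- The table of its inverse. -/
def tbPsi' : List ℕ := [1, 0, 40, 32, 89, 24, 72, 26, 36, 45, 83, 69, 50, 53, 95, 77, 64, 60, 93, 52, 30, 84, 31, 56, 2, 51, 8, 88, 62, 80, 21, 19, 3, 34, 87, 39, 18, 66, 33, 25, 5, 68, 71, 86, 23, 13, 96, 85, 47, 35, 20, 92, 15, 16, 91, 59, 79, 42, 46, 67, 14, 98, 41, 76, 10, 55, 54, 65, 38, 22, 44, 29, 7, 43, 49, 78, 37, 11, 63, 99, 58, 48, 94, 9, 4, 81, 27, 28, 82, 12, 73, 75, 97, 6, 90, 17, 57, 74, 70, 61]

theorem tbPsi_ok : tblOKb 100 tbPsi tbPsi' = true := by decide +kernel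

/-- The table preserves adjacency. -/
def autOK (tb : List ℕ) : Bool :=
  (List.range 100).all fun a => (List.range 100).all fun b =>
    adjB a b == adjB (tb.getD a 0) (tb.getD b 0)

theorem autOK_spec {tb : List ℕ} (h : autOK tb = true) {a b : ℕ} (ha : a < 100) (hb : b < 100) :
    adjB (tb.getD a 0) (tb.getD b 0) = adjB a b := by
  unfold autOK at h
  rw [List.all_eq_true] at h
  have h1 := h a (List.mem_range.mpr ha)
  rw [List.all_eq_true] at h1
  have h2 := h1 b (List.mem_range.mpr hb)
  rw [beq_iff_eq] at h2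
  exact h2.symm

theorem tbPsi_aut : autOK tbPsi = true := by decide +kernel

/-- The automorphism of the graph given by a table. -/
noncomputable def isoOfTbl (tb tb' : List ℕ) (h : tblOKb 100 tb tb' = true) (haut : autOK tb = true) :
    pointBlockGraph B22 ≃g pointBlockGraph B22 where
  toEquiv := E.trans ((tblPerm 100 tb tb' h).trans E.symm)
  map_rel_iff' := by
    intro u v
    rw [adj_iff, adj_iff]
    have hn : ∀ w : V22, num ((E.trans ((tblPerm 100 tb tb' h).trans E.symm)) w) =
        tb.getD (num w) 0 := by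
      intro w
      show num (den (tblPerm 100 tb tb' h (E w))) = _
      rw [num_den]
      rfl
    rw [hn, hn, autOK_spec haut (num_lt u) (num_lt v)]

theorem num_isoOfTbl (tb tb' : List ℕ) (h : tblOKb 100 tb tb' = true) (haut : autOK tb = true)
    (w : V22) : num (isoOfTbl tb tb' h haut w) = tb.getD (num w) 0 := by
  show num (den (tblPerm 100 tb tb' h (E w))) = _
  rw [num_den]
  rfl

/-- The automorphism moving the extra vertex to a point. -/
noncomputable def psi0 : pointBlockGraph B22 ≃g pointBlockGraph B22 :=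
  isoOfTbl tbPsi tbPsi' tbPsi_ok tbPsi_aut

theorem psi0_none : ∃ a : Fin 22, psi0 none = some (Sum.inl a) := by
  have h : num (psi0 none) = 1 := by
    unfold psi0
    rw [num_isoOfTbl]
    rfl
  rcases hv : psi0 none with _ | i | b
  · rw [hv] at h
    exact absurd h (by show (0 : ℕ) ≠ 1; norm_num)
  · exact ⟨i, rfl⟩
  · rw [hv] at h
    have : (eB.symm b).val + 23 = 1 := h
    omega

end Cfsg.Agent.Lib.Helper35.HS100
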