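import Mathlib
import Cfsg.Agent.Lib.Helper35.HS100

/-!
An odd automorphism of the concrete 100-vertex graph: an involution with 35 two-cycles fixing the
extra vertex, a point and a block; and the sign homomorphism on graph automorphisms.
-/

set_option autoImplicit false
set_option maxHeartbeats 4000000
set_option maxRecDepth 100000

namespace Cfsg.Agent.Lib.Helper35.HS100

open Cfsg Cfsg.Agent.Lib.Helper35 Cfsg.Agent.Lib.Helper35.StSearch Cfsg.Agent.Lib.Helper35.PBG

/-- The table of the odd involution. -/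
def tbTau : List ℕ := [0, 1, 16, 6, 4, 15, 3, 7, 8, 19, 10, 17, 20, 13, 14, 5, 2, 11, 21, 9, 12, 18, 22, 35, 24, 62, 26, 34, 28, 61, 32, 60, 30, 33, 27, 23, 77, 76, 74, 75, 72, 73, 42, 43, 55, 53, 51, 47, 68, 63, 64, 46, 52, 45, 54, 44, 56, 65, 67, 66, 31, 29, 25, 49, 50, 57, 59, 58, 48, 69, 70, 71, 40, 41, 38, 39, 37, 36, 78, 94, 80, 81, 85, 83, 84, 82, 98, 99, 92, 89, 96, 91, 88, 95, 79, 93, 90, 97, 86, 87]

theorem tbTau_ok : tblOKb 100 tbTau tbTau = true := by decide +kernel

theorem tbTau_aut : autOK tbTau = true := by decide +kernel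

/-- The two-cycles of the involution. -/
def swapsTau : List (Fin 100 × Fin 100) := [(2, 16), (3, 6), (5, 15), (9, 19), (11, 17), (12, 20), (18, 21), (23, 35), (25, 62), (27, 34), (29, 61), (30, 32), (31, 60), (36, 77), (37, 76), (38, 74), (39, 75), (40, 72), (41, 73), (44, 55), (45, 53), (46, 51), (48, 68), (49, 63), (50, 64), (57, 65), (58, 67), (59, 66), (79, 94), (82, 85), (86, 98), (87, 99), (88, 92), (90, 96), (93, 95)]

theorem swapsTau_ne : ∀ ab ∈ swapsTau, ab.1 ≠ ab.2 := by decide +kernel

theorem swapsTau_length : swapsTau.length = 35 := by decide +kernel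

theorem sign_prod_swaps {n : ℕ} (L : List (Fin n × Fin n)) (h : ∀ ab ∈ L, ab.1 ≠ ab.2) :
    Equiv.Perm.sign (L.map fun ab => Equiv.swap ab.1 ab.2).prod = (-1) ^ L.length := by
  induction L with
  | nil => simp
  | cons ab L ih =>
    rw [List.map_cons, List.prod_cons, map_mul, ih (fun x hx => h x (List.mem_cons_of_mem _ hx)),
      Equiv.Perm.sign_swap (h ab (List.mem_cons_self ..)), List.length_cons, pow_succ, mul_comm]

theorem tblPerm_tau_eq :
    tblPerm 100 tbTau tbTau tbTau_ok = (swapsTau.map fun ab => Equiv.swap ab.1 ab.2).prod := by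
  apply Equiv.ext
  decide +kernel

theorem sign_tblPerm_tau : Equiv.Perm.sign (tblPerm 100 tbTau tbTau tbTau_ok) = -1 := by
  rw [tblPerm_tau_eq, sign_prod_swaps _ swapsTau_ne, swapsTau_length]
  decide

/-! ### The sign of a graph automorphism -/

/-- A graph automorphism as a permutation of the vertices. -/
def isoToPermHom {V : Type*} (G : SimpleGraph V) : (G ≃g G) →* Equiv.Perm V where
  toFun g := g.toEquiv
  map_one' := rfl
  map_mul' _ _ := rfl

/-- The sign of a graph automorphism. -/
def sgnHom {V : Type*} [Fintype V] [DecidableEq V] (G : SimpleGraph V) : (G ≃g G) →* ℤˣ :=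
  Equiv.Perm.sign.comp (isoToPermHom G)

theorem sgnHom_eq_of_conj {V : Type*} [Fintype V] [DecidableEq V] {G : SimpleGraph V} {n : ℕ}
    (F : V ≃ Fin n) (g : G ≃g G) (p : Equiv.Perm (Fin n)) (h : ∀ v, F (g v) = p (F v)) :
    sgnHom G g = Equiv.Perm.sign p := by
  have : g.toEquiv = F.symm.permCongr p := by
    ext v
    rw [Equiv.permCongr_apply, Equiv.symm_symm, ← h]
    simp
  show Equiv.Perm.sign g.toEquiv = _
  rw [this, Equiv.Perm.sign_permCongr]

/-! ### The odd automorphism of the concrete graph -/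

/-- The odd involution as a graph automorphism. -/
noncomputable def tau0 : pointBlockGraph B22 ≃g pointBlockGraph B22 :=
  isoOfTbl tbTau tbTau tbTau_ok tbTau_aut

theorem num_injective : Function.Injective num := by
  intro v w h
  apply E.injective
  exact Fin.ext h

theorem tau0_fix {v : V22} (h : tbTau.getD (num v) 0 = num v) : tau0 v = v := by
  apply num_injective
  unfold tau0
  rw [num_isoOfTbl, h]

theorem tau0_none : tau0 none = none := tau0_fix (by decide +kernel)

theorem tau0_pt : tau0 (some (Sum.inl 0)) = some (Sum.inl 0) := tau0_fix (by decide +kernel)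

theorem tau0_blk : tau0 (some (Sum.inr (eB 1))) = some (Sum.inr (eB 1)) := by
  apply tau0_fix
  have : num (some (Sum.inr (eB 1))) = 24 := by
    show (eB.symm (eB 1)).val + 23 = 24
    rw [Equiv.symm_apply_apply]
    rfl
  rw [this]
  decide +kernel

theorem E_tau0 (w : V22) : E (tau0 w) = tblPerm 100 tbTau tbTau tbTau_ok (E w) := by
  apply Fin.ext
  show num (tau0 w) = tbTau.getD (num w) 0
  unfold tau0
  rw [num_isoOfTbl]

/-! ### Transport to an arbitrary Steiner system -/

/-- For a family isomorphic to the concrete one, its graph has an automorphism moving the extra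
vertex to a point, and an odd automorphism fixing the extra vertex, a point and a block. -/
theorem exists_data {α : Type*} [DecidableEq α] {B : Set (Finset α)} (e : α ≃ Fin 22)
    (he : (fun b => b.image e) '' B = B22) [Fintype (Option (α ⊕ B))]
    [DecidableEq (Option (α ⊕ B))] :
    (∃ (ψ : pointBlockGraph B ≃g pointBlockGraph B) (a0 : α), ψ none = some (Sum.inl a0)) ∧
    ∃ g0 : pointBlockGraph B ≃g pointBlockGraph B, g0 none = none ∧
      sgnHom (pointBlockGraph B) g0 = -1 ∧
      (∃ a1 : α, g0 (some (Sum.inl a1)) = some (Sum.inl a1)) ∧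
      ∃ b1 : B, g0 (some (Sum.inr b1)) = some (Sum.inr b1) := by
  obtain ⟨a0, ha0⟩ := psi0_none
  have hJpt : ∀ x : Fin 22, (isoOfEquiv e he).symm (some (Sum.inl x)) =
      some (Sum.inl (e.symm x)) := by
    intro x
    rw [RelIso.symm_apply_eq, isoOfEquiv_inl, Equiv.apply_symm_apply]
  have hJbl : ∀ c : B22, (isoOfEquiv e he).symm (some (Sum.inr c)) =
      some (Sum.inr ((blockEquiv e he).symm c)) := by
    intro c
    rw [RelIso.symm_apply_eq, isoOfEquiv_inr, Equiv.apply_symm_apply]
  refine ⟨⟨(isoOfEquiv e he).trans (psi0.trans (isoOfEquiv e he).symm), e.symm a0, ?_⟩,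
    (isoOfEquiv e he).trans (tau0.trans (isoOfEquiv e he).symm), ?_, ?_, ⟨e.symm 0, ?_⟩,
    ⟨(blockEquiv e he).symm (eB 1), ?_⟩⟩
  · show (isoOfEquiv e he).symm (psi0 (isoOfEquiv e he none)) = _
    rw [isoOfEquiv_none, ha0, hJpt]
  · show (isoOfEquiv e he).symm (tau0 (isoOfEquiv e he none)) = _
    rw [isoOfEquiv_none, tau0_none, RelIso.symm_apply_eq, isoOfEquiv_none]
  · rw [sgnHom_eq_of_conj ((isoOfEquiv e he).toEquiv.trans E) _
      (tblPerm 100 tbTau tbTau tbTau_ok), sign_tblPerm_tau]
    intro v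
    show E (isoOfEquiv e he ((isoOfEquiv e he).symm (tau0 (isoOfEquiv e he v)))) = _
    rw [RelIso.apply_symm_apply, E_tau0]
    rfl
  · show (isoOfEquiv e he).symm (tau0 (isoOfEquiv e he (some (Sum.inl (e.symm 0))))) = _
    rw [isoOfEquiv_inl, Equiv.apply_symm_apply, tau0_pt, hJpt]
  · show (isoOfEquiv e he).symm (tau0 (isoOfEquiv e he
      (some (Sum.inr ((blockEquiv e he).symm (eB 1)))))) = _
    rw [isoOfEquiv_inr, Equiv.apply_symm_apply, tau0_blk, hJbl]

end Cfsg.Agent.Lib.Helper35.HS100
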