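import Mathlib
import Cfsg.Agent.Lib.Helper35.SteinerSearch

/-! Transport of automorphisms along isomorphisms of set systems, and the passage from
elementary transitivity and sharpness statements to the forms used in the statements. -/

set_option autoImplicit false

open scoped Pointwise

namespace Cfsg.Agent.Lib.Helper35.StSearch

open Cfsg

theorem smul_image_conj {α β : Type*} [DecidableEq α] [DecidableEq β] (e : α ≃ β)
    (g : Equiv.Perm α) (b : Finset α) :
    (e.permCongr g) • (b.image e) = (g • b).image e := by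
  ext x
  simp only [Finset.mem_smul_finset, Finset.mem_image]
  constructor
  · rintro ⟨_, ⟨a, ha, rfl⟩, rfl⟩
    exact ⟨g a, ⟨a, ha, rfl⟩, by simp [Equiv.permCongr_apply]⟩
  · rintro ⟨_, ⟨a, ha, rfl⟩, rfl⟩
    exact ⟨e a, ⟨a, ha, rfl⟩, by simp [Equiv.permCongr_apply]⟩

theorem conj_mem_aut {α β : Type*} [DecidableEq α] [DecidableEq β] {B : Set (Finset α)}
    {B' : Set (Finset β)} (e : α ≃ β) (h : (fun b => b.image e) '' B = B')
    {g : Equiv.Perm α} (hg : g ∈ setSystemAut B) : e.permCongr g ∈ setSystemAut B' := by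
  rw [MulAction.mem_stabilizer_iff] at hg ⊢
  subst h
  ext c
  constructor
  · rintro ⟨_, ⟨b, hb, rfl⟩, rfl⟩
    refine ⟨g • b, ?_, (smul_image_conj e g b).symm⟩
    rw [← hg]
    exact ⟨b, hb, rfl⟩
  · rintro ⟨b, hb, rfl⟩
    rw [← hg] at hb
    obtain ⟨b0, hb0, rfl⟩ := hb
    exact ⟨b0.image e, ⟨b0, hb0, rfl⟩, smul_image_conj e g b0⟩

theorem image_symm_image {α β : Type*} [DecidableEq α] [DecidableEq β] {B : Set (Finset α)}
    {B' : Set (Finset β)} (e : α ≃ β) (h : (fun b => b.image e) '' B = B') :
    (fun b => b.image e.symm) '' B' = B := by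
  subst h
  rw [Set.image_image]
  convert Set.image_id B using 2
  rw [Finset.image_image]
  simp

/-- Elementary transitivity and sharpness of the automorphism group, with respect to `k`
points. -/
def TransSharp {α : Type*} [DecidableEq α] (k : ℕ) (B : Set (Finset α)) : Prop :=
  (∀ x y : Fin k ↪ α, ∃ g ∈ setSystemAut B, ∀ i, g (x i) = y i) ∧
    ∀ g ∈ setSystemAut B, ∀ x : Fin k ↪ α, (∀ i, g (x i) = x i) → g = 1

theorem TransSharp.of_iso {α β : Type*} [DecidableEq α] [DecidableEq β] {k : ℕ}
    {B : Set (Finset α)} {B' : Set (Finset β)} (h : TransSharp k B) (hiso : SetSystemIso B B') :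
    TransSharp k B' := by
  obtain ⟨e, he⟩ := hiso
  have he' := image_symm_image e he
  refine ⟨fun x y => ?_, fun g hg x hx => ?_⟩
  · obtain ⟨g, hg, hgx⟩ := h.1 (x.trans e.symm.toEmbedding) (y.trans e.symm.toEmbedding)
    refine ⟨e.permCongr g, conj_mem_aut e he hg, fun i => ?_⟩
    have := hgx i
    simp only [Function.Embedding.trans_apply, Equiv.coe_toEmbedding] at this
    rw [Equiv.permCongr_apply, this, Equiv.apply_symm_apply]
  · have h1 := h.2 (e.symm.permCongr g) (conj_mem_aut e.symm he' hg)
      (x.trans e.symm.toEmbedding) (fun i => by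
        simp only [Function.Embedding.trans_apply, Equiv.coe_toEmbedding,
          Equiv.permCongr_apply, Equiv.symm_symm, Equiv.apply_symm_apply]
        rw [hx i])
    apply Equiv.ext
    intro b
    have := congrArg (fun f : Equiv.Perm α => e (f (e.symm b))) h1
    simpa [Equiv.permCongr_apply] using this

/-- The forms of the statements. -/
theorem TransSharp.forms {α : Type*} [DecidableEq α] {k : ℕ} {B : Set (Finset α)}
    (h : TransSharp k B) :
    MulAction.IsMultiplyPretransitive (setSystemAut B) α k ∧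
      ∀ x : Fin k ↪ α, MulAction.stabilizer (setSystemAut B) x = ⊥ := by
  refine ⟨?_, fun x => ?_⟩
  · rw [MulAction.isMultiplyPretransitive_iff]
    intro x y
    obtain ⟨g, hg, hgx⟩ := h.1 x y
    exact ⟨⟨g, hg⟩, by ext i; exact hgx i⟩
  · rw [Subgroup.eq_bot_iff_forall]
    intro g hg
    have h1 : g.1 = 1 := h.2 g.1 g.2 x (fun i => by
      have := congrArg (fun f : Fin k ↪ α => f i) (MulAction.mem_stabilizer_iff.mp hg)
      exact this)
    exact Subtype.ext h1

end Cfsg.Agent.Lib.Helper35.StSearch
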