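import Mathlib
import Cfsg.Agent.Lib.Helper35.SteinerAut

/-! Checking transitivity (by a chain of tables) and sharpness (by running through the
permutations of the points off the base) of the automorphism group of a standard family. -/

set_option autoImplicit false

open scoped Pointwise

namespace Cfsg.Agent.Lib.Helper35.StSearch

open Cfsg Cfsg.Agent.Lib.Helper35

theorem smul_eq_image {n : ℕ} (g : Equiv.Perm (Fin n)) (b : Finset (Fin n)) :
    g • b = b.image g := by
  ext x
  simp [Finset.mem_smul_finset]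

/-- A table mapping the standard masks to standard masks gives an automorphism. -/
theorem tbl_mem_aut {n : ℕ} {std tb tb' : List ℕ} (h : tblOKb n tb tb' = true)
    (hall : std.all (fun d => std.contains (mapT n tb d)) = true) :
    tblPerm n tb tb' h ∈ setSystemAut (stdSet n std) := by
  rw [MulAction.mem_stabilizer_iff]
  have hsub : tblPerm n tb tb' h • stdSet n std ⊆ stdSet n std := by
    rintro _ ⟨b, hb, rfl⟩
    show mk n (tblPerm n tb tb' h • b) ∈ std
    rw [smul_eq_image, mk_image_tbl]
    rw [List.all_eq_true] at hall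
    have := hall _ hb
    rwa [List.contains_iff_mem] at this
  apply Set.eq_of_subset_of_ncard_le hsub _ (Set.toFinite _)
  rw [← Set.image_smul, Set.ncard_image_of_injective _ (MulAction.injective _)]

/-- Transitivity on tuples from a chain of transversals. -/
theorem trans_of_chain {n k : ℕ} (A : Subgroup (Equiv.Perm (Fin n))) (hk : k ≤ n)
    (h : ∀ j < k, ∀ p : Fin n, j ≤ p.val →
      ∃ g ∈ A, (∀ i : Fin n, i.val < j → g i = i) ∧ ∀ hj : j < n, g ⟨j, hj⟩ = p)
    (x : Fin k ↪ Fin n) :
    ∃ g ∈ A, ∀ i : Fin k, g ⟨i.val, lt_of_lt_of_le i.2 hk⟩ = x i := by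
  have key : ∀ m ≤ k, ∃ g ∈ A, ∀ i : Fin k, i.val < m →
      g ⟨i.val, lt_of_lt_of_le i.2 hk⟩ = x i := by
    intro m
    induction m with
    | zero => exact fun _ => ⟨1, A.one_mem, fun i hi => absurd hi (Nat.not_lt_zero _)⟩
    | succ m ih =>
      intro hm
      obtain ⟨g, hg, hgx⟩ := ih (by omega)
      have hmk : m < k := by omega
      have hp : m ≤ (g⁻¹ (x ⟨m, hmk⟩)).val := by
        by_contra hlt
        have hlt' : (g⁻¹ (x ⟨m, hmk⟩)).val < m := by omega
        have h1 := hgx ⟨(g⁻¹ (x ⟨m, hmk⟩)).val, by omega⟩ hlt'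
        have h2 : g ⟨(g⁻¹ (x ⟨m, hmk⟩)).val, (g⁻¹ (x ⟨m, hmk⟩)).2⟩ = x ⟨m, hmk⟩ := by
          simp
        have h3 : x ⟨(g⁻¹ (x ⟨m, hmk⟩)).val, by omega⟩ = x ⟨m, hmk⟩ := by
          rw [← h1]; exact h2
        have := congrArg Fin.val (x.injective h3)
        simp only at this
        omega
      obtain ⟨h', hh', hfix, hmap⟩ := h m hmk _ hp
      refine ⟨g * h', A.mul_mem hg hh', fun i hi => ?_⟩
      rw [Equiv.Perm.mul_apply]
      rcases Nat.lt_succ_iff_lt_or_eq.mp hi with hi | hi
      · rw [hfix _ hi]; exact hgx i hi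
      · have : i = ⟨m, hmk⟩ := Fin.ext hi
        subst this
        rw [hmap]
        simp
  obtain ⟨g, hg, hgx⟩ := key k le_rfl
  exact ⟨g, hg, fun i => hgx i i.2⟩

theorem map_val_finRange (n : ℕ) : (List.finRange n).map Fin.val = List.range n := by
  apply List.ext_getElem
  · simp
  · intro i h1 h2
    simp

/-- The table of a permutation. -/
def tblOf {n : ℕ} (g : Equiv.Perm (Fin n)) : List ℕ := (List.finRange n).map fun i => (g i).val

theorem tblOf_getD {n : ℕ} (g : Equiv.Perm (Fin n)) (a : Fin n) :
    (tblOf g).getD a.val 0 = (g a).val := by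
  unfold tblOf
  rw [List.getD_eq_getElem _ _ (by simp)]
  simp

theorem tblOf_perm {n : ℕ} (g : Equiv.Perm (Fin n)) : (tblOf g).Perm (List.range n) := by
  unfold tblOf
  have h1 := (Equiv.Perm.map_finRange_perm g).map Fin.val
  rw [List.map_map, map_val_finRange] at h1
  exact h1

theorem mk_image_perm {n : ℕ} (g : Equiv.Perm (Fin n)) (s : Finset (Fin n)) :
    mk n (s.image g) = mapT n (tblOf g) (mk n s) :=
  maskOf_image (vl_lt n) g (fun i => (tblOf g).getD i 0) (fun a => (tblOf_getD g a).symm) s

theorem range_split {n k : ℕ} (hk : k ≤ n) :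
    List.range n = List.range k ++ List.range' k (n - k) := by
  have h : n = k + (n - k) := by omega
  conv_lhs => rw [h, List.range_add, ← List.range'_eq_map_range]

/-- Sharpness from a check over the permutations of the points off the base. -/
theorem rigid_of_check {n k : ℕ} {std : List ℕ} (hlt : ∀ d ∈ std, d < 2 ^ n)
    (hcheck : ∀ l ∈ (List.range' k (n - k)).permutations', l ≠ List.range' k (n - k) →
      std.all (fun d => std.contains (mapT n (List.range k ++ l) d)) = false)
    (hk : k ≤ n) (g : Equiv.Perm (Fin n)) (hg : g ∈ setSystemAut (stdSet n std))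
    (hfix : ∀ i : Fin n, i.val < k → g i = i) : g = 1 := by
  have hlen : (tblOf g).length = n := by simp [tblOf]
  have htake : (tblOf g).take k = List.range k := by
    apply List.ext_getElem
    · simp [hlen, hk]
    · intro i h1 h2
      have hik : i < k := by simpa using h2
      have hin : i < n := by omega
      rw [List.getElem_take, List.getElem_range]
      have := tblOf_getD g ⟨i, hin⟩
      rw [List.getD_eq_getElem _ _ (by rw [hlen]; exact hin)] at this
      rw [this, hfix ⟨i, hin⟩ hik]
  have hsplit : tblOf g = List.range k ++ (tblOf g).drop k := by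
    rw [← htake, List.take_append_drop]
  have hperm : ((tblOf g).drop k).Perm (List.range' k (n - k)) := by
    have h1 := tblOf_perm g
    have h2 : List.range n = List.range k ++ List.range' k (n - k) := range_split hk
    rw [h2] at h1
    rw [hsplit] at h1
    exact (List.perm_append_left_iff _).mp h1
  by_cases heq : (tblOf g).drop k = List.range' k (n - k)
  · -- identity
    have h2 : List.range n = List.range k ++ List.range' k (n - k) := range_split hk
    have h3 : tblOf g = List.range n := by rw [hsplit, heq, h2]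
    apply Equiv.ext
    intro a
    apply Fin.ext
    rw [← tblOf_getD, h3, List.getD_eq_getElem _ _ (by simp)]
    simp
  · exfalso
    have h1 := hcheck _ (List.mem_permutations'.mpr hperm) heq
    rw [← hsplit] at h1
    have h2 : std.all (fun d => std.contains (mapT n (tblOf g) d)) = true := by
      rw [List.all_eq_true]
      intro d hd
      rw [List.contains_iff_mem]
      have hb : ofMask (vl n) d ∈ stdSet n std := by
        show mk n (ofMask (vl n) d) ∈ std
        rw [mk, maskOf_ofMask (vl_surj n) (hlt d hd)]; exact hd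
      have hgb : g • ofMask (vl n) d ∈ stdSet n std := by
        have := MulAction.mem_stabilizer_iff.mp hg
        rw [← this]
        exact ⟨_, hb, rfl⟩
      have h3 : mk n (g • ofMask (vl n) d) ∈ std := hgb
      rw [smul_eq_image, mk_image_perm, mk, maskOf_ofMask (vl_surj n) (hlt d hd)] at h3
      exact h3
    rw [h2] at h1
    exact absurd h1 (by decide)

/-- Transitivity and sharpness of the automorphism group of a standard family, from a chain of
transversals and the sharpness check. -/
theorem transSharp_of_checks {n k : ℕ} {std : List ℕ} (hk : k ≤ n)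
    (hchain : ∀ j < k, ∀ p : Fin n, j ≤ p.val →
      ∃ g ∈ setSystemAut (stdSet n std), (∀ i : Fin n, i.val < j → g i = i) ∧
        ∀ hj : j < n, g ⟨j, hj⟩ = p)
    (hrigid : ∀ g ∈ setSystemAut (stdSet n std), (∀ i : Fin n, i.val < k → g i = i) → g = 1) :
    TransSharp k (stdSet n std) := by
  have key := trans_of_chain (setSystemAut (stdSet n std)) hk hchain
  refine ⟨fun x y => ?_, fun g hg x hx => ?_⟩
  · obtain ⟨g1, hg1, h1⟩ := key x
    obtain ⟨g2, hg2, h2⟩ := key y
    refine ⟨g2 * g1⁻¹, (setSystemAut _).mul_mem hg2 ((setSystemAut _).inv_mem hg1), fun i => ?_⟩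
    rw [Equiv.Perm.mul_apply, ← h1 i, Equiv.Perm.inv_def, Equiv.symm_apply_apply, h2 i]
  · obtain ⟨g1, hg1, h1⟩ := key x
    have h2 : g1⁻¹ * g * g1 = 1 := by
      apply hrigid _ ((setSystemAut _).mul_mem
        ((setSystemAut _).mul_mem ((setSystemAut _).inv_mem hg1) hg) hg1)
      intro a ha
      have e1 := h1 ⟨a.val, ha⟩
      have e2 := hx ⟨a.val, ha⟩
      simp only [Fin.eta] at e1
      rw [Equiv.Perm.mul_apply, Equiv.Perm.mul_apply, e1, e2, ← e1, Equiv.Perm.inv_def,
        Equiv.symm_apply_apply]
    have h3 : g = g1 * 1 * g1⁻¹ := by rw [← h2]; group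
    rw [h3]; group

/-- Validity of an entry `(j, p, tb, tb')` of a chain of transversals. -/
def chainOK (n : ℕ) (std : List ℕ) (e : ℕ × ℕ × List ℕ × List ℕ) : Bool :=
  tblOKb n e.2.2.1 e.2.2.2 && std.all (fun d => std.contains (mapT n e.2.2.1 d)) &&
    (List.range e.1).all (fun i => e.2.2.1.getD i 0 == i) && e.2.2.1.getD e.1 0 == e.2.1

theorem chain_of_list {n k : ℕ} {std : List ℕ} (L : List (ℕ × ℕ × List ℕ × List ℕ))
    (hok : L.all (chainOK n std) = true)
    (hcomp : ∀ j < k, ∀ p : Fin n, j ≤ p.val → ∃ e ∈ L, e.1 = j ∧ e.2.1 = p.val) :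
    ∀ j < k, ∀ p : Fin n, j ≤ p.val →
      ∃ g ∈ setSystemAut (stdSet n std), (∀ i : Fin n, i.val < j → g i = i) ∧
        ∀ hj : j < n, g ⟨j, hj⟩ = p := by
  intro j hj p hp
  obtain ⟨e, he, rfl, h2⟩ := hcomp j hj p hp
  rw [List.all_eq_true] at hok
  have h := hok e he
  unfold chainOK at h
  simp only [Bool.and_eq_true, beq_iff_eq, List.all_eq_true, List.mem_range] at h
  obtain ⟨⟨⟨h1, h3⟩, h4⟩, h5⟩ := h
  refine ⟨tblPerm n e.2.2.1 e.2.2.2 h1, tbl_mem_aut h1 (List.all_eq_true.mpr h3), ?_, ?_⟩
  · intro i hi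
    apply Fin.ext
    exact h4 i.val hi
  · intro hj'
    apply Fin.ext
    show e.2.2.1.getD e.1 0 = p.val
    rw [h5, h2]

end Cfsg.Agent.Lib.Helper35.StSearch
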