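import Mathlib
import Cfsg.Agent.Lib.Helper35.HS100Odd
import Cfsg.Agent.Lib.Helper35.SteinerAutCheck

/-! Table calculus for the automorphisms of the graph on 100 vertices, and the passage from an
automorphism fixing the extra vertex to a table on the 22 points. -/

set_option autoImplicit false
set_option linter.unusedSectionVars false

namespace Cfsg.Agent.Lib.Helper35.HSCalc

open Cfsg
open scoped Pointwise
open Cfsg.Agent.Lib.Helper35 Cfsg.Agent.Lib.Helper35.HS100 Cfsg.Agent.Lib.Helper35.PBG
  Cfsg.Agent.Lib.Helper35.StSearch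

/-- The automorphism group of the graph. -/
abbrev Aut100 : Type := pointBlockGraph B22 ≃g pointBlockGraph B22

/-- `t` is the table of `x`. -/
def IsTab (x : Aut100) (t : List ℕ) : Prop := ∀ v : V22, num (x v) = t.getD (num v) 0

/-- Composite of tables. -/
def tcomp (t s : List ℕ) : List ℕ := (List.range 100).map fun i => t.getD (s.getD i 0) 0

theorem tcomp_getD (t s : List ℕ) {i : ℕ} (hi : i < 100) :
    (tcomp t s).getD i 0 = t.getD (s.getD i 0) 0 := by
  unfold tcomp
  rw [List.getD_eq_getElem _ _ (by simpa using hi)]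
  simp

theorem IsTab.mul {x y : Aut100} {t s : List ℕ} (hx : IsTab x t) (hy : IsTab y s) :
    IsTab (x * y) (tcomp t s) := by
  intro v
  rw [tcomp_getD _ _ (num_lt v), ← hy v, ← hx (y v)]
  rfl

theorem IsTab.one : IsTab (1 : Aut100) (List.range 100) := by
  intro v
  rw [List.getD_eq_getElem _ _ (by simpa using num_lt v)]
  simp

theorem IsTab.ext {x y : Aut100} {t s : List ℕ} (hx : IsTab x t) (hy : IsTab y s)
    (h : ∀ i < 100, t.getD i 0 = s.getD i 0) : x = y := by
  apply RelIso.ext
  intro v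
  apply num_injective
  rw [hx v, hy v, h _ (num_lt v)]

theorem IsTab.inv {x : Aut100} {t t' : List ℕ} (hx : IsTab x t) (h : tblOKb 100 t t' = true) :
    IsTab x⁻¹ t' := by
  intro v
  have h1 : x (x⁻¹ v) = v := RelIso.apply_symm_apply x v
  have h2 := hx (x⁻¹ v)
  rw [h1] at h2
  rw [h2]
  exact ((tblOKb_spec h (num_lt (x⁻¹ v))).2.2.1).symm

theorem IsTab.apply {x : Aut100} {t : List ℕ} (hx : IsTab x t) {v w : V22}
    (h : t.getD (num v) 0 = num w) : x v = w := by
  apply num_injective
  rw [hx v, h]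

theorem isTab_isoOfTbl (tb tb' : List ℕ) (h : tblOKb 100 tb tb' = true) (haut : autOK tb = true) :
    IsTab (isoOfTbl tb tb' h haut) tb := fun v => num_isoOfTbl tb tb' h haut v

/-- Powers of a table. -/
def tpowL (t : List ℕ) : ℕ → List ℕ
  | 0 => List.range 100
  | k + 1 => tcomp t (tpowL t k)

theorem IsTab.pow {x : Aut100} {t : List ℕ} (hx : IsTab x t) (k : ℕ) : IsTab (x ^ k) (tpowL t k) := by
  induction k with
  | zero => rw [pow_zero]; exact IsTab.one
  | succ k ih => rw [pow_succ']; exact hx.mul ih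

/-! ### Vertices by number -/

/-- The vertex with a given number. -/
noncomputable def vtx (n : ℕ) : V22 := if h : n < 100 then den ⟨n, h⟩ else none

theorem num_vtx {n : ℕ} (h : n < 100) : num (vtx n) = n := by
  unfold vtx
  rw [dif_pos h, num_den]

theorem vtx_num (v : V22) : vtx (num v) = v := by
  apply num_injective
  rw [num_vtx (num_lt v)]

theorem vtx_zero : vtx 0 = none := by
  apply num_injective
  rw [num_vtx (by norm_num)]
  rfl

theorem vtx_pt (a : Fin 22) : vtx (a.val + 1) = some (Sum.inl a) := by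
  apply num_injective
  rw [num_vtx (by have := a.2; omega)]
  rfl

theorem IsTab.apply_vtx {x : Aut100} {t : List ℕ} (hx : IsTab x t) {n : ℕ} (hn : n < 100) :
    x (vtx n) = vtx (t.getD n 0) := by
  apply num_injective
  rw [hx, num_vtx hn]
  have : t.getD n 0 < 100 := by
    have := hx (vtx n)
    rw [num_vtx hn] at this
    rw [← this]
    exact num_lt _
  rw [num_vtx this]

theorem adj_vtx {m n : ℕ} (hm : m < 100) (hn : n < 100) :
    (pointBlockGraph B22).Adj (vtx m) (vtx n) ↔ adjB m n = true := by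
  rw [adj_iff, num_vtx hm, num_vtx hn]

/-! ### The table on the points -/

/-- The table on the 22 points of an automorphism. -/
noncomputable def ptTab (x : Aut100) : List ℕ :=
  (List.finRange 22).map fun a => num (x (some (Sum.inl a))) - 1

theorem ptTab_length (x : Aut100) : (ptTab x).length = 22 := by
  simp [ptTab]

theorem ptTab_getD (x : Aut100) (a : Fin 22) :
    (ptTab x).getD a.val 0 = num (x (some (Sum.inl a))) - 1 := by
  unfold ptTab
  rw [List.getD_eq_getElem _ _ (by simp)]
  simp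

/-- An automorphism fixing the extra vertex comes from an automorphism of the block system, whose
table is the table on the points. -/
theorem exists_sigma (x : Aut100) (hx : x none = none) :
    ∃ σ : setSystemAut B22, autToIso σ = x ∧ ptTab x = tblOf (σ : Equiv.Perm (Fin 22)) := by
  obtain ⟨σ, hσ⟩ := exists_aut_of_fix x hx
  refine ⟨σ, hσ, ?_⟩
  apply List.ext_getElem
  · simp [ptTab, tblOf]
  · intro i h1 h2
    have hi : i < 22 := by simpa [ptTab] using h1
    have e1 := ptTab_getD x ⟨i, hi⟩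
    have e2 := tblOf_getD (σ : Equiv.Perm (Fin 22)) ⟨i, hi⟩
    rw [List.getD_eq_getElem _ _ h1] at e1
    rw [List.getD_eq_getElem _ _ h2] at e2
    rw [e1, e2, ← hσ]
    show num (some (Sum.inl ((σ : Equiv.Perm (Fin 22)) ⟨i, hi⟩))) - 1 = _
    show ((σ : Equiv.Perm (Fin 22)) ⟨i, hi⟩).val + 1 - 1 = _
    omega

theorem ptTab_lt (x : Aut100) (hx : x none = none) {a : ℕ} (ha : a < 22) :
    (ptTab x).getD a 0 < 22 := by
  obtain ⟨σ, -, h⟩ := exists_sigma x hx
  rw [h, tblOf_getD _ ⟨a, ha⟩]
  exact ((σ : Equiv.Perm (Fin 22)) ⟨a, ha⟩).2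

theorem num_apply_pt (x : Aut100) (hx : x none = none) (a : Fin 22) :
    num (x (some (Sum.inl a))) = (ptTab x).getD a.val 0 + 1 := by
  obtain ⟨σ, hσ, h⟩ := exists_sigma x hx
  rw [h, tblOf_getD, ← hσ]
  rfl

theorem ptTab_inj (x : Aut100) (hx : x none = none) {a b : ℕ} (ha : a < 22) (hb : b < 22)
    (h : (ptTab x).getD a 0 = (ptTab x).getD b 0) : a = b := by
  obtain ⟨σ, -, hT⟩ := exists_sigma x hx
  rw [hT, tblOf_getD _ ⟨a, ha⟩, tblOf_getD _ ⟨b, hb⟩] at h
  have := (σ : Equiv.Perm (Fin 22)).injective (Fin.ext h)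
  exact congrArg Fin.val this

/-- The blocks are mapped to blocks. -/
theorem ptTab_blocks (x : Aut100) (hx : x none = none) {m : ℕ} (hm : m ∈ std22) :
    mapT 22 (ptTab x) m ∈ std22 := by
  obtain ⟨σ, -, hT⟩ := exists_sigma x hx
  obtain ⟨j, hj⟩ := List.mem_iff_getElem.mp hm
  obtain ⟨hj1, hj2⟩ := hj
  have hj77 : j < 77 := by rw [← std22_length]; exact hj1
  have hb : blk ⟨j, hj77⟩ ∈ B22 := blk_mem _
  have hmk : mk 22 (blk ⟨j, hj77⟩) = m := by
    rw [mk_blk]
    show std22.getD j 0 = m
    rw [List.getD_eq_getElem _ _ hj1, hj2]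
  have h1 : (σ : Equiv.Perm (Fin 22)) • blk ⟨j, hj77⟩ ∈ B22 := by
    have h2 : (σ : Equiv.Perm (Fin 22)) • B22 = B22 := MulAction.mem_stabilizer_iff.mp σ.2
    generalize (σ : Equiv.Perm (Fin 22)) = q at h2 ⊢
    have h4 : q • blk ⟨j, hj77⟩ ∈ q • B22 := Set.smul_mem_smul_set hb
    rw [h2] at h4
    exact h4
  rw [smul_eq_image] at h1
  have h3 : mk 22 ((blk ⟨j, hj77⟩).image (σ : Equiv.Perm (Fin 22))) ∈ std22 := h1
  rw [mk_image_perm, hmk, ← hT] at h3
  exact h3

/-- Two automorphisms fixing the extra vertex with the same action on the points are equal. -/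
theorem eq_of_ptTab {x y : Aut100} (hx : x none = none) (hy : y none = none)
    (h : ∀ a < 22, (ptTab x).getD a 0 = (ptTab y).getD a 0) : x = y := by
  obtain ⟨σ, hσ, hT⟩ := exists_sigma x hx
  obtain ⟨τ, hτ, hS⟩ := exists_sigma y hy
  have : σ = τ := by
    apply Subtype.ext
    apply Equiv.ext
    intro a
    apply Fin.ext
    have := h a.val a.2
    rw [hT, hS, tblOf_getD, tblOf_getD] at this
    exact this
  rw [← hσ, ← hτ, this]

/-- The table on the points of an automorphism given by a table. -/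
theorem ptTab_of_isTab {y : Aut100} {t : List ℕ} (hy : IsTab y t) (h0 : t.getD 0 0 = 0)
    {a : ℕ} (ha : a < 22) : (ptTab y).getD a 0 + 1 = t.getD (a + 1) 0 := by
  have hy0 : y none = none := hy.apply (v := none) (w := none) h0
  rw [← num_apply_pt y hy0 ⟨a, ha⟩, hy]
  rfl

theorem isTab_fix_none {y : Aut100} {t : List ℕ} (hy : IsTab y t) (h0 : t.getD 0 0 = 0) :
    y none = none := hy.apply (v := none) (w := none) h0

/-- Commutation in terms of the tables on the points. -/
theorem ptTab_comm {x y : Aut100} (hx : x none = none) (hy : y none = none)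
    (h : x * y = y * x) {a : ℕ} (ha : a < 22) :
    (ptTab x).getD ((ptTab y).getD a 0) 0 = (ptTab y).getD ((ptTab x).getD a 0) 0 := by
  have h1 : x (y (some (Sum.inl ⟨a, ha⟩))) = y (x (some (Sum.inl ⟨a, ha⟩))) := by
    have := congrArg (fun z : Aut100 => z (some (Sum.inl ⟨a, ha⟩))) h
    exact this
  have hya : y (some (Sum.inl ⟨a, ha⟩)) =
      some (Sum.inl ⟨(ptTab y).getD a 0, ptTab_lt y hy ha⟩) := by
    apply num_injective
    rw [num_apply_pt y hy]
    rfl
  have hxa : x (some (Sum.inl ⟨a, ha⟩)) =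
      some (Sum.inl ⟨(ptTab x).getD a 0, ptTab_lt x hx ha⟩) := by
    apply num_injective
    rw [num_apply_pt x hx]
    rfl
  rw [hya, hxa] at h1
  have h2 := congrArg num h1
  rw [num_apply_pt x hx, num_apply_pt y hy] at h2
  exact Nat.add_right_cancel h2

end Cfsg.Agent.Lib.Helper35.HSCalc
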