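import Mathlib
import Cfsg.Agent.Lib.Helper35.HSCalc

/-! A table on the 22 points commuting with a given table is determined by the images of the
representatives of the cycles. -/

set_option autoImplicit false

namespace Cfsg.Agent.Lib.Helper35.HSCalc

open Cfsg
open Cfsg.Agent.Lib.Helper35 Cfsg.Agent.Lib.Helper35.HS100 Cfsg.Agent.Lib.Helper35.StSearch

/-- Iterate of a table. -/
def ppow (p : List ℕ) (k n : ℕ) : ℕ := (fun i => p.getD i 0)^[k] n

/-- The candidate table with prescribed images of the representatives. -/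
def cand (p : List ℕ) (loc : List (ℕ × ℕ)) (us : List ℕ) : List ℕ :=
  (List.range 22).map fun z => ppow p (loc.getD z (0, 0)).2 (us.getD (loc.getD z (0, 0)).1 0)

/-- The location table is correct. -/
def locOK (p reps : List ℕ) (loc : List (ℕ × ℕ)) : Bool :=
  (List.range 22).all fun z =>
    ppow p (loc.getD z (0, 0)).2 (reps.getD (loc.getD z (0, 0)).1 0) == z &&
    decide (reps.getD (loc.getD z (0, 0)).1 0 < 22) && decide ((loc.getD z (0, 0)).1 < reps.length)

theorem locOK_spec {p reps : List ℕ} {loc : List (ℕ × ℕ)} (h : locOK p reps loc = true) {z : ℕ}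
    (hz : z < 22) :
    ppow p (loc.getD z (0, 0)).2 (reps.getD (loc.getD z (0, 0)).1 0) = z ∧
      reps.getD (loc.getD z (0, 0)).1 0 < 22 ∧ (loc.getD z (0, 0)).1 < reps.length := by
  unfold locOK at h
  rw [List.all_eq_true] at h
  have := h z (List.mem_range.mpr hz)
  simp only [Bool.and_eq_true, beq_iff_eq, decide_eq_true_eq] at this
  exact ⟨this.1.1, this.1.2, this.2⟩

theorem comm_iter (p T : List ℕ) (hp : ∀ a < 22, p.getD a 0 < 22)
    (hcomm : ∀ a < 22, T.getD (p.getD a 0) 0 = p.getD (T.getD a 0) 0) (k : ℕ) {a : ℕ}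
    (ha : a < 22) :
    ppow p k a < 22 ∧ T.getD (ppow p k a) 0 = ppow p k (T.getD a 0) := by
  induction k with
  | zero => exact ⟨ha, rfl⟩
  | succ k ih =>
    obtain ⟨h1, h2⟩ := ih
    have e1 : ppow p (k + 1) a = p.getD (ppow p k a) 0 := by
      unfold ppow
      rw [Function.iterate_succ_apply']
    have e2 : ppow p (k + 1) (T.getD a 0) = p.getD (ppow p k (T.getD a 0)) 0 := by
      unfold ppow
      rw [Function.iterate_succ_apply']
    refine ⟨by rw [e1]; exact hp _ h1, ?_⟩
    rw [e1, e2, hcomm _ h1, h2]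

theorem cand_getD (p : List ℕ) (loc : List (ℕ × ℕ)) (us : List ℕ) {z : ℕ} (hz : z < 22) :
    (cand p loc us).getD z 0 =
      ppow p (loc.getD z (0, 0)).2 (us.getD (loc.getD z (0, 0)).1 0) := by
  unfold cand
  rw [List.getD_eq_getElem _ _ (by simpa using hz)]
  simp

theorem getD_map_of_lt (f : ℕ → ℕ) (l : List ℕ) {i : ℕ} (hi : i < l.length) :
    (l.map f).getD i 0 = f (l.getD i 0) := by
  rw [List.getD_eq_getElem _ _ (by simpa using hi), List.getD_eq_getElem _ _ hi, List.getElem_map]

theorem eq_cand (p reps : List ℕ) (loc : List (ℕ × ℕ)) (hp : ∀ a < 22, p.getD a 0 < 22)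
    (hloc : locOK p reps loc = true) (T : List ℕ) (hlen : T.length = 22)
    (hcomm : ∀ a < 22, T.getD (p.getD a 0) 0 = p.getD (T.getD a 0) 0) :
    T = cand p loc (reps.map fun r => T.getD r 0) := by
  apply List.ext_getElem
  · simp [cand, hlen]
  · intro z h1 h2
    have hz : z < 22 := by rw [hlen] at h1; exact h1
    obtain ⟨e1, e2, e3⟩ := locOK_spec hloc hz
    have e4 := cand_getD p loc (reps.map fun r => T.getD r 0) hz
    rw [List.getD_eq_getElem _ _ h2] at e4
    rw [e4, getD_map_of_lt _ _ e3]
    have e5 := (comm_iter p T hp hcomm (loc.getD z (0, 0)).2 e2).2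
    rw [e1] at e5
    rw [List.getD_eq_getElem _ _ h1] at e5
    exact e5

/-- The blocks of a list are mapped to blocks. -/
def killOK (kill : List ℕ) (T : List ℕ) : Bool := kill.all fun m => std22.contains (mapT 22 T m)

theorem killOK_ptTab (x : Aut100) (hx : x none = none) (kill : List ℕ)
    (hk : ∀ m ∈ kill, m ∈ std22) : killOK kill (ptTab x) = true := by
  unfold killOK
  rw [List.all_eq_true]
  intro m hm
  rw [List.contains_iff_mem]
  exact ptTab_blocks x hx (hk m hm)

theorem mapMask_congr {f f' : ℕ → ℕ} {n m : ℕ}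
    (h : ∀ k < n, m.testBit k = true → f k = f' k) : mapMask f n m = mapMask f' n m := by
  induction n with
  | zero => rfl
  | succ k ih =>
    rw [mapMask, mapMask, ih (fun j hj => h j (Nat.lt_succ_of_lt hj))]
    by_cases hb : m.testBit k = true
    · rw [if_pos hb, if_pos hb, h k (Nat.lt_succ_self k) hb]
    · rw [if_neg hb, if_neg hb]

/-- The slots of the representatives used by the points of the sets of a list. -/
def slotsOK (loc : List (ℕ × ℕ)) (kill slots : List ℕ) : Bool :=
  kill.all fun m => (List.range 22).all fun z =>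
    !(m.testBit z) || slots.contains (loc.getD z (0, 0)).1

theorem killOK_cand_congr (p : List ℕ) (loc : List (ℕ × ℕ)) (us us' kill slots : List ℕ)
    (hs : slotsOK loc kill slots = true) (h : ∀ s ∈ slots, us.getD s 0 = us'.getD s 0) :
    killOK kill (cand p loc us) = killOK kill (cand p loc us') := by
  have key : ∀ m ∈ kill, mapT 22 (cand p loc us) m = mapT 22 (cand p loc us') m := by
    intro m hm
    unfold mapT
    apply mapMask_congr
    intro k hk hb
    rw [cand_getD _ _ _ hk, cand_getD _ _ _ hk]
    congr 1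
    apply h
    unfold slotsOK at hs
    rw [List.all_eq_true] at hs
    have h1 := hs m hm
    rw [List.all_eq_true] at h1
    have h2 := h1 k (List.mem_range.mpr hk)
    rw [hb] at h2
    simpa using h2
  unfold killOK
  rw [Bool.eq_iff_iff, List.all_eq_true, List.all_eq_true]
  constructor
  · intro hh m hm
    rw [← key m hm]; exact hh m hm
  · intro hh m hm
    rw [key m hm]; exact hh m hm

theorem killOK_append (k1 k2 T : List ℕ) :
    killOK (k1 ++ k2) T = (killOK k1 T && killOK k2 T) := by
  unfold killOK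
  rw [List.all_append]

end Cfsg.Agent.Lib.Helper35.HSCalc
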