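import Mathlib
import Cfsg.Agent.Lib.Helper35.HSCand

/-! Four explicit automorphisms of the graph on 100 vertices: `gA` of order 11, `cA` and `dA` of order 5,
and the odd involution `bA`; words in them and their tables. -/

set_option autoImplicit false
set_option maxRecDepth 100000
set_option maxHeartbeats 4000000

namespace Cfsg.Agent.Lib.Helper35.HSOut

open Cfsg
open Cfsg.Agent.Lib.Helper35 Cfsg.Agent.Lib.Helper35.HS100 Cfsg.Agent.Lib.Helper35.StSearch
  Cfsg.Agent.Lib.Helper35.HSCalc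

def tg : List ℕ := [0, 16, 13, 10, 7, 18, 22, 1, 9, 19, 21, 8, 15, 6, 11, 3, 5, 20, 12, 2, 14, 4, 17, 97, 96, 73, 40, 24, 64, 43, 82, 94, 58, 51, 93, 75, 29, 39, 88, 95, 45, 78, 72, 90, 27, 70, 53, 61, 36, 79, 54, 89, 30, 74, 81, 48, 57, 25, 65, 52, 28, 38, 99, 42, 49, 86, 26, 76, 60, 66, 37, 91, 83, 63, 23, 69, 80, 55, 44, 50, 84, 71, 41, 34, 77, 92, 46, 56, 85, 47, 67, 68, 62, 87, 32, 35, 98, 31, 59, 33]
def tg' : List ℕ := [0, 7, 19, 15, 21, 16, 13, 4, 11, 8, 3, 14, 18, 2, 20, 12, 1, 22, 5, 9, 17, 10, 6, 74, 27, 57, 66, 44, 60, 36, 52, 97, 94, 99, 83, 95, 48, 70, 61, 37, 26, 82, 63, 29, 78, 40, 86, 89, 55, 64, 79, 33, 59, 46, 50, 77, 87, 56, 32, 98, 68, 47, 92, 73, 28, 58, 69, 90, 91, 75, 45, 81, 42, 25, 53, 35, 67, 84, 41, 49, 76, 54, 30, 72, 80, 88, 65, 93, 38, 51, 43, 71, 85, 34, 31, 39, 24, 23, 96, 62]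
def tc : List ℕ := [0, 10, 22, 4, 7, 12, 2, 18, 6, 14, 5, 9, 16, 11, 20, 15, 1, 8, 21, 19, 13, 3, 17, 79, 23, 55, 39, 86, 93, 30, 53, 28, 91, 51, 36, 26, 96, 66, 99, 70, 69, 65, 48, 44, 94, 45, 49, 89, 78, 72, 73, 38, 58, 81, 83, 52, 29, 76, 64, 97, 42, 88, 61, 80, 25, 54, 40, 82, 57, 75, 95, 63, 90, 43, 60, 37, 27, 24, 74, 87, 59, 56, 31, 84, 41, 85, 68, 77, 47, 62, 98, 34, 33, 67, 50, 35, 32, 71, 46, 92]
def tc' : List ℕ := [0, 16, 6, 21, 3, 10, 8, 4, 17, 11, 1, 13, 5, 20, 9, 15, 12, 22, 7, 19, 14, 18, 2, 24, 77, 64, 35, 76, 31, 56, 29, 82, 96, 92, 91, 95, 34, 75, 51, 26, 66, 84, 60, 73, 43, 45, 98, 88, 42, 46, 94, 33, 55, 30, 65, 25, 81, 68, 52, 80, 74, 62, 89, 71, 58, 41, 37, 93, 86, 40, 39, 97, 49, 50, 78, 69, 57, 87, 48, 23, 63, 53, 67, 54, 83, 85, 27, 79, 61, 47, 72, 32, 99, 28, 44, 70, 36, 59, 90, 38]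
def td : List ℕ := [15, 43, 68, 81, 56, 94, 86, 29, 27, 95, 44, 70, 50, 39, 35, 85, 73, 76, 30, 0, 26, 53, 57, 24, 77, 51, 69, 60, 93, 55, 52, 28, 36, 89, 32, 40, 91, 63, 61, 75, 59, 41, 12, 22, 17, 19, 13, 21, 16, 11, 6, 62, 99, 58, 54, 38, 25, 78, 92, 90, 5, 7, 4, 49, 33, 65, 80, 82, 48, 97, 37, 46, 9, 2, 10, 71, 74, 87, 1, 23, 72, 64, 31, 83, 84, 45, 42, 79, 18, 3, 14, 96, 47, 67, 8, 66, 34, 98, 20, 88]
def td' : List ℕ := [19, 78, 73, 89, 62, 60, 50, 61, 94, 72, 74, 49, 42, 46, 90, 0, 48, 44, 88, 45, 98, 47, 43, 79, 23, 56, 20, 8, 31, 7, 18, 82, 34, 64, 96, 14, 32, 70, 55, 13, 35, 41, 86, 1, 10, 85, 71, 92, 68, 63, 12, 25, 30, 21, 54, 29, 4, 22, 53, 40, 27, 38, 51, 37, 81, 65, 95, 93, 2, 26, 11, 75, 80, 16, 76, 39, 17, 24, 57, 87, 66, 3, 67, 83, 84, 15, 6, 77, 99, 33, 59, 36, 58, 28, 5, 9, 91, 69, 97, 52]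
def tb : List ℕ := [0, 17, 12, 9, 14, 6, 5, 20, 10, 3, 8, 21, 2, 18, 4, 19, 22, 1, 13, 15, 7, 11, 16, 65, 41, 63, 62, 78, 91, 90, 98, 32, 31, 69, 93, 89, 67, 38, 37, 61, 92, 24, 57, 43, 44, 85, 53, 95, 76, 81, 50, 75, 59, 46, 79, 80, 72, 42, 97, 52, 68, 39, 26, 25, 71, 23, 99, 36, 60, 33, 88, 64, 56, 73, 86, 51, 48, 84, 27, 54, 55, 49, 96, 87, 77, 45, 74, 83, 70, 35, 29, 28, 40, 34, 94, 47, 82, 58, 30, 66]

theorem tg_ok : tblOKb 100 tg tg' = true := by decide +kernel
theorem tc_ok : tblOKb 100 tc tc' = true := by decide +kernel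
theorem td_ok : tblOKb 100 td td' = true := by decide +kernel
theorem tb_ok : tblOKb 100 tb tb = true := by decide +kernel
theorem tg_aut : autOK tg = true := by decide +kernel
theorem tc_aut : autOK tc = true := by decide +kernel
theorem td_aut : autOK td = true := by decide +kernel
theorem tb_aut : autOK tb = true := by decide +kernel

noncomputable def gA : Aut100 := isoOfTbl tg tg' tg_ok tg_aut
noncomputable def cA : Aut100 := isoOfTbl tc tc' tc_ok tc_aut
noncomputable def dA : Aut100 := isoOfTbl td td' td_ok td_aut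
noncomputable def bA : Aut100 := isoOfTbl tb tb tb_ok tb_aut

theorem gA_tab : IsTab gA tg := isTab_isoOfTbl _ _ _ _
theorem cA_tab : IsTab cA tc := isTab_isoOfTbl _ _ _ _
theorem dA_tab : IsTab dA td := isTab_isoOfTbl _ _ _ _
theorem bA_tab : IsTab bA tb := isTab_isoOfTbl _ _ _ _

/-- The generators and their inverses, by number. -/
noncomputable def gens : ℕ → Aut100
  | 0 => gA
  | 1 => cA
  | 2 => dA
  | 3 => gA⁻¹
  | 4 => cA⁻¹
  | 5 => dA⁻¹
  | _ => bA

/-- Their tables. -/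
def gtab : ℕ → List ℕ
  | 0 => tg
  | 1 => tc
  | 2 => td
  | 3 => tg'
  | 4 => tc'
  | 5 => td'
  | _ => tb

theorem gens_tab (k : ℕ) : IsTab (gens k) (gtab k) := by
  rcases k with _ | _ | _ | _ | _ | _ | k
  · exact gA_tab
  · exact cA_tab
  · exact dA_tab
  · exact gA_tab.inv tg_ok
  · exact cA_tab.inv tc_ok
  · exact dA_tab.inv td_ok
  · exact bA_tab

/-- The product along a word. -/
noncomputable def wprod : List ℕ → Aut100
  | [] => 1
  | k :: w => gens k * wprod w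

/-- The composite of the tables along a word, pointwise. -/
def weval : List ℕ → ℕ → ℕ
  | [], i => i
  | k :: w, i => (gtab k).getD (weval w i) 0

theorem wprod_tab : ∀ (w : List ℕ) (v : V22), num (wprod w v) = weval w (num v)
  | [], _ => rfl
  | k :: w, v => by
    show num (gens k (wprod w v)) = (gtab k).getD (weval w (num v)) 0
    rw [gens_tab k, wprod_tab w v]

theorem wprod_eq {w1 w2 : List ℕ} (h : ∀ i < 100, weval w1 i = weval w2 i) :
    wprod w1 = wprod w2 := by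
  apply RelIso.ext
  intro v
  apply num_injective
  rw [wprod_tab, wprod_tab, h _ (num_lt v)]

theorem wprod_append (w1 w2 : List ℕ) : wprod (w1 ++ w2) = wprod w1 * wprod w2 := by
  induction w1 with
  | nil => simp [wprod]
  | cons k w ih => simp [wprod, ih, mul_assoc]

theorem wprod_replicate (k n : ℕ) : wprod (List.replicate n k) = gens k ^ n := by
  induction n with
  | zero => simp [wprod]
  | succ n ih => rw [List.replicate_succ, pow_succ', ← ih]; rfl

theorem wprod_vtx (w : List ℕ) {n : ℕ} (hn : n < 100) : wprod w (vtx n) = vtx (weval w n) := by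
  apply num_injective
  rw [wprod_tab, num_vtx hn]
  have : weval w n < 100 := by
    have := wprod_tab w (vtx n)
    rw [num_vtx hn] at this
    rw [← this]
    exact num_lt _
  rw [num_vtx this]

/-! ### Relations -/

theorem gA_pow : gA ^ 11 = 1 := by
  have h : wprod (List.replicate 11 0) = wprod [] := wprod_eq (by decide +kernel)
  rw [wprod_replicate] at h
  exact h

theorem cA_pow : cA ^ 5 = 1 := by
  have h : wprod (List.replicate 5 1) = wprod [] := wprod_eq (by decide +kernel)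
  rw [wprod_replicate] at h
  exact h

theorem dA_pow : dA ^ 5 = 1 := by
  have h : wprod (List.replicate 5 2) = wprod [] := wprod_eq (by decide +kernel)
  rw [wprod_replicate] at h
  exact h

theorem bA_sq : bA * bA = 1 := by
  have h : wprod [6, 6] = wprod [] := wprod_eq (by decide +kernel)
  simpa [wprod, gens] using h

theorem bA_inv : bA⁻¹ = bA := inv_eq_of_mul_eq_one_left bA_sq

theorem rel_cg : cA * gA * cA⁻¹ = gA ^ 4 := by
  have h : wprod [1, 0, 4] = wprod (List.replicate 4 0) := wprod_eq (by decide +kernel)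
  rw [wprod_replicate] at h
  simpa [wprod, gens, mul_assoc] using h

theorem rel_bg : bA * gA * bA⁻¹ = gA⁻¹ := by
  have h : wprod [6, 0, 6] = wprod [3] := wprod_eq (by decide +kernel)
  rw [bA_inv]
  simpa [wprod, gens, mul_assoc] using h

theorem rel_bc : bA * cA = cA * bA := by
  have h : wprod [6, 1] = wprod [1, 6] := wprod_eq (by decide +kernel)
  simpa [wprod, gens] using h

theorem rel_cd : cA * dA = dA * cA := by
  have h : wprod [1, 2] = wprod [2, 1] := wprod_eq (by decide +kernel)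
  simpa [wprod, gens] using h

theorem gA_ne_one : gA ≠ 1 := by
  intro h
  have := gA_tab (vtx 1)
  rw [h, num_vtx (by norm_num)] at this
  revert this
  decide +kernel

/-! ### The sign -/

/-- The two-cycles of the involution. -/
def swapsB : List (Fin 100 × Fin 100) := [(1, 17), (2, 12), (3, 9), (4, 14), (5, 6), (7, 20), (8, 10), (11, 21), (13, 18), (15, 19), (16, 22), (23, 65), (24, 41), (25, 63), (26, 62), (27, 78), (28, 91), (29, 90), (30, 98), (31, 32), (33, 69), (34, 93), (35, 89), (36, 67), (37, 38), (39, 61), (40, 92), (42, 57), (45, 85), (46, 53), (47, 95), (48, 76), (49, 81), (51, 75), (52, 59), (54, 79), (55, 80), (56, 72), (58, 97), (60, 68), (64, 71), (66, 99), (70, 88), (74, 86), (77, 84), (82, 96), (83, 87)]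

theorem swapsB_ne : ∀ ab ∈ swapsB, ab.1 ≠ ab.2 := by decide +kernel

theorem swapsB_length : swapsB.length = 47 := by decide +kernel

theorem tblPerm_b_eq :
    tblPerm 100 tb tb tb_ok = (swapsB.map fun ab => Equiv.swap ab.1 ab.2).prod := by
  apply Equiv.ext
  decide +kernel

theorem sign_tblPerm_b : Equiv.Perm.sign (tblPerm 100 tb tb tb_ok) = -1 := by
  rw [tblPerm_b_eq, sign_prod_swaps _ swapsB_ne, swapsB_length]
  decide

noncomputable instance instFintypeB22 : Fintype B22 := Fintype.ofFinite _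

/-- The sign of an automorphism as a permutation of the 100 vertices. -/
noncomputable def sgn100 : Aut100 →* ℤˣ := sgnHom (pointBlockGraph B22)

theorem sgn_bA : sgn100 bA = -1 := by
  have h := sgnHom_eq_of_conj (G := pointBlockGraph B22) E bA (tblPerm 100 tb tb tb_ok)
    (fun v => Fin.ext (bA_tab v))
  unfold sgn100
  rw [h, sign_tblPerm_b]

end Cfsg.Agent.Lib.Helper35.HSOut
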