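import Mathlib
import Cfsg.Agent.Lib.Helper35.HSElts

/-! The centraliser of the element `cA` of order 5 in the automorphism group of the graph. -/

set_option autoImplicit false
set_option maxRecDepth 100000
set_option maxHeartbeats 4000000

namespace Cfsg.Agent.Lib.Helper35.HSOut

open Cfsg
open Cfsg.Agent.Lib.Helper35 Cfsg.Agent.Lib.Helper35.HS100 Cfsg.Agent.Lib.Helper35.StSearch
  Cfsg.Agent.Lib.Helper35.HSCalc

/-- The table of `cA` on the points. -/
def pc : List ℕ := [9, 21, 3, 6, 11, 1, 17, 5, 13, 4, 8, 15, 10, 19, 14, 0, 7, 20, 18, 12, 2, 16]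

/-- Each point as an iterate of a representative. -/
def locC : List (ℕ × ℕ) := [(0, 0), (1, 0), (2, 0), (2, 1), (0, 2), (1, 4), (2, 2), (1, 3), (3, 0), (0, 1), (3, 4), (0, 3), (3, 3), (3, 1), (4, 0), (0, 4), (1, 2), (2, 3), (5, 0), (3, 2), (2, 4), (1, 1)]

theorem pc_lt : ∀ a < 22, pc.getD a 0 < 22 := by decide +kernel

theorem pc_spec : ∀ a < 22, pc.getD a 0 + 1 = tc.getD (a + 1) 0 := by decide +kernel

theorem locC_ok : locOK pc [0, 1, 2, 8, 14, 18] locC = true := by decide +kernel

theorem tc_fix : ∀ n < 100, tc.getD n 0 = n → n ∈ [0, 15, 19, 45, 85] := by decide +kernel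

theorem tc_pow_zero : ∀ i < 5, (tpowL tc i).getD 0 0 = 0 := by decide +kernel

theorem td_orbit : ∀ n ∈ [0, 15, 19, 45, 85], ∃ j < 5, (tpowL td j).getD 0 0 = n := by
  decide +kernel

theorem tb_orbit : ∀ n ∈ [15, 19], ∃ e < 2, (tpowL tb e).getD 15 0 = n := by decide +kernel

theorem tb_pow_zero : ∀ e < 2, (tpowL tb e).getD 0 0 = 0 := by decide +kernel

theorem fix_pts : ∀ n ∈ [0, 15, 19, 45, 85], 0 < n → n < 23 → n = 15 ∨ n = 19 := by decide +kernel

theorem fix_adj15 : ∀ n ∈ [0, 15, 19, 45, 85], n ≠ 0 → adjB 15 n = true → n = 85 := by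
  decide +kernel

theorem fix_adj19 : ∀ n ∈ [0, 15, 19, 45, 85], n ≠ 0 → adjB 19 n = true → n = 45 := by
  decide +kernel

theorem blk85_pts : ∀ t < 22, adjB (t + 1) 85 = true → t ∈ [1, 5, 7, 14, 16, 21] := by decide +kernel

theorem blk45_pts : ∀ t < 22, adjB (t + 1) 45 = true → t ∈ [0, 4, 9, 11, 15, 18] := by decide +kernel

/-- The sets used at the three stages of the search. -/
def killA : List ℕ := [297489, 2179234]
def killB : List ℕ := [16601]
def killC : List ℕ := [1594]

theorem slotsA : slotsOK locC killA [0, 1, 4, 5] = true := by decide +kernel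
theorem slotsB : slotsOK locC killB [0, 1, 2, 4, 5] = true := by decide +kernel

/-- The Boolean form of the candidate check. -/
def checkC : Bool :=
  [0, 4, 9, 11, 15, 18].all fun u2 => [1, 5, 7, 14, 16, 21].all fun u1 =>
    !(killOK killA (cand pc locC [u2, u1, 0, 0, 14, 18])) ||
    (List.range 22).all fun u3 =>
      !(killOK killB (cand pc locC [u2, u1, u3, 0, 14, 18])) ||
      (List.range 22).all fun u4 =>
        !(killOK killC (cand pc locC [u2, u1, u3, u4, 14, 18])) ||
          (List.range 5).any fun i => (List.range 22).all fun z =>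
            (cand pc locC [u2, u1, u3, u4, 14, 18]).getD z 0 + 1 == (tpowL tc i).getD (z + 1) 0

theorem checkC_true : checkC = true := by decide +kernel

theorem candC_check : ∀ u2 ∈ [0, 4, 9, 11, 15, 18], ∀ u1 ∈ [1, 5, 7, 14, 16, 21], ∀ u3 < 22, ∀ u4 < 22,
    killOK (killA ++ (killB ++ killC)) (cand pc locC [u2, u1, u3, u4, 14, 18]) = true →
    ∃ i < 5, ∀ z < 22,
      (cand pc locC [u2, u1, u3, u4, 14, 18]).getD z 0 + 1 = (tpowL tc i).getD (z + 1) 0 := by
  intro u2 h2 u1 h1 u3 h3 u4 h4 hk
  rw [killOK_append, killOK_append, Bool.and_eq_true, Bool.and_eq_true] at hk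
  obtain ⟨hkA, hkB, hkC⟩ := hk
  have eA : killOK killA (cand pc locC [u2, u1, u3, u4, 14, 18]) =
      killOK killA (cand pc locC [u2, u1, 0, 0, 14, 18]) :=
    killOK_cand_congr pc locC _ _ killA [0, 1, 4, 5] slotsA (by
      intro s hs
      simp only [List.mem_cons, List.not_mem_nil, or_false] at hs
      rcases hs with rfl | rfl | rfl | rfl <;> rfl)
  have eB : killOK killB (cand pc locC [u2, u1, u3, u4, 14, 18]) =
      killOK killB (cand pc locC [u2, u1, u3, 0, 14, 18]) :=
    killOK_cand_congr pc locC _ _ killB [0, 1, 2, 4, 5] slotsB (by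
      intro s hs
      simp only [List.mem_cons, List.not_mem_nil, or_false] at hs
      rcases hs with rfl | rfl | rfl | rfl | rfl <;> rfl)
  rw [eA] at hkA
  rw [eB] at hkB
  have h := checkC_true
  unfold checkC at h
  rw [List.all_eq_true] at h
  have h := h u2 h2
  rw [List.all_eq_true] at h
  have h := h u1 h1
  rw [hkA, Bool.not_true, Bool.false_or, List.all_eq_true] at h
  have h := h u3 (List.mem_range.mpr h3)
  rw [hkB, Bool.not_true, Bool.false_or, List.all_eq_true] at h
  have h := h u4 (List.mem_range.mpr h4)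
  rw [hkC] at h
  simp only [Bool.not_true, Bool.false_or, List.any_eq_true, List.all_eq_true, List.mem_range,
    beq_iff_eq] at h
  obtain ⟨i, hi, hz⟩ := h
  exact ⟨i, hi, hz⟩

theorem cA_none : cA none = none := isTab_fix_none cA_tab (by decide +kernel)

theorem bA_none : bA none = none := isTab_fix_none bA_tab (by decide +kernel)

theorem ptTab_cA : ∀ a < 22, (ptTab cA).getD a 0 = pc.getD a 0 := by
  intro a ha
  have h1 := ptTab_of_isTab cA_tab (by decide +kernel) ha
  have h2 := pc_spec a ha
  omega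

theorem cA_vtx_fix : ∀ n ∈ [0, 15, 19, 45, 85], cA (vtx n) = vtx n := by
  intro n hn
  have hn100 : n < 100 := by
    simp only [List.mem_cons, List.not_mem_nil, or_false] at hn
    omega
  rw [cA_tab.apply_vtx hn100]
  congr 1
  revert n
  decide +kernel

theorem num_fix_of_comm {x : Aut100} (h : x * cA = cA * x) {v : V22} (hv : cA v = v) :
    num (x v) ∈ [0, 15, 19, 45, 85] := by
  have h1 : cA (x v) = x v := by
    have := congrArg (fun z : Aut100 => z v) h
    simp only [RelIso.mul_apply, hv] at this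
    exact this.symm
  have h2 := cA_tab (x v)
  rw [h1] at h2
  exact tc_fix _ (num_lt _) h2.symm

theorem num_pt_of_fix {x : Aut100} (hx : x none = none) {a : ℕ} (ha : a < 22) :
    num (x (vtx (a + 1))) = (ptTab x).getD a 0 + 1 := by
  have : vtx (a + 1) = some (Sum.inl ⟨a, ha⟩) := vtx_pt ⟨a, ha⟩
  rw [this, num_apply_pt x hx ⟨a, ha⟩]

/-- An automorphism commuting with `cA` and fixing the extra vertex and the vertex 15 is a power
of `cA`. -/
theorem cent_c_aux (x : Aut100) (h : x * cA = cA * x) (hx0 : x none = none)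
    (hx15 : x (vtx 15) = vtx 15) : ∃ i < 5, x = cA ^ i := by
  -- the table on the points
  have hT14 : (ptTab x).getD 14 0 = 14 := by
    have := num_pt_of_fix hx0 (a := 14) (by norm_num)
    rw [hx15, num_vtx (by norm_num)] at this
    omega
  have hT18 : (ptTab x).getD 18 0 = 18 := by
    have h1 := num_fix_of_comm h (cA_vtx_fix 19 (by decide))
    have h2 : num (x (vtx 19)) = (ptTab x).getD 18 0 + 1 :=
      num_pt_of_fix hx0 (a := 18) (by norm_num)
    have h3 := ptTab_lt x hx0 (a := 18) (by norm_num)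
    rw [h2] at h1
    rcases fix_pts _ h1 (by omega) (by omega) with h4 | h4
    · exfalso
      have : (ptTab x).getD 18 0 = (ptTab x).getD 14 0 := by omega
      have := ptTab_inj x hx0 (by norm_num) (by norm_num) this
      omega
    · omega
  have hx85 : x (vtx 85) = vtx 85 := by
    have h1 := num_fix_of_comm h (cA_vtx_fix 85 (by decide))
    have h2 : num (x (vtx 85)) ≠ 0 := by
      intro h0
      have : x (vtx 85) = x none := num_injective (by rw [h0, hx0]; rfl)
      have := congrArg num (x.injective this)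
      rw [num_vtx (by norm_num)] at this
      exact absurd this (by show (85 : ℕ) ≠ 0; norm_num)
    have h3 : adjB 15 (num (x (vtx 85))) = true := by
      have ha : (pointBlockGraph B22).Adj (vtx 15) (vtx 85) :=
        (adj_vtx (by norm_num) (by norm_num)).mpr (by decide +kernel)
      have hb : (pointBlockGraph B22).Adj (x (vtx 15)) (x (vtx 85)) := x.map_rel_iff.mpr ha
      rw [hx15, adj_iff, num_vtx (by norm_num)] at hb
      exact hb
    have := fix_adj15 _ h1 h2 h3
    apply num_injective
    rw [this, num_vtx (by norm_num)]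
  have hx19 : x (vtx 19) = vtx 19 := by
    apply num_injective
    rw [num_pt_of_fix hx0 (a := 18) (by norm_num), hT18, num_vtx (by norm_num)]
  have hx45 : x (vtx 45) = vtx 45 := by
    have h1 := num_fix_of_comm h (cA_vtx_fix 45 (by decide))
    have h2 : num (x (vtx 45)) ≠ 0 := by
      intro h0
      have : x (vtx 45) = x none := num_injective (by rw [h0, hx0]; rfl)
      have := congrArg num (x.injective this)
      rw [num_vtx (by norm_num)] at this
      exact absurd this (by show (45 : ℕ) ≠ 0; norm_num)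
    have h3 : adjB 19 (num (x (vtx 45))) = true := by
      have ha : (pointBlockGraph B22).Adj (vtx 19) (vtx 45) :=
        (adj_vtx (by norm_num) (by norm_num)).mpr (by decide +kernel)
      have hb : (pointBlockGraph B22).Adj (x (vtx 19)) (x (vtx 45)) := x.map_rel_iff.mpr ha
      rw [hx19, adj_iff, num_vtx (by norm_num)] at hb
      exact hb
    have := fix_adj19 _ h1 h2 h3
    apply num_injective
    rw [this, num_vtx (by norm_num)]
  have hu1 : (ptTab x).getD 1 0 ∈ [1, 5, 7, 14, 16, 21] := by
    apply blk85_pts _ (ptTab_lt x hx0 (by norm_num))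
    have ha : (pointBlockGraph B22).Adj (vtx 2) (vtx 85) :=
      (adj_vtx (by norm_num) (by norm_num)).mpr (by decide +kernel)
    have hb : (pointBlockGraph B22).Adj (x (vtx 2)) (x (vtx 85)) := x.map_rel_iff.mpr ha
    rw [hx85, adj_iff, num_pt_of_fix hx0 (a := 1) (by norm_num), num_vtx (by norm_num)] at hb
    exact hb
  have hu2 : (ptTab x).getD 0 0 ∈ [0, 4, 9, 11, 15, 18] := by
    apply blk45_pts _ (ptTab_lt x hx0 (by norm_num))
    have ha : (pointBlockGraph B22).Adj (vtx 1) (vtx 45) :=
      (adj_vtx (by norm_num) (by norm_num)).mpr (by decide +kernel)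
    have hb : (pointBlockGraph B22).Adj (x (vtx 1)) (x (vtx 45)) := x.map_rel_iff.mpr ha
    rw [hx45, adj_iff, num_pt_of_fix hx0 (a := 0) (by norm_num), num_vtx (by norm_num)] at hb
    exact hb
  have hcomm : ∀ a < 22, (ptTab x).getD (pc.getD a 0) 0 = pc.getD ((ptTab x).getD a 0) 0 := by
    intro a ha
    have e := ptTab_comm hx0 cA_none h ha
    rw [ptTab_cA a ha, ptTab_cA _ (ptTab_lt x hx0 ha)] at e
    exact e
  have hT := eq_cand pc [0, 1, 2, 8, 14, 18] locC pc_lt locC_ok (ptTab x) (ptTab_length x) hcomm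
  simp only [List.map_cons, List.map_nil, hT14, hT18] at hT
  have hk := killOK_ptTab x hx0 (killA ++ (killB ++ killC)) (by decide +kernel)
  rw [hT] at hk
  obtain ⟨i, hi, hz⟩ := candC_check _ hu2 _ hu1 ((ptTab x).getD 2 0) (ptTab_lt x hx0 (by norm_num))
    ((ptTab x).getD 8 0) (ptTab_lt x hx0 (by norm_num)) hk
  refine ⟨i, hi, ?_⟩
  apply eq_of_ptTab hx0 (isTab_fix_none (cA_tab.pow i) (tc_pow_zero i hi))
  intro a ha
  have e1 := ptTab_of_isTab (cA_tab.pow i) (tc_pow_zero i hi) ha
  have e2 := hz a ha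
  rw [← hT] at e2
  omega

/-- The centraliser of `cA`. -/
theorem cent_c (x : Aut100) (h : x * cA = cA * x) :
    ∃ j < 5, ∃ e < 2, ∃ i < 5, x = dA ^ j * bA ^ e * cA ^ i := by
  have hxc : Commute x cA := h
  -- move the extra vertex back
  have h0 := num_fix_of_comm h cA_none
  obtain ⟨j, hj, hjn⟩ := td_orbit _ h0
  have hy0 : (dA ^ j) none = x none := by
    apply num_injective
    rw [(dA_tab.pow j) none]
    exact hjn
  have hdc : Commute dA cA := rel_cd.symm
  set x1 : Aut100 := (dA ^ j)⁻¹ * x with hx1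
  have hx1c : Commute x1 cA := ((hdc.pow_left j).inv_left).mul_left hxc
  have hx10 : x1 none = none := by
    show (dA ^ j)⁻¹ (x none) = none
    rw [← hy0]
    exact RelIso.symm_apply_apply _ _
  -- move the vertex 15 back
  have h1 := num_fix_of_comm hx1c.eq (cA_vtx_fix 15 (by decide))
  have h2 : num (x1 (vtx 15)) = (ptTab x1).getD 14 0 + 1 :=
    num_pt_of_fix hx10 (a := 14) (by norm_num)
  have h3 := ptTab_lt x1 hx10 (a := 14) (by norm_num)
  have h4 : num (x1 (vtx 15)) ∈ [15, 19] := by
    rcases fix_pts _ h1 (by omega) (by omega) with h5 | h5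
    · rw [h5]; decide
    · rw [h5]; decide
  obtain ⟨e, he, hen⟩ := tb_orbit _ h4
  have hb15 : (bA ^ e) (vtx 15) = x1 (vtx 15) := by
    apply num_injective
    rw [(bA_tab.pow e) (vtx 15), num_vtx (by norm_num)]
    exact hen
  have hbc : Commute bA cA := rel_bc
  set x2 : Aut100 := (bA ^ e)⁻¹ * x1 with hx2
  have hx2c : Commute x2 cA := ((hbc.pow_left e).inv_left).mul_left hx1c
  have hb0 : (bA ^ e) none = none := isTab_fix_none (bA_tab.pow e) (tb_pow_zero e he)
  have hx20 : x2 none = none := by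
    show (bA ^ e)⁻¹ (x1 none) = none
    rw [hx10]
    conv_lhs => rw [← hb0]
    exact RelIso.symm_apply_apply _ _
  have hx215 : x2 (vtx 15) = vtx 15 := by
    show (bA ^ e)⁻¹ (x1 (vtx 15)) = vtx 15
    rw [← hb15]
    exact RelIso.symm_apply_apply _ _
  obtain ⟨i, hi, hxi⟩ := cent_c_aux x2 hx2c.eq hx20 hx215
  refine ⟨j, hj, e, he, i, hi, ?_⟩
  rw [← hxi, hx2, hx1]
  group

end Cfsg.Agent.Lib.Helper35.HSOut
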