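import Mathlib
import Cfsg.Agent.Lib.Helper35.HSElts

/-! The centraliser of the element of order 11 in the automorphism group of the graph. -/

set_option autoImplicit false
set_option maxRecDepth 100000
set_option maxHeartbeats 4000000

namespace Cfsg.Agent.Lib.Helper35.HSOut

open Cfsg
open Cfsg.Agent.Lib.Helper35 Cfsg.Agent.Lib.Helper35.HS100 Cfsg.Agent.Lib.Helper35.StSearch
  Cfsg.Agent.Lib.Helper35.HSCalc

/-- The table of `gA` on the points. -/
def pg : List ℕ := [15, 12, 9, 6, 17, 21, 0, 8, 18, 20, 7, 14, 5, 10, 2, 4, 19, 11, 1, 13, 3, 16]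

/-- Each point as an iterate of a representative. -/
def locG : List (ℕ × ℕ) := [(0, 0), (1, 0), (0, 6), (0, 9), (0, 2), (1, 2), (0, 10), (1, 8), (1, 9), (0, 7), (1, 7), (0, 4), (1, 1), (1, 6), (0, 5), (0, 1), (1, 4), (0, 3), (1, 10), (1, 5), (0, 8), (1, 3)]

theorem pg_lt : ∀ a < 22, pg.getD a 0 < 22 := by decide +kernel

theorem pg_spec : ∀ a < 22, pg.getD a 0 + 1 = tg.getD (a + 1) 0 := by decide +kernel

theorem locG_ok : locOK pg [0, 1] locG = true := by decide +kernel

theorem tg_fix : ∀ n < 100, tg.getD n 0 = n → n = 0 := by decide +kernel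

theorem tg_pow_zero : ∀ i < 11, (tpowL tg i).getD 0 0 = 0 := by decide +kernel

theorem candG_check : ∀ u < 22, ∀ v < 22, killOK [1594] (cand pg locG [u, v]) = true →
    ∃ i < 11, ∀ z < 22, (cand pg locG [u, v]).getD z 0 + 1 = (tpowL tg i).getD (z + 1) 0 := by
  decide +kernel

theorem gA_none : gA none = none := isTab_fix_none gA_tab (by decide +kernel)

theorem ptTab_gA : ∀ a < 22, (ptTab gA).getD a 0 = pg.getD a 0 := by
  intro a ha
  have h1 := ptTab_of_isTab gA_tab (by decide +kernel) ha
  have h2 := pg_spec a ha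
  omega

/-- The centraliser of `gA` consists of its powers. -/
theorem cent_g (x : Aut100) (h : x * gA = gA * x) : x ∈ Subgroup.zpowers gA := by
  have hx0 : x none = none := by
    have h1 : gA (x none) = x none := by
      have := congrArg (fun z : Aut100 => z none) h
      simp only [RelIso.mul_apply, gA_none] at this
      exact this.symm
    have h2 := gA_tab (x none)
    rw [h1] at h2
    exact num_injective (tg_fix _ (num_lt _) h2.symm)
  have hcomm : ∀ a < 22, (ptTab x).getD (pg.getD a 0) 0 = pg.getD ((ptTab x).getD a 0) 0 := by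
    intro a ha
    have e := ptTab_comm hx0 gA_none h ha
    rw [ptTab_gA a ha, ptTab_gA _ (ptTab_lt x hx0 ha)] at e
    exact e
  have hT := eq_cand pg [0, 1] locG pg_lt locG_ok (ptTab x) (ptTab_length x) hcomm
  simp only [List.map_cons, List.map_nil] at hT
  have hk := killOK_ptTab x hx0 [1594] (by decide +kernel)
  rw [hT] at hk
  obtain ⟨i, hi, hz⟩ := candG_check ((ptTab x).getD 0 0) (ptTab_lt x hx0 (by norm_num))
    ((ptTab x).getD 1 0) (ptTab_lt x hx0 (by norm_num)) hk
  have hxi : x = gA ^ i := by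
    apply eq_of_ptTab hx0 (isTab_fix_none (gA_tab.pow i) (tg_pow_zero i hi))
    intro a ha
    have e1 := ptTab_of_isTab (gA_tab.pow i) (tg_pow_zero i hi) ha
    have e2 := hz a ha
    rw [← hT] at e2
    omega
  rw [hxi]
  exact Subgroup.pow_mem _ (Subgroup.mem_zpowers gA) i

end Cfsg.Agent.Lib.Helper35.HSOut
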