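import Mathlib
import Cfsg.Agent.Lib.Helper35.HSElts

/-! The subgroup generated by `gA`, `cA`, `dA` has at least 44352000 elements
(stabiliser chain certificate). -/

set_option autoImplicit false
set_option maxRecDepth 100000
set_option maxHeartbeats 4000000

namespace Cfsg.Agent.Lib.Helper35.HSOut

open Cfsg MulAction
open Cfsg.Agent.Lib.Helper35 Cfsg.Agent.Lib.Helper35.HS100 Cfsg.Agent.Lib.Helper35.StSearch
  Cfsg.Agent.Lib.Helper35.HSCalc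

/-- The subgroup generated by the three even elements. -/
noncomputable def Hgen : Subgroup Aut100 := Subgroup.closure {gA, cA, dA}

theorem gens_mem {k : ℕ} (hk : k < 6) : gens k ∈ Hgen := by
  have hg : gA ∈ Hgen := Subgroup.subset_closure (by simp)
  have hc : cA ∈ Hgen := Subgroup.subset_closure (by simp)
  have hd : dA ∈ Hgen := Subgroup.subset_closure (by simp)
  rcases k with _ | _ | _ | _ | _ | _ | k
  · exact hg
  · exact hc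
  · exact hd
  · exact Hgen.inv_mem hg
  · exact Hgen.inv_mem hc
  · exact Hgen.inv_mem hd
  · omega

theorem wprod_mem : ∀ w : List ℕ, (w.all fun k => decide (k < 6)) = true → wprod w ∈ Hgen
  | [], _ => Hgen.one_mem
  | k :: w, h => by
    rw [List.all_cons, Bool.and_eq_true, decide_eq_true_eq] at h
    exact Hgen.mul_mem (gens_mem h.1) (wprod_mem w h.2)

/-- A lower bound for the order of a subgroup from part of an orbit. -/
theorem card_ge_of_orbit' {G α : Type*} [Group G] [Finite G] [MulAction G α] [DecidableEq α]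
    (K : Subgroup G) (b : α) (S : Finset α) (h2 : ∀ c ∈ S, ∃ σ ∈ K, σ • b = c) :
    S.card * Nat.card ↥(K ⊓ stabilizer G b) ≤ Nat.card K := by
  have h1 : Nat.card K = Nat.card (orbit K b) * Nat.card (stabilizer K b) := by
    rw [Subgroup.card_eq_card_quotient_mul_card_subgroup (stabilizer K b)]
    congr 1
    exact (Nat.card_congr (orbitEquivQuotientStabilizer K b)).symm
  have hfin : Finite (orbit K b) := Finite.of_equiv _ (orbitEquivQuotientStabilizer K b).symm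
  have h3 : S.card ≤ Nat.card (orbit K b) := by
    let f : ↥S → orbit K b := fun c => ⟨c.1, by
      obtain ⟨σ, hσ, hc⟩ := h2 c.1 c.2
      exact ⟨⟨σ, hσ⟩, hc⟩⟩
    have hf : Function.Injective f := by
      intro x y hxy
      exact Subtype.ext (congrArg (fun z : orbit K b => (z : α)) hxy)
    have := Nat.card_le_card_of_injective f hf
    rwa [Nat.card_eq_fintype_card, Fintype.card_coe] at this
  have h4 : Nat.card (stabilizer K b) = Nat.card ↥(K ⊓ stabilizer G b) := by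
    apply Nat.card_congr
    exact
      { toFun := fun g => ⟨g.1.1, ⟨g.1.2, g.2⟩⟩
        invFun := fun g => ⟨⟨g.1, g.2.1⟩, g.2.2⟩
        left_inv := fun g => rfl
        right_inv := fun g => rfl }
  rw [h1, h4]
  exact Nat.mul_le_mul_right _ h3

/-- The chain of stabilisers of the first vertices. -/
noncomputable def chainK : ℕ → Subgroup Aut100
  | 0 => Hgen
  | k + 1 => chainK k ⊓ stabilizer Aut100 (vtx k)

theorem mem_chainK (k : ℕ) (σ : Aut100) :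
    σ ∈ chainK k ↔ σ ∈ Hgen ∧ ∀ i < k, σ (vtx i) = vtx i := by
  induction k with
  | zero => simp [chainK]
  | succ k ih =>
    rw [chainK, Subgroup.mem_inf, ih, mem_stabilizer_iff]
    constructor
    · rintro ⟨⟨h1, h2⟩, h3⟩
      refine ⟨h1, fun i hi => ?_⟩
      rcases Nat.lt_succ_iff_lt_or_eq.mp hi with h | rfl
      · exact h2 i h
      · exact h3
    · rintro ⟨h1, h2⟩
      exact ⟨⟨h1, fun i hi => h2 i (Nat.lt_succ_of_lt hi)⟩, h2 k (Nat.lt_succ_self k)⟩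

/-- The orbits of the successive stabilisers. -/
def orbs : List (List ℕ) := [[0, 1, 2, 3, 4, 5, 6, 7, 8, 9, 10, 11, 12, 13, 14, 15, 16, 17, 18, 19, 20, 21, 22, 23, 24, 25, 26, 27, 28, 29, 30, 31, 32, 33, 34, 35, 36, 37, 38, 39, 40, 41, 42, 43, 44, 45, 46, 47, 48, 49, 50, 51, 52, 53, 54, 55, 56, 57, 58, 59, 60, 61, 62, 63, 64, 65, 66, 67, 68, 69, 70, 71, 72, 73, 74, 75, 76, 77, 78, 79, 80, 81, 82, 83, 84, 85, 86, 87, 88, 89, 90, 91, 92, 93, 94, 95, 96, 97, 98, 99],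
  [1, 2, 3, 4, 5, 6, 7, 8, 9, 10, 11, 12, 13, 14, 15, 16, 17, 18, 19, 20, 21, 22],
  [2, 3, 4, 5, 6, 7, 8, 9, 10, 11, 12, 13, 14, 15, 16, 17, 18, 19, 20, 21, 22],
  [3, 4, 5, 6, 7, 8, 9, 10, 11, 12, 13, 14, 15, 16, 17, 18, 19, 20, 21, 22],
  [4, 6, 7, 8, 9, 10, 11, 12, 13, 15, 16, 18, 19, 20, 21, 22],
  [5, 14, 17]]

/-- Words for the transversals. -/
def chainWords : List (List (List ℕ)) := [[[], [3, 1, 3, 2], [0, 5], [0, 2], [1, 0, 2], [4, 3, 2], [4, 0, 5], [1, 1, 0, 2], [3, 3, 5], [3, 5], [0, 0, 2], [4, 3, 5], [3, 2], [0, 0, 5], [1, 3, 5], [2], [1, 3, 2], [0, 1, 0, 5], [3, 3, 2], [5], [1, 1, 3, 5], [4, 0, 2], [1, 0, 5], [0, 5, 0, 0, 2], [0, 2, 3, 3, 5], [3, 5, 0, 5], [3, 3, 5, 5], [2, 3, 3, 5], [0, 5, 4, 3, 2], [1, 2, 1, 0, 2], [2, 3, 3, 2], [3, 4, 2, 3, 2], [4, 3, 2, 0, 5], [1, 0, 2, 2], [1, 3, 2, 0, 5], [1, 2, 3, 5], [0, 1, 5, 3, 2], [2, 0, 5, 5], [3,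 3, 2, 2], [3, 2, 3, 5], [3, 5, 5], [4, 4, 3, 2, 0, 2], [5, 3, 2], [1, 5, 0, 5], [2, 0, 0, 2], [5, 5], [5, 0, 0, 5], [5, 4, 0, 2], [1, 5, 3, 2], [4, 5, 3, 5], [2, 3, 2], [3, 5, 0, 2], [5, 5, 3, 2, 2], [2, 4, 0, 2], [3, 2, 0, 2], [5, 3, 3, 2, 2], [2, 1, 0, 2], [2, 1, 0, 5], [5, 0, 2, 2], [2, 3, 5, 5], [0, 2, 0, 5], [4, 3, 2, 2], [5, 1, 0, 2], [3, 5, 3, 2], [2, 2, 0, 2], [3, 4, 2, 0, 5], [4, 3, 5, 5], [0, 5, 1, 3, 5], [2, 0, 5], [1, 3, 5, 5], [0, 5, 5], [0, 2, 0, 2], [5, 3, 5], [5, 0, 5], [5, 0, 0, 2], [0, 0, 2, 3, 5], [3, 5, 5, 3, 5], [1, 3, 1, 2, 0, 2], [1, 1, 5, 3, 2], [3, 2, 3, 2], [5, 5, 3, 5], [2, 0, 2], [0, 2, 3, 3, 2], [0, 5, 3, 5], [0, 5, 5, 3, 5], [2, 2], [5, 5, 3, 2], [1, 3, 2, 3, 2], [3, 2, 2], [5, 0, 2], [1, 5, 3, 5], [3, 2, 0, 5], [0, 2, 2], [3, 3, 2, 1, 0, 2], [5, 3, 3, 5], [2, 3, 5], [2, 3, 2, 0, 5], [4, 0, 2, 0, 2], [1, 5, 1, 3, 5], [5, 3, 2,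 2]],
  [[], [5, 0, 5, 5, 4, 0, 5, 0], [3, 1], [3, 3], [0, 4], [5, 5, 0, 4, 5, 4, 0, 2], [2, 5, 3], [5, 0, 5, 3, 3, 2, 0, 2], [2, 2, 3, 2, 4, 3, 5], [2, 5, 1], [2, 2, 3, 1, 2, 0, 0, 5], [4, 4], [2, 3, 2, 3, 3, 5, 3, 2], [2, 0, 2, 0, 5, 3, 2], [0, 2, 0, 4, 3, 4, 3, 5], [2, 4, 5], [5, 0, 5, 5, 1, 3, 3, 5], [1, 3], [5, 3, 2, 3, 1, 3, 2, 2], [5, 5, 3, 5, 5, 4, 0, 2], [0, 1], [2, 0, 1, 5, 0, 5, 5]],
  [[], [5, 0, 5, 5, 4, 0, 5, 3, 3], [0, 5, 1, 5, 3, 5, 1, 3, 2, 2], [4, 3, 5, 0, 0, 2, 3, 2, 2], [1, 0, 1, 0], [2, 3, 2, 1, 2, 3, 1, 2], [1, 3, 5, 3, 5, 0, 0, 2, 3, 2], [2, 0, 2, 1, 3, 3, 2, 3, 2], [5, 5, 4, 0, 5, 3, 3, 2, 0], [1, 0], [5, 5, 3, 3, 2, 3, 5, 0, 2], [3, 4], [5, 3, 1, 2, 0, 5, 0, 2, 0, 1], [5, 5, 0, 4, 2, 0, 2, 2, 3, 3], [0, 1, 2, 3, 1, 2, 2, 3, 2], [3, 4, 3, 4], [0, 0, 2, 3, 1, 2, 2, 3, 2], [2, 0, 5, 3, 1, 2, 3, 5, 0, 4], [2, 1, 0, 2, 2, 1, 3, 5, 3, 2],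 [5, 0, 5, 5, 4, 0, 5, 4, 3], [4, 2, 3, 2, 2, 3, 4, 3, 2]],
  [[], [5, 3, 5, 0, 4, 0, 5, 3, 5, 0, 4], [1, 0, 2, 0, 4, 5, 0, 2, 3, 1, 5], [3, 3, 5, 0, 2, 0, 0, 2, 1, 3, 2], [5, 3, 2, 3, 2, 0, 2, 2, 0, 0, 4], [4, 2, 0, 4, 3, 5, 0, 5, 4, 5, 0], [1, 3, 3, 5, 5, 3, 5, 0, 5, 0, 2], [2, 3, 2, 4, 4, 2, 0, 0, 2, 0], [0, 0, 2, 3, 3, 5, 0, 2, 0, 5, 5], [5, 3, 1, 2, 0, 2, 0, 4, 0, 2, 2], [4, 4, 3, 2, 2, 3, 3, 2, 0, 5, 5], [2, 1, 0, 5, 3, 1, 2, 3, 1, 5, 3], [5, 0, 5, 0, 4, 5, 3, 2, 3, 2], [1, 3, 2, 0, 1, 5, 3, 2, 0, 1, 5, 5], [0, 2, 4, 0, 5, 4, 0, 2, 3, 4, 5], [2, 4, 4, 3, 2, 3, 3, 5, 3, 2, 3], [5, 5, 0, 0, 5, 3, 1, 3, 5, 0, 2, 4], [5, 5, 3, 1, 3, 5, 3, 5, 4, 0, 2], [3, 5, 3, 3, 5, 1, 1, 5, 0, 5], [2, 2, 3, 5, 0, 0, 5, 5, 0, 1, 1]],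
  [[], [0, 1, 5, 1, 0, 2, 0, 0, 2, 3, 4, 3, 2], [3, 3, 2, 2, 3, 5, 5, 3, 5, 3, 2, 0], [2, 3, 2, 0, 5, 5, 4, 3, 5, 4, 3, 1, 2, 2], [5, 5, 4, 0, 1, 2, 0, 1, 2, 2, 3, 5, 0, 5], [2, 2, 3, 3, 5, 0, 0, 2, 2, 1, 0, 2, 0], [0, 0, 5, 3, 2, 1, 2, 0, 1, 2, 2, 1, 0, 1], [3, 5, 0, 2, 0, 2, 2, 0, 5, 5, 0, 0], [4, 2, 3, 2, 2, 1, 3, 2, 4, 0], [1, 2, 0, 5, 3, 5, 0, 1, 0, 4, 5, 3, 5, 5], [2, 0, 4, 2, 2, 0, 4, 5, 0, 2, 2, 1, 3, 2], [2, 2, 0, 2, 1, 3, 4, 3, 2, 0, 2, 3, 5, 4], [5, 3, 2, 3, 3, 2, 0, 0, 2, 0, 2, 2, 3], [0, 5, 5, 3, 5, 3, 3, 5, 0, 0, 5, 0, 2], [1, 3, 1, 1, 2, 0, 5, 5, 4, 3, 4, 5, 5, 0], [3, 1, 5, 0, 4, 5, 5, 0, 5, 1]],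
  [[], [5, 3, 2, 2, 0, 4, 4, 5, 5, 0, 4, 2, 3, 4], [1, 0, 5, 1, 3, 2, 2, 1, 1, 3, 5, 5, 0, 2]]]

/-- The check of one level. -/
def levelOK (k : ℕ) : Bool :=
  (List.range (orbs.getD k []).length).all fun idx =>
    ((chainWords.getD k []).getD idx []).all (fun l => decide (l < 6)) &&
    (List.range k).all (fun i => weval ((chainWords.getD k []).getD idx []) i == i) &&
    (weval ((chainWords.getD k []).getD idx []) k == (orbs.getD k []).getD idx 0) &&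
    decide ((orbs.getD k []).getD idx 0 < 100)

theorem levels_ok : ∀ k < 6, levelOK k = true := by decide +kernel

theorem orbs_nodup : ∀ k < 6, (orbs.getD k []).Nodup := by decide +kernel

theorem orbs_length : (List.range 6).map (fun k => (orbs.getD k []).length) = [100, 22, 21, 20, 16, 3] := by
  decide +kernel

theorem chain_step (k : ℕ) (hk : k < 6) :
    (orbs.getD k []).length * Nat.card ↥(chainK (k + 1)) ≤ Nat.card ↥(chainK k) := by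
  classical
  have hfinA : Finite Aut100 := Finite.of_injective (fun x : Aut100 => (x : V22 → V22))
    (fun x y h => RelIso.ext (fun v => congrFun h v))
  have hlev := levels_ok k hk
  unfold levelOK at hlev
  rw [List.all_eq_true] at hlev
  have hlt : ∀ y ∈ orbs.getD k [], y < 100 := by
    intro y hy
    obtain ⟨idx, h1, h2⟩ := List.mem_iff_getElem.mp hy
    have := hlev idx (List.mem_range.mpr h1)
    simp only [Bool.and_eq_true, decide_eq_true_eq] at this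
    rw [List.getD_eq_getElem _ _ h1, h2] at this
    exact this.2
  have h := card_ge_of_orbit' (chainK k) (vtx k) ((orbs.getD k []).toFinset.image vtx) ?_
  · have hc : ((orbs.getD k []).toFinset.image vtx).card = (orbs.getD k []).length := by
      rw [Finset.card_image_of_injOn, List.toFinset_card_of_nodup (orbs_nodup k hk)]
      intro a ha b hb hab
      rw [Finset.mem_coe, List.mem_toFinset] at ha hb
      have := congrArg num hab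
      rwa [num_vtx (hlt a ha), num_vtx (hlt b hb)] at this
    rw [hc] at h
    exact h
  · intro c hc
    obtain ⟨y, hy, rfl⟩ := Finset.mem_image.mp hc
    rw [List.mem_toFinset] at hy
    obtain ⟨idx, h1, h2⟩ := List.mem_iff_getElem.mp hy
    have hl := hlev idx (List.mem_range.mpr h1)
    simp only [Bool.and_eq_true, decide_eq_true_eq, beq_iff_eq, List.all_eq_true,
      List.mem_range] at hl
    obtain ⟨⟨⟨hl1, hl2⟩, hl3⟩, -⟩ := hl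
    rw [List.getD_eq_getElem _ _ h1, h2] at hl3
    refine ⟨wprod ((chainWords.getD k []).getD idx []), ?_, ?_⟩
    · rw [mem_chainK]
      refine ⟨wprod_mem _ ?_, fun i hi => ?_⟩
      · rw [List.all_eq_true]
        intro l hl
        exact decide_eq_true (hl1 l hl)
      · rw [wprod_vtx _ (by omega), hl2 i hi]
    · show wprod _ (vtx k) = vtx y
      rw [wprod_vtx _ (by omega), hl3]

theorem card_Hgen_ge : 44352000 ≤ Nat.card ↥Hgen := by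
  have h0 := chain_step 0 (by norm_num)
  have h1 := chain_step 1 (by norm_num)
  have h2 := chain_step 2 (by norm_num)
  have h3 := chain_step 3 (by norm_num)
  have h4 := chain_step 4 (by norm_num)
  have h5 := chain_step 5 (by norm_num)
  have hfinA : Finite Aut100 := Finite.of_injective (fun x : Aut100 => (x : V22 → V22))
    (fun x y h => RelIso.ext (fun v => congrFun h v))
  have h6 : 1 ≤ Nat.card ↥(chainK 6) := Nat.card_pos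
  have e : chainK 0 = Hgen := rfl
  rw [e] at h0
  have hl := orbs_length
  simp only [List.range, List.range.loop, List.map_cons, List.map_nil, List.cons.injEq,
    and_true] at hl
  obtain ⟨l0, l1, l2, l3, l4, l5⟩ := hl
  rw [l0] at h0
  rw [l1] at h1
  rw [l2] at h2
  rw [l3] at h3
  rw [l4] at h4
  rw [l5] at h5
  norm_num at h0 h1 h2 h3 h4 h5
  omega

end Cfsg.Agent.Lib.Helper35.HSOut
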