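import Mathlib

/-! Exclusion of the strongly regular parameter sets (100,22,21,0), (100,22,14,2), (100,22,7,4):
integrality of the trace of an idempotent rational matrix, and one counting argument. -/

set_option autoImplicit false
set_option linter.unusedSectionVars false

namespace Cfsg.Agent.Lib.Helper35.SRGParam

open Matrix

/-- The trace of an idempotent rational matrix is a natural number. -/
theorem trace_idem_nat {V : Type*} [Fintype V] [DecidableEq V] (E : Matrix V V ℚ) (hE : E * E = E) :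
    ∃ n : ℕ, E.trace = (n : ℚ) := by
  have h1 : IsIdempotentElem (Matrix.toLin' E) := by
    unfold IsIdempotentElem
    rw [Module.End.mul_eq_comp, ← Matrix.toLin'_mul, hE]
  have h2 := (LinearMap.IsIdempotentElem.isProj_range _ h1).trace
  rw [Matrix.trace_toLin'_eq] at h2
  exact ⟨_, h2⟩

section
variable {V : Type*} [Fintype V] [DecidableEq V] (Γ : SimpleGraph V) [DecidableRel Γ.Adj]

/-- The all-ones matrix. -/
abbrev JJ (V : Type*) : Matrix V V ℚ := Matrix.of fun _ _ => (1 : ℚ)

theorem adj_mul_J {k : ℕ} (hreg : Γ.IsRegularOfDegree k) :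
    Γ.adjMatrix ℚ * JJ V = (k : ℚ) • JJ V := by
  ext i j
  simp only [Matrix.mul_apply, Matrix.of_apply, mul_one, Matrix.smul_apply, smul_eq_mul]
  rw [show (∑ x, Γ.adjMatrix ℚ i x) = ((Γ.adjMatrix ℚ).mulVec (Function.const _ 1)) i by
    simp [Matrix.mulVec, dotProduct]]
  rw [SimpleGraph.adjMatrix_mulVec_const_apply, hreg i, mul_one]

theorem J_mul_adj {k : ℕ} (hreg : Γ.IsRegularOfDegree k) :
    JJ V * Γ.adjMatrix ℚ = (k : ℚ) • JJ V := by
  have h := congrArg Matrix.transpose (adj_mul_J Γ hreg)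
  rw [Matrix.transpose_mul, SimpleGraph.transpose_adjMatrix, Matrix.transpose_smul] at h
  have hJ : (JJ V)ᵀ = JJ V := by ext i j; simp
  rw [hJ] at h
  exact h

omit [DecidableEq V] in
theorem J_mul_J : JJ V * JJ V = (Fintype.card V : ℚ) • JJ V := by
  ext i j
  simp [Matrix.mul_apply]

omit [DecidableEq V] in
theorem trace_J : (JJ V).trace = (Fintype.card V : ℚ) := by
  simp [Matrix.trace]

theorem adj_sq {n k l m : ℕ} (h : Γ.IsSRGWith n k l m) :
    Γ.adjMatrix ℚ * Γ.adjMatrix ℚ =
      ((k : ℚ) - m) • (1 : Matrix V V ℚ) + ((l : ℚ) - m) • Γ.adjMatrix ℚ + (m : ℚ) • JJ V := by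
  have h1 := h.matrix_eq (α := ℚ)
  have h2 := SimpleGraph.one_add_adjMatrix_add_compl_adjMatrix_eq_of_one (α := ℚ) Γ
  rw [SimpleGraph.compl_adjMatrix_eq_adjMatrix_compl] at h2
  have hJ1 : (Matrix.of 1 : Matrix V V ℚ) = JJ V := rfl
  rw [hJ1] at h2
  have h3 : Γᶜ.adjMatrix ℚ = JJ V - 1 - Γ.adjMatrix ℚ := by
    rw [← h2]; abel
  rw [pow_two, h3] at h1
  rw [h1]
  simp only [Nat.cast_smul_eq_nsmul ℚ]
  module

end

theorem no_srg_7_4 {V : Type*} [Fintype V] [DecidableEq V] (Γ : SimpleGraph V) [DecidableRel Γ.Adj]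
    (h : Γ.IsSRGWith 100 22 7 4) : False := by
  have hAA := adj_sq Γ h
  have hAJ := adj_mul_J Γ h.regular
  have hJA := J_mul_adj Γ h.regular
  have hJJ := J_mul_J (V := V)
  have hc : (Fintype.card V : ℚ) = 100 := by rw [h.card]; norm_num
  rw [hc] at hJJ
  set A := Γ.adjMatrix ℚ with hA
  set J := JJ V with hJ
  set E : Matrix V V ℚ := (1 / 9 : ℚ) • A + (1 / 3 : ℚ) • (1 : Matrix V V ℚ) - (1 / 36 : ℚ) • J with hE
  have hidem : E * E = E := by
    simp only [hE, add_mul, mul_add, sub_mul, mul_sub, smul_mul_assoc, mul_smul_comm, one_mul, mul_one,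
      hAA, hAJ, hJA, hJJ]
    push_cast
    module
  obtain ⟨n, hn⟩ := trace_idem_nat E hidem
  have htr : E.trace = 275 / 9 := by
    simp only [hE, Matrix.trace_sub, Matrix.trace_add, Matrix.trace_smul, hA, hJ,
      SimpleGraph.trace_adjMatrix, Matrix.trace_one, trace_J, hc, smul_eq_mul]
    norm_num
  rw [htr] at hn
  have : (275 : ℚ) = 9 * n := by linarith
  have h' : (275 : ℕ) = 9 * n := by exact_mod_cast this
  omega

theorem no_srg_21_0 {V : Type*} [Fintype V] [DecidableEq V] (Γ : SimpleGraph V) [DecidableRel Γ.Adj]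
    (h : Γ.IsSRGWith 100 22 21 0) : False := by
  have hAA := adj_sq Γ h
  have hc : (Fintype.card V : ℚ) = 100 := by rw [h.card]; norm_num
  set A := Γ.adjMatrix ℚ with hA
  set E : Matrix V V ℚ := (1 / 23 : ℚ) • A + (1 / 23 : ℚ) • (1 : Matrix V V ℚ) with hE
  have hidem : E * E = E := by
    simp only [hE, add_mul, mul_add, smul_mul_assoc, mul_smul_comm, one_mul, mul_one, hAA]
    push_cast
    module
  obtain ⟨n, hn⟩ := trace_idem_nat E hidem
  have htr : E.trace = 100 / 23 := by
    simp only [hE, Matrix.trace_add, Matrix.trace_smul, hA,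
      SimpleGraph.trace_adjMatrix, Matrix.trace_one, hc, smul_eq_mul]
    norm_num
  rw [htr] at hn
  have : (100 : ℚ) = 23 * n := by linarith
  have h' : (100 : ℕ) = 23 * n := by exact_mod_cast this
  omega

theorem card_common {V : Type*} [Fintype V] [DecidableEq V] (Γ : SimpleGraph V) [DecidableRel Γ.Adj]
    (v w : V) :
    Fintype.card (Γ.commonNeighbors v w) = (Γ.neighborFinset v ∩ Γ.neighborFinset w).card := by
  rw [← Set.toFinset_card]
  congr 1
  ext x
  simp [SimpleGraph.mem_commonNeighbors]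

theorem no_srg_14_2 {V : Type*} [Fintype V] [DecidableEq V] (Γ : SimpleGraph V) [DecidableRel Γ.Adj]
    (h : Γ.IsSRGWith 100 22 14 2) : False := by
  have hV : 0 < Fintype.card V := by rw [h.card]; norm_num
  obtain ⟨a⟩ := Fintype.card_pos_iff.mp hV
  have hda : (Γ.neighborFinset a).card = 22 := h.regular a
  obtain ⟨p, hp⟩ : (Γ.neighborFinset a).Nonempty := Finset.card_pos.mp (by omega)
  have hap : Γ.Adj a p := (Γ.mem_neighborFinset a p).mp hp
  have hSp : (Γ.neighborFinset a ∩ Γ.neighborFinset p).card = 14 := by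
    rw [← card_common]; exact h.of_adj a p hap
  have hex : ((Γ.neighborFinset a) \
      (insert p (Γ.neighborFinset a ∩ Γ.neighborFinset p))).Nonempty := by
    rw [← Finset.card_pos]
    have h1 := Finset.le_card_sdiff (insert p (Γ.neighborFinset a ∩ Γ.neighborFinset p))
      (Γ.neighborFinset a)
    have h2 : (insert p (Γ.neighborFinset a ∩ Γ.neighborFinset p)).card ≤ 15 := by
      have := Finset.card_insert_le p (Γ.neighborFinset a ∩ Γ.neighborFinset p)
      omega
    omega
  obtain ⟨q, hq⟩ := hex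
  rw [Finset.mem_sdiff, Finset.mem_insert, Finset.mem_inter] at hq
  have haq : Γ.Adj a q := (Γ.mem_neighborFinset a q).mp hq.1
  have hqp : q ≠ p := fun e => hq.2 (Or.inl e)
  have hnpq : ¬ Γ.Adj p q := fun e => hq.2 (Or.inr ⟨hq.1, (Γ.mem_neighborFinset p q).mpr e⟩)
  have hSq : (Γ.neighborFinset a ∩ Γ.neighborFinset q).card = 14 := by
    rw [← card_common]; exact h.of_adj a q haq
  have hpq2 : (Γ.neighborFinset p ∩ Γ.neighborFinset q).card = 2 := by
    rw [← card_common]; exact h.of_not_adj (Ne.symm hqp) hnpq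
  have hT : (((Γ.neighborFinset a).erase p).erase q).card = 20 := by
    rw [Finset.card_erase_of_mem, Finset.card_erase_of_mem hp, hda]
    rw [Finset.mem_erase]; exact ⟨hqp, hq.1⟩
  have h1 : Γ.neighborFinset a ∩ Γ.neighborFinset p ⊆ ((Γ.neighborFinset a).erase p).erase q := by
    intro x hx
    rw [Finset.mem_inter, SimpleGraph.mem_neighborFinset, SimpleGraph.mem_neighborFinset] at hx
    rw [Finset.mem_erase, Finset.mem_erase, SimpleGraph.mem_neighborFinset]
    refine ⟨?_, ?_, hx.1⟩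
    · rintro rfl; exact hnpq hx.2
    · rintro rfl; exact Γ.loopless.irrefl _ hx.2
  have h2 : Γ.neighborFinset a ∩ Γ.neighborFinset q ⊆ ((Γ.neighborFinset a).erase p).erase q := by
    intro x hx
    rw [Finset.mem_inter, SimpleGraph.mem_neighborFinset, SimpleGraph.mem_neighborFinset] at hx
    rw [Finset.mem_erase, Finset.mem_erase, SimpleGraph.mem_neighborFinset]
    refine ⟨?_, ?_, hx.1⟩
    · rintro rfl; exact Γ.loopless.irrefl _ hx.2
    · rintro rfl; exact hnpq hx.2.symm
  have h3 := Finset.card_inter_add_card_union (Γ.neighborFinset a ∩ Γ.neighborFinset p)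
    (Γ.neighborFinset a ∩ Γ.neighborFinset q)
  have h4 : ((Γ.neighborFinset a ∩ Γ.neighborFinset p) ∪
      (Γ.neighborFinset a ∩ Γ.neighborFinset q)).card ≤ 20 :=
    (Finset.card_le_card (Finset.union_subset h1 h2)).trans_eq hT
  have h5 : (Γ.neighborFinset a ∩ Γ.neighborFinset p) ∩ (Γ.neighborFinset a ∩ Γ.neighborFinset q) ⊆
      (Γ.neighborFinset p ∩ Γ.neighborFinset q).erase a := by
    intro x hx
    simp only [Finset.mem_inter, SimpleGraph.mem_neighborFinset] at hx
    rw [Finset.mem_erase, Finset.mem_inter, SimpleGraph.mem_neighborFinset,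
      SimpleGraph.mem_neighborFinset]
    refine ⟨?_, hx.1.2, hx.2.2⟩
    rintro rfl; exact Γ.loopless.irrefl _ hx.1.1
  have h6 : ((Γ.neighborFinset p ∩ Γ.neighborFinset q).erase a).card = 1 := by
    rw [Finset.card_erase_of_mem, hpq2]
    rw [Finset.mem_inter, SimpleGraph.mem_neighborFinset, SimpleGraph.mem_neighborFinset]
    exact ⟨hap.symm, haq.symm⟩
  have h7 := Finset.card_le_card h5
  omega

/-- The only possible parameters. -/
theorem srg_100_22 {V : Type*} [Fintype V] [DecidableEq V] (Γ : SimpleGraph V) [DecidableRel Γ.Adj]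
    {l m : ℕ} (h : Γ.IsSRGWith 100 22 l m) : l = 0 ∧ m = 6 := by
  have hp := SimpleGraph.IsSRGWith.param_eq Γ h (by norm_num)
  have hV : 0 < Fintype.card V := by rw [h.card]; norm_num
  obtain ⟨a⟩ := Fintype.card_pos_iff.mp hV
  have hda : (Γ.neighborFinset a).card = 22 := h.regular a
  obtain ⟨p, hp'⟩ : (Γ.neighborFinset a).Nonempty := Finset.card_pos.mp (by omega)
  have hap : Γ.Adj a p := (Γ.mem_neighborFinset a p).mp hp'
  have hl : l < 22 := by
    have := hap.card_commonNeighbors_lt_degree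
    rw [h.of_adj a p hap, h.regular a] at this
    exact this
  have hcases : (l = 21 ∧ m = 0) ∨ (l = 14 ∧ m = 2) ∨ (l = 7 ∧ m = 4) ∨ (l = 0 ∧ m = 6) := by
    omega
  rcases hcases with ⟨rfl, rfl⟩ | ⟨rfl, rfl⟩ | ⟨rfl, rfl⟩ | h0
  · exact (no_srg_21_0 Γ h).elim
  · exact (no_srg_14_2 Γ h).elim
  · exact (no_srg_7_4 Γ h).elim
  · exact h0

end Cfsg.Agent.Lib.Helper35.SRGParam
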