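import Mathlib
import Cfsg.Agent.Lib.Helper35.SRGParam

/-! A transitive group on 100 points whose point stabiliser has orbits of lengths 1, 22, 77:
the orbital graph of the 22-orbit is strongly regular with parameters (100, 22, 0, 6). -/

set_option autoImplicit false
set_option linter.unusedSectionVars false

namespace Cfsg.Agent.Lib.Helper35.Rank3Graph

open MulAction

section basic
variable (G : Type*) {Ω : Type*} [Group G] [MulAction G Ω]

/-- The orbital relation of the pair `(a, b)`. -/
def Rel (a b x y : Ω) : Prop := ∃ g : G, g • a = x ∧ g • b = y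

variable {G}

theorem rel_smul {a b x y : Ω} (g : G) (h : Rel G a b x y) : Rel G a b (g • x) (g • y) := by
  obtain ⟨k, rfl, rfl⟩ := h
  exact ⟨g * k, mul_smul _ _ _, mul_smul _ _ _⟩

theorem rel_smul_iff {a b x y : Ω} (g : G) : Rel G a b (g • x) (g • y) ↔ Rel G a b x y := by
  constructor
  · intro h
    have := rel_smul g⁻¹ h
    rwa [inv_smul_smul, inv_smul_smul] at this
  · exact rel_smul g

theorem rel_base_iff {a b y : Ω} : Rel G a b a y ↔ y ∈ orbit (stabilizer G a) b := by
  constructor
  · rintro ⟨g, hg, rfl⟩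
    exact ⟨⟨g, hg⟩, rfl⟩
  · rintro ⟨⟨g, hg⟩, rfl⟩
    exact ⟨g, hg, rfl⟩

theorem mem_image_smul {S : Set Ω} (g : G) (y : Ω) : y ∈ (fun z => g • z) '' S ↔ g⁻¹ • y ∈ S := by
  constructor
  · rintro ⟨z, hz, rfl⟩; rwa [inv_smul_smul]
  · intro h; exact ⟨g⁻¹ • y, h, smul_inv_smul g y⟩

theorem ncard_image_smul (S : Set Ω) (g : G) : ((fun z => g • z) '' S).ncard = S.ncard :=
  Set.ncard_image_of_injective S (MulAction.injective g)

/-- out-neighbourhood -/
theorem nbr_smul (a b x : Ω) (g : G) :
    {y | Rel G a b (g • x) y} = (fun z => g • z) '' {y | Rel G a b x y} := by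
  ext y
  rw [mem_image_smul, Set.mem_ofPred_eq, Set.mem_ofPred_eq, ← rel_smul_iff g⁻¹, inv_smul_smul]

/-- in-neighbourhood -/
theorem nbi_smul (a b y : Ω) (g : G) :
    {x | Rel G a b x (g • y)} = (fun z => g • z) '' {x | Rel G a b x y} := by
  ext x
  rw [mem_image_smul, Set.mem_ofPred_eq, Set.mem_ofPred_eq, ← rel_smul_iff g⁻¹, inv_smul_smul]

theorem orbit_stab_self (a : Ω) : orbit (stabilizer G a) a = {a} := by
  ext z
  constructor
  · rintro ⟨⟨g, hg⟩, rfl⟩; exact hg
  · rintro rfl; exact mem_orbit_self _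

end basic

section main
variable {G Ω : Type*} [Group G] [MulAction G Ω] [Fintype Ω] [IsPretransitive G Ω]
variable {a b c : Ω}

theorem ncard_nbr (hb : (orbit (stabilizer G a) b).ncard = 22) (x : Ω) :
    {y | Rel G a b x y}.ncard = 22 := by
  obtain ⟨g, rfl⟩ := exists_smul_eq G a x
  rw [nbr_smul, ncard_image_smul]
  have : {y | Rel G a b a y} = orbit (stabilizer G a) b := by
    ext y; exact rel_base_iff
  rw [this, hb]

theorem ncard_nbi (hΩ : Fintype.card Ω = 100) (hb : (orbit (stabilizer G a) b).ncard = 22) (y : Ω) :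
    {x | Rel G a b x y}.ncard = 22 := by
  classical
  have key := Finset.sum_card_bipartiteAbove_eq_sum_card_bipartiteBelow
    (s := (Finset.univ : Finset Ω)) (t := (Finset.univ : Finset Ω)) (Rel G a b)
  simp only [Finset.bipartiteAbove, Finset.bipartiteBelow] at key
  have h1 : ∀ x : Ω, (Finset.univ.filter fun y => Rel G a b x y).card = 22 := by
    intro x
    rw [← ncard_nbr hb x, Set.ncard_eq_toFinset_card', Set.toFinset_ofPred]
  have h2 : ∀ y' : Ω, (Finset.univ.filter fun x => Rel G a b x y').card =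
      {x | Rel G a b x y}.ncard := by
    intro y'
    obtain ⟨g, rfl⟩ := exists_smul_eq G y y'
    rw [← ncard_image_smul {x | Rel G a b x y} g, ← nbi_smul, Set.ncard_eq_toFinset_card',
      Set.toFinset_ofPred]
  simp only [h1, h2, Finset.sum_const, Finset.card_univ, hΩ, smul_eq_mul] at key
  omega

theorem cover (hΩ : Fintype.card Ω = 100) (hb : (orbit (stabilizer G a) b).ncard = 22)
    (hc : (orbit (stabilizer G a) c).ncard = 77) :
    a ∉ orbit (stabilizer G a) b ∧ a ∉ orbit (stabilizer G a) c ∧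
    Disjoint (orbit (stabilizer G a) b) (orbit (stabilizer G a) c) ∧
    ∀ z : Ω, z = a ∨ z ∈ orbit (stabilizer G a) b ∨ z ∈ orbit (stabilizer G a) c := by
  have h1 : a ∉ orbit (stabilizer G a) b := by
    intro h
    rw [← orbit_eq_iff, orbit_stab_self] at h
    rw [← h, Set.ncard_singleton] at hb
    omega
  have h2 : a ∉ orbit (stabilizer G a) c := by
    intro h
    rw [← orbit_eq_iff, orbit_stab_self] at h
    rw [← h, Set.ncard_singleton] at hc
    omega
  have h3 : Disjoint (orbit (stabilizer G a) b) (orbit (stabilizer G a) c) := by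
    rw [Set.disjoint_left]
    intro z hzb hzc
    rw [← orbit_eq_iff] at hzb hzc
    rw [← hzb, hzc, hc] at hb
    omega
  refine ⟨h1, h2, h3, ?_⟩
  have h4 : ({a} ∪ orbit (stabilizer G a) b ∪ orbit (stabilizer G a) c : Set Ω) = Set.univ := by
    apply Set.eq_of_subset_of_ncard_le (Set.subset_univ _)
    rw [Set.ncard_univ, Nat.card_eq_fintype_card, hΩ,
      Set.ncard_union_eq _ (Set.toFinite _) (Set.toFinite _),
      Set.ncard_union_eq _ (Set.toFinite _) (Set.toFinite _), Set.ncard_singleton, hb, hc]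
    · exact Set.disjoint_singleton_left.mpr h1
    · rw [Set.disjoint_union_left]
      exact ⟨Set.disjoint_singleton_left.mpr h2, h3⟩
  intro z
  have hz : z ∈ ({a} ∪ orbit (stabilizer G a) b ∪ orbit (stabilizer G a) c : Set Ω) := by
    rw [h4]; exact Set.mem_univ z
  rcases hz with (hz | hz) | hz
  · exact Or.inl hz
  · exact Or.inr (Or.inl hz)
  · exact Or.inr (Or.inr hz)

theorem rel_irrefl (hb : (orbit (stabilizer G a) b).ncard = 22) (x : Ω) : ¬ Rel G a b x x := by
  rintro ⟨g, h1, h2⟩
  have hab : a = b := MulAction.injective g (h1.trans h2.symm)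
  have : orbit (stabilizer G a) b = {a} := by rw [← hab, orbit_stab_self]
  rw [this, Set.ncard_singleton] at hb
  omega

theorem rel_ba (hΩ : Fintype.card Ω = 100) (hb : (orbit (stabilizer G a) b).ncard = 22)
    (hc : (orbit (stabilizer G a) c).ncard = 77) : Rel G a b b a := by
  obtain ⟨h1, h2, h3, h4⟩ := cover hΩ hb hc
  have hS : {x | Rel G a b x a} ⊆ orbit (stabilizer G a) b := by
    intro x hx
    rcases h4 x with rfl | hxb | hxc
    · exact (rel_irrefl hb _ hx).elim
    · exact hxb
    · exfalso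
      have hsub : orbit (stabilizer G a) c ⊆ {x | Rel G a b x a} := by
        rw [← orbit_eq_iff.mpr hxc]
        rintro z ⟨⟨g, hg⟩, rfl⟩
        have := rel_smul g hx
        rw [show g • a = a from hg] at this
        exact this
      have := Set.ncard_le_ncard hsub (Set.toFinite _)
      rw [hc, ncard_nbi hΩ hb a] at this
      omega
  have hEq := Set.eq_of_subset_of_ncard_le hS (by rw [hb, ncard_nbi hΩ hb a]) (Set.toFinite _)
  have : b ∈ {x | Rel G a b x a} := by rw [hEq]; exact mem_orbit_self _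
  exact this

theorem rel_symm (hΩ : Fintype.card Ω = 100) (hb : (orbit (stabilizer G a) b).ncard = 22)
    (hc : (orbit (stabilizer G a) c).ncard = 77) {x y : Ω} (h : Rel G a b x y) : Rel G a b y x := by
  obtain ⟨g, rfl, rfl⟩ := h
  exact rel_smul g (rel_ba hΩ hb hc)

/-- The orbital graph. -/
def graph (hΩ : Fintype.card Ω = 100) (hb : (orbit (stabilizer G a) b).ncard = 22)
    (hc : (orbit (stabilizer G a) c).ncard = 77) : SimpleGraph Ω where
  Adj := Rel G a b
  symm := ⟨fun _ _ h => rel_symm hΩ hb hc h⟩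
  loopless := ⟨fun x h => rel_irrefl hb x h⟩

end main

section srg
variable {G Ω : Type*} [Group G] [MulAction G Ω] [Fintype Ω] [IsPretransitive G Ω]
variable {a b c : Ω} (hΩ : Fintype.card Ω = 100) (hb : (orbit (stabilizer G a) b).ncard = 22)
  (hc : (orbit (stabilizer G a) c).ncard = 77)

theorem card_set_eq_ncard (S : Set Ω) [Fintype S] : Fintype.card S = S.ncard := by
  rw [← Nat.card_eq_fintype_card, Nat.card_coe_set_eq]

theorem cn_smul (x y : Ω) (g : G) :
    (graph hΩ hb hc).commonNeighbors (g • x) (g • y) =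
      (fun z => g • z) '' ((graph hΩ hb hc).commonNeighbors x y) := by
  unfold SimpleGraph.commonNeighbors
  rw [Set.image_inter (MulAction.injective g)]
  congr 1
  · exact nbr_smul a b x g
  · exact nbr_smul a b y g

theorem isSRG [DecidableRel (graph hΩ hb hc).Adj] :
    ∃ l m, (graph hΩ hb hc).IsSRGWith 100 22 l m := by
  refine ⟨((graph hΩ hb hc).commonNeighbors a b).ncard,
    ((graph hΩ hb hc).commonNeighbors a c).ncard, ?_⟩
  obtain ⟨h1, h2, h3, h4⟩ := cover hΩ hb hc
  refine ⟨hΩ, fun x => ?_, fun v w hvw => ?_, fun v w hne hvw => ?_⟩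
  · rw [← SimpleGraph.card_neighborSet_eq_degree, card_set_eq_ncard]; exact ncard_nbr hb x
  · obtain ⟨g, rfl, rfl⟩ := hvw
    rw [card_set_eq_ncard, cn_smul, ncard_image_smul]
  · obtain ⟨g, rfl⟩ := exists_smul_eq G a v
    have hw' : g⁻¹ • w ≠ a := fun e => hne (by rw [← e, smul_inv_smul])
    have hnr : ¬ Rel G a b a (g⁻¹ • w) := fun e => hvw (by
      have := rel_smul g e; rwa [smul_inv_smul] at this)
    rcases h4 (g⁻¹ • w) with e | e | e
    · exact (hw' e).elim
    · exact (hnr (rel_base_iff.mpr e)).elim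
    · obtain ⟨⟨k, hk⟩, hk2⟩ := e
      have e1 : g • a = (g * k) • a := by rw [mul_smul, show k • a = a from hk]
      have e2 : w = (g * k) • c := by
        rw [mul_smul, show k • c = g⁻¹ • w from hk2, smul_inv_smul]
      rw [card_set_eq_ncard, e1, e2, cn_smul, ncard_image_smul]

theorem isSRG06 [DecidableEq Ω] [DecidableRel (graph hΩ hb hc).Adj] :
    (graph hΩ hb hc).IsSRGWith 100 22 0 6 := by
  obtain ⟨l, m, h⟩ := isSRG hΩ hb hc
  obtain ⟨rfl, rfl⟩ := SRGParam.srg_100_22 _ h
  exact h

/-- Group elements as graph automorphisms. -/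
def autOf (g : G) : graph hΩ hb hc ≃g graph hΩ hb hc where
  toEquiv := MulAction.toPerm g
  map_rel_iff' := rel_smul_iff g

theorem autOf_apply (g : G) (x : Ω) : autOf hΩ hb hc g x = g • x := rfl

def autHom : G →* (graph hΩ hb hc ≃g graph hΩ hb hc) where
  toFun := autOf hΩ hb hc
  map_one' := RelIso.ext fun x => one_smul G x
  map_mul' := fun g h => RelIso.ext fun x => mul_smul g h x

theorem autHom_apply (g : G) (x : Ω) : autHom hΩ hb hc g x = g • x := rfl

end srg

end Cfsg.Agent.Lib.Helper35.Rank3Graph
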