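import Mathlib
import Cfsg.Prelude.Def_Sporadic_a
import Cfsg.Prelude.Def_Sporadic
import Cfsg.Agent.Lib.Helper35.PointBlock
import Cfsg.Agent.Lib.Helper94.Rank3Simple

/-!
The kernel of a homomorphism to the group of order two on the automorphism group of the
point-block graph of a Steiner system S(3, 6, 22) is simple of order 44352000, provided some
automorphism fixing the extra vertex, a point and a block is mapped to `-1`.
-/

set_option autoImplicit false

namespace Cfsg.Agent.Lib.Helper35.PBG

open Cfsg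

open scoped Pointwise

universe u

variable {α : Type u} [DecidableEq α] {B : Set (Finset α)}

/-! ### The automorphisms of the family as a group of graph automorphisms -/

/-- `autToIso` as a homomorphism. -/
def autToIsoHom : setSystemAut B →* (pointBlockGraph B ≃g pointBlockGraph B) where
  toFun := autToIso
  map_one' := by
    apply RelIso.ext
    intro v
    rcases v with _ | a | b
    · rfl
    · rfl
    · obtain ⟨b', h1, h2⟩ := autToIso_inr_coe (1 : setSystemAut B) b
      rw [h1]
      show some (Sum.inr b') = some (Sum.inr b)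
      congr 2
      apply Subtype.ext
      rw [h2]
      simp
  map_mul' σ τ := by
    apply RelIso.ext
    intro v
    rcases v with _ | a | b
    · rfl
    · rfl
    · obtain ⟨b', h1, h2⟩ := autToIso_inr_coe (σ * τ) b
      obtain ⟨b1, h3, h4⟩ := autToIso_inr_coe τ b
      obtain ⟨b2, h5, h6⟩ := autToIso_inr_coe σ b1
      rw [h1, RelIso.mul_apply, h3, h5]
      congr 2
      apply Subtype.ext
      rw [h2, h6, h4, Finset.image_image]
      rfl

@[simp] theorem autToIsoHom_apply (σ : setSystemAut B) : autToIsoHom σ = autToIso σ := rfl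

/-! ### Transitivity on blocks -/

omit [DecidableEq α] in
theorem exists_emb_of_card {b : Finset α} (hb : 3 ≤ b.card) : ∃ x : Fin 3 ↪ α, ∀ i, x i ∈ b :=
  ⟨(Fin.castLEEmb hb).trans (b.equivFin.symm.toEmbedding.trans (Function.Embedding.subtype _)),
    fun i => (b.equivFin.symm (Fin.castLEEmb hb i)).2⟩

theorem block_trans (hB : IsSteinerSystem 3 6 B)
    (h3 : MulAction.IsMultiplyPretransitive (setSystemAut B) α 3) (b b' : B) :
    ∃ σ : setSystemAut B, (b : Finset α).image ((σ : Equiv.Perm α) : α → α) = (b' : Finset α) := by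
  obtain ⟨x, hx⟩ := exists_emb_of_card (b := (b : Finset α)) (by rw [hB.1 _ b.2]; norm_num)
  obtain ⟨y, hy⟩ := exists_emb_of_card (b := (b' : Finset α)) (by rw [hB.1 _ b'.2]; norm_num)
  obtain ⟨σ, hσ⟩ := h3.exists_smul_eq x y
  refine ⟨σ, ?_⟩
  have hσi : ∀ i, (σ : Equiv.Perm α) (x i) = y i := by
    intro i
    have := congrArg (fun f : Fin 3 ↪ α => f i) hσ
    simpa [Function.Embedding.smul_apply, Subgroup.smul_def] using this
  obtain ⟨c, -, hc⟩ := autToIso_inr_coe σ b
  obtain ⟨d, -, hd⟩ := hB.2 (Finset.univ.map y) (by simp)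
  have h1 : (b' : Finset α) = d := hd _ ⟨b'.2, by
    intro z hz
    obtain ⟨i, -, rfl⟩ := Finset.mem_map.mp hz
    exact hy i⟩
  have h2 : (c : Finset α) = d := hd _ ⟨c.2, by
    intro z hz
    obtain ⟨i, -, rfl⟩ := Finset.mem_map.mp hz
    rw [hc, ← hσi i]
    exact Finset.mem_image_of_mem _ (hx i)⟩
  rw [← hc, h2, h1]

/-! ### Correcting the parity -/

theorem exists_even_move {sgn : (pointBlockGraph B ≃g pointBlockGraph B) →* ℤˣ}
    (g0 : pointBlockGraph B ≃g pointBlockGraph B) (hg0 : g0 none = none) (hs : sgn g0 = -1)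
    (S : Set (Option (α ⊕ B))) (s1 : Option (α ⊕ B)) (hs1 : s1 ∈ S) (hfix : g0 s1 = s1)
    (htr : ∀ x ∈ S, ∀ y ∈ S, ∃ k : pointBlockGraph B ≃g pointBlockGraph B,
      k none = none ∧ k x = y) :
    ∀ x ∈ S, ∀ y ∈ S, ∃ h : pointBlockGraph B ≃g pointBlockGraph B,
      sgn h = 1 ∧ h none = none ∧ h x = y := by
  intro x hx y hy
  obtain ⟨k, hk0, hkx⟩ := htr x hx y hy
  rcases Int.units_eq_one_or (sgn k) with h1 | h1
  · exact ⟨k, h1, hk0, hkx⟩
  · obtain ⟨c, hc0, hcx⟩ := htr s1 hs1 x hx
    have hci0 : c⁻¹ none = none := by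
      conv_lhs => rw [← hc0]
      exact RelIso.inv_apply_self c none
    have hcix : c⁻¹ x = s1 := by
      rw [← hcx]
      exact RelIso.inv_apply_self c s1
    refine ⟨k * (c * g0 * c⁻¹), ?_, ?_, ?_⟩
    · rw [map_mul, map_mul, map_mul, map_inv, h1, hs]
      rcases Int.units_eq_one_or (sgn c) with h2 | h2 <;> rw [h2] <;> decide
    · rw [RelIso.mul_apply, RelIso.mul_apply, RelIso.mul_apply, hci0, hg0, hc0, hk0]
    · rw [RelIso.mul_apply, RelIso.mul_apply, RelIso.mul_apply, hcix, hfix, hcx, hkx]

/-! ### The kernel -/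

section Main

variable [Fintype α]

theorem isHS_ker (hα : Fintype.card α = 22) (hB : IsSteinerSystem 3 6 B)
    (hcardA : Nat.card (pointBlockGraph B ≃g pointBlockGraph B) = 88704000)
    (h3 : MulAction.IsMultiplyPretransitive (setSystemAut B) α 3)
    (M0 : Subgroup (setSystemAut B)) (hidx : M0.index = 2) (hM0 : IsSimpleGroup M0)
    (hM0card : Nat.card M0 = 443520) (h77 : Nat.card B = 77)
    (ψ : pointBlockGraph B ≃g pointBlockGraph B) (a0 : α) (hψ : ψ none = some (Sum.inl a0))
    (sgn : (pointBlockGraph B ≃g pointBlockGraph B) →* ℤˣ)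
    (g0 : pointBlockGraph B ≃g pointBlockGraph B) (hg0 : g0 none = none) (hs : sgn g0 = -1)
    (a1 : α) (hga : g0 (some (Sum.inl a1)) = some (Sum.inl a1))
    (b1 : B) (hgb : g0 (some (Sum.inr b1)) = some (Sum.inr b1)) :
    IsHS sgn.ker := by
  classical
  have hfinA : Finite (pointBlockGraph B ≃g pointBlockGraph B) :=
    Nat.finite_of_card_ne_zero (by rw [hcardA]; norm_num)
  have hne : Nonempty α := Fintype.card_pos_iff.mp (by rw [hα]; norm_num)
  have h1t : MulAction.IsPretransitive (setSystemAut B) α := by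
    rw [← MulAction.is_one_pretransitive_iff]
    exact MulAction.isMultiplyPretransitive_of_le (n := 3) (by norm_num)
      (by rw [Nat.card_eq_fintype_card, hα]; norm_num)
  have hbne : ∀ b ∈ B, b.Nonempty := by
    intro b hb
    rw [← Finset.card_pos, hB.1 b hb]
    norm_num
  -- the order of the kernel
  have hcardH : Nat.card sgn.ker = 44352000 := by
    have hrange : sgn.range = ⊤ := by
      rw [eq_top_iff]
      intro u _
      rcases Int.units_eq_one_or u with h | h
      · rw [h]; exact sgn.range.one_mem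
      · rw [h, ← hs]; exact ⟨g0, rfl⟩
    have hidxH : sgn.ker.index = 2 := by
      rw [Subgroup.index_ker, hrange, Subgroup.card_top, Nat.card_eq_fintype_card,
        Fintype.card_units_int]
    have := Subgroup.card_mul_index sgn.ker
    rw [hidxH, hcardA] at this
    omega
  refine ⟨?_, hcardH⟩
  -- the three kinds of vertices
  set Pts : Set (Option (α ⊕ B)) := Set.range fun a : α => some (Sum.inl a) with hPts
  set Bls : Set (Option (α ⊕ B)) := Set.range fun b : B => some (Sum.inr b) with hBls
  have hall : ∀ v : Option (α ⊕ B), v ∈ ({none} ∪ Pts ∪ Bls : Set (Option (α ⊕ B))) := by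
    intro v
    rcases v with _ | a | b
    · exact Or.inl (Or.inl rfl)
    · exact Or.inl (Or.inr ⟨a, rfl⟩)
    · exact Or.inr ⟨b, rfl⟩
  -- transitivity of the point stabiliser on points and blocks, before parity correction
  have htrP : ∀ x ∈ Pts, ∀ y ∈ Pts, ∃ k : pointBlockGraph B ≃g pointBlockGraph B,
      k none = none ∧ k x = y := by
    rintro _ ⟨a, rfl⟩ _ ⟨a', rfl⟩
    obtain ⟨σ, hσ⟩ := h1t.exists_smul_eq a a'
    refine ⟨autToIso σ, rfl, ?_⟩
    rw [autToIso_inl]
    exact congrArg (fun x => some (Sum.inl x)) hσ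
  have htrB : ∀ x ∈ Bls, ∀ y ∈ Bls, ∃ k : pointBlockGraph B ≃g pointBlockGraph B,
      k none = none ∧ k x = y := by
    rintro _ ⟨b, rfl⟩ _ ⟨b', rfl⟩
    obtain ⟨σ, hσ⟩ := block_trans hB h3 b b'
    refine ⟨autToIso σ, rfl, ?_⟩
    obtain ⟨c, hc1, hc2⟩ := autToIso_inr_coe σ b
    rw [hc1]
    congr 2
    apply Subtype.ext
    rw [hc2, hσ]
  have hevP := exists_even_move g0 hg0 hs Pts (some (Sum.inl a1)) ⟨a1, rfl⟩ hga htrP
  have hevB := exists_even_move g0 hg0 hs Bls (some (Sum.inr b1)) ⟨b1, rfl⟩ hgb htrB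
  -- the automorphism of the family behind `g0`
  obtain ⟨σ0, hσ0⟩ := exists_aut_of_fix g0 hg0
  -- the kernel of the composite on the automorphisms of the family is `M0`
  set K : Subgroup (setSystemAut B) := (sgn.comp autToIsoHom).ker with hK
  have hM0K : M0 ≤ K := by
    intro σ hσ
    rw [hK, MonoidHom.mem_ker]
    have hker : ((sgn.comp autToIsoHom).comp M0.subtype).ker = ⊤ := by
      rcases hM0.eq_bot_or_eq_top_of_normal _
        (MonoidHom.normal_ker ((sgn.comp autToIsoHom).comp M0.subtype)) with h | h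
      · exfalso
        have hinj := (MonoidHom.ker_eq_bot_iff _).mp h
        have := Nat.card_le_card_of_injective _ hinj
        rw [hM0card, Nat.card_eq_fintype_card, Fintype.card_units_int] at this
        omega
      · exact h
    have : (⟨σ, hσ⟩ : M0) ∈ ((sgn.comp autToIsoHom).comp M0.subtype).ker := by
      rw [hker]; exact Subgroup.mem_top _
    exact this
  have hKne : K ≠ ⊤ := by
    intro h
    have : σ0 ∈ K := by rw [h]; exact Subgroup.mem_top _
    rw [hK, MonoidHom.mem_ker, MonoidHom.comp_apply, autToIsoHom_apply, hσ0, hs] at this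
    exact absurd this (by decide)
  have hKM0 : K ≤ M0 := by
    have h1 := Subgroup.relIndex_mul_index hM0K
    rw [hidx] at h1
    have h2 : K.index ≠ 1 := fun h => hKne (Subgroup.index_eq_one.mp h)
    have h3 : K.index ∣ 2 := ⟨_, by rw [mul_comm]; exact h1.symm⟩
    have h4 : K.index = 2 := by
      rcases (Nat.dvd_prime Nat.prime_two).mp h3 with h | h
      · exact absurd h h2
      · exact h
    rw [h4] at h1
    exact Subgroup.relIndex_eq_one.mp (by omega)
  -- the criterion
  haveI : Finite sgn.ker := inferInstance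
  apply Cfsg.Agent.Lib.Helper94.simple_of_rank3 (G := sgn.ker) (none : Option (α ⊕ B)) Pts Bls
  · rintro ⟨a, ha⟩; exact absurd ha (by simp)
  · rintro ⟨b, hb⟩; exact absurd hb (by simp)
  · rw [Set.disjoint_left]
    rintro _ ⟨a, rfl⟩ ⟨b, hb⟩
    exact absurd hb (by simp)
  · rw [hPts, Set.ncard_range_of_injective, Nat.card_eq_fintype_card, hα]
    intro a a' h
    simpa using h
  · rw [hBls, Set.ncard_range_of_injective, h77]
    intro b b' h
    simpa using h
  · intro x
    refine ⟨fun _ => ?_, fun _ => hall x⟩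
    obtain ⟨g, hg⟩ := exists_move h1t hbne ψ a0 hψ x
    rcases Int.units_eq_one_or (sgn g) with h | h
    · exact ⟨⟨g, MonoidHom.mem_ker.mpr h⟩, hg⟩
    · refine ⟨⟨g * g0, MonoidHom.mem_ker.mpr ?_⟩, ?_⟩
      · rw [map_mul, h, hs]; decide
      · show (g * g0) none = x
        rw [RelIso.mul_apply, hg0, hg]
  · intro x hx y hy
    obtain ⟨h, h1, h2, h3'⟩ := hevP x hx y hy
    exact ⟨⟨h, MonoidHom.mem_ker.mpr h1⟩, h2, h3'⟩
  · intro x hx y hy
    obtain ⟨h, h1, h2, h3'⟩ := hevB x hx y hy
    exact ⟨⟨h, MonoidHom.mem_ker.mpr h1⟩, h2, h3'⟩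
  · intro g hg
    apply Subtype.ext
    apply RelIso.ext
    intro v
    exact hg v (hall v)
  · -- the point stabiliser is simple
    let φ : M0 →* MulAction.stabilizer sgn.ker (none : Option (α ⊕ B)) :=
      { toFun := fun σ => ⟨⟨autToIsoHom (σ : setSystemAut B), hM0K σ.2⟩, by
          rw [MulAction.mem_stabilizer_iff]; rfl⟩
        map_one' := by
          apply Subtype.ext; apply Subtype.ext
          exact map_one autToIsoHom
        map_mul' := fun σ τ => by
          apply Subtype.ext; apply Subtype.ext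
          exact map_mul autToIsoHom _ _ }
    have hφinj : Function.Injective φ := by
      intro σ τ h
      have h1 : autToIso (σ : setSystemAut B) = autToIso (τ : setSystemAut B) :=
        congrArg (fun z : MulAction.stabilizer sgn.ker (none : Option (α ⊕ B)) =>
          ((z : sgn.ker) : pointBlockGraph B ≃g pointBlockGraph B)) h
      exact Subtype.ext (autToIso_injective h1)
    have hφsurj : Function.Surjective φ := by
      rintro ⟨⟨g, hgk⟩, hgs⟩
      have hg0' : g none = none := MulAction.mem_stabilizer_iff.mp hgs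
      obtain ⟨σ, hσ⟩ := exists_aut_of_fix g hg0'
      have hσK : σ ∈ K := by
        rw [hK, MonoidHom.mem_ker, MonoidHom.comp_apply, autToIsoHom_apply, hσ]
        exact MonoidHom.mem_ker.mp hgk
      refine ⟨⟨σ, hKM0 hσK⟩, ?_⟩
      apply Subtype.ext; apply Subtype.ext
      exact hσ
    exact (MulEquiv.ofBijective φ ⟨hφinj, hφsurj⟩).symm.isSimpleGroup
  · exact hcardH

end Main

end Cfsg.Agent.Lib.Helper35.PBG
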