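import Mathlib
import Cfsg.Agent.Lib.Helper35.Rank3Graph
import Cfsg.Agent.Lib.Helper35.HS100
import Cfsg.Agent.S0428
import Cfsg.Agent.S0430
import Cfsg.Agent.S0431
import Cfsg.Agent.S1586

/-! Recognition: a faithful transitive group on 100 points with point stabiliser of order 443520
and suborbits of lengths 22 and 77 is isomorphic to a fixed simple group `K0` of order 44352000. -/

set_option autoImplicit false

namespace Cfsg.Agent.Lib.Helper35.Rank3HS

open Cfsg MulAction
open Cfsg.Agent.Lib.Helper35.HS100 (B22 steiner22)
open Cfsg.Agent.Lib.Helper35.Rank3Graph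

/-- The standard graph on 100 vertices. -/
abbrev PBG : SimpleGraph (Option (Fin 22 ⊕ B22)) := pointBlockGraph B22

theorem exists_K0 : ∃ H : Subgroup (PBG ≃g PBG), IsHS H :=
  Cfsg.Agent.S0431.result (α := Fin 22) (by simp) steiner22

/-- The chosen simple subgroup of index two. -/
noncomputable def K0 : Subgroup (PBG ≃g PBG) := Classical.choose exists_K0

theorem K0_spec : IsHS K0 := Classical.choose_spec exists_K0

theorem card_autPBG : Nat.card (PBG ≃g PBG) = 88704000 :=
  Cfsg.Agent.S1586.result (α := Fin 22) (by simp) steiner22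

/-- A subgroup of half the order coincides with a simple subgroup of half the order. -/
theorem eq_of_simple_half {A : Type*} [Group A] [Finite A] (K L : Subgroup A)
    (hK : IsSimpleGroup K) (hcK : 2 * Nat.card K = Nat.card A) (hcL : 2 * Nat.card L = Nat.card A)
    (h3 : 2 < Nat.card K) : L = K := by
  have hApos : 0 < Nat.card A := Nat.card_pos
  have hLi : L.index = 2 := by
    have := L.card_mul_index
    have hLpos : 0 < Nat.card L := Nat.card_pos
    nlinarith
  have hLn : L.Normal := Subgroup.normal_of_index_eq_two hLi
  have hN : (L.subgroupOf K).Normal := inferInstance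
  rcases hN.eq_bot_or_eq_top with h | h
  · exfalso
    have h1 : L.relIndex K = Nat.card K := by
      unfold Subgroup.relIndex
      rw [h, Subgroup.index_bot]
    have h2 := Subgroup.relIndex_dvd_index_of_normal L K
    rw [h1, hLi] at h2
    have := Nat.le_of_dvd (by norm_num) h2
    omega
  · rw [Subgroup.subgroupOf_eq_top] at h
    exact (Subgroup.eq_of_le_of_card_ge h (by omega)).symm

section main
variable {G Ω : Type*} [Group G] [MulAction G Ω] [Fintype Ω] [IsPretransitive G Ω]
variable {a b c : Ω}

theorem card_group (hΩ : Fintype.card Ω = 100) (hs : Nat.card (stabilizer G a) = 443520) :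
    Nat.card G = 44352000 := by
  have h1 := (stabilizer G a).card_mul_index
  rw [index_stabilizer, orbit_eq_univ, Set.ncard_univ, Nat.card_eq_fintype_card (α := Ω), hΩ, hs] at h1
  omega

/-- The recognition theorem. -/
theorem recognise (hΩ : Fintype.card Ω = 100) (hs : Nat.card (stabilizer G a) = 443520)
    (hfaith : ∀ g : G, (∀ x : Ω, g • x = x) → g = 1)
    (hb : (orbit (stabilizer G a) b).ncard = 22) (hc : (orbit (stabilizer G a) c).ncard = 77) :
    Nonempty (G ≃* K0) := by
  classical
  letI : Fintype B22 := Fintype.ofFinite B22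
  have hsrg := isSRG06 hΩ hb hc
  have hstd : PBG.IsSRGWith 100 22 0 6 :=
    Cfsg.Agent.S0428.result (α := Fin 22) (by simp) steiner22
  obtain ⟨φ⟩ := Cfsg.Agent.S0430.result hsrg hstd
  -- the transported action
  let ρ : G →* (PBG ≃g PBG) :=
    { toFun := fun g => (φ.symm.trans (autOf hΩ hb hc g)).trans φ
      map_one' := by
        apply RelIso.ext
        intro v
        show φ ((1 : G) • φ.symm v) = v
        rw [one_smul, RelIso.apply_symm_apply]
      map_mul' := by
        intro g h
        apply RelIso.ext
        intro v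
        show φ ((g * h) • φ.symm v) = φ (g • φ.symm (φ (h • φ.symm v)))
        rw [RelIso.symm_apply_apply, mul_smul] }
  have hρ : Function.Injective ρ := by
    rw [injective_iff_map_eq_one]
    intro g hg
    apply hfaith
    intro x
    have h1 : ρ g (φ x) = φ x := by rw [hg]; rfl
    have h2 : ρ g (φ x) = φ (g • φ.symm (φ x)) := rfl
    rw [h2, RelIso.symm_apply_apply] at h1
    exact φ.injective h1
  have hG : Nat.card G = 44352000 := card_group hΩ hs
  have hGfin : Finite G := Nat.finite_of_card_ne_zero (by rw [hG]; norm_num)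
  have hAfin : Finite (PBG ≃g PBG) := Nat.finite_of_card_ne_zero (by rw [card_autPBG]; norm_num)
  have hL : Nat.card ρ.range = 44352000 := by
    rw [← hG]
    exact (Nat.card_congr (MonoidHom.ofInjective hρ).toEquiv).symm
  obtain ⟨hK0s, hK0c⟩ := K0_spec
  have hLK : ρ.range = K0 :=
    eq_of_simple_half K0 ρ.range hK0s (by rw [hK0c, card_autPBG]) (by rw [hL, card_autPBG])
      (by rw [hK0c]; norm_num)
  exact ⟨(MonoidHom.ofInjective hρ).trans (MulEquiv.subgroupCongr hLK)⟩

end main

end Cfsg.Agent.Lib.Helper35.Rank3HS
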