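import Mathlib
import Cfsg.Agent.Lib.Helper35.Rank3HS
import Cfsg.Agent.Lib.Helper94.LeechHS6

/-! The Higman–Sims group inside the automorphism group of the rank-24 lattice is isomorphic to the
fixed simple group `K0`. -/

set_option autoImplicit false

namespace Cfsg.Agent.Lib.Helper35.Rank3Leech

open Cfsg MulAction
open Cfsg.Agent.Lib.Helper94
open Cfsg.Agent.Lib.Helper35.Rank3HS

/-- Recognition for an action on a larger set, on one orbit. -/
theorem recognise_orbit {G Z : Type*} [Group G] [MulAction G Z] (a b c : Z)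
    (hb' : b ∈ orbit G a) (hc' : c ∈ orbit G a)
    (h100 : (orbit G a).ncard = 100)
    (hs : Nat.card (stabilizer G a) = 443520)
    (hfaith : ∀ g : G, (∀ x ∈ orbit G a, g • x = x) → g = 1)
    (hb : (orbit (stabilizer G a) b).ncard = 22) (hc : (orbit (stabilizer G a) c).ncard = 77) :
    Nonempty (G ≃* K0) := by
  classical
  have hfin : (orbit G a).Finite := Set.finite_of_ncard_ne_zero (by rw [h100]; norm_num)
  haveI : Finite ↥(orbit G a) := hfin
  letI : Fintype ↥(orbit G a) := Fintype.ofFinite _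
  have hΩ : Fintype.card ↥(orbit G a) = 100 := by
    rw [← Nat.card_eq_fintype_card, Nat.card_coe_set_eq, h100]
  set a' : ↥(orbit G a) := ⟨a, mem_orbit_self a⟩ with ha'
  have hstab : stabilizer G a' = stabilizer G a := by
    ext g
    rw [mem_stabilizer_iff, mem_stabilizer_iff, Subtype.ext_iff]
    rfl
  have himg : ∀ x' : ↥(orbit G a),
      Subtype.val '' (orbit (stabilizer G a') x') = orbit (stabilizer G a) x'.val := by
    intro x'
    ext z
    constructor
    · rintro ⟨_, ⟨⟨g, hg⟩, rfl⟩, rfl⟩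
      exact ⟨⟨g, hstab ▸ hg⟩, rfl⟩
    · rintro ⟨⟨g, hg⟩, rfl⟩
      exact ⟨(⟨g, hstab.symm ▸ hg⟩ : stabilizer G a') • x', ⟨_, rfl⟩, rfl⟩
  have hnc : ∀ x' : ↥(orbit G a),
      (orbit (stabilizer G a') x').ncard = (orbit (stabilizer G a) x'.val).ncard := by
    intro x'
    rw [← himg x', Set.ncard_image_of_injective _ Subtype.val_injective]
  refine recognise (a := a') (b := ⟨b, hb'⟩) (c := ⟨c, hc'⟩) hΩ ?_ ?_ ?_ ?_
  · rw [hstab]; exact hs
  · intro g hg
    apply hfaith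
    intro x hx
    exact congrArg Subtype.val (hg ⟨x, hx⟩)
  · rw [hnc]; exact hb
  · rw [hnc]; exact hc

theorem orbit_OA : orbit ↥HS0 OA = ({OA} ∪ hsA ∪ hsBs : Set leechLattice) := by
  ext x
  rw [HS0_orbit]
  rfl

theorem ne_oa_of_mem_hsA {b : leechLattice} (hb : b ∈ hsA) : b.1 ≠ oa := by
  intro h
  have h1 : dotInt oa b.1 = 8 := hb.2
  rw [h, dot_oa_oa] at h1
  omega

theorem orbit_stab_hsA {b : leechLattice} (hb : b ∈ hsA) :
    orbit (stabilizer ↥HS0 OA) b = hsA := by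
  ext y
  constructor
  · rintro ⟨⟨h, hh⟩, rfl⟩
    have hfix : h • OA = OA := hh
    refine ⟨HS0_preserves h b hb.1, ?_⟩
    show dotInt oa (h • b).1 = 8
    rw [dot_preserved h hfix b]; exact hb.2
  · intro hy
    obtain ⟨h, h1, h2⟩ := HS0_trans_aux b y hb.1 hy.1 (ne_oa_of_mem_hsA hb) (ne_oa_of_mem_hsA hy)
      ⟨fun _ => hy.2, fun _ => hb.2⟩
    exact ⟨⟨h, h1⟩, h2⟩

theorem orbit_stab_hsBs {c : leechLattice} (hc : c ∈ hsBs) :
    orbit (stabilizer ↥HS0 OA) c = hsBs := by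
  ext y
  constructor
  · rintro ⟨⟨h, hh⟩, rfl⟩
    have hfix : h • OA = OA := hh
    refine ⟨HS0_preserves h c hc.1, ?_, ?_⟩
    · intro e
      have e1 : h • c = h • OA := by rw [hfix]; exact Subtype.ext e
      have e2 : c = OA := MulAction.injective h e1
      exact hc.2.1 (congrArg Subtype.val e2)
    · show dotInt oa (h • c).1 ≠ 8
      rw [dot_preserved h hfix c]; exact hc.2.2
  · intro hy
    obtain ⟨h, h1, h2⟩ := HS0_trans_aux c y hc.1 hy.1 hc.2.1 hy.2.1
      ⟨fun e => absurd e hc.2.2, fun e => absurd e hy.2.2⟩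
    exact ⟨⟨h, h1⟩, h2⟩

theorem HS0_iso_K0 : Nonempty (↥HS0 ≃* K0) := by
  obtain ⟨b, hb⟩ : hsA.Nonempty := Set.nonempty_of_ncard_ne_zero (by rw [ncard_hsA]; norm_num)
  obtain ⟨c, hc⟩ : hsBs.Nonempty := Set.nonempty_of_ncard_ne_zero (by rw [ncard_hsBs]; norm_num)
  have h100 : (orbit ↥HS0 OA).ncard = 100 := by
    have : (orbit ↥HS0 OA : Set leechLattice) = {x : leechLattice | x.1 ∈ hsSet} := by
      ext x
      rw [orbit_OA, mem_hsUnion]
      rfl
    rw [this, ncard_hsAll]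
  refine recognise_orbit (G := ↥HS0) OA b c ?_ ?_ h100 card_stab_OA ?_ ?_ ?_
  · rw [orbit_OA]; exact Or.inl (Or.inr hb)
  · rw [orbit_OA]; exact Or.inr hc
  · intro g hg
    apply HS0_faithful
    intro x hx
    exact hg x (by rw [orbit_OA]; exact hx)
  · rw [orbit_stab_hsA hb, ncard_hsA]
  · rw [orbit_stab_hsBs hc, ncard_hsBs]

/-- Stabilisers of pairs of the right shape are conjugate to the standard one. -/
theorem stabPair_equiv (v w : leechLattice) (hv : sqNorm (v : GolayPt → ℤ) = 48)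
    (hw : sqNorm (w : GolayPt → ℤ) = 48) (hvw : dotInt (v : GolayPt → ℤ) (w : GolayPt → ℤ) = -32) :
    Nonempty (↥(stabilizer ↥Co0 v ⊓ stabilizer ↥Co0 w) ≃* ↥HS0) := by
  obtain ⟨g0, hg0, hvL, hwL, h1, h2⟩ := conj2_hs v.1 w.1 v.2 w.2 hv hw hvw
  set g : ↥Co0 := ⟨g0, hg0⟩ with hg
  have hU : g • v = U5 := Subtype.ext h1
  have hW : g • w = W5 := Subtype.ext h2
  have heq : (stabilizer ↥Co0 v ⊓ stabilizer ↥Co0 w).map
      (MulAut.conj g).toMonoidHom = HS0 := by
    unfold HS0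
    rw [Subgroup.map_inf_eq _ _ _ (MulAut.conj g).injective,
      ← MulAction.stabilizer_smul_eq_stabilizer_map_conj,
      ← MulAction.stabilizer_smul_eq_stabilizer_map_conj, hU, hW]
  exact ⟨(Subgroup.equivMapOfInjective _ _ (MulAut.conj g).injective).trans
      (MulEquiv.subgroupCongr heq)⟩

/-- The second vector. -/
def wHS : leechLattice := -(Spor.leechV + Spor.leechU')

theorem HS_subgroupOf :
    Spor.HS.subgroupOf Co0 = stabilizer ↥Co0 Spor.leechV ⊓ stabilizer ↥Co0 wHS := by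
  ext g
  rw [Subgroup.mem_subgroupOf, Subgroup.mem_inf, mem_stabilizer_iff, mem_stabilizer_iff]
  unfold Spor.HS Spor.Co3
  rw [Subgroup.mem_inf, Subgroup.mem_inf, mem_stabilizer_iff, mem_stabilizer_iff]
  constructor
  · rintro ⟨⟨_, h1⟩, h2⟩
    refine ⟨h1, ?_⟩
    show g.1 (-(Spor.leechV + Spor.leechU')) = -(Spor.leechV + Spor.leechU')
    rw [co0_neg g.1 g.2, g.2.1, show g.1 Spor.leechV = Spor.leechV from h1,
      show g.1 Spor.leechU' = Spor.leechU' from h2]
  · rintro ⟨h1, h2⟩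
    refine ⟨⟨g.2, h1⟩, ?_⟩
    have h3 : g.1 (-(Spor.leechV + Spor.leechU')) = -(Spor.leechV + Spor.leechU') := h2
    rw [co0_neg g.1 g.2, g.2.1, show g.1 Spor.leechV = Spor.leechV from h1] at h3
    exact add_left_cancel (neg_injective h3)

theorem sqNorm_leechV : sqNorm (Spor.leechV : GolayPt → ℤ) = 48 := by
  show sqNorm Spor.vecV = 48
  decide

theorem sqNorm_wHS : sqNorm (wHS : GolayPt → ℤ) = 48 := by
  show sqNorm (-(Spor.vecV + Spor.vecU')) = 48
  decide

theorem dot_leechV_wHS : dotInt (Spor.leechV : GolayPt → ℤ) (wHS : GolayPt → ℤ) = -32 := by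
  show dotInt Spor.vecV (-(Spor.vecV + Spor.vecU')) = -32
  decide

theorem HS_le_Co0 : Spor.HS ≤ Co0 := fun _ h => h.1.1

theorem HS_iso_K0 : Nonempty (↥Spor.HS ≃* K0) := by
  obtain ⟨e1⟩ := stabPair_equiv Spor.leechV wHS sqNorm_leechV sqNorm_wHS dot_leechV_wHS
  obtain ⟨e2⟩ := HS0_iso_K0
  exact ⟨((Subgroup.subgroupOfEquivOfLe HS_le_Co0).symm.trans
    (MulEquiv.subgroupCongr HS_subgroupOf)).trans (e1.trans e2)⟩

end Cfsg.Agent.Lib.Helper35.Rank3Leech
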