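import Mathlib
import Cfsg.Prelude.Def_KGroupFacts
import Cfsg.Agent.Lib.Helper35.HSCentG
import Cfsg.Agent.Lib.Helper35.HSCentC
import Cfsg.Agent.Lib.Helper35.HSGen
import Cfsg.Agent.Lib.Helper35.Rank3Leech
import Cfsg.Agent.Lib.Helper10.AutNorm

/-! The outer automorphism group of the Higman–Sims group has order 2. -/

set_option autoImplicit false
set_option maxRecDepth 100000
set_option maxHeartbeats 4000000

namespace Cfsg.Agent.Lib.Helper35.HSOut

open Cfsg
open Cfsg.Agent.Lib.Helper35 Cfsg.Agent.Lib.Helper35.HS100 Cfsg.Agent.Lib.Helper35.StSearch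
  Cfsg.Agent.Lib.Helper35.HSCalc
open Cfsg.Agent.Lib.Helper35.Rank3HS (K0 K0_spec card_autPBG eq_of_simple_half)

/-- The even automorphisms. -/
noncomputable def Kev : Subgroup Aut100 := sgn100.ker

instance Kev_normal : Kev.Normal := by unfold Kev; infer_instance

theorem finite_Aut100 : Finite Aut100 :=
  Nat.finite_of_card_ne_zero (by rw [card_autPBG]; norm_num)

theorem card_Kev : Nat.card Kev = 44352000 := by
  haveI := finite_Aut100
  have hr : sgn100.range = ⊤ := by
    rw [eq_top_iff]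
    intro u _
    rcases Int.units_eq_one_or u with rfl | rfl
    · exact ⟨1, map_one _⟩
    · exact ⟨bA, sgn_bA⟩
  have h1 : Kev.index = 2 := by
    unfold Kev
    rw [Subgroup.index_ker, hr, Subgroup.card_top, Nat.card_eq_fintype_card, Fintype.card_units_int]
  have h2 := Kev.card_mul_index
  rw [h1, card_autPBG] at h2
  omega

theorem units_pow_odd {u : ℤˣ} {n : ℕ} (hn : Odd n) (h : u ^ n = 1) : u = 1 := by
  rcases Int.units_eq_one_or u with rfl | rfl
  · rfl
  · rw [Odd.neg_one_pow hn] at h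
    exact absurd h (by decide)

theorem gA_mem : gA ∈ Kev := by
  rw [Kev, MonoidHom.mem_ker]
  apply units_pow_odd (n := 11) (by decide)
  rw [← map_pow, gA_pow, map_one]

theorem cA_mem : cA ∈ Kev := by
  rw [Kev, MonoidHom.mem_ker]
  apply units_pow_odd (n := 5) (by decide)
  rw [← map_pow, cA_pow, map_one]

theorem dA_mem : dA ∈ Kev := by
  rw [Kev, MonoidHom.mem_ker]
  apply units_pow_odd (n := 5) (by decide)
  rw [← map_pow, dA_pow, map_one]

theorem Hgen_eq : Hgen = Kev := by
  haveI := finite_Aut100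
  apply Subgroup.eq_of_le_of_card_ge
  · unfold Hgen
    rw [Subgroup.closure_le]
    intro x hx
    simp only [Set.mem_insert_iff, Set.mem_singleton_iff] at hx
    rcases hx with rfl | rfl | rfl
    exacts [gA_mem, cA_mem, dA_mem]
  · rw [card_Kev]
    exact card_Hgen_ge

theorem Kev_eq_K0 : Kev = K0 := by
  haveI := finite_Aut100
  obtain ⟨hs, hc⟩ := K0_spec
  exact eq_of_simple_half K0 Kev hs (by rw [hc, card_autPBG]) (by rw [card_Kev, card_autPBG])
    (by rw [hc]; norm_num)

/-- The three generators as elements of the even subgroup. -/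
noncomputable def g' : Kev := ⟨gA, gA_mem⟩
noncomputable def c' : Kev := ⟨cA, cA_mem⟩
noncomputable def d' : Kev := ⟨dA, dA_mem⟩

/-! ### Pinning down the third generator -/

/-- The table of `dA ^ j * cA ^ i`. -/
def tdc (j i : ℕ) : List ℕ := tcomp (tpowL td j) (tpowL tc i)

/-- The table is that of the identity. -/
def isId (t : List ℕ) : Bool := (List.range 100).all fun n => t.getD n 0 == n

theorem isId_of_eq_one {x : Aut100} {t : List ℕ} (hx : IsTab x t) (h : x = 1) : isId t = true := by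
  unfold isId
  rw [List.all_eq_true]
  intro n hn
  rw [List.mem_range] at hn
  rw [beq_iff_eq]
  have := hx (vtx n)
  rw [h] at this
  have e : (1 : Aut100) (vtx n) = vtx n := rfl
  rw [e, num_vtx hn] at this
  exact this.symm

theorem eq_one_of_isId {x : Aut100} {t : List ℕ} (hx : IsTab x t) (h : isId t = true) : x = 1 := by
  unfold isId at h
  rw [List.all_eq_true] at h
  apply hx.ext IsTab.one
  intro i hi
  have := h i (List.mem_range.mpr hi)
  rw [beq_iff_eq] at this
  rw [this, List.getD_eq_getElem _ _ (by simpa using hi)]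
  simp

/-- The three order tests. -/
def testOK (j i : ℕ) : Bool :=
  isId (tpowL (tcomp tg (tdc j i)) 8) && isId (tpowL (tcomp (tcomp tg tc) (tdc j i)) 8) &&
    isId (tpowL (tcomp (tdc j i) tg') 11)

theorem tests_check : ∀ j < 5, ∀ i < 5, testOK j i = true → j = 1 ∧ i = 0 := by decide +kernel

theorem rel_t1 : (gA * dA) ^ 8 = 1 :=
  eq_one_of_isId ((gA_tab.mul dA_tab).pow 8) (by decide +kernel)

theorem rel_t2 : (gA * cA * dA) ^ 8 = 1 :=
  eq_one_of_isId (((gA_tab.mul cA_tab).mul dA_tab).pow 8) (by decide +kernel)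

theorem rel_t3 : (dA * gA⁻¹) ^ 11 = 1 :=
  eq_one_of_isId ((dA_tab.mul (gA_tab.inv tg_ok)).pow 11) (by decide +kernel)

theorem sgn_dbc (j e i : ℕ) : sgn100 (dA ^ j * bA ^ e * cA ^ i) = (-1) ^ e := by
  have hd : sgn100 dA = 1 := dA_mem
  have hc : sgn100 cA = 1 := cA_mem
  rw [map_mul, map_mul, map_pow, map_pow, map_pow, hd, hc, sgn_bA, one_pow, one_pow, one_mul,
    mul_one]

/-- An automorphism of the even subgroup fixing `g'` and `c'` is the identity. -/
theorem fix_all (θ : Kev ≃* Kev) (hg : θ g' = g') (hc : θ c' = c') : ∀ x, θ x = x := by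
  -- the image of the third generator
  have hcomm : (θ d').1 * cA = cA * (θ d').1 := by
    have h1 : θ (d' * c') = θ (c' * d') := by
      rw [show d' * c' = c' * d' from Subtype.ext rel_cd.symm]
    rw [map_mul, map_mul, hc] at h1
    exact congrArg Subtype.val h1
  obtain ⟨j, hj, e, he, i, hi, hx⟩ := cent_c _ hcomm
  have he0 : e = 0 := by
    have h1 : sgn100 (θ d').1 = 1 := (θ d').2
    rw [hx, sgn_dbc] at h1
    interval_cases e
    · rfl
    · exact absurd h1 (by decide)
  subst he0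
  rw [pow_zero, mul_one] at hx
  have hy : IsTab (θ d').1 (tdc j i) := by
    rw [hx]
    exact (dA_tab.pow j).mul (cA_tab.pow i)
  have t1 : ((gA * (θ d').1) ^ 8 : Aut100) = 1 := by
    have h1 : θ ((g' * d') ^ 8) = 1 := by
      rw [show (g' * d') ^ 8 = 1 from Subtype.ext rel_t1, map_one]
    rw [map_pow, map_mul, hg] at h1
    exact congrArg Subtype.val h1
  have t2 : ((gA * cA * (θ d').1) ^ 8 : Aut100) = 1 := by
    have h1 : θ ((g' * c' * d') ^ 8) = 1 := by
      rw [show (g' * c' * d') ^ 8 = 1 from Subtype.ext rel_t2, map_one]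
    rw [map_pow, map_mul, map_mul, hg, hc] at h1
    exact congrArg Subtype.val h1
  have t3 : (((θ d').1 * gA⁻¹) ^ 11 : Aut100) = 1 := by
    have h1 : θ ((d' * g'⁻¹) ^ 11) = 1 := by
      rw [show (d' * g'⁻¹) ^ 11 = 1 from Subtype.ext rel_t3, map_one]
    rw [map_pow, map_mul, map_inv, hg] at h1
    exact congrArg Subtype.val h1
  have htest : testOK j i = true := by
    unfold testOK
    rw [Bool.and_eq_true, Bool.and_eq_true]
    exact ⟨⟨isId_of_eq_one ((gA_tab.mul hy).pow 8) t1,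
      isId_of_eq_one (((gA_tab.mul cA_tab).mul hy).pow 8) t2⟩,
      isId_of_eq_one ((hy.mul (gA_tab.inv tg_ok)).pow 11) t3⟩
  obtain ⟨rfl, rfl⟩ := tests_check j hj i hi htest
  rw [pow_one, pow_zero, mul_one] at hx
  have hd : θ d' = d' := Subtype.ext hx
  -- all elements
  have hle : Subgroup.closure {gA, cA, dA} ≤ Kev := by
    have : Hgen ≤ Kev := le_of_eq Hgen_eq
    exact this
  have key : ∀ a ∈ Hgen, ∀ ha : a ∈ Kev, θ ⟨a, ha⟩ = ⟨a, ha⟩ := by
    intro a ha
    unfold Hgen at ha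
    induction ha using Subgroup.closure_induction with
    | mem a ha' =>
      intro ha
      simp only [Set.mem_insert_iff, Set.mem_singleton_iff] at ha'
      rcases ha' with rfl | rfl | rfl
      exacts [hg, hc, hd]
    | one => intro _; exact map_one θ
    | mul a b ha' hb' iha ihb =>
      intro hab
      have ha : a ∈ Kev := hle ha'
      have hb : b ∈ Kev := hle hb'
      have : (⟨a * b, hab⟩ : Kev) = ⟨a, ha⟩ * ⟨b, hb⟩ := rfl
      rw [this, map_mul, iha ha, ihb hb]
    | inv a ha' iha =>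
      intro hai
      have ha : a ∈ Kev := hle ha'
      have : (⟨a⁻¹, hai⟩ : Kev) = (⟨a, ha⟩ : Kev)⁻¹ := rfl
      rw [this, map_inv, iha ha]
  intro x
  exact key x.1 (by rw [Hgen_eq]; exact x.2) x.2

/-! ### The outer automorphism -/

/-- Conjugation by the odd involution. -/
noncomputable def βK : Kev ≃* Kev := MulAut.conjNormal bA

theorem βK_apply (x : Kev) : ((βK x : Kev) : Aut100) = bA * x.1 * bA⁻¹ := rfl

theorem bA_notMem : bA ∉ Kev := by
  intro h
  have h1 : sgn100 bA = 1 := h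
  rw [sgn_bA] at h1
  exact absurd h1 (by decide)

theorem βK_not_inner : ¬ ∃ k : Kev, ∀ x, βK x = k * x * k⁻¹ := by
  rintro ⟨k, hk⟩
  have h1 := congrArg Subtype.val (hk g')
  rw [βK_apply] at h1
  have h2 : (k.1⁻¹ * bA) * gA = gA * (k.1⁻¹ * bA) := by
    have h3 : bA * gA * bA⁻¹ = k.1 * gA * k.1⁻¹ := h1
    have h4 : bA * gA = k.1 * gA * k.1⁻¹ * bA := by rw [← h3]; group
    calc k.1⁻¹ * bA * gA = k.1⁻¹ * (bA * gA) := by group
      _ = k.1⁻¹ * (k.1 * gA * k.1⁻¹ * bA) := by rw [h4]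
      _ = gA * (k.1⁻¹ * bA) := by group
  have h5 := cent_g _ h2
  have h6 : k.1⁻¹ * bA ∈ Kev := by
    obtain ⟨n, hn⟩ := h5
    rw [← hn]
    exact Kev.zpow_mem gA_mem n
  have h7 : bA ∈ Kev := by
    have := Kev.mul_mem k.2 h6
    rwa [mul_inv_cancel_left] at this
  exact bA_notMem h7

theorem zmod_gen : ∀ t : ZMod 11, t ≠ 0 →
    ∃ s : ℕ, t * ((4 : ℕ) : ZMod 11) ^ s = 1 ∨ t * ((4 : ℕ) : ZMod 11) ^ s = -1 := by
  have h : ∀ t : ZMod 11, t ≠ 0 →
      ∃ s < 5, t * ((4 : ℕ) : ZMod 11) ^ s = 1 ∨ t * ((4 : ℕ) : ZMod 11) ^ s = -1 := by decide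
  intro t ht
  obtain ⟨s, -, hs⟩ := h t ht
  exact ⟨s, hs⟩

theorem zmod_q : ((4 : ℕ) : ZMod 11) * (((4 : ℕ) : ZMod 11) - 1) = 1 := by decide

theorem cent_g' (x : Kev) (h : x * g' = g' * x) : x ∈ Subgroup.zpowers g' := by
  have h1 : x.1 * gA = gA * x.1 := congrArg Subtype.val h
  obtain ⟨n, hn⟩ := cent_g _ h1
  refine ⟨n, ?_⟩
  apply Subtype.ext
  rw [← hn]
  exact Subgroup.coe_zpow _ _ _

/-- Every automorphism of the even subgroup is inner or inner times `βK`. -/
theorem all_aut (φ : Kev ≃* Kev) :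
    (∃ k : Kev, ∀ x, φ x = k * x * k⁻¹) ∨ (∃ k : Kev, ∀ x, φ x = k * βK x * k⁻¹) := by
  have := finite_Aut100
  have : Fact (Nat.Prime 11) := ⟨by norm_num⟩
  have ha : orderOf g' = 11 := by
    apply orderOf_eq_prime
    · exact Subtype.ext gA_pow
    · intro h
      exact gA_ne_one (congrArg Subtype.val h)
  have hm : c' * g' * c'⁻¹ = g' ^ 4 := Subtype.ext rel_cg
  obtain ⟨ψ, ⟨k0, hk0⟩, hψg, hψc⟩ :=
    Cfsg.Agent.Lib.Helper10.aut_normalize_r g' c' 11 4032000 4 4 (by rw [card_Kev]) (by norm_num)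
      ha hm zmod_gen zmod_q cent_g' φ
  have hφ : ∀ x, φ x = k0⁻¹ * ψ x * k0⁻¹⁻¹ := by
    intro x
    rw [hk0 x]
    group
  rcases hψg with hψg | hψg
  · left
    refine ⟨k0⁻¹, fun x => ?_⟩
    rw [hφ x, fix_all ψ hψg hψc x]
  · right
    refine ⟨k0⁻¹, fun x => ?_⟩
    have h1 : ∀ y, (ψ.trans βK) y = y := by
      apply fix_all
      · show βK (ψ g') = g'
        rw [hψg]
        apply Subtype.ext
        rw [βK_apply]
        show bA * gA⁻¹ * bA⁻¹ = gA
        have := rel_bg
        calc bA * gA⁻¹ * bA⁻¹ = (bA * gA * bA⁻¹)⁻¹ := by group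
          _ = gA := by rw [this, inv_inv]
      · show βK (ψ c') = c'
        rw [hψc]
        apply Subtype.ext
        rw [βK_apply]
        show bA * cA * bA⁻¹ = cA
        rw [rel_bc, mul_inv_cancel_right]
    have h2 : ψ x = βK x := by
      have h3 : βK (ψ x) = x := h1 x
      have h4 : βK (βK x) = x := by
        apply Subtype.ext
        rw [βK_apply, βK_apply, bA_inv]
        calc bA * (bA * x.1 * bA) * bA = (bA * bA) * x.1 * (bA * bA) := by group
          _ = x.1 := by rw [bA_sq, one_mul, mul_one]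
      exact βK.injective (h3.trans h4.symm)
    rw [hφ x, h2]

theorem card_out_Kev : Nat.card (Cfsg.Out ↥Kev) = 2 :=
  Cfsg.Agent.Lib.Helper10.card_out_eq_two βK βK_not_inner all_aut

/-- Outer automorphism groups of isomorphic groups have the same order. -/
theorem card_out_congr' {G G' : Type*} [Group G] [Group G'] (e : G ≃* G') :
    Nat.card (Cfsg.Out G) = Nat.card (Cfsg.Out G') := by
  have h : (Cfsg.Inn G).map (MulAut.congr e).toMonoidHom = Cfsg.Inn G' := by
    ext β
    constructor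
    · rintro ⟨_, ⟨g, rfl⟩, rfl⟩
      refine ⟨e g, ?_⟩
      apply MulEquiv.ext
      intro x
      simp [MulAut.congr]
    · rintro ⟨g', rfl⟩
      refine ⟨MulAut.conj (e.symm g'), ⟨_, rfl⟩, ?_⟩
      apply MulEquiv.ext
      intro x
      simp [MulAut.congr]
  exact Nat.card_congr (QuotientGroup.congr _ _ (MulAut.congr e) h).toEquiv

theorem card_out_HS : Nat.card (Cfsg.Out ↥Cfsg.Spor.HS) = 2 := by
  obtain ⟨e⟩ := Cfsg.Agent.Lib.Helper35.Rank3Leech.HS_iso_K0
  rw [card_out_congr' (e.trans (MulEquiv.subgroupCongr Kev_eq_K0.symm))]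
  exact card_out_Kev

end Cfsg.Agent.Lib.Helper35.HSOut
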