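import Cfsg.Agent.Lib.Helper35.SubsetMasks

/-!
Bitmaps of lists of masks of `k`-element sets, indexed by an injective key, and orbit certificates
whose completeness is checked through such a bitmap.
-/

set_option autoImplicit false

namespace Cfsg.Agent.Lib.Helper35

open Cfsg
open scoped Pointwise

/-- Key of the mask of a `k`-element set: the positions of its bits, in base 24. -/
def keyK : ℕ → ℕ → ℕ
  | 0, _ => 0
  | k + 1, m => Nat.log2 m + 24 * keyK k (m - 2 ^ Nat.log2 m)

/-- The mask recovered from a key. -/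
def unkeyK : ℕ → ℕ → ℕ
  | 0, _ => 0
  | k + 1, x => 2 ^ (x % 24) + unkeyK k (x / 24)

/-- Bitmap of the keys of a list of masks. -/
def keyBitmap (key : ℕ → ℕ) (l : List ℕ) : ℕ := l.foldl (fun acc m => acc ||| 2 ^ key m) 0

theorem testBit_foldl_keyBitmap (key : ℕ → ℕ) (l : List ℕ) (acc k : ℕ)
    (h : (l.foldl (fun acc m => acc ||| 2 ^ key m) acc).testBit k = true) :
    acc.testBit k = true ∨ ∃ m ∈ l, key m = k := by
  induction l generalizing acc with
  | nil => exact Or.inl h
  | cons a l ih =>
    rw [List.foldl_cons] at h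
    rcases ih _ h with h1 | ⟨m, hm, hmk⟩
    · rw [Nat.testBit_or, Bool.or_eq_true, Nat.testBit_two_pow] at h1
      rcases h1 with h2 | h2
      · exact Or.inl h2
      · exact Or.inr ⟨a, by simp, by simpa using h2⟩
    · exact Or.inr ⟨m, List.mem_cons_of_mem _ hm, hmk⟩

theorem exists_of_testBit_keyBitmap {key : ℕ → ℕ} {l : List ℕ} {k : ℕ}
    (h : (keyBitmap key l).testBit k = true) : ∃ m ∈ l, key m = k := by
  rcases testBit_foldl_keyBitmap key l 0 k h with h0 | h1
  · simp at h0
  · exact h1

/-- A mask whose key is marked in the bitmap of a list belongs to the list, when the key is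
injective on the masks in question. -/
theorem mem_of_keyBitmap {key unkey : ℕ → ℕ} {l : List ℕ} (hl : ∀ m ∈ l, unkey (key m) = m)
    {m : ℕ} (hm : unkey (key m) = m) (hbit : (keyBitmap key l).testBit (key m) = true) :
    m ∈ l := by
  obtain ⟨m', hm', hk⟩ := exists_of_testBit_keyBitmap hbit
  have : m' = m := by rw [← hl m' hm', ← hm, hk]
  exact this ▸ hm'

theorem unkey_subs2 : (subs 24 2).all (fun m => unkeyK 2 (keyK 2 m) == m) = true := by
  decide +kernel

theorem unkey_subs3 : (subs 24 3).all (fun m => unkeyK 3 (keyK 3 m) == m) = true := by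
  decide +kernel

theorem unkey_key2 {s : Finset GolayPt} (hs : s.card = 2) :
    unkeyK 2 (keyK 2 (gmask s)) = gmask s :=
  beq_iff_eq.mp (List.all_eq_true.mp unkey_subs2 _ (gmask_mem_subs hs))

theorem unkey_key3 {s : Finset GolayPt} (hs : s.card = 3) :
    unkeyK 3 (keyK 3 (gmask s)) = gmask s :=
  beq_iff_eq.mp (List.all_eq_true.mp unkey_subs3 _ (gmask_mem_subs hs))

/-- From an orbit certificate on masks of `k`-element sets to group elements, completeness being
given by a bitmap of keys. -/
theorem exists_smul_eq_of_cert_key {H : Subgroup (Equiv.Perm GolayPt)}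
    {gs : List (Equiv.Perm GolayPt)} {acts : List (ℕ → ℕ)}
    (hmod : List.Forall₂ (fun g act => g ∈ H ∧ Models gmask g act) gs acts)
    (x₀ : Finset GolayPt) (cert : List (ℕ × ℕ))
    (hc : checkDFS acts cert [gmask x₀] = true) (key unkey : ℕ → ℕ) (k : ℕ) (hx₀ : x₀.card = k)
    (hkey : ∀ s : Finset GolayPt, s.card = k → unkey (key (gmask s)) = gmask s)
    {s : Finset GolayPt} (hs : s.card = k)
    (hbit : (keyBitmap key (gmask x₀ :: pushed acts.length cert)).testBit (key (gmask s)) = true) :
    ∃ g ∈ H, g • x₀ = s := by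
  apply exists_smul_eq_of_cert hmod x₀ cert hc
  apply mem_of_keyBitmap _ (hkey s hs) hbit
  intro m hm
  obtain ⟨g, _, h⟩ := orbit_of_cert hmod x₀ cert hc m hm
  rw [← h]
  exact hkey _ (by rw [Finset.card_smul_finset]; exact hx₀)

end Cfsg.Agent.Lib.Helper35
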