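import Mathlib
import Cfsg.Agent.Lib.Helper35.McLData

/-! The automorphism group of the graph on 275 vertices has order at most 1796256000. -/

set_option autoImplicit false
set_option maxRecDepth 100000
set_option maxHeartbeats 4000000

namespace Cfsg.Agent.Lib.Helper35.McL

open Cfsg.Agent.Lib.Helper35.StSearch Cfsg.Agent.Lib.Helper35.GraphTab

/-- The automorphism group of the graph. -/
abbrev A : Subgroup (Equiv.Perm (Fin 275)) := GAut 275 am

def irRounds0 : List (List ℕ) := []

def irMask0 : ℕ := 0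

def irCell0 : List ℕ := [0, 1, 2, 3, 4, 5, 6, 7, 8, 9, 10, 11, 12, 13, 14, 15, 16, 17, 18, 19, 20, 21, 22, 23, 24, 25, 26, 27, 28, 29, 30, 31, 32, 33, 34, 35, 36, 37, 38, 39, 40, 41, 42, 43, 44, 45, 46, 47, 48, 49, 50, 51, 52, 53, 54, 55, 56, 57, 58, 59, 60, 61, 62, 63, 64, 65, 66, 67, 68, 69, 70, 71, 72, 73, 74, 75, 76, 77, 78, 79, 80, 81, 82, 83, 84, 85, 86, 87, 88, 89, 90, 91, 92, 93, 94, 95, 96, 97, 98, 99, 100, 101, 102, 103, 104, 105, 106, 107, 108, 109, 110, 111, 112, 113, 114, 115, 116, 117, 118, 119, 120, 121, 122, 123, 124, 125, 126, 127, 128, 129, 130, 131, 132, 133, 134, 135, 136, 137, 138, 139, 140, 141, 142, 143, 144, 145, 146, 147, 148, 149, 150, 151, 152, 153, 154, 155, 156, 157, 158, 159, 160, 161, 162, 163, 164, 165, 166, 167, 168, 169, 170, 171, 172, 173, 174, 175, 176, 177, 178, 179, 180, 181, 182, 183, 184, 185, 186, 187, 188, 189, 190, 191, 192, 193, 194, 195, 196, 197, 198, 199, 200, 201, 202, 203, 204, 205, 206, 207, 208, 209, 210, 211, 212, 213, 214, 215, 216, 217,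 218, 219, 220, 221, 222, 223, 224, 225, 226, 227, 228, 229, 230, 231, 232, 233, 234, 235, 236, 237, 238, 239, 240, 241, 242, 243, 244, 245, 246, 247, 248, 249, 250, 251, 252, 253, 254, 255, 256, 257, 258, 259, 260, 261, 262, 263, 264, 265, 266, 267, 268, 269, 270, 271, 272, 273, 274]

theorem irClose0 : closeMask 275 am (listMask []) irRounds0 = some irMask0 := by decide +kernel

theorem irCellOK0 : cellOK 275 am irMask0 0 irCell0 = true := by decide +kernel

theorem irStep0 : Nat.card (stabL A []) ≤ 275 * Nat.card (stabL A [0]) := by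
  have h := card_stabL_le A [] (b := 0) (by norm_num) irCell0 (fun σ hσ =>
    mem_cell hσ.1 (l := []) (fun s hs => ⟨by revert s; decide, hσ.2 s hs⟩) irRounds0 irClose0
      (by norm_num) irCellOK0)
  have e : irCell0.length = 275 := by decide
  rw [e] at h
  exact h

def irRounds1 : List (List ℕ) := []

def irMask1 : ℕ := 1

def irCell1 : List ℕ := [1, 2, 3, 4, 5, 6, 7, 8, 9, 10, 11, 12, 13, 14, 15, 16, 17, 18, 19, 20, 21, 23, 25, 29, 30, 31, 35, 39, 44, 49, 51, 52, 59, 63, 68, 71, 76, 82, 83, 88, 92, 94, 100, 102, 103, 105, 107, 109, 110, 111, 112, 114, 115, 116, 119, 122, 124, 125, 126, 127, 129, 131, 132, 134, 137, 139, 140, 142, 143, 144, 146, 147, 148, 149, 150, 151, 153, 154, 155, 157, 159, 161, 162, 163, 164, 166, 167, 169, 170, 172, 173, 175, 176, 177, 180, 181, 182, 185, 186, 187, 190, 191, 192, 193, 194, 196, 197, 198, 199, 200, 202, 205, 206, 208, 210, 211, 212, 213, 215, 216, 217, 218, 220, 223, 224, 225, 226, 227, 229, 230, 231, 232, 234, 236, 237, 238, 240, 241, 242, 243, 246,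 248, 249, 251, 253, 254, 255, 256, 257, 258, 260, 261, 262, 264, 265, 266, 268, 269, 270, 271, 272, 273]

theorem irClose1 : closeMask 275 am (listMask [0]) irRounds1 = some irMask1 := by decide +kernel

theorem irCellOK1 : cellOK 275 am irMask1 1 irCell1 = true := by decide +kernel

theorem irStep1 : Nat.card (stabL A [0]) ≤ 162 * Nat.card (stabL A [0, 1]) := by
  have h := card_stabL_le A [0] (b := 1) (by norm_num) irCell1 (fun σ hσ =>
    mem_cell hσ.1 (l := [0]) (fun s hs => ⟨by revert s; decide, hσ.2 s hs⟩) irRounds1 irClose1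
      (by norm_num) irCellOK1)
  have e : irCell1.length = 162 := by decide
  rw [e] at h
  exact h

def irRounds2 : List (List ℕ) := []

def irMask2 : ℕ := 3

def irCell2 : List ℕ := [2, 3, 4, 5, 6, 7, 8, 9, 10, 11, 12, 13, 14, 15, 16, 17, 18, 19, 20, 21, 31, 35, 52, 71, 82, 102, 105, 107, 110, 112, 115, 116, 119, 122, 125, 126, 127, 132, 139, 142, 143, 144, 146, 148, 150, 151, 154, 159, 162, 163, 166, 167, 169, 172, 173, 175, 176, 177, 180, 182, 185, 186, 190, 192, 194, 196, 197, 198, 200, 202, 206, 208, 211, 212, 215, 216, 217, 223, 224, 225, 229, 230, 231, 236, 237, 238, 240, 241, 243, 246, 248, 249, 251, 254, 257, 258, 261, 264, 265, 266, 268, 270, 271, 272, 273]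

theorem irClose2 : closeMask 275 am (listMask [0, 1]) irRounds2 = some irMask2 := by decide +kernel

theorem irCellOK2 : cellOK 275 am irMask2 2 irCell2 = true := by decide +kernel

theorem irStep2 : Nat.card (stabL A [0, 1]) ≤ 105 * Nat.card (stabL A [0, 1, 2]) := by
  have h := card_stabL_le A [0, 1] (b := 2) (by norm_num) irCell2 (fun σ hσ =>
    mem_cell hσ.1 (l := [0, 1]) (fun s hs => ⟨by revert s; decide, hσ.2 s hs⟩) irRounds2 irClose2
      (by norm_num) irCellOK2)
  have e : irCell2.length = 105 := by decide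
  rw [e] at h
  exact h

def irRounds3 : List (List ℕ) := []

def irMask3 : ℕ := 7

def irCell3 : List ℕ := [35, 52, 71, 82, 102, 107, 115, 119, 125, 142, 148, 150, 154, 159, 163, 173, 176, 182, 186, 190, 194, 198, 208, 224, 231, 237, 240, 249, 257, 264, 268, 273]

theorem irClose3 : closeMask 275 am (listMask [0, 1, 2]) irRounds3 = some irMask3 := by decide +kernel

theorem irCellOK3 : cellOK 275 am irMask3 35 irCell3 = true := by decide +kernel

theorem irStep3 : Nat.card (stabL A [0, 1, 2]) ≤ 32 * Nat.card (stabL A [0, 1, 2, 35]) := by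
  have h := card_stabL_le A [0, 1, 2] (b := 35) (by norm_num) irCell3 (fun σ hσ =>
    mem_cell hσ.1 (l := [0, 1, 2]) (fun s hs => ⟨by revert s; decide, hσ.2 s hs⟩) irRounds3 irClose3
      (by norm_num) irCellOK3)
  have e : irCell3.length = 32 := by decide
  rw [e] at h
  exact h

def irRounds4 : List (List ℕ) := []

def irMask4 : ℕ := 34359738375

def irCell4 : List ℕ := [103, 131, 134, 164, 193, 227]

theorem irClose4 : closeMask 275 am (listMask [0, 1, 2, 35]) irRounds4 = some irMask4 := by decide +kernel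

theorem irCellOK4 : cellOK 275 am irMask4 103 irCell4 = true := by decide +kernel

theorem irStep4 : Nat.card (stabL A [0, 1, 2, 35]) ≤ 6 * Nat.card (stabL A [0, 1, 2, 35, 103]) := by
  have h := card_stabL_le A [0, 1, 2, 35] (b := 103) (by norm_num) irCell4 (fun σ hσ =>
    mem_cell hσ.1 (l := [0, 1, 2, 35]) (fun s hs => ⟨by revert s; decide, hσ.2 s hs⟩) irRounds4 irClose4
      (by norm_num) irCellOK4)
  have e : irCell4.length = 6 := by decide
  rw [e] at h
  exact h

def irRounds5 : List (List ℕ) := [[70, 80, 189, 233],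
  [45, 108, 129, 191, 242, 260],
  [4, 13, 16, 31, 34, 47, 52, 54, 64, 71, 82, 91, 130, 136, 137, 161, 164, 174, 209, 228]]

def irMask5 : ℕ := 1852680509420170903326193778072381071999584924039313302408219399194662263660567

def irCell5 : List ℕ := [251, 261]

theorem irClose5 : closeMask 275 am (listMask [0, 1, 2, 35, 103]) irRounds5 = some irMask5 := by decide +kernel

theorem irCellOK5 : cellOK 275 am irMask5 251 irCell5 = true := by decide +kernel

theorem irStep5 : Nat.card (stabL A [0, 1, 2, 35, 103]) ≤ 2 * Nat.card (stabL A [0, 1, 2, 35, 103, 251]) := by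
  have h := card_stabL_le A [0, 1, 2, 35, 103] (b := 251) (by norm_num) irCell5 (fun σ hσ =>
    mem_cell hσ.1 (l := [0, 1, 2, 35, 103]) (fun s hs => ⟨by revert s; decide, hσ.2 s hs⟩) irRounds5 irClose5
      (by norm_num) irCellOK5)
  have e : irCell5.length = 2 := by decide
  rw [e] at h
  exact h

def irRoundsF : List (List ℕ) := [[23, 70, 80, 108, 127, 189, 205, 233, 234],
  [3, 5, 6, 7, 8, 11, 12, 13, 15, 16, 18, 19, 20, 21, 22, 24, 26, 27, 28, 29, 30, 31, 32, 33, 34, 36, 37, 38, 39, 40, 41, 43, 45, 48, 50, 51, 52, 53, 54, 55, 56, 59, 60, 61, 62, 64, 65, 66, 67, 68, 69, 71, 72, 73, 75, 76, 77, 78, 79, 81, 82, 83, 84, 86, 88, 89, 90, 91, 92, 93, 95, 97, 98, 99, 100, 101, 102, 104, 106, 107, 109, 110, 111, 112, 114, 115, 116, 117, 118, 119, 120, 122, 123, 124, 125, 126, 128, 129, 130, 131, 132, 133, 134, 135, 137, 138, 140, 141, 145, 146, 148, 150, 152, 153, 154, 156, 159, 160, 161, 163, 164, 165, 167, 171, 172, 173, 174, 175, 176, 177, 178, 179, 182, 183, 185, 186, 188, 190, 191, 195,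 197, 198, 199, 200, 201, 202, 203, 204, 207, 208, 209, 212, 213, 214, 215, 216, 217, 218, 220, 221, 222, 223, 224, 225, 226, 228, 229, 231, 232, 235, 237, 238, 239, 240, 241, 242, 243, 244, 245, 247, 249, 250, 252, 254, 255, 256, 257, 258, 259, 260, 261, 262, 263, 264, 265, 266, 267, 268, 270, 271, 273, 274],
  [4, 9, 10, 14, 17, 25, 42, 44, 46, 47, 49, 57, 58, 63, 74, 85, 87, 94, 96, 105, 113, 121, 136, 139, 142, 143, 144, 147, 149, 151, 155, 157, 158, 162, 166, 168, 169, 170, 180, 181, 184, 187, 192, 193, 194, 196, 206, 210, 211, 219, 227, 230, 236, 246, 248, 253, 269, 272]]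

theorem irCloseF : closeMask 275 am (listMask [0, 1, 2, 35, 103, 251]) irRoundsF = some (2 ^ 275 - 1) := by decide +kernel

theorem card_stab_base : Nat.card (stabL A [0, 1, 2, 35, 103, 251]) = 1 := by
  have : stabL A [0, 1, 2, 35, 103, 251] = ⊥ := by
    rw [Subgroup.eq_bot_iff_forall]
    intro σ hσ
    exact eq_one_of_closeMask hσ.1 (l := [0, 1, 2, 35, 103, 251]) (fun s hs => ⟨by revert s; decide, hσ.2 s hs⟩)
      irRoundsF irCloseF
  rw [this, Subgroup.card_bot]

/-- The automorphism group has order at most 1796256000. -/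
theorem card_A_le : Nat.card A ≤ 1796256000 := by
  have h0 := irStep0
  have h1 := irStep1
  have h2 := irStep2
  have h3 := irStep3
  have h4 := irStep4
  have h5 := irStep5
  rw [card_stab_base] at h5
  rw [stabL_nil] at h0
  omega

end Cfsg.Agent.Lib.Helper35.McL
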