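import Mathlib
import Cfsg.Agent.Lib.Helper35.McLVecA

/-! A part of the table of inner products of the 275 vectors. -/

set_option autoImplicit false
set_option maxRecDepth 100000
set_option maxHeartbeats 4000000

namespace Cfsg.Agent.Lib.Helper35.McL

theorem chunk4 : chunkOK 4 = true := by decide +kernel

theorem chunk5 : chunkOK 5 = true := by decide +kernel

theorem chunk6 : chunkOK 6 = true := by decide +kernel

theorem chunk7 : chunkOK 7 = true := by decide +kernel

end Cfsg.Agent.Lib.Helper35.McL
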