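import Mathlib
import Cfsg.Agent.Lib.Helper35.McLVecB
import Cfsg.Agent.Lib.Helper35.GraphTab4

/-! The table of inner products of the 275 vectors. -/

set_option autoImplicit false

namespace Cfsg.Agent.Lib.Helper35.McL

open Cfsg.Agent.Lib.Helper35.StSearch Cfsg.Agent.Lib.Helper35.GraphTab

theorem dot_table : ((desc.zip am).zipIdx.all fun x => desc.zipIdx.all fun y =>
    pairOK x.1.1 y.1 x.1.2 x.2 y.2) = true := by
  have hl : (desc.zip am).zipIdx.length ≤ 35 * 8 := by
    rw [List.length_zipIdx, List.length_zip, desc_length, am_length]; decide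
  refine all_of_chunksG rowOK _ 35 8 (by decide) ?_ hl
  intro k hk
  interval_cases k
  exacts [chunk0, chunk1, chunk2, chunk3, chunk4, chunk5, chunk6, chunk7]

end Cfsg.Agent.Lib.Helper35.McL
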