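import Mathlib
import Cfsg.Agent.Lib.Helper35.McLAut
import Cfsg.Agent.Lib.Helper35.McLVecT
import Cfsg.Agent.Lib.Helper94.LeechML6

/-! The stabiliser of the standard pair of vectors acts faithfully on the 275 vectors, as a group
of automorphisms of the graph on 275 vertices; the McLaughlin group is this stabiliser. -/

set_option autoImplicit false
set_option maxRecDepth 100000
set_option maxHeartbeats 4000000

namespace Cfsg.Agent.Lib.Helper35.McL

open Cfsg MulAction
open Cfsg.Agent.Lib.Helper35.StSearch Cfsg.Agent.Lib.Helper35.GraphTab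
open Cfsg.Agent.Lib.Helper94 Cfsg.Agent.Lib.Helper95
open Cfsg.Agent.Lib.Helper10 (idx pt idx_lt pt_idx idx_pt idx_injective vec vec_apply enc
  vec_mem_golayCode_iff)

theorem all_getD {l : List ℕ} {p : ℕ → Bool} (h : l.all p = true) {j : ℕ} (hj : j < l.length) :
    p (l.getD j 0) = true := by
  rw [List.all_eq_true] at h
  apply h
  rw [List.getD_eq_getElem _ _ hj]
  exact List.getElem_mem hj

theorem obm_spec {j : ℕ} (hj : j < 77) : obm.getD j 0 < 2 ^ 24 ∧ enc (obm.getD j 0) = obm.getD j 0 ∧
    popc 24 (obm.getD j 0) = 8 ∧ (obm.getD j 0).testBit 23 = true ∧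
    (obm.getD j 0).testBit 0 = true := by
  have := all_getD obm_ok (j := j) (by rw [obm_length]; exact hj)
  generalize obm.getD j 0 = o at this ⊢
  simp only [Bool.and_eq_true, decide_eq_true_eq, beq_iff_eq] at this
  obtain ⟨⟨⟨⟨h1, h2⟩, h3⟩, h4⟩, h5⟩ := this
  exact ⟨h1, h2, h3, h4, h5⟩

theorem ocm_spec {j : ℕ} (hj : j < 176) : ocm.getD j 0 < 2 ^ 24 ∧
    enc (ocm.getD j 0) = ocm.getD j 0 ∧ popc 24 (ocm.getD j 0) = 8 ∧
    (ocm.getD j 0).testBit 23 = true ∧ (ocm.getD j 0).testBit 0 = false := by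
  have := all_getD ocm_ok (j := j) (by rw [ocm_length]; exact hj)
  generalize ocm.getD j 0 = o at this ⊢
  simp only [Bool.and_eq_true, decide_eq_true_eq, beq_iff_eq,
    Bool.not_eq_eq_eq_not, Bool.not_true] at this
  obtain ⟨⟨⟨⟨h1, h2⟩, h3⟩, h4⟩, h5⟩ := this
  exact ⟨h1, h2, h3, h4, h5⟩

theorem idx_none : idx none = 23 := rfl

theorem idx_zero : idx (some 0) = 0 := rfl

theorem idx_ne_of_ne_none {p : GolayPt} (h : p ≠ none) : idx p ≠ 23 := by
  intro e
  apply h
  rw [← pt_idx p, e]
  rfl

theorem vecF_A {i : ℕ} (hi : i < 22) : vecF i = twoVec none (pt (i + 1)) 4 := by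
  have hj : pt (i + 1) ≠ none := by
    intro e
    have := congrArg idx e
    rw [idx_pt (by omega), idx_none] at this
    omega
  funext p
  have hrow : vecF i p = if idx p = 23 ∨ idx p = i + 1 then 4 else 0 := by
    unfold vecF vecG descF
    rw [if_pos hi]
    show (0 : ℤ) + 4 * bitZ _ (idx p) + 0 * dl (idx p) = _
    unfold bitZ
    rw [bitsA i hi (idx p) (idx_lt p)]
    by_cases h : idx p = 23 ∨ idx p = i + 1
    · simp [h]
    · simp [h]
  rw [hrow]
  unfold twoVec
  rw [Pi.add_apply, Pi.single_apply, Pi.single_apply]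
  by_cases h1 : p = none
  · subst h1
    have : ¬ (none = pt (i + 1)) := fun e => hj e.symm
    simp [idx_none, this]
  · have h2 : idx p ≠ 23 := idx_ne_of_ne_none h1
    by_cases h3 : p = pt (i + 1)
    · subst h3
      rw [idx_pt (by omega)]
      simp [hj]
    · have h4 : idx p ≠ i + 1 := fun e => h3 (by rw [← pt_idx p, e])
      simp [h1, h2, h3, h4]

theorem vecF_B {i : ℕ} (h1 : 22 ≤ i) (h2 : i < 99) :
    vecF i = pmVec 2 (ofMask idx (obm.getD (i - 22) 0)) ∅ := by
  funext p
  unfold vecF vecG descF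
  rw [if_neg (by omega), if_pos h2, pmVec_apply, if_neg (Finset.notMem_empty _)]
  show (0 : ℤ) + 2 * bitZ _ (idx p) + 0 * dl (idx p) = _
  unfold bitZ
  by_cases h : (obm.getD (i - 22) 0).testBit (idx p) = true
  · rw [if_pos h, if_pos ((mem_ofMask idx _ p).mpr h)]
    norm_num
  · rw [if_neg h, if_neg (fun hp => h ((mem_ofMask idx _ p).mp hp))]
    norm_num

theorem vecF_C {i : ℕ} (h1 : 99 ≤ i) (h2 : i < 275) :
    vecF i = signVec (vec (ocm.getD (i - 99) 0)) (oneVec {none} (-3)) := by
  obtain ⟨-, -, -, h23, -⟩ := ocm_spec (j := i - 99) (by omega)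
  funext p
  unfold vecF vecG descF
  rw [if_neg (by omega), if_neg (by omega), signVec_apply, oneVec_apply]
  show (1 : ℤ) + (-2) * bitZ _ (idx p) + 4 * dl (idx p) = _
  generalize ocm.getD (i - 99) 0 = o at h23 ⊢
  unfold sgnOf
  rw [vec_apply]
  by_cases hp : p = none
  · subst hp
    have e1 : bitZ o (idx none) = 1 := by unfold bitZ; rw [idx_none, if_pos h23]
    have e2 : dl (idx none) = 1 := by unfold dl; rw [idx_none, if_pos rfl]
    have e3 : (none : GolayPt) ∈ ({none} : Finset GolayPt) := Finset.mem_singleton_self _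
    rw [e1, e2, idx_none, h23, if_pos rfl, if_pos e3, ZMod.val_one]
    norm_num
  · have e2 : dl (idx p) = 0 := by unfold dl; rw [if_neg (idx_ne_of_ne_none hp)]
    have e3 : p ∉ ({none} : Finset GolayPt) := by simpa using hp
    rw [e2, if_neg e3]
    by_cases h : o.testBit (idx p) = true
    · have e1 : bitZ o (idx p) = 1 := by unfold bitZ; rw [if_pos h]
      rw [e1, h, if_pos rfl, ZMod.val_one]
      norm_num
    · have h' : o.testBit (idx p) = false := by simpa using h
      have e1 : bitZ o (idx p) = 0 := by unfold bitZ; rw [if_neg h]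
      rw [e1, h', if_neg (by simp), ZMod.val_zero]
      norm_num

theorem gmask_ofMask {o : ℕ} (ho : o < 2 ^ 24) : gmask (ofMask idx o) = o :=
  maskOf_ofMask (n := 24) (fun i hi => ⟨pt i, idx_pt hi⟩) ho

theorem vecF_mem {i : ℕ} (hi : i < 275) : vecF i ∈ mcSet := by
  rw [mem_mcSet_iff]
  by_cases h1 : i < 22
  · left
    unfold mcA
    rw [Finset.mem_image]
    refine ⟨pt (i + 1), ?_, (vecF_A h1).symm⟩
    rw [Finset.mem_filter]
    refine ⟨Finset.mem_univ _, ?_, ?_⟩
    · intro e
      have := congrArg idx e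
      rw [idx_pt (by omega), idx_none] at this
      omega
    · intro e
      have := congrArg idx e
      rw [idx_pt (by omega), idx_zero] at this
      omega
  · by_cases h2 : i < 99
    · right; left
      obtain ⟨ho, henc, hpop, h23, h0⟩ := obm_spec (j := i - 22) (by omega)
      unfold hsB
      rw [Finset.mem_image]
      refine ⟨ofMask idx (obm.getD (i - 22) 0), ?_, (vecF_B (by omega) h2).symm⟩
      rw [mem_octThrough, codeSupps_eight_eq, Cfsg.Agent.Lib.Helper09.mem_blocks,
        Cfsg.Agent.Lib.Helper35.mem_octads_iff, gmask_ofMask ho]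
      refine ⟨⟨henc, hpop⟩, ?_⟩
      intro q hq
      rw [Finset.mem_insert, Finset.mem_singleton] at hq
      rw [mem_ofMask]
      rcases hq with rfl | rfl
      · exact h23
      · exact h0
    · right; right
      obtain ⟨ho, henc, hpop, h23, h0⟩ := ocm_spec (j := i - 99) (by omega)
      unfold mcC
      rw [Finset.mem_image]
      refine ⟨vec (ocm.getD (i - 99) 0), ?_, (vecF_C (by omega) hi).symm⟩
      rw [Finset.mem_filter, mem_codeWords]
      refine ⟨⟨(vec_mem_golayCode_iff ho).mpr henc, ?_⟩, ?_, ?_⟩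
      · rw [hammingNorm_eq_card_bsupp, ← support₂_eq_bsupp]
        have e : support₂ (vec (ocm.getD (i - 99) 0)) = ofMask idx (ocm.getD (i - 99) 0) := by
          conv_lhs => rw [← gmask_ofMask ho]
          exact support₂_vec_gmask _
        rw [e, card_eq_popc_gmask, gmask_ofMask ho, hpop]
      · rw [vec_apply, idx_none, h23, if_pos rfl]
      · rw [vec_apply, idx_zero, h0]
        simp

/-! ### Inner products -/

theorem sum_idx (f : ℕ → ℤ) : ∑ p : GolayPt, f (idx p) = ∑ k ∈ Finset.range 24, f k := by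
  have h1 : (Finset.univ : Finset GolayPt).image idx = Finset.range 24 := by
    ext k
    rw [Finset.mem_image, Finset.mem_range]
    constructor
    · rintro ⟨p, -, rfl⟩; exact idx_lt p
    · intro hk; exact ⟨pt k, Finset.mem_univ _, idx_pt hk⟩
  rw [← h1, Finset.sum_image (fun p _ q _ h => idx_injective h)]

theorem sum_bitZ (s : ℕ) : ∑ k ∈ Finset.range 24, bitZ s k = (popc 24 s : ℕ) := by
  rw [popc_eq_sum]
  push_cast
  apply Finset.sum_congr rfl
  intro k _
  unfold bitZ
  by_cases h : s.testBit k = true <;> simp [h]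

theorem sum_dl : ∑ k ∈ Finset.range 24, dl k = 1 := by
  unfold dl
  rw [Finset.sum_ite_eq' (Finset.range 24) 23]
  simp

theorem sum_bitZ_mul (s s' : ℕ) :
    ∑ k ∈ Finset.range 24, bitZ s k * bitZ s' k = (popc 24 (s &&& s') : ℕ) := by
  rw [← sum_bitZ]
  apply Finset.sum_congr rfl
  intro k _
  unfold bitZ
  rw [Nat.testBit_and]
  by_cases h : s.testBit k = true <;> by_cases h' : s'.testBit k = true <;> simp [h, h']

theorem sum_bitZ_dl (s : ℕ) : ∑ k ∈ Finset.range 24, bitZ s k * dl k = bitZ s 23 := by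
  have : ∀ k ∈ Finset.range 24, bitZ s k * dl k = if k = 23 then bitZ s 23 else 0 := by
    intro k _
    unfold dl
    by_cases h : k = 23
    · subst h; simp
    · simp [h]
  rw [Finset.sum_congr rfl this, Finset.sum_ite_eq' (Finset.range 24) 23]
  simp

theorem sum_dl_dl : ∑ k ∈ Finset.range 24, dl k * dl k = 1 := by
  have : ∀ k ∈ Finset.range 24, dl k * dl k = dl k := by
    intro k _
    unfold dl
    by_cases h : k = 23 <;> simp [h]
  rw [Finset.sum_congr rfl this, sum_dl]

theorem dotInt_vecG (d d' : ℕ × ℕ) : dotInt (vecG d) (vecG d') = ldot2 d d' := by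
  unfold dotInt vecG ldot2
  rw [sum_idx (fun k => ((coef d.1).1 + (coef d.1).2.1 * bitZ d.2 k + (coef d.1).2.2 * dl k) *
    ((coef d'.1).1 + (coef d'.1).2.1 * bitZ d'.2 k + (coef d'.1).2.2 * dl k))]
  generalize (coef d.1).1 = c0
  generalize (coef d.1).2.1 = c1
  generalize (coef d.1).2.2 = c2
  generalize (coef d'.1).1 = e0
  generalize (coef d'.1).2.1 = e1
  generalize (coef d'.1).2.2 = e2
  have hp : ∀ k ∈ Finset.range 24,
      (c0 + c1 * bitZ d.2 k + c2 * dl k) * (e0 + e1 * bitZ d'.2 k + e2 * dl k) =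
        c0 * e0 + c0 * e1 * bitZ d'.2 k + c0 * e2 * dl k + c1 * e0 * bitZ d.2 k +
          c1 * e1 * (bitZ d.2 k * bitZ d'.2 k) + c1 * e2 * (bitZ d.2 k * dl k) + c2 * e0 * dl k +
          c2 * e1 * (bitZ d'.2 k * dl k) + c2 * e2 * (dl k * dl k) := by
    intro k _; ring
  rw [Finset.sum_congr rfl hp]
  simp only [Finset.sum_add_distrib, ← Finset.mul_sum, sum_bitZ, sum_dl, sum_bitZ_mul, sum_bitZ_dl,
    sum_dl_dl, Finset.sum_const, Finset.card_range, nsmul_eq_mul]
  push_cast
  ring

theorem all_zipIdx_spec {α : Type*} {l : List α} {p : α × ℕ → Bool} (h : l.zipIdx.all p = true)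
    (i : ℕ) (hi : i < l.length) : p (l[i], i) = true := by
  rw [List.all_eq_true] at h
  apply h
  rw [List.mem_zipIdx_iff_getElem?]
  simp [hi]

theorem desc_getElem {i : ℕ} (hi : i < desc.length) : desc[i] = descF i := by
  have h : ∀ (l : List (ℕ × ℕ)) (hl : l = (List.range 275).map descF) (hi : i < l.length),
      l[i] = descF i := by
    intro l hl hi
    subst hl
    simp
  exact h desc desc_eq hi

theorem pair_spec {i j : ℕ} (hi : i < 275) (hj : j < 275) :
    pairOK (descF i) (descF j) (am.getD i 0) i j = true := by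
  have hzl : (desc.zip am).length = 275 := by
    rw [List.length_zip, desc_length, am_length]; rfl
  have h1 := all_zipIdx_spec dot_table i (by rw [hzl]; exact hi)
  have h2 := all_zipIdx_spec h1 j (by rw [desc_length]; exact hj)
  simp only [List.getElem_zip] at h2
  rw [desc_getElem, desc_getElem] at h2
  rw [List.getD_eq_getElem _ _ (by rw [am_length]; exact hi)]
  exact h2

theorem dotInt_vecF (i j : ℕ) : dotInt (vecF i) (vecF j) = ldot2 (descF i) (descF j) :=
  dotInt_vecG _ _

theorem adj_iff_dot {i j : ℕ} (hi : i < 275) (hj : j < 275) :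
    adjB am i j = decide (dotInt (vecF i) (vecF j) = 8) := by
  have h := pair_spec hi hj
  unfold pairOK at h
  rw [Bool.and_eq_true, beq_iff_eq] at h
  rw [dotInt_vecF]
  unfold adjB
  rw [← h.1]
  by_cases h8 : ldot2 (descF i) (descF j) = 8 <;> simp [h8]

theorem vecF_inj {i j : ℕ} (hi : i < 275) (hj : j < 275) (h : vecF i = vecF j) : i = j := by
  have h1 := pair_spec hi hj
  have h2 := pair_spec hi hi
  unfold pairOK at h1 h2
  rw [Bool.and_eq_true, beq_iff_eq, beq_iff_eq] at h1 h2
  have e : ldot2 (descF i) (descF j) = ldot2 (descF i) (descF i) := by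
    rw [← dotInt_vecF, ← dotInt_vecF, h]
  have h3 : (ldot2 (descF i) (descF i) == 32) = true := by rw [← h2.2]; simp
  rw [e, h3] at h1
  simpa using h1.2

/-! ### The action on the 275 vectors -/

/-- The 275 vectors as a subtype of the lattice. -/
abbrev Y : Type := {x : leechLattice // x.1 ∈ mcSet}

/-- The enumeration of the 275 vectors. -/
def enumY (i : Fin 275) : Y := ⟨⟨vecF i, (vecF_mem i.2).1⟩, vecF_mem i.2⟩

theorem enumY_injective : Function.Injective enumY := by
  intro i j h
  apply Fin.ext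
  apply vecF_inj i.2 j.2
  exact congrArg (fun y : Y => (y.1.1 : GolayPt → ℤ)) h

theorem enumY_surjective : Function.Surjective enumY := by
  have hfin : mcSet.Finite := Set.finite_of_ncard_ne_zero (by rw [ncard_mcSet]; norm_num)
  have hsub : Set.range (fun i : Fin 275 => vecF i) ⊆ mcSet := by
    rintro _ ⟨i, rfl⟩
    exact vecF_mem i.2
  have hinj : Function.Injective (fun i : Fin 275 => vecF i) := fun i j h =>
    Fin.ext (vecF_inj i.2 j.2 h)
  have hcard : mcSet.ncard ≤ (Set.range (fun i : Fin 275 => vecF i)).ncard := by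
    rw [ncard_mcSet, ← Set.image_univ, Set.ncard_image_of_injective _ hinj, Set.ncard_univ,
      Nat.card_fin]
  have heq := Set.eq_of_subset_of_ncard_le hsub hcard hfin
  intro y
  have : y.1.1 ∈ Set.range (fun i : Fin 275 => vecF i) := by rw [heq]; exact y.2
  obtain ⟨i, hi⟩ := this
  exact ⟨i, Subtype.ext (Subtype.ext hi)⟩

/-- The enumeration as an equivalence. -/
noncomputable def EY : Fin 275 ≃ Y := Equiv.ofBijective enumY ⟨enumY_injective, enumY_surjective⟩

theorem EY_val (i : Fin 275) : ((EY i).1.1 : GolayPt → ℤ) = vecF i := rfl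

/-- The action of the stabiliser on the 275 vectors. -/
noncomputable def rhoY : ↥ML0 →* Equiv.Perm Y where
  toFun g :=
    { toFun := fun y => ⟨g • y.1, ML0_preservesY g y.1 y.2⟩
      invFun := fun y => ⟨g⁻¹ • y.1, ML0_preservesY g⁻¹ y.1 y.2⟩
      left_inv := fun y => Subtype.ext (inv_smul_smul g y.1)
      right_inv := fun y => Subtype.ext (smul_inv_smul g y.1) }
  map_one' := by
    apply Equiv.ext
    intro y
    exact Subtype.ext (one_smul _ y.1)
  map_mul' := by
    intro g h
    apply Equiv.ext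
    intro y
    exact Subtype.ext (mul_smul g h y.1)

/-- The action on `Fin 275`. -/
noncomputable def iotaM : ↥ML0 →* Equiv.Perm (Fin 275) :=
  (EY.symm.permCongrHom.toMonoidHom).comp rhoY

theorem EY_iotaM (g : ↥ML0) (i : Fin 275) : EY (iotaM g i) = rhoY g (EY i) := by
  show EY (EY.symm (rhoY g (EY.symm.symm i))) = _
  rw [Equiv.apply_symm_apply]
  rfl

theorem iotaM_mem (g : ↥ML0) : iotaM g ∈ A := by
  intro i j
  rw [adj_iff_dot (iotaM g i).2 (iotaM g j).2, adj_iff_dot i.2 j.2]
  congr 1
  rw [← EY_val, ← EY_val, ← EY_val, ← EY_val, EY_iotaM, EY_iotaM]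
  exact congrArg (· = 8) (co0_dot g.1.1 g.1.2 (EY i).1 (EY j).1)

theorem iotaM_injective : Function.Injective iotaM := by
  rw [injective_iff_map_eq_one]
  intro g hg
  apply ML0_faithfulY
  intro x hx
  obtain ⟨i, hi⟩ := EY.surjective ⟨x, hx⟩
  have h1 := EY_iotaM g i
  rw [hg, Equiv.Perm.one_apply, hi] at h1
  exact (congrArg (fun y : Y => (y.1 : leechLattice)) h1).symm

/-- The image of the stabiliser. -/
noncomputable def Mimg : Subgroup (Equiv.Perm (Fin 275)) := iotaM.range

theorem Mimg_le : Mimg ≤ A := by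
  rintro _ ⟨g, rfl⟩
  exact iotaM_mem g

theorem card_Mimg : Nat.card Mimg = 898128000 := by
  rw [← card_ML0]
  exact (Nat.card_congr (MonoidHom.ofInjective iotaM_injective).toEquiv).symm

/-! ### The McLaughlin group -/

theorem McL_le_Co0 : Spor.McL ≤ Co0 := fun _ h => h.1.1

theorem leechV_eq : Spor.leechV = -U5 := by
  apply Subtype.ext
  show Spor.vecV = -u5
  funext p
  unfold Spor.vecV u5
  rw [Pi.neg_apply, oneVec_apply]
  by_cases hp : p = none
  · rw [if_pos hp, if_pos (by rw [hp]; exact Finset.mem_singleton_self _)]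
  · rw [if_neg hp, if_neg (by simpa using hp)]

theorem leechU_eq : Spor.leechU = OA := by
  apply Subtype.ext
  show Spor.vecU = oa
  funext p
  unfold Spor.vecU oa twoVec
  rw [Pi.add_apply, Pi.single_apply, Pi.single_apply]
  by_cases h1 : p = none
  · subst h1; simp
  · by_cases h2 : p = some 0
    · subst h2; simp
    · simp [h1, h2]

theorem McL_subgroupOf : Spor.McL.subgroupOf Co0 = ML0 := by
  ext g
  rw [Subgroup.mem_subgroupOf, mem_ML0]
  unfold Spor.McL Spor.Co3
  rw [Subgroup.mem_inf, Subgroup.mem_inf, mem_stabilizer_iff, mem_stabilizer_iff, leechV_eq,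
    leechU_eq]
  constructor
  · rintro ⟨⟨_, h1⟩, h2⟩
    refine ⟨?_, h2⟩
    have h3 : g.1 (-U5) = -U5 := h1
    rw [co0_neg g.1 g.2] at h3
    exact neg_injective h3
  · rintro ⟨h1, h2⟩
    refine ⟨⟨g.2, ?_⟩, h2⟩
    show g.1 (-U5) = -U5
    rw [co0_neg g.1 g.2]
    exact congrArg Neg.neg h1

/-- The McLaughlin group is isomorphic to the image of the stabiliser in the automorphism group of
the graph. -/
theorem McL_iso_Mimg : Nonempty (↥Spor.McL ≃* ↥Mimg) :=
  ⟨((Subgroup.subgroupOfEquivOfLe McL_le_Co0).symm.trans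
    (MulEquiv.subgroupCongr McL_subgroupOf)).trans (MonoidHom.ofInjective iotaM_injective)⟩

end Cfsg.Agent.Lib.Helper35.McL
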