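import Mathlib
import Cfsg.Agent.Lib.Helper35.McLAut

/-! Four automorphisms of the graph on 275 vertices and relations between them. -/

set_option autoImplicit false
set_option maxRecDepth 100000
set_option maxHeartbeats 4000000

namespace Cfsg.Agent.Lib.Helper35.McL

open Cfsg.Agent.Lib.Helper35.StSearch Cfsg.Agent.Lib.Helper35.GraphTab

theorem ta_ok : tblOKb 275 ta ta' = true := by decide +kernel

theorem ta_aut : autOK 275 am ta = true := by decide +kernel

/-- The automorphism with table `ta`. -/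
def aE : Equiv.Perm (Fin 275) := tblPerm 275 ta ta' ta_ok

theorem aE_mem : aE ∈ A := tblPerm_mem ta ta' ta_ok ta_aut

theorem aE_tab : IsTab aE ta := isTab_tblPerm _ _ _

theorem aE_inv_tab : IsTab aE⁻¹ ta' := aE_tab.inv ta_ok

theorem tm_ok : tblOKb 275 tm tm' = true := by decide +kernel

theorem tm_aut : autOK 275 am tm = true := by decide +kernel

/-- The automorphism with table `tm`. -/
def mE : Equiv.Perm (Fin 275) := tblPerm 275 tm tm' tm_ok

theorem mE_mem : mE ∈ A := tblPerm_mem tm tm' tm_ok tm_aut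

theorem mE_tab : IsTab mE tm := isTab_tblPerm _ _ _

theorem mE_inv_tab : IsTab mE⁻¹ tm' := mE_tab.inv tm_ok

theorem tz_ok : tblOKb 275 tz tz' = true := by decide +kernel

theorem tz_aut : autOK 275 am tz = true := by decide +kernel

/-- The automorphism with table `tz`. -/
def zE : Equiv.Perm (Fin 275) := tblPerm 275 tz tz' tz_ok

theorem zE_mem : zE ∈ A := tblPerm_mem tz tz' tz_ok tz_aut

theorem zE_tab : IsTab zE tz := isTab_tblPerm _ _ _

theorem zE_inv_tab : IsTab zE⁻¹ tz' := zE_tab.inv tz_ok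

theorem tb_ok : tblOKb 275 tb tb = true := by decide +kernel

theorem tb_aut : autOK 275 am tb = true := by decide +kernel

/-- The automorphism with table `tb`. -/
def bE : Equiv.Perm (Fin 275) := tblPerm 275 tb tb tb_ok

theorem bE_mem : bE ∈ A := tblPerm_mem tb tb tb_ok tb_aut

theorem bE_tab : IsTab bE tb := isTab_tblPerm _ _ _

theorem bE_inv_tab : IsTab bE⁻¹ tb := bE_tab.inv tb_ok

theorem aE_pow : aE ^ 11 = 1 := eq_one_of_isId (aE_tab.pow 11) (by decide +kernel)

theorem mE_pow : mE ^ 5 = 1 := eq_one_of_isId (mE_tab.pow 5) (by decide +kernel)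

theorem zE_pow : zE ^ 5 = 1 := eq_one_of_isId (zE_tab.pow 5) (by decide +kernel)

theorem bE_sq : bE * bE = 1 := eq_one_of_isId (bE_tab.mul bE_tab) (by decide +kernel)

theorem aE_ne_one : aE ≠ 1 := by
  intro h
  have := isId_of_eq_one aE_tab h
  revert this
  decide +kernel

theorem zE_ne_one : zE ≠ 1 := by
  intro h
  have := isId_of_eq_one zE_tab h
  revert this
  decide +kernel

theorem rel_ma : mE * aE * mE⁻¹ = aE ^ 3 :=
  ((mE_tab.mul aE_tab).mul mE_inv_tab).ext (aE_tab.pow 3) (by decide +kernel)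

theorem rel_mz : mE * zE = zE * mE :=
  (mE_tab.mul zE_tab).ext (zE_tab.mul mE_tab) (by decide +kernel)

theorem rel_ba : bE * aE = aE * bE :=
  (bE_tab.mul aE_tab).ext (aE_tab.mul bE_tab) (by decide +kernel)

theorem rel_bm : bE * mE = mE * bE :=
  (bE_tab.mul mE_tab).ext (mE_tab.mul bE_tab) (by decide +kernel)

theorem rel_bz : bE * zE * bE = mE * zE ^ 4 :=
  ((bE_tab.mul zE_tab).mul bE_tab).ext (mE_tab.mul (zE_tab.pow 4)) (by decide +kernel)

theorem rel_t1 : (aE * zE) ^ 10 = 1 :=
  eq_one_of_isId ((aE_tab.mul zE_tab).pow 10) (by decide +kernel)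

theorem rel_t2 : (aE * aE * mE * zE) ^ 9 = 1 :=
  eq_one_of_isId ((((aE_tab.mul aE_tab).mul mE_tab).mul zE_tab).pow 9) (by decide +kernel)

theorem bE_inv : bE⁻¹ = bE := inv_eq_of_mul_eq_one_right bE_sq

end Cfsg.Agent.Lib.Helper35.McL
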