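import Mathlib
import Cfsg.Agent.Lib.Helper35.McLElts

/-! Centralisers of two automorphisms of the graph on 275 vertices. -/

set_option autoImplicit false
set_option maxRecDepth 100000
set_option maxHeartbeats 4000000

namespace Cfsg.Agent.Lib.Helper35.McL

open Cfsg.Agent.Lib.Helper35.StSearch Cfsg.Agent.Lib.Helper35.GraphTab

/-- The tables of the elements `aE ^ i * bE ^ e`. -/
def solA : List (List ℕ) :=
  (List.range 11).flatMap fun i => (List.range 2).map fun e =>
    tcomp 275 (tpowL 275 ta i) (tpowL 275 tb e)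

def seedsA : List ℕ := [125, 67]

def roundsA : List (List ℕ) := [[1, 2, 3, 4, 5, 6, 7, 8, 9, 10, 11, 12, 13, 14, 15, 16, 17, 18, 19, 20, 21, 22, 23, 25, 26, 27, 28, 29, 30, 31, 32, 33, 34, 35, 36, 37, 39, 40, 42, 43, 44, 45, 46, 47, 48, 49, 50, 51, 52, 53, 54, 55, 56, 57, 58, 59, 61, 62, 63, 64, 65, 66, 68, 69, 70, 71, 72, 73, 74, 75, 76, 77, 78, 79, 80, 81, 82, 83, 84, 85, 86, 87, 88, 89, 90, 91, 92, 93, 94, 95, 96, 97, 98, 100, 101, 102, 103, 104, 105, 106, 107, 108, 110, 111, 112, 113, 114, 115, 116, 117, 118, 119, 120, 121, 122, 123, 126, 127, 128, 129, 130, 131, 132, 134, 135, 136, 137, 138, 139, 140, 141, 142, 144, 145, 146, 147, 148, 149, 150, 151, 152, 153, 155, 156, 157, 158, 159, 160, 161, 162, 163, 164, 165, 166, 167, 168, 169, 170, 171, 172, 173, 175, 176, 177, 178, 179, 180, 181, 182, 183, 184, 185, 186, 187, 188, 189, 190, 191, 192, 193, 194, 195, 196, 197, 198, 199, 200, 201, 202, 204, 205, 207, 208, 209, 210, 211, 212, 213, 214,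 216, 217, 218, 220, 221, 222, 223, 224, 225, 226, 227, 228, 229, 231, 232, 233, 234, 235, 236, 237, 238, 239, 241, 242, 243, 244, 245, 246, 247, 248, 249, 250, 251, 252, 253, 254, 256, 257, 258, 259, 260, 261, 262, 263, 264, 265, 266, 267, 268, 269, 271, 272, 273, 274]]

theorem searchA : csearch 275 am ta 11 solA seedsA seedsA [] [] [] = true := by decide +kernel

theorem closeA : closeMask 275 am (listMask (seedsA.flatMap (orbL ta 11))) roundsA =
    some (2 ^ 275 - 1) := by decide +kernel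

theorem bE_pow_mem (e : ℕ) : bE ^ e ∈ A := A.pow_mem bE_mem e

/-- The centraliser of `aE`. -/
theorem cent_a (σ : Equiv.Perm (Fin 275)) (hσ : σ ∈ A) (h : σ * aE = aE * σ) :
    ∃ i < 11, ∃ e < 2, σ = aE ^ i * bE ^ e := by
  obtain ⟨tτ, h1, h2⟩ := csearch_spec hσ aE_tab h 11 solA seedsA seedsA [] [] []
    (by decide) (by simp) rfl searchA
  unfold solA at h1
  rw [List.mem_flatMap] at h1
  obtain ⟨i, hi, h1⟩ := h1
  rw [List.mem_map] at h1
  obtain ⟨e, he, rfl⟩ := h1
  rw [List.mem_range] at hi he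
  refine ⟨i, hi, e, he, ?_⟩
  have hτ : IsTab (aE ^ i * bE ^ e) (tcomp 275 (tpowL 275 ta i) (tpowL 275 tb e)) :=
    (aE_tab.pow i).mul (bE_tab.pow e)
  have hcomm : (aE ^ i * bE ^ e) * aE = aE * (aE ^ i * bE ^ e) := by
    have c1 : Commute (aE ^ i) aE := (Commute.refl aE).pow_left i
    have c2 : Commute (bE ^ e) aE := (show Commute bE aE from rel_ba).pow_left e
    exact (c1.mul_left c2).eq
  apply eq_of_seeds hσ (A.mul_mem (A.pow_mem aE_mem i) (bE_pow_mem e)) aE_tab h hcomm 11 seedsA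
    (by decide) _ roundsA closeA
  intro x hx
  have hxn : x < 275 := by revert x; decide
  have h3 : ∀ y ∈ seedsA, (fun x => (tcomp 275 (tpowL 275 ta i) (tpowL 275 tb e)).getD x 0) y =
      ap σ y := by
    apply List.map_inj_left.mp
    rw [h2]; simp
  rw [hτ x hxn]
  exact (h3 x hx).symm

/-- The tables of the elements `mE ^ i * zE ^ j * bE ^ e`. -/
def solM : List (List ℕ) :=
  (List.range 5).flatMap fun i => (List.range 5).flatMap fun j => (List.range 2).map fun e =>
    tcomp 275 (tcomp 275 (tpowL 275 tm i) (tpowL 275 tz j)) (tpowL 275 tb e)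

def seedsM : List ℕ := [59, 263, 202]

def roundsM : List (List ℕ) := [[0, 1, 4, 5, 6, 7, 8, 9, 10, 11, 12, 13, 14, 16, 17, 18, 19, 20, 22, 23, 24, 25, 26, 27, 28, 29, 30, 31, 32, 33, 34, 35, 36, 37, 38, 39, 40, 41, 42, 43, 44, 45, 46, 47, 48, 49, 50, 51, 52, 53, 54, 55, 56, 57, 58, 60, 61, 62, 63, 64, 65, 66, 67, 68, 69, 70, 72, 73, 74, 75, 76, 77, 78, 79, 80, 81, 83, 84, 85, 86, 87, 88, 89, 90, 91, 92, 94, 95, 96, 97, 98, 99, 100, 101, 102, 103, 104, 105, 106, 107, 108, 109, 110, 111, 112, 113, 114, 115, 117, 118, 119, 120, 121, 123, 124, 125, 126, 127, 129, 130, 131, 132, 133, 134, 135, 136, 137, 138, 139, 140, 142, 143, 144, 147, 148, 150, 152, 153, 156, 157, 158, 159, 160, 161, 162, 163, 164, 165, 166, 167, 168, 169, 172, 173, 174, 175, 176, 177, 178, 179, 180, 181, 182, 183, 184, 185, 186, 187, 190, 191, 192, 193, 194, 195, 196, 197, 198, 199, 200, 201, 203, 204, 205, 206, 207, 208, 209, 210, 211, 212, 214, 215, 216, 217, 218, 219, 220, 221,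 222, 223, 224, 225, 226, 227, 228, 229, 230, 231, 232, 233, 234, 235, 236, 237, 239, 240, 242, 243, 244, 245, 246, 247, 248, 249, 250, 251, 252, 253, 254, 255, 256, 257, 258, 259, 260, 261, 262, 264, 265, 266, 267, 268, 269, 270, 271, 272, 273, 274],
  [2, 15, 21, 82, 116, 128, 146, 149, 151, 189, 213, 238]]

theorem searchM : csearch 275 am tm 5 solM seedsM seedsM [] [] [] = true := by decide +kernel

theorem closeM : closeMask 275 am (listMask (seedsM.flatMap (orbL tm 5))) roundsM =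
    some (2 ^ 275 - 1) := by decide +kernel

/-- The centraliser of `mE`. -/
theorem cent_m (σ : Equiv.Perm (Fin 275)) (hσ : σ ∈ A) (h : σ * mE = mE * σ) :
    ∃ i < 5, ∃ j < 5, ∃ e < 2, σ = mE ^ i * zE ^ j * bE ^ e := by
  obtain ⟨tτ, h1, h2⟩ := csearch_spec hσ mE_tab h 5 solM seedsM seedsM [] [] []
    (by decide) (by simp) rfl searchM
  unfold solM at h1
  rw [List.mem_flatMap] at h1
  obtain ⟨i, hi, h1⟩ := h1
  rw [List.mem_flatMap] at h1
  obtain ⟨j, hj, h1⟩ := h1
  rw [List.mem_map] at h1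
  obtain ⟨e, he, rfl⟩ := h1
  rw [List.mem_range] at hi hj he
  refine ⟨i, hi, j, hj, e, he, ?_⟩
  have hτ : IsTab (mE ^ i * zE ^ j * bE ^ e)
      (tcomp 275 (tcomp 275 (tpowL 275 tm i) (tpowL 275 tz j)) (tpowL 275 tb e)) :=
    ((mE_tab.pow i).mul (zE_tab.pow j)).mul (bE_tab.pow e)
  have hcomm : (mE ^ i * zE ^ j * bE ^ e) * mE = mE * (mE ^ i * zE ^ j * bE ^ e) := by
    have c1 : Commute (mE ^ i) mE := (Commute.refl mE).pow_left i
    have c2 : Commute (zE ^ j) mE := (show Commute zE mE from rel_mz.symm).pow_left j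
    have c3 : Commute (bE ^ e) mE := (show Commute bE mE from rel_bm).pow_left e
    exact ((c1.mul_left c2).mul_left c3).eq
  apply eq_of_seeds hσ
    (A.mul_mem (A.mul_mem (A.pow_mem mE_mem i) (A.pow_mem zE_mem j)) (bE_pow_mem e)) mE_tab h hcomm
    5 seedsM (by decide) _ roundsM closeM
  intro x hx
  have hxn : x < 275 := by revert x; decide
  have h3 : ∀ y ∈ seedsM, (fun x => (tcomp 275 (tcomp 275 (tpowL 275 tm i) (tpowL 275 tz j))
      (tpowL 275 tb e)).getD x 0) y = ap σ y := by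
    apply List.map_inj_left.mp
    rw [h2]; simp
  rw [hτ x hxn]
  exact (h3 x hx).symm

end Cfsg.Agent.Lib.Helper35.McL
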