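import Mathlib
import Cfsg.Agent.Lib.Helper35.McLElts

/-! Lower bounds for the orders of the subgroups generated by three, respectively four, automorphisms
of the graph on 275 vertices (stabiliser chain certificates). -/

set_option autoImplicit false
set_option maxRecDepth 100000
set_option maxHeartbeats 4000000

namespace Cfsg.Agent.Lib.Helper35.McL

open Cfsg.Agent.Lib.Helper35.StSearch Cfsg.Agent.Lib.Helper35.GraphTab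

/-- The generators and their inverses. -/
def gens : ℕ → Equiv.Perm (Fin 275)
  | 0 => aE
  | 1 => mE
  | 2 => zE
  | 3 => aE⁻¹
  | 4 => mE⁻¹
  | 5 => zE⁻¹
  | _ => bE

/-- Their tables. -/
def gtab : ℕ → List ℕ
  | 0 => ta
  | 1 => tm
  | 2 => tz
  | 3 => ta'
  | 4 => tm'
  | 5 => tz'
  | _ => tb

theorem gens_tab (k : ℕ) : IsTab (gens k) (gtab k) := by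
  rcases k with _ | _ | _ | _ | _ | _ | k
  exacts [aE_tab, mE_tab, zE_tab, aE_inv_tab, mE_inv_tab, zE_inv_tab, bE_tab]

/-- The subgroup generated by the three elements of odd order. -/
def Hgen : Subgroup (Equiv.Perm (Fin 275)) := Subgroup.closure {aE, mE, zE}

/-- The subgroup generated by the four elements. -/
def Agen : Subgroup (Equiv.Perm (Fin 275)) := Subgroup.closure {aE, mE, zE, bE}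

theorem gens_mem_H {k : ℕ} (hk : k < 6) : gens k ∈ Hgen := by
  have ha : aE ∈ Hgen := Subgroup.subset_closure (by simp)
  have hm : mE ∈ Hgen := Subgroup.subset_closure (by simp)
  have hz : zE ∈ Hgen := Subgroup.subset_closure (by simp)
  rcases k with _ | _ | _ | _ | _ | _ | k
  · exact ha
  · exact hm
  · exact hz
  · exact Hgen.inv_mem ha
  · exact Hgen.inv_mem hm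
  · exact Hgen.inv_mem hz
  · omega

theorem gens_mem_A {k : ℕ} (_hk : k < 7) : gens k ∈ Agen := by
  have ha : aE ∈ Agen := Subgroup.subset_closure (by simp)
  have hm : mE ∈ Agen := Subgroup.subset_closure (by simp)
  have hz : zE ∈ Agen := Subgroup.subset_closure (by simp)
  have hb : bE ∈ Agen := Subgroup.subset_closure (by simp)
  rcases k with _ | _ | _ | _ | _ | _ | k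
  · exact ha
  · exact hm
  · exact hz
  · exact Agen.inv_mem ha
  · exact Agen.inv_mem hm
  · exact Agen.inv_mem hz
  · exact hb

def orbH0 : List ℕ := [0, 1, 2, 3, 4, 5, 6, 7, 8, 9, 10, 11, 12, 13, 14, 15, 16, 17, 18, 19, 20, 21, 22, 23, 24, 25, 26, 27, 28, 29, 30, 31, 32, 33, 34, 35, 36, 37, 38, 39, 40, 41, 42, 43, 44, 45, 46, 47, 48, 49, 50, 51, 52, 53, 54, 55, 56, 57, 58, 59, 60, 61, 62, 63, 64, 65, 66, 67, 68, 69, 70, 71, 72, 73, 74, 75, 76, 77, 78, 79, 80, 81, 82, 83, 84, 85, 86, 87, 88, 89, 90, 91, 92, 93, 94, 95, 96, 97, 98, 99, 100, 101, 102, 103, 104, 105, 106, 107, 108, 109, 110, 111, 112, 113, 114, 115, 116, 117, 118, 119, 120, 121, 122, 123, 124, 125, 126, 127, 128, 129, 130, 131, 132, 133, 134,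 135, 136, 137, 138, 139, 140, 141, 142, 143, 144, 145, 146, 147, 148, 149, 150, 151, 152, 153, 154, 155, 156, 157, 158, 159, 160, 161, 162, 163, 164, 165, 166, 167, 168, 169, 170, 171, 172, 173, 174, 175, 176, 177, 178, 179, 180, 181, 182, 183, 184, 185, 186, 187, 188, 189, 190, 191, 192, 193, 194, 195, 196, 197, 198, 199, 200, 201, 202, 203, 204, 205, 206, 207, 208, 209, 210, 211, 212, 213, 214, 215, 216, 217, 218, 219, 220, 221, 222, 223, 224, 225, 226, 227, 228, 229, 230, 231, 232, 233, 234, 235, 236, 237, 238, 239, 240, 241, 242, 243, 244, 245, 246, 247, 248, 249, 250, 251, 252, 253, 254, 255, 256, 257, 258, 259, 260, 261, 262, 263, 264, 265, 266, 267, 268, 269, 270, 271, 272, 273, 274]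

def wordsH0 : List (List ℕ) := [[],
  [3, 5, 3, 5, 3],
  [1, 3, 5, 0],
  [0, 5, 1, 0],
  [3, 5, 5, 3],
  [0, 4, 4],
  [5, 4, 5, 0, 4],
  [4, 5, 4, 0, 4],
  [1],
  [3, 5, 3, 3, 1],
  [0, 2, 3, 2, 3],
  [5, 3, 2, 0],
  [0, 1, 2, 0, 1],
  [3, 5, 5, 0, 4],
  [5, 3, 1, 1],
  [4, 4, 3, 2, 3],
  [5, 5, 3, 4],
  [0, 5, 3, 1],
  [1, 2, 0, 1, 3],
  [1, 3, 1],
  [0, 4, 0],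
  [0, 2, 0, 1, 3],
  [0, 1, 1],
  [5, 3, 2, 2, 3, 4],
  [0, 0],
  [4, 0, 0],
  [4, 4],
  [3, 3, 5, 1, 0, 4],
  [5, 5, 3, 2, 3],
  [5, 3, 2, 4, 3],
  [1, 0, 2, 4, 3],
  [1, 5, 0, 1],
  [5, 3, 3],
  [0, 0, 5, 5, 0],
  [5, 4, 3, 3, 4],
  [1, 3, 3],
  [2, 2, 3],
  [2, 0, 0, 1],
  [3],
  [2, 0, 5, 3],
  [4, 4, 3],
  [4, 5, 3, 3],
  [3, 1, 1, 2, 3],
  [1, 3, 5, 1, 0],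
  [0, 2, 4, 3],
  [1, 0, 5, 0],
  [5, 3, 2, 3],
  [0, 5, 0],
  [4, 2, 3],
  [4, 3, 2, 3, 3],
  [5, 3, 1, 2, 1, 3],
  [4, 3, 4],
  [2, 0, 4, 5, 3],
  [1, 0, 0, 2, 3],
  [5, 0, 1, 0],
  [4, 0, 2, 4, 3],
  [1, 1, 3, 5, 3],
  [2, 4, 3, 3, 4],
  [5, 5, 3],
  [5, 5, 3, 1],
  [3, 3],
  [1, 3],
  [3, 4, 3],
  [3, 2, 0, 1, 1],
  [4, 3],
  [5, 0, 1, 1],
  [3, 4, 0, 4],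
  [4, 2, 0, 1],
  [1, 1, 5, 3],
  [0, 0, 2, 3],
  [2, 3],
  [1, 2, 2, 0],
  [5, 3, 1, 5, 5, 0],
  [5, 5, 0, 1],
  [5, 3],
  [2, 0, 1, 1],
  [2, 3, 3, 4],
  [4, 4, 2, 3],
  [3, 1, 5, 0],
  [0, 2, 0, 4],
  [1, 3, 1, 0],
  [0, 5, 5, 0],
  [1, 3, 2, 3],
  [2, 1, 0, 1],
  [2, 2, 0, 1],
  [1, 0, 2, 3],
  [2, 2, 1, 3],
  [0, 5, 3, 2, 3],
  [1, 0, 1, 3],
  [4, 0, 4, 5, 0],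
  [1, 5, 3],
  [2, 2, 0, 0],
  [2, 1, 1, 3],
  [2, 3, 3],
  [1, 0, 5, 5, 0],
  [2, 0, 1, 0],
  [0, 2, 3, 4],
  [2, 2, 4, 3],
  [0, 1],
  [0],
  [4, 0, 2, 3],
  [2, 1, 3],
  [2, 0, 4, 2, 3],
  [3, 3, 2, 3],
  [3, 3, 5, 1, 0],
  [4, 5, 3, 2, 0, 4],
  [1, 0, 2, 0, 4],
  [5, 0, 2, 0, 0],
  [4, 3, 3],
  [4, 3, 5, 3],
  [0, 5, 4, 0],
  [4, 4, 5, 5, 0],
  [3, 2, 0, 1, 0],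
  [5, 5, 4, 3],
  [0, 2, 0, 0],
  [0, 0, 4, 4],
  [4, 2, 2, 0, 4],
  [2, 0, 5, 0],
  [3, 5, 3],
  [0, 2, 0, 5, 3],
  [5, 5, 0],
  [2, 0],
  [3, 2, 0, 4],
  [1, 5, 0, 0, 1],
  [0, 0, 0],
  [2, 3, 1, 3],
  [2, 3, 4],
  [4, 4, 0],
  [3, 2, 3],
  [0, 2, 3],
  [5, 0, 4],
  [5, 0, 4, 4],
  [3, 1],
  [5, 4, 3],
  [1, 5, 3, 3, 4],
  [5, 0, 0],
  [4, 0, 0, 2, 3],
  [5, 3, 2, 3, 3],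
  [5, 4, 4, 5, 3],
  [5, 4, 3, 4],
  [2, 0, 5, 3, 1],
  [4, 2, 3, 3],
  [5, 3, 3, 3],
  [5, 3, 4],
  [4, 0],
  [3, 5, 3, 4, 3],
  [4, 3, 2, 3],
  [5, 3, 3, 4],
  [2, 0, 1, 5, 0],
  [5, 3, 5, 0, 0, 0],
  [2, 3, 2, 0, 0],
  [3, 5, 0],
  [3, 3, 4, 2, 2, 3],
  [3, 1, 3, 2, 3],
  [2, 1, 0, 0],
  [1, 3, 2, 1, 3],
  [2, 0, 4],
  [2, 3, 5, 3, 4],
  [5, 3, 5, 3],
  [1, 3, 4, 5, 3],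
  [0, 0, 4, 5, 0],
  [5, 5, 1, 0],
  [5, 0, 1, 5, 0],
  [1, 2, 3, 4],
  [1, 0, 0],
  [4, 5, 3, 1],
  [4, 3, 4, 5, 3],
  [3, 3, 5, 3],
  [1, 1],
  [2, 3, 5, 0],
  [2, 0, 4, 4],
  [3, 4, 5, 0, 1],
  [1, 5, 1, 5, 3],
  [1, 5, 0],
  [4, 3, 1],
  [0, 5, 0, 4],
  [3, 5, 3, 3],
  [3, 1, 1],
  [3, 1, 0],
  [3, 2, 4, 4, 2, 3],
  [3, 2, 1, 2, 3],
  [3, 1, 1, 5, 0],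
  [4, 5, 0, 2, 3],
  [4, 4, 2, 2, 3],
  [2, 3, 5, 3],
  [2, 0, 1, 3],
  [5, 1, 3, 1],
  [2, 2, 3, 4],
  [2, 2, 0],
  [2, 2, 0, 4],
  [5, 0, 0, 0],
  [0, 1, 3],
  [4],
  [5, 3, 1, 0, 2, 3],
  [3, 5, 0, 1],
  [5, 5, 0, 4],
  [5, 3, 1],
  [0, 0, 4],
  [0, 2, 1, 3, 1],
  [1, 5, 5, 0, 1],
  [3, 2, 0],
  [0, 5, 5, 0, 4],
  [0, 2, 3, 5, 3],
  [4, 0, 1],
  [2, 3, 2, 3],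
  [2, 1, 3, 1],
  [3, 4, 5, 3],
  [0, 4],
  [5, 0, 4, 0],
  [5, 0, 1],
  [2, 0, 2, 0, 0],
  [2, 4, 0, 4],
  [2, 0, 0, 0],
  [0, 2, 2, 1, 3],
  [5, 0],
  [5, 3, 3, 5, 3],
  [0, 2, 3, 3],
  [5, 3, 5, 0, 4],
  [2, 0, 4, 0],
  [2, 4, 4, 3, 4],
  [0, 2, 2, 3],
  [2, 2, 3, 1, 0],
  [5, 5, 1, 3],
  [3, 4, 2, 4, 3],
  [3, 1, 5, 3],
  [5, 3, 3, 1],
  [1, 1, 3],
  [3, 2, 0, 4, 5, 3],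
  [5, 0, 0, 1],
  [1, 0, 1],
  [1, 2, 2, 0, 1],
  [3, 2, 0, 0],
  [5, 0, 2, 3, 3],
  [0, 1, 0],
  [2, 3, 2, 0],
  [5, 4, 0, 1],
  [0, 4, 4, 5, 3],
  [2, 3, 5, 3, 3],
  [3, 5, 5, 0],
  [5, 4, 4, 3],
  [1, 3, 3, 4],
  [0, 5, 3],
  [0, 2, 0, 1, 1],
  [1, 0],
  [1, 0, 4, 5, 0, 4],
  [2, 2, 3, 2, 3],
  [4, 2, 3, 2, 0, 4],
  [3, 3, 1, 2, 3],
  [1, 1, 3, 3],
  [5, 0, 0, 4, 4],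
  [5, 1, 3, 5, 3],
  [5, 4, 0],
  [3, 2, 0, 4, 3],
  [4, 0, 4],
  [3, 2, 4, 3],
  [3, 3, 3],
  [2, 3, 1],
  [2, 3, 3, 1, 5, 3],
  [0, 0, 2, 3, 4],
  [5, 5, 0, 0],
  [3, 4],
  [0, 2, 0, 1],
  [3, 2, 3, 3],
  [2, 0, 0],
  [5, 4, 3, 2, 3],
  [5, 3, 5, 3, 4],
  [0, 2, 3, 1],
  [2, 0, 1],
  [3, 3, 4],
  [2, 4, 0],
  [0, 4, 5, 3],
  [0, 5, 0, 1],
  [3, 1, 3],
  [3, 5, 1, 0, 4],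
  [5, 3, 4, 3]]

theorem levelH0 : levelOK 275 6 gtab [] 0 orbH0 wordsH0 = true := by decide +kernel

theorem nodupH0 : orbH0.Nodup := by decide +kernel

theorem stepH0 : 275 * Nat.card (stabL Hgen [0]) ≤ Nat.card (stabL Hgen []) := by
  have h := card_stabL_ge Hgen [] (b := 0) (by norm_num) orbH0 nodupH0
    (level_spec gens_tab (fun k hk => gens_mem_H hk) (by decide) (by norm_num) levelH0)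
  have e : orbH0.length = 275 := by decide
  rw [e] at h
  exact h

def orbH1 : List ℕ := [1, 2, 3, 4, 5, 6, 7, 8, 9, 10, 11, 12, 13, 14, 15, 16, 17, 18, 19, 20, 21, 23, 25, 29, 30, 31, 35, 39, 44, 49, 51, 52, 59, 63, 68, 71, 76, 82, 83, 88, 92, 94, 100, 102, 103, 105, 107, 109, 110, 111, 112, 114, 115, 116, 119, 122, 124, 125, 126, 127, 129, 131, 132, 134, 137, 139, 140, 142, 143, 144, 146, 147, 148, 149, 150, 151, 153, 154, 155, 157, 159, 161, 162, 163, 164, 166, 167, 169, 170, 172, 173, 175, 176, 177, 180, 181, 182, 185, 186, 187, 190, 191, 192, 193, 194, 196, 197, 198, 199, 200, 202, 205, 206, 208, 210, 211, 212, 213, 215, 216, 217, 218, 220, 223, 224, 225, 226, 227, 229, 230, 231, 232, 234, 236, 237,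 238, 240, 241, 242, 243, 246, 248, 249, 251, 253, 254, 255, 256, 257, 258, 260, 261, 262, 264, 265, 266, 268, 269, 270, 271, 272, 273]

def wordsH1 : List (List ℕ) := [[],
  [0, 2, 3, 2, 4, 2, 0],
  [0, 4, 3, 5, 0, 1, 5, 1, 0],
  [4, 0, 2, 0, 0, 5, 0],
  [3, 2, 3, 3, 1, 2, 2, 3, 3],
  [3, 2, 3, 5, 0, 4, 5, 0, 1],
  [0, 2, 0, 1, 3, 5, 3, 4],
  [0, 2, 0, 4, 0, 2, 3, 4, 5],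
  [2, 4, 4, 0, 5, 3, 1, 3],
  [3, 3, 2, 0, 0, 4, 2, 0],
  [3, 5, 4, 5, 3, 1, 2, 3, 4],
  [1, 5, 0, 2, 2, 3, 2, 2, 0, 4],
  [1, 0, 2, 0, 4, 3, 5, 3],
  [3, 2, 0, 1, 0, 5, 5, 3, 4],
  [2, 0, 5, 3, 5, 5, 0, 4, 0],
  [0, 0, 5, 3, 1, 3, 2, 4, 3, 5],
  [2, 3, 5, 3, 4, 4],
  [0, 0, 5, 1, 0, 2, 2, 0, 0],
  [2, 3, 2, 3, 3, 5, 3, 1],
  [5, 1, 3, 5, 5, 4, 3, 5, 0],
  [3, 3, 5, 0, 2, 1, 3, 2, 3],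
  [1, 0, 2, 2, 3, 2, 2, 0, 4, 2],
  [0, 1, 2, 2, 3, 5, 4, 0],
  [4, 5, 0, 5, 0, 5, 1, 3],
  [0, 2, 3, 4, 2, 2, 0, 2],
  [3, 3, 5, 4, 3, 2, 3, 4, 3],
  [5, 3, 5, 3, 4, 4, 5],
  [3, 1, 2, 0, 2, 3, 2, 2, 3],
  [3, 2, 3, 2, 0, 2, 3, 4],
  [5, 0, 5, 4, 0, 5, 5, 3, 1],
  [4, 3, 3, 2, 3, 2, 3, 4],
  [0, 2, 3, 4, 2, 2, 0, 5],
  [3, 5, 3, 4, 4, 5],
  [5, 3, 1, 3, 2, 2, 0, 2, 3],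
  [1, 1, 0, 2, 0],
  [2, 0, 2, 2, 1, 3, 5, 4, 0],
  [3, 2, 0, 0, 2, 4, 0, 2, 3],
  [2, 3, 5, 5, 1, 0, 5, 3],
  [5, 0, 5, 3, 1, 0, 2, 2, 3, 4],
  [2, 0, 2, 0, 1, 3, 5, 3, 4],
  [4, 0, 5, 0, 5, 1, 3, 5],
  [1, 0, 5, 0, 5, 0, 0, 1],
  [0, 0, 5, 5, 0, 2, 2, 0, 4],
  [2, 3, 2, 3, 2, 0, 2, 3, 4],
  [5, 4, 0, 2, 0, 0, 5, 0],
  [3, 5, 5, 0, 0, 2, 3, 1],
  [3, 2, 3, 2, 1, 3, 5, 3],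
  [5, 3, 5, 3, 4, 4],
  [3, 1, 2, 1, 3, 5, 0, 1],
  [5, 5, 0, 4, 2, 3, 2, 3, 1],
  [5, 5],
  [5, 3, 1, 2, 0, 5, 5, 4, 3],
  [0, 4, 5, 3, 5, 4, 5, 0, 2],
  [3, 5, 0, 2, 4, 3, 5, 1, 3, 1],
  [2, 1, 1, 0, 2, 0, 2],
  [4, 4, 0, 5, 3, 1, 3],
  [2, 3, 5, 3, 4, 4, 2],
  [5, 1, 3, 2, 1, 0, 5, 0, 4],
  [0, 0, 2, 3, 2, 0, 1],
  [0, 2, 4, 3, 2, 3, 1],
  [4, 4, 3, 2, 2, 0, 0, 2, 3],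
  [4, 3, 2, 3, 2, 3, 2, 0, 4, 4],
  [2, 1, 1, 0, 2, 0, 5],
  [3, 5, 0, 2, 0, 5, 5, 3],
  [5, 1, 0, 5, 3, 1, 3, 5, 3, 5],
  [0, 1, 3, 5, 0, 2, 0, 5, 3, 4],
  [2, 2, 3, 5, 3, 4, 4],
  [4, 4, 0, 2, 3, 3, 2, 0],
  [1, 3, 2, 3, 4, 5, 0, 4],
  [5, 0, 0, 4, 2, 2, 3, 1],
  [1, 0, 5, 3, 1, 3, 5, 3],
  [0, 2, 4, 0, 1, 2, 2, 3, 2, 0],
  [1, 3, 5, 5, 3, 5, 4, 3, 1],
  [4, 2, 1],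
  [4, 0, 5, 5, 1, 3, 3, 5],
  [0, 4, 0, 5, 5, 0, 0, 4],
  [5, 0, 2, 0, 5, 4, 0, 5, 0],
  [1, 3, 3, 5, 3, 3, 2, 0],
  [5, 3, 2, 3, 3, 5, 3, 1],
  [3, 5, 3, 4, 4],
  [1, 0, 5, 3, 5, 0, 5, 0, 5],
  [5, 4, 3, 5, 0, 5, 3, 3],
  [0, 2, 0, 4, 5, 0, 5, 0],
  [0, 1, 2, 0, 2, 1, 3, 2, 2, 0],
  [2, 0, 4, 2, 3, 2, 3, 1],
  [5, 1, 0, 5, 3, 5, 0, 5, 0, 5],
  [0, 5, 4, 0, 1, 2, 3, 3],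
  [5, 3, 5, 3, 4, 4, 2],
  [1, 1, 0, 2, 0, 5, 5],
  [5, 1, 1, 0, 2, 0],
  [4, 3, 5, 0, 5, 3, 3],
  [1, 3, 5, 4, 3, 2, 0, 2, 3],
  [0, 2, 3, 4, 2, 3, 4, 4, 5],
  [2, 3, 2, 0, 1, 0, 5, 5, 3, 4],
  [4, 3, 1, 5, 0, 5, 3, 4],
  [4, 3, 5, 0, 4, 2, 3, 1],
  [0, 0, 0, 2, 2, 3, 5, 5, 3],
  [3, 5, 1, 5, 0, 5, 3, 2],
  [3, 2, 3, 3, 5, 3, 1],
  [2, 0, 0, 2, 3, 2, 0, 1],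
  [3, 5, 3, 4, 4, 2],
  [3, 2, 0, 1, 2, 2, 0, 4],
  [0, 1, 2, 3, 4, 3, 5, 3, 3, 2],
  [1, 1, 0, 2, 0, 2],
  [5, 0, 2, 4, 3, 2, 3, 1],
  [1, 1, 0, 2, 0, 5],
  [1, 3, 2, 1, 0, 5, 0, 4],
  [1, 0, 2, 2, 3, 2, 2, 0, 4],
  [4, 4, 0, 5, 3, 1, 3, 5],
  [3, 5, 1, 5, 0, 5, 3, 5],
  [2, 3, 5, 5, 0, 0, 2, 3, 1],
  [0, 2, 3, 5, 0, 2, 1, 3],
  [3, 5, 0, 2, 2, 4, 0, 2, 3, 2],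
  [4, 0, 5, 0, 1, 5, 3, 2],
  [3, 1, 2, 0, 5, 5, 4, 3],
  [3, 2, 3, 5, 5, 0, 2, 0, 4],
  [4, 0, 0, 2, 3, 5, 0, 4],
  [4, 5, 1],
  [5, 0, 5, 4, 0, 2, 1, 3, 3],
  [0, 4, 5, 3, 5, 5, 4, 0],
  [2, 0, 2, 3, 2, 4, 2, 0],
  [1, 3, 5, 5, 4, 3, 5, 0],
  [5, 5, 3, 3, 1, 1, 2, 0],
  [0, 5, 4, 5, 4, 0, 2, 2, 3],
  [2, 1, 3, 5, 5, 4, 3, 5, 0],
  [0, 4, 0, 2, 3, 1, 1],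
  [2, 1, 1, 0, 2, 0],
  [3, 5, 4, 0, 4, 3, 5, 5],
  [1, 1, 0, 2, 0, 2, 2],
  [3, 3, 5, 5, 3, 4, 2, 3, 3],
  [0, 1, 2, 0, 2, 0, 2, 3, 2, 3],
  [3, 2, 3, 3, 5, 3, 1, 2],
  [2, 3, 5, 5, 1, 0, 5, 3, 5],
  [3, 4, 2, 4, 3, 2, 0, 1, 3],
  [5, 1, 1, 0, 2, 0, 2],
  [3, 3, 5, 3, 4, 3, 5, 3, 4],
  [4, 0, 4, 2, 0, 5, 0, 4, 0],
  [0, 2, 4, 0, 5, 0, 2, 3],
  [4, 0, 1, 2, 0, 2, 2, 0, 4, 5],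
  [2, 4, 3, 5, 0, 5, 3, 3],
  [3, 3, 5, 3, 3, 2, 0, 2, 3, 1],
  [0, 1, 2, 2, 3, 5, 4, 0, 5],
  [3, 4, 4, 2, 2, 3, 2, 4, 3, 3],
  [1, 3, 2, 3, 4, 5, 0, 4, 5],
  [1, 0, 5, 0, 2, 3, 5, 1, 0, 5],
  [3, 5, 1, 5, 0, 5, 3],
  [3, 5, 0, 2, 2, 4, 0, 2, 3],
  [2, 0, 2, 0, 4, 0, 2, 3, 4],
  [1, 1, 3, 2, 0, 2, 0, 0, 1],
  [2, 1, 0, 5, 3, 1, 3, 5, 3],
  [5, 0, 0, 2, 3, 2, 0, 1],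
  [4, 0, 2, 0, 2, 1, 3, 5, 3],
  [1, 0, 5, 3, 1, 3, 5, 3, 5],
  [3, 1, 3, 2, 2, 0, 2, 3],
  [5, 5, 3, 5, 3, 4, 4],
  [0, 5, 3, 1, 3, 2, 2, 0, 0],
  [0, 4, 0, 2, 0, 5, 0, 0],
  [0, 0, 4, 2, 2, 3, 1],
  [5, 0, 2, 3, 4, 2, 2, 0, 5],
  [3, 5, 0, 2, 0, 5, 5, 3, 5],
  [4, 0, 5, 3, 4, 5, 3, 5, 4, 3],
  [2, 2]]

theorem levelH1 : levelOK 275 6 gtab [0] 1 orbH1 wordsH1 = true := by decide +kernel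

theorem nodupH1 : orbH1.Nodup := by decide +kernel

theorem stepH1 : 162 * Nat.card (stabL Hgen [0, 1]) ≤ Nat.card (stabL Hgen [0]) := by
  have h := card_stabL_ge Hgen [0] (b := 1) (by norm_num) orbH1 nodupH1
    (level_spec gens_tab (fun k hk => gens_mem_H hk) (by decide) (by norm_num) levelH1)
  have e : orbH1.length = 162 := by decide
  rw [e] at h
  exact h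

def orbH2 : List ℕ := [2, 3, 4, 5, 6, 7, 8, 9, 10, 11, 12, 13, 14, 15, 16, 17, 18, 19, 20, 21, 31, 35, 52, 71, 82, 102, 105, 107, 110, 112, 115, 116, 119, 122, 125, 126, 127, 132, 139, 142, 143, 144, 146, 148, 150, 151, 154, 159, 162, 163, 166, 167, 169, 172, 173, 175, 176, 177, 180, 182, 185, 186, 190, 192, 194, 196, 197, 198, 200, 202, 206, 208, 211, 212, 215, 216, 217, 223, 224, 225, 229, 230, 231, 236, 237, 238, 240, 241, 243, 246, 248, 249, 251, 254, 257, 258, 261, 264, 265, 266, 268, 270, 271, 272, 273]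

def wordsH2 : List (List ℕ) := [[],
  [5, 5, 0, 2, 2, 0, 5, 0, 5, 0, 2, 1, 3],
  [0, 5, 0, 5, 0, 0, 2, 0, 4, 2, 0],
  [3, 2, 0, 2, 3, 5, 0, 4, 0],
  [0, 0, 5, 3, 5, 3, 2, 1, 0, 5, 3, 2],
  [0, 2, 3, 2, 0, 2, 0, 5, 3, 5, 4, 3, 5],
  [5, 3, 5, 5, 0, 2, 0, 0, 5, 3, 5, 4],
  [3, 2, 4, 3, 3, 4, 2, 0, 2, 2, 3, 2],
  [0, 2, 4, 3, 3, 5, 3, 2, 3, 1, 0, 5],
  [0, 5, 3, 5, 5, 3, 5, 5, 3, 4, 0, 2],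
  [3, 1, 3, 2, 0, 5, 3, 5, 0],
  [3, 2, 3, 3, 5, 5, 3, 3, 2, 2, 0],
  [2, 0, 5, 3, 4, 5, 3, 2, 2, 1, 3, 5, 3],
  [3, 5, 3, 2, 2, 0, 5, 1, 0, 5, 3],
  [2, 2, 0, 2, 1, 0, 1, 2, 0, 2, 3, 1],
  [3, 4, 3, 2, 3, 5, 1, 0, 0, 2, 3],
  [3, 5, 3, 3, 5, 0, 1, 0, 5, 5, 0, 2],
  [4, 4, 3, 2, 0, 1, 5, 3, 3, 5, 5, 0],
  [2, 3, 3, 2, 3, 3, 5, 4, 0, 2, 0, 5],
  [0, 5, 3, 4, 0, 5, 0, 2, 2, 0, 2, 2, 0],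
  [3, 5, 1, 3, 5, 3, 3, 2, 3, 2, 3],
  [4, 4, 0, 5, 3, 2, 3, 2, 3, 1, 5],
  [2, 2, 3, 3, 5, 5, 0, 4, 0, 2, 3, 2],
  [4, 5, 0, 2, 2, 3, 2, 2, 3, 2, 3, 1],
  [3, 2, 4, 0, 1, 2, 2, 0, 4, 2, 0, 0],
  [4, 5, 0, 5, 0, 5, 5, 0, 2, 1, 3, 3, 2],
  [5, 3, 3, 2, 3, 5, 3, 1, 3, 2],
  [1, 0, 2, 0, 2, 0, 5, 5, 0, 5, 0],
  [2, 4, 2, 0, 2, 0, 2, 0, 2, 3, 4],
  [2, 1, 1, 0, 5, 3, 5, 3, 3, 5, 3, 4],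
  [3, 5, 0, 2, 0, 2, 0, 2, 2, 4, 3],
  [0, 0, 4, 5, 5, 3, 2, 4, 2, 3, 5, 3],
  [3, 5, 3, 1, 3, 2, 2, 0, 0, 2, 3, 2],
  [5, 0, 5, 1, 3, 5, 0, 0, 2, 2, 0, 1, 1],
  [3, 5, 5, 3, 3, 3, 2, 3, 1, 5, 0],
  [5, 3, 3, 5, 3, 5, 0, 2, 0, 5, 5, 0, 2],
  [3, 5, 5, 3, 5, 5, 3, 2, 3, 1, 0, 2, 3],
  [2, 2, 3, 2, 3, 2, 0, 1, 0, 2, 0, 1],
  [4, 2, 3, 4, 5, 0, 2, 2, 0],
  [5, 0, 5, 3, 3, 5, 5, 0, 4, 0, 2, 0],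
  [0, 1, 5, 3, 2, 4, 3, 3, 5, 5, 3, 2, 3],
  [2, 1, 3, 5, 0, 0, 0, 5, 3, 1],
  [5, 0, 2, 0, 5, 5, 0, 2, 2, 0, 1, 3],
  [3, 2, 4, 0, 5, 0, 0, 0, 2, 2, 0],
  [5, 0, 0, 1, 5, 3, 2, 3, 2, 0, 4, 2, 3],
  [4, 3, 5, 3, 3, 5, 5, 3, 3, 5, 0],
  [4, 5, 3, 1, 2, 0, 5, 1, 0, 0, 5, 0, 4],
  [4, 2, 3, 5, 3, 4, 0, 2, 3, 1, 5, 0],
  [2, 0, 1, 2, 0, 0, 5, 1, 3, 5, 1, 3],
  [2, 1, 3, 3, 2, 2, 0, 0, 2, 2, 3, 1],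
  [2, 0, 5, 3, 5, 3, 4, 2, 2, 0, 4, 4],
  [4, 3, 5, 5, 3, 5, 1, 0, 4, 2, 3, 4],
  [3, 2, 0, 0, 5, 3, 3, 2, 0, 2, 0, 5],
  [2, 2, 0, 2, 4, 3, 2, 3, 1, 2, 2],
  [0, 0, 4, 5, 3, 5, 0, 2, 3, 2, 3, 3],
  [4, 0, 2, 3, 1, 2, 0, 2, 0, 5, 5, 0, 2],
  [3, 2, 4, 0, 5, 3, 1, 0, 2, 0, 5, 1],
  [3, 3, 5, 0, 2, 4, 0, 2, 3, 4, 2, 4, 3],
  [3, 5, 5, 0, 1, 2, 3, 2, 0, 0, 1, 2],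
  [3, 2, 3, 2, 2, 3, 5, 3, 5, 3, 4],
  [0, 1, 2, 0, 2, 4, 2, 3, 2, 2, 0, 5],
  [2, 0, 5, 0, 5, 0, 0, 2, 1, 3, 1],
  [4, 0, 2, 3, 2, 1, 2, 0, 2, 0, 0, 2],
  [5, 0, 4, 0, 2, 0, 5, 0, 0, 2],
  [2, 4, 0, 5, 0, 5, 0, 2, 3, 1, 1],
  [1, 0, 5, 3, 5, 3, 5, 3, 5, 1, 5],
  [1, 3, 2, 2, 3, 5, 0, 2, 3, 2, 0],
  [0, 0, 2, 0, 1, 0, 2, 3, 4, 5, 0, 2],
  [0, 2, 3, 3, 2, 3, 5, 5, 3, 2],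
  [4, 5, 0, 4, 2, 3, 4, 2, 0, 4, 5, 0],
  [3, 5, 0, 5, 3, 2, 0, 5, 5, 0, 4],
  [1, 3, 2, 0, 2, 0, 1, 0, 5, 5, 0, 4],
  [4, 2, 3, 5, 0, 2, 4, 2, 0, 0, 5, 0],
  [4, 2, 3, 2, 3, 5, 3, 4, 4, 5, 3, 2, 2],
  [4, 3, 5, 4, 3, 3, 2, 3, 1, 5, 0, 2],
  [0, 2, 3, 5, 0, 5, 1, 0, 2, 4, 2, 3],
  [0, 4, 3, 5, 5, 3, 2, 2, 3, 5, 3, 2],
  [0, 2, 4, 0, 5, 1, 3, 2, 2, 0, 0, 5],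
  [4, 0, 5, 0, 5, 5, 0, 5, 5, 3, 2, 1],
  [5, 3, 2, 3, 1, 2, 3, 2, 1, 3, 4, 5, 0],
  [4, 0, 2, 3, 3, 3, 2, 0, 4, 5],
  [2, 3, 4, 0, 5, 0, 2, 0, 0, 1, 5, 3],
  [2, 1, 3, 2, 3, 5, 0, 0, 5, 5, 0, 4, 4],
  [3, 2, 0, 2, 2, 0, 2, 3, 2, 2, 0, 0, 4],
  [4, 3, 4, 2, 0, 4, 2, 2, 3, 5, 3, 2, 1],
  [0, 4, 2, 0, 4, 2, 3, 3, 5, 4, 3, 5],
  [5, 5, 0, 5, 3, 2, 2, 0, 2, 2, 0, 1],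
  [5, 0, 0, 2, 3, 3, 5, 3, 2, 0, 4, 4],
  [5, 0, 2, 2, 0, 5, 0, 0, 5, 3],
  [2, 4, 0, 5, 4, 0, 5, 0, 5, 1, 5, 3],
  [2, 0, 2, 3, 5, 0, 0, 5, 5, 3, 1],
  [3, 3, 2, 1, 0, 0, 5, 3, 2, 4, 3, 4],
  [5, 5, 4, 0, 5, 0, 1, 5, 3, 5, 5],
  [3, 5, 1, 1, 0, 2, 3, 4, 5, 3, 5, 4, 3],
  [1, 0, 1, 2, 0, 5, 3, 5, 5, 0, 4, 4],
  [0, 0, 2, 3, 5, 0, 2, 1, 2, 3, 3, 5, 3],
  [2, 3, 5, 0, 0, 2, 0, 0, 5, 4],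
  [3, 1, 5, 0, 5, 5, 3, 2, 2, 0, 1, 1],
  [3, 5, 5, 3, 2, 1, 0, 5, 1],
  [1, 1, 3, 5, 0, 2, 0, 0, 5, 3, 3, 2],
  [0, 1, 5, 5, 3, 5, 3, 5, 3, 2, 0],
  [5, 3, 2, 2, 3, 5, 3, 5, 4, 0, 5, 3, 1],
  [4, 5, 4, 3, 2, 2, 0, 0, 2, 3, 5, 5],
  [1, 0, 5, 1, 3, 4, 2, 0, 2, 2, 0, 1],
  [2, 2, 3, 3, 5, 4, 3, 2, 3, 4, 3, 2]]

theorem levelH2 : levelOK 275 6 gtab [0, 1] 2 orbH2 wordsH2 = true := by decide +kernel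

theorem nodupH2 : orbH2.Nodup := by decide +kernel

theorem stepH2 : 105 * Nat.card (stabL Hgen [0, 1, 2]) ≤ Nat.card (stabL Hgen [0, 1]) := by
  have h := card_stabL_ge Hgen [0, 1] (b := 2) (by norm_num) orbH2 nodupH2
    (level_spec gens_tab (fun k hk => gens_mem_H hk) (by decide) (by norm_num) levelH2)
  have e : orbH2.length = 105 := by decide
  rw [e] at h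
  exact h

def orbH3 : List ℕ := [3, 5, 6, 7, 8, 9, 10, 11, 12, 14, 15, 17, 18, 19, 20, 21, 105, 110, 116, 122, 126, 127, 132, 139, 143, 146, 151, 162, 166, 167, 169, 172, 175, 177, 180, 185, 192, 196, 197, 200, 202, 206, 211, 212, 216, 217, 223, 225, 230, 236, 238, 241, 243, 246, 248, 251, 254, 258, 261, 265, 266, 270, 271, 272]

def wordsH3 : List (List ℕ) := [[],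
  [3, 2, 2, 0, 0, 2, 4, 3, 5, 0, 1, 1, 2, 1, 1, 0, 2, 0, 0, 0, 4, 2, 2, 3, 5, 5, 1],
  [4, 5, 4, 0, 2, 0, 5, 5, 3, 2, 0, 2, 2, 0, 2, 0],
  [5, 3, 2, 2, 3, 4, 3, 2, 0, 0, 2, 0, 3, 5, 0, 0, 5, 3, 1, 1, 0, 0, 2, 0, 3, 4, 2, 3, 1, 5],
  [5, 3, 4, 5, 3, 2, 1, 3, 5, 5, 3, 5, 3, 2, 2, 3, 3],
  [4, 0, 4, 5, 3, 3, 2, 3, 2, 3, 5, 4, 3, 3, 2, 3, 2, 3, 4, 3, 3, 2, 0, 4, 2, 2, 2, 0, 4, 4, 2],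
  [3, 2, 4, 0, 5, 0, 0, 0, 2, 2, 0, 2, 1, 0, 5, 3, 1, 3, 5, 3, 3, 2, 4, 3, 2, 3, 4, 2, 2, 3, 5],
  [3, 5, 3, 5, 5, 3, 5, 0, 2, 2, 3, 5, 3, 1, 2, 1],
  [0, 1, 2, 3, 2, 1, 0, 5, 3, 5, 3, 5, 4, 0, 5, 5],
  [3, 2, 3, 2, 2, 3, 5, 3, 5, 3, 4, 0, 2, 0, 4, 0, 2, 3, 4, 4, 3, 3, 2, 3, 1, 0, 2, 0, 1],
  [5, 3, 2, 2, 3, 5, 3, 2, 0, 2, 0, 0, 2, 5, 1, 1, 0, 2, 0, 2, 4, 3, 2, 0, 5, 1, 5, 0, 0],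
  [5, 3, 3, 2, 3, 5, 3, 1, 3, 2, 2, 3, 5, 3, 4, 4, 5, 4, 3, 2, 0, 5, 0, 4, 0, 4],
  [3, 5, 1, 0, 5, 5, 0, 2, 4, 3, 1, 2, 3, 5, 4],
  [1, 2, 0, 5, 4, 0, 1, 5, 3, 2, 2, 3, 4, 2, 0],
  [0, 0, 5, 5, 0, 2, 0, 2, 2, 0, 4, 5, 0, 2, 1, 0, 2],
  [2, 2, 3, 1, 2, 0, 2, 0, 2, 3, 4, 5, 0, 5, 4, 3],
  [2, 0, 0, 5, 1, 3, 5, 0, 4, 5, 3, 1, 2, 0, 5, 4],
  [2, 4, 0, 4, 2, 0, 2, 3, 1, 3, 2, 0, 0, 2, 3],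
  [2, 0, 4, 3, 2, 4, 4, 3, 5, 3, 1, 5, 5, 3, 2, 4, 3],
  [0, 2, 0, 5, 0, 5, 3, 3, 4, 2, 0, 5, 0, 4],
  [0, 1, 5, 5, 3, 5, 0, 5, 4, 3, 2, 3, 2, 2, 4],
  [4, 4, 0, 2, 3, 2, 0, 0, 5, 0, 5, 0, 2, 1, 3],
  [1, 5, 5, 0, 5, 0, 1, 2, 3, 2, 0, 2, 2, 4, 3],
  [5, 0, 2, 3, 4, 5, 0, 2, 0, 2, 3, 3, 1, 1, 0, 2, 0, 0, 2, 1, 3, 4, 3, 5, 3, 3],
  [3, 1, 3, 2, 0, 5, 3, 5, 0, 0, 4, 2, 3, 2, 3, 2, 1, 0, 0, 2, 2, 2, 4, 0, 0, 5, 0, 5],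
  [4, 3, 3, 5, 0, 2, 4, 2, 4, 0, 1, 5, 3, 3, 2, 2],
  [4, 0, 5, 3, 5, 4, 3, 4, 5, 3, 5, 5, 1, 1, 0, 2, 0, 5, 0, 5, 0, 5, 3, 2, 3, 3, 3, 5, 3],
  [4, 2, 2, 0, 2, 0, 2, 3, 3, 5, 0, 2, 3, 2, 2],
  [0, 5, 4, 3, 5, 4, 0, 5, 0, 0, 5, 5, 3, 5, 1, 0, 4, 5],
  [0, 5, 5, 1, 3, 2, 3, 2, 2, 2, 3, 5, 5, 4, 3, 3],
  [1, 3, 2, 3, 5, 1, 0, 0, 2, 3, 2, 3, 5, 3],
  [1, 5, 0, 5, 0, 1, 2, 0, 2, 0, 4, 5, 0, 1, 2],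
  [0, 4, 2, 3, 1, 5, 3, 2, 2, 1, 3, 5, 4, 0],
  [2, 2, 0, 4, 2, 2, 0, 5, 0, 5, 1, 3, 3, 2, 4, 0],
  [0, 2, 2, 1, 3, 1, 5, 3, 2, 4, 4, 2, 3, 5, 3, 2, 0],
  [3, 5, 1, 3, 5, 3, 3, 2, 3, 2, 3, 3, 5, 3, 4, 4, 0, 2, 2, 1, 0, 4, 2, 4, 0, 0, 0],
  [4, 5, 3, 5, 3, 5, 4, 5, 1, 0, 2, 2, 1, 0, 1, 3, 2, 3, 4],
  [3, 2, 3, 2, 0, 4, 5, 3, 2, 2, 0, 2, 3, 3, 4],
  [3, 1, 2, 0, 4, 5, 5, 0, 2, 4, 0, 5, 1, 3],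
  [0, 0, 1, 2, 2, 0, 5, 5, 5, 0, 5, 0, 4, 2, 2, 3],
  [1, 3, 1, 0, 5, 3, 1, 5, 3, 2, 2, 0, 0, 0, 5, 3, 4],
  [4, 2, 3, 4, 5, 0, 2, 2, 0, 0, 5, 3, 2, 1, 0, 2, 3, 5, 3, 4, 4, 4],
  [0, 5, 3, 3, 5, 0, 4, 0, 5, 3, 5, 1, 3, 1, 5],
  [1, 2, 0, 5, 1, 0, 4, 4, 2, 0, 5, 0, 5, 0, 0],
  [3, 5, 5, 3, 4, 2, 0, 5, 3, 4, 0, 2, 0, 5],
  [1, 3, 3, 5, 5, 0, 5, 3, 5, 5, 3, 5, 0, 1, 3, 5, 5, 4, 3, 5, 0, 4, 3, 5, 1, 5, 3, 3, 2, 1, 3, 2, 4],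
  [5, 5, 0, 5, 3, 2, 0, 0, 5, 3, 5, 3, 5, 5, 1],
  [3, 3, 2, 3, 2, 3, 5, 1, 1, 3, 4, 2, 3, 5, 4],
  [4, 3, 4, 5, 0, 2, 0, 1, 0, 2, 0, 2, 2, 1, 5, 3, 4, 5],
  [2, 3, 5, 3, 1, 0, 2, 3, 5, 1, 0, 2, 2, 0],
  [5, 5, 0, 0, 2, 4, 3, 1, 5, 1, 5, 3, 2, 0, 0, 1],
  [5, 0, 0, 4, 5, 3, 2, 2, 3, 2, 3, 2, 1, 3, 5, 1, 5, 0, 5, 3, 4, 0, 2, 2, 3, 1, 2, 3],
  [4, 0, 5, 1, 5, 3, 5, 3, 5, 1, 0, 2, 0, 2, 2, 4, 3],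
  [3, 2, 3, 2, 4, 3, 3, 2, 3, 2, 0, 4, 5, 0, 2, 0, 4],
  [1, 2, 3, 5, 4, 0, 2, 1, 3, 2, 0, 4, 2, 3, 3, 5],
  [1, 3, 5, 3, 2, 1, 3, 5, 0, 5, 0, 0, 1, 5, 0, 5, 0],
  [5, 0, 4, 2, 0, 1, 2, 3, 4, 5, 3, 2, 3, 3, 5, 1, 0, 1],
  [0, 2, 0, 5, 1, 5, 0, 2, 2, 1, 3, 3, 4, 0, 5, 0, 1, 5, 3, 0, 2, 2, 3, 3, 3, 5, 0, 2, 2],
  [3, 1, 5, 0, 0, 4, 2, 3, 2, 3, 5, 5, 1, 3, 5, 5],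
  [3, 4, 5, 0, 5, 0, 2, 2, 3, 1, 2, 3, 5, 3, 3, 2, 2],
  [2, 4, 0, 5, 0, 5, 0, 2, 3, 1, 1, 5, 1, 1, 0, 2, 0, 1, 3, 1, 2, 1, 2, 3, 5, 5, 0, 4],
  [1, 0, 2, 3, 2, 0, 4, 3, 4, 3, 5, 0, 5, 3, 4, 4],
  [2, 3, 5, 3, 5, 0, 1, 2, 3, 2, 1, 0, 5, 5, 3, 2],
  [0, 4, 5, 3, 2, 3, 2, 3, 3, 5, 0, 5, 3, 1, 1]]

theorem levelH3 : levelOK 275 6 gtab [0, 1, 2] 3 orbH3 wordsH3 = true := by decide +kernel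

theorem nodupH3 : orbH3.Nodup := by decide +kernel

theorem stepH3 : 64 * Nat.card (stabL Hgen [0, 1, 2, 3]) ≤ Nat.card (stabL Hgen [0, 1, 2]) := by
  have h := card_stabL_ge Hgen [0, 1, 2] (b := 3) (by norm_num) orbH3 nodupH3
    (level_spec gens_tab (fun k hk => gens_mem_H hk) (by decide) (by norm_num) levelH3)
  have e : orbH3.length = 64 := by decide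
  rw [e] at h
  exact h

def orbH4 : List ℕ := [4, 13, 16]

def wordsH4 : List (List ℕ) := [[],
  [0, 4, 5, 3, 2, 3, 2, 3, 3, 5, 0, 5, 3, 1, 1, 3, 5, 1, 3, 5, 3, 3, 2, 3, 2, 3, 1, 1, 0, 2, 0, 5, 5, 4, 0, 4, 1, 5, 5, 1, 3, 3],
  [0, 4, 5, 3, 2, 3, 2, 3, 3, 5, 0, 5, 3, 1, 1, 2, 2, 0, 2, 4, 3, 2, 3, 1, 2, 2, 2, 0, 2, 0, 4, 0, 2, 3, 4, 0, 5, 3, 2, 1, 5, 4, 2, 3, 5, 1, 3, 2]]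

theorem levelH4 : levelOK 275 6 gtab [0, 1, 2, 3] 4 orbH4 wordsH4 = true := by decide +kernel

theorem nodupH4 : orbH4.Nodup := by decide +kernel

theorem stepH4 : 3 * Nat.card (stabL Hgen [0, 1, 2, 3, 4]) ≤ Nat.card (stabL Hgen [0, 1, 2, 3]) := by
  have h := card_stabL_ge Hgen [0, 1, 2, 3] (b := 4) (by norm_num) orbH4 nodupH4
    (level_spec gens_tab (fun k hk => gens_mem_H hk) (by decide) (by norm_num) levelH4)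
  have e : orbH4.length = 3 := by decide
  rw [e] at h
  exact h

theorem card_Hgen_ge : 898128000 ≤ Nat.card Hgen := by
  have h0 := stepH0
  have h1 := stepH1
  have h2 := stepH2
  have h3 := stepH3
  have h4 := stepH4
  have hp : 1 ≤ Nat.card (stabL Hgen [0, 1, 2, 3, 4]) := Nat.card_pos
  rw [stabL_nil] at h0
  omega

def orbA0 : List ℕ := [0, 1, 2, 3, 4, 5, 6, 7, 8, 9, 10, 11, 12, 13, 14, 15, 16, 17, 18, 19, 20, 21, 22, 23, 24, 25, 26, 27, 28, 29, 30, 31, 32, 33, 34, 35, 36, 37, 38, 39, 40, 41, 42, 43, 44, 45, 46, 47, 48, 49, 50, 51, 52, 53, 54, 55, 56, 57, 58, 59, 60, 61, 62, 63, 64, 65, 66, 67, 68, 69, 70, 71, 72, 73, 74, 75, 76, 77, 78, 79, 80, 81, 82, 83, 84, 85, 86, 87, 88, 89, 90, 91, 92, 93, 94,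 95, 96, 97, 98, 99, 100, 101, 102, 103, 104, 105, 106, 107, 108, 109, 110, 111, 112, 113, 114, 115, 116, 117, 118, 119, 120, 121, 122, 123, 124, 125, 126, 127, 128, 129, 130, 131, 132, 133, 134, 135, 136, 137, 138, 139, 140, 141, 142, 143, 144, 145, 146, 147, 148, 149, 150, 151, 152, 153, 154, 155, 156, 157, 158, 159, 160, 161, 162, 163, 164, 165, 166, 167, 168, 169, 170, 171, 172, 173, 174, 175, 176, 177, 178, 179, 180, 181, 182, 183, 184, 185, 186, 187, 188, 189, 190, 191, 192, 193, 194, 195, 196, 197, 198, 199, 200, 201, 202, 203, 204, 205, 206, 207, 208, 209, 210, 211, 212, 213, 214, 215, 216, 217, 218, 219, 220, 221, 222, 223, 224, 225, 226, 227, 228, 229, 230, 231, 232, 233, 234, 235, 236, 237, 238,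 239, 240, 241, 242, 243, 244, 245, 246, 247, 248, 249, 250, 251, 252, 253, 254, 255, 256, 257, 258, 259, 260, 261, 262, 263, 264, 265, 266, 267, 268, 269, 270, 271, 272, 273, 274]

def wordsA0 : List (List ℕ) := [[],
  [3, 5, 3, 5, 3],
  [1, 3, 5, 0],
  [0, 1, 5, 0],
  [3, 5, 5, 3],
  [0, 4, 4],
  [5, 4, 5, 0, 4],
  [5, 1, 0, 1, 3],
  [1],
  [0, 5, 1, 0, 4],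
  [0, 0, 4, 6],
  [5, 3, 2, 0],
  [5, 4, 6],
  [3, 5, 5, 0, 4],
  [4, 0, 0, 4],
  [0, 2, 1, 0, 6],
  [5, 5, 3, 4],
  [0, 5, 3, 1],
  [6, 4, 3, 2, 3],
  [1, 3, 1],
  [0, 4, 0],
  [4, 3, 5, 3, 6],
  [0, 1, 1],
  [4, 5, 3, 2, 3, 3],
  [0, 0],
  [4, 0, 0],
  [4, 4],
  [2, 3, 5, 3, 4, 3],
  [0, 2, 3, 3, 4],
  [5, 3, 2, 4, 3],
  [0, 0, 0, 2, 3],
  [5, 1, 0, 1],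
  [5, 3, 3],
  [0, 2, 3, 6, 1],
  [4, 0, 6, 5, 0],
  [1, 3, 3],
  [2, 2, 3],
  [4, 6, 3, 1],
  [3],
  [0, 2, 1, 3],
  [4, 4, 3],
  [3, 1, 0, 6],
  [0, 2, 6, 0],
  [6, 2, 0, 4, 4],
  [0, 4, 2, 3],
  [1, 0, 5, 0],
  [5, 3, 2, 3],
  [0, 5, 0],
  [2, 4, 3],
  [0, 0, 4, 2, 3],
  [5, 0, 2, 0, 6],
  [4, 3, 4],
  [2, 6, 3, 3, 1],
  [1, 0, 0, 2, 3],
  [5, 0, 1, 0],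
  [3, 1, 2, 6, 0],
  [3, 3, 5, 6],
  [1, 2, 0, 1, 1],
  [5, 5, 3],
  [5, 5, 3, 1],
  [3, 3],
  [1, 3],
  [3, 4, 3],
  [0, 2, 0, 1, 0],
  [4, 3],
  [5, 0, 1, 1],
  [3, 4, 0, 4],
  [6, 1, 0, 0],
  [6, 4, 3],
  [0, 0, 2, 3],
  [2, 3],
  [0, 6, 4, 0],
  [0, 6, 0, 5, 0, 4],
  [2, 6, 0],
  [5, 3],
  [2, 0, 1, 1],
  [2, 3, 3, 4],
  [2, 2, 3, 6],
  [3, 1, 5, 0],
  [0, 2, 0, 4],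
  [5, 3, 1, 6],
  [2, 3, 1, 6],
  [6, 2, 0, 4],
  [6, 2, 0],
  [0, 6],
  [6, 5, 0],
  [2, 2, 1, 3],
  [3, 1, 5, 5, 0],
  [1, 0, 1, 3],
  [4, 0, 5, 4, 0],
  [1, 5, 3],
  [2, 2, 0, 0],
  [1, 1, 2, 3],
  [2, 3, 3],
  [1, 0, 5, 5, 0],
  [2, 0, 1, 0],
  [5, 0, 5, 0],
  [2, 4, 2, 3],
  [0, 1],
  [0],
  [4, 0, 2, 3],
  [2, 1, 3],
  [3, 3, 2, 6, 0],
  [3, 3, 2, 3],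
  [1, 0, 5, 3, 1],
  [0, 5, 5, 6, 3],
  [0, 5, 1, 3, 1],
  [5, 0, 2, 0, 0],
  [4, 3, 3],
  [4, 3, 5, 3],
  [0, 4, 5, 0],
  [2, 0, 2, 6],
  [3, 2, 0, 1, 0],
  [6, 2, 3],
  [0, 2, 0, 0],
  [1, 1, 3, 1],
  [3, 5, 3, 6],
  [2, 0, 5, 0],
  [3, 5, 3],
  [3, 6, 5, 0],
  [5, 5, 0],
  [2, 0],
  [3, 2, 0, 4],
  [4, 3, 3, 6],
  [1, 0, 4],
  [4, 3, 1, 3],
  [2, 3, 4],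
  [4, 4, 0],
  [3, 2, 3],
  [0, 2, 3],
  [5, 0, 4],
  [1, 3, 4, 6],
  [3, 1],
  [6, 1, 3],
  [1, 6, 0, 5, 0],
  [1, 1, 0],
  [0, 4, 3, 2, 3],
  [5, 3, 2, 3, 3],
  [5, 6, 3],
  [3, 3, 6],
  [0, 5, 3, 6],
  [4, 2, 3, 3],
  [5, 1, 3, 4],
  [5, 3, 4],
  [4, 0],
  [3, 5, 3, 4, 3],
  [4, 3, 2, 3],
  [0, 6, 5, 0],
  [0, 4, 5, 0, 4],
  [3, 2, 0, 5, 6],
  [1, 2, 0, 5, 6],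
  [3, 5, 0],
  [2, 0, 2, 6, 0],
  [1, 3, 2, 3, 3],
  [0, 1, 6],
  [3, 2, 6, 0],
  [2, 0, 4],
  [2, 3, 5, 3, 4],
  [5, 3, 5, 3],
  [3, 1, 1, 6],
  [1, 0, 5, 3, 6],
  [5, 5, 1, 0],
  [5, 0, 5, 1, 0],
  [3, 4, 3, 6],
  [1, 0, 0],
  [5, 4, 3, 1],
  [5, 3, 1, 1, 6],
  [2, 6, 1],
  [1, 1],
  [2, 3, 5, 0],
  [2, 0, 4, 4],
  [3, 2, 6, 5, 0],
  [5, 4, 6, 3],
  [1, 5, 0],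
  [4, 3, 1],
  [5, 4, 0, 4],
  [3, 5, 3, 3],
  [3, 1, 1],
  [0, 0, 1],
  [3, 5, 5, 6, 3],
  [3, 2, 1, 2, 3],
  [3, 5, 1, 1, 0],
  [6, 5, 0, 0],
  [5, 5, 3, 6],
  [4, 0, 5, 0],
  [2, 0, 1, 3],
  [5, 1, 3, 1],
  [2, 2, 3, 4],
  [2, 2, 0],
  [4, 3, 5, 0],
  [1, 5, 0, 4],
  [0, 1, 3],
  [4],
  [5, 6, 3, 5, 0],
  [4, 5, 4, 0],
  [5, 5, 0, 4],
  [5, 3, 1],
  [0, 0, 4],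
  [6, 4],
  [1, 2, 0, 6],
  [3, 2, 0],
  [5, 3, 6, 3, 4],
  [4, 3, 2, 0, 4],
  [4, 0, 1],
  [6, 0, 4],
  [3, 6, 4],
  [3, 1, 6, 3],
  [0, 4],
  [2, 0, 2, 3],
  [5, 0, 1],
  [6, 5, 0, 1, 0],
  [3, 6, 2, 3],
  [2, 1, 0, 4],
  [0, 2, 1, 2, 3],
  [5, 0],
  [1, 6],
  [0, 2, 3, 3],
  [5, 5, 3, 3, 1],
  [6, 0, 0],
  [3, 1, 6],
  [0, 2, 2, 3],
  [6, 5, 3, 1],
  [5, 1, 5, 3],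
  [6, 2, 0, 5, 0],
  [4, 6, 4, 0],
  [5, 0, 1, 3],
  [6, 5, 3],
  [2, 2, 0, 5, 1, 0],
  [5, 0, 0, 1],
  [1, 0, 1],
  [1, 6, 0],
  [1, 6, 0, 4],
  [5, 0, 2, 3, 3],
  [0, 1, 0],
  [6, 0, 4, 3],
  [4, 5, 0, 1],
  [6],
  [2, 3, 5, 3, 3],
  [3, 5, 5, 0],
  [3, 6],
  [4, 0, 1, 0],
  [0, 5, 3],
  [2, 0, 4, 0, 1],
  [1, 0],
  [5, 5, 0, 2, 0, 6],
  [2, 6, 0, 4],
  [3, 5, 4, 4, 0, 4],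
  [3, 2, 1, 3, 3],
  [2, 3, 4, 6],
  [4, 5, 3, 4, 3],
  [6, 2, 0, 1, 1],
  [5, 4, 0],
  [4, 6, 0],
  [4, 0, 4],
  [3, 4, 2, 3],
  [1, 3, 4],
  [2, 3, 1],
  [6, 5, 0, 4],
  [4, 6, 0, 4],
  [1, 1, 5, 0],
  [3, 4],
  [0, 5, 6, 0],
  [3, 2, 3, 3],
  [2, 0, 0],
  [5, 4, 3, 2, 3],
  [5, 3, 5, 3, 4],
  [0, 2, 3, 1],
  [5, 6, 0],
  [3, 3, 4],
  [2, 4, 0],
  [0, 6, 1, 3],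
  [5, 3, 3, 6],
  [3, 1, 3],
  [3, 1, 5, 0, 4],
  [5, 3, 4, 3]]

theorem levelA0 : levelOK 275 7 gtab [] 0 orbA0 wordsA0 = true := by decide +kernel

theorem nodupA0 : orbA0.Nodup := by decide +kernel

theorem stepA0 : 275 * Nat.card (stabL Agen [0]) ≤ Nat.card (stabL Agen []) := by
  have h := card_stabL_ge Agen [] (b := 0) (by norm_num) orbA0 nodupA0
    (level_spec gens_tab (fun k hk => gens_mem_A hk) (by decide) (by norm_num) levelA0)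
  have e : orbA0.length = 275 := by decide
  rw [e] at h
  exact h

def orbA1 : List ℕ := [1, 2, 3, 4, 5, 6, 7, 8, 9, 10, 11, 12, 13, 14, 15, 16, 17, 18, 19, 20, 21, 23, 25, 29, 30, 31, 35, 39, 44, 49, 51, 52, 59, 63, 68, 71, 76, 82, 83, 88, 92, 94, 100, 102, 103, 105, 107, 109, 110, 111, 112, 114, 115, 116, 119, 122, 124, 125, 126, 127, 129, 131, 132, 134, 137, 139, 140, 142, 143, 144, 146, 147, 148, 149, 150, 151, 153, 154, 155, 157, 159, 161, 162, 163, 164, 166, 167, 169, 170, 172, 173, 175, 176, 177, 180, 181, 182, 185, 186, 187, 190, 191, 192, 193, 194, 196, 197, 198, 199, 200, 202, 205, 206, 208, 210, 211, 212, 213, 215, 216, 217, 218, 220, 223, 224, 225, 226, 227, 229, 230, 231, 232, 234, 236, 237,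 238, 240, 241, 242, 243, 246, 248, 249, 251, 253, 254, 255, 256, 257, 258, 260, 261, 262, 264, 265, 266, 268, 269, 270, 271, 272, 273]

def wordsA1 : List (List ℕ) := [[],
  [0, 2, 3, 4, 2, 2, 0],
  [3, 5, 5, 6, 2, 0, 5, 5, 3],
  [4, 0, 2, 0, 0, 5, 0],
  [5, 1, 1, 0, 2, 0, 5, 5],
  [3, 5, 0, 6, 2, 2, 0, 5],
  [0, 2, 3, 3, 5, 1, 3, 4],
  [0, 2, 0, 4, 0, 2, 3, 4, 5],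
  [0, 2, 0, 0, 2, 2, 6],
  [3, 3, 2, 0, 0, 4, 2, 0],
  [0, 2, 2, 0, 6, 5, 5, 3, 1],
  [4, 4, 0, 2, 2, 0, 0, 5, 4],
  [1, 0, 4, 2, 0, 0, 5, 3],
  [5, 3, 5, 5, 3, 6, 2, 0],
  [6, 2, 2, 3, 3, 2, 3, 4],
  [1, 0, 0, 2, 6, 0, 5, 0],
  [2, 3, 5, 3, 4, 4],
  [0, 0, 5, 1, 0, 2, 2, 0, 0],
  [2, 3, 2, 3, 3, 5, 3, 1],
  [2, 4, 0, 4, 5, 3, 5, 6],
  [5, 1, 0, 4, 2, 0, 0, 5, 3],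
  [3, 2, 2, 3, 2, 3, 2, 6],
  [0, 5, 3, 4, 6, 5, 0],
  [5, 3, 5, 5, 1, 0, 5, 3],
  [0, 2, 3, 4, 2, 2, 0, 2],
  [4, 3, 5, 6, 4, 2, 0, 2],
  [5, 3, 5, 3, 4, 5, 4],
  [3, 2, 2, 3, 2, 3, 1, 6, 2],
  [5, 0, 4, 6, 5, 4, 3],
  [3, 3, 2, 2, 3, 2, 0, 1, 3],
  [4, 3, 3, 2, 3, 2, 3, 4],
  [3, 5, 0, 6, 2, 2, 0],
  [3, 5, 3, 5, 4, 4],
  [1, 2, 0, 1, 6, 2, 3, 1],
  [1, 1, 0, 2, 0],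
  [5, 0, 0, 4, 6, 5, 3, 4],
  [6, 3, 2, 0, 5, 3, 3],
  [4, 0, 2, 0, 0, 5, 0, 5],
  [0, 5, 0, 0, 6, 2, 2, 3, 3],
  [0, 0, 5, 5, 3, 4, 2, 0, 4],
  [2, 2, 3, 3, 1, 2, 1, 0],
  [1, 0, 5, 0, 5, 0, 0, 1],
  [4, 0, 5, 6, 4, 3, 5, 4],
  [0, 4, 6, 5, 4, 3],
  [5, 4, 0, 2, 0, 0, 5, 0],
  [3, 5, 5, 0, 0, 2, 3, 1],
  [3, 5, 0, 0, 2, 0, 0, 4],
  [5, 3, 5, 3, 4, 4],
  [0, 6, 0, 4, 5, 3, 5, 4],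
  [3, 6, 2, 2, 0, 1],
  [5, 5],
  [5, 1, 0, 5, 1, 0, 2, 0, 1],
  [3, 5, 0, 2, 0, 6, 1, 2, 3],
  [5, 3, 5, 0, 6, 2, 2, 0, 5],
  [1, 2, 1, 0, 2, 0, 2],
  [4, 4, 0, 5, 3, 1, 3],
  [3, 3, 6, 2, 0, 4, 0],
  [3, 2, 2, 3, 2, 3, 1, 6],
  [0, 0, 2, 3, 2, 0, 1],
  [0, 2, 4, 3, 2, 3, 1],
  [5, 4, 0, 4, 5, 3, 5, 6],
  [0, 5, 4, 3, 1, 2, 0, 1, 6],
  [1, 2, 1, 0, 2, 0, 5],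
  [3, 5, 0, 2, 0, 5, 5, 3],
  [5, 1, 0, 2, 1, 3, 6, 3],
  [3, 2, 3, 3, 5, 3, 1, 2, 2],
  [0, 4, 6, 5, 4, 3, 5],
  [0, 0, 2, 6, 5, 3, 2, 6],
  [1, 3, 2, 3, 5, 4, 0, 4],
  [1, 0, 2, 6, 1, 3, 3, 2],
  [3, 2, 3, 3, 5, 3, 5, 1],
  [2, 0, 1, 2, 6, 1, 3],
  [4, 5, 3, 1, 6, 2, 0, 0],
  [4, 1, 2],
  [4, 0, 5, 5, 1, 3, 3, 5],
  [6, 5, 0, 2, 3, 2, 4, 0],
  [6, 5, 3, 1, 2, 0, 0],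
  [5, 3, 5, 1, 6, 2, 0, 1],
  [4, 3, 5, 5, 6, 0],
  [3, 5, 3, 4, 4],
  [1, 0, 2, 3, 5, 4, 0, 6],
  [0, 0, 4, 6, 5, 3, 4],
  [0, 0, 2, 2, 4, 3, 1, 2],
  [0, 5, 0, 5, 6, 0, 4, 5],
  [4, 0, 2, 0, 0, 5, 0, 2],
  [2, 0, 5, 0, 5, 0, 6, 4],
  [0, 4, 5, 0, 1, 2, 3, 3],
  [5, 3, 5, 3, 4, 4, 2],
  [1, 1, 0, 2, 0, 5, 5],
  [1, 1, 5, 0, 2, 0],
  [4, 3, 5, 0, 5, 3, 3],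
  [3, 1, 5, 0, 5, 3, 1, 6],
  [5, 4, 0, 4, 5, 3, 4, 6],
  [3, 5, 5, 6, 3, 2, 0],
  [1, 2, 0, 2, 1, 3, 6, 3],
  [4, 3, 5, 0, 2, 4, 3, 1],
  [1, 0, 2, 4, 2, 3, 5, 5, 3],
  [6, 3, 5, 5, 5, 0, 2, 1],
  [3, 2, 3, 3, 5, 3, 1],
  [4, 3, 3, 4, 5, 3, 2, 6],
  [3, 5, 3, 2, 4, 4],
  [2, 0, 4, 0, 2, 3, 1, 1],
  [1, 3, 2, 2, 3, 5, 3, 6, 3, 4],
  [1, 1, 0, 2, 0, 2],
  [2, 3, 6, 2, 2, 0, 1],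
  [1, 1, 0, 2, 0, 5],
  [3, 2, 0, 0, 5, 3, 2, 0],
  [6, 2, 3, 2, 3, 2, 3],
  [4, 4, 0, 5, 3, 1, 3, 5],
  [4, 4, 0, 2, 2, 0, 0, 4],
  [2, 3, 5, 5, 0, 0, 2, 3, 1],
  [0, 2, 3, 5, 0, 2, 1, 3],
  [5, 0, 5, 0, 5, 0, 6, 4],
  [4, 0, 4, 5, 3, 5, 6],
  [3, 2, 0, 0, 0, 5, 5, 3],
  [0, 5, 5, 0, 5, 6, 2, 3],
  [6, 4, 0, 2, 3, 2, 4, 0],
  [4, 1, 5],
  [2, 1, 3, 6, 2, 3, 2, 3],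
  [6, 3, 2, 0, 5, 3, 3, 5],
  [5, 0, 4, 0, 2, 3, 1, 1],
  [1, 3, 4, 5, 5, 3, 5, 0],
  [1, 1, 0, 5, 1, 0, 5, 3],
  [0, 5, 3, 4, 6, 5, 0, 5],
  [1, 3, 1, 2, 0, 5, 0, 2, 4],
  [0, 4, 0, 2, 3, 1, 1],
  [1, 1, 2, 0, 2, 0],
  [3, 1, 3, 5, 6, 0, 0],
  [1, 1, 0, 2, 0, 2, 2],
  [3, 3, 5, 5, 3, 4, 2, 3, 3],
  [4, 2, 0, 2, 0, 0, 5, 0, 5],
  [2, 3, 5, 0, 6, 2, 2, 0],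
  [6, 1, 0, 2, 3, 5, 0, 0],
  [1, 3, 6, 2, 3, 2, 3],
  [5, 1, 1, 0, 2, 0, 2],
  [0, 2, 1, 0, 2, 0, 0, 4, 6],
  [4, 0, 2, 4, 0, 5, 0, 4, 0],
  [2, 0, 0, 4, 2, 2, 3, 1],
  [1, 3, 5, 5, 3, 4, 5, 3, 1, 5],
  [5, 0, 5, 6, 3, 4, 5, 0],
  [4, 3, 2, 3, 5, 3, 6, 3, 2],
  [5, 3, 3, 5, 4, 0, 2, 6],
  [3, 2, 3, 6, 5, 3, 3, 4],
  [3, 5, 5, 6, 3, 2, 0, 2],
  [0, 6, 2, 3, 5, 5, 3, 5, 3, 4],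
  [3, 5, 5, 1, 0, 5, 3],
  [6, 2, 3, 2, 3, 2, 3, 2],
  [1, 0, 0, 2, 6, 3, 5, 3, 5, 1],
  [1, 0, 1, 6, 2, 3, 1],
  [6, 2, 0, 2, 1, 3, 1],
  [0, 0, 2, 3, 5, 0, 6],
  [1, 3, 3, 5, 6, 3, 2, 2, 0],
  [1, 0, 2, 6, 1, 3, 3],
  [4, 0, 5, 5, 1, 3, 3, 2],
  [5, 5, 3, 5, 3, 4, 4],
  [0, 5, 0, 5, 6, 0, 4],
  [6, 5, 5, 3, 3, 5, 3],
  [0, 0, 4, 2, 2, 3, 1],
  [5, 3, 5, 0, 6, 2, 2, 0],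
  [3, 5, 0, 2, 0, 5, 5, 3, 5],
  [2, 3, 5, 5, 6, 3, 2, 0],
  [2, 2]]

theorem levelA1 : levelOK 275 7 gtab [0] 1 orbA1 wordsA1 = true := by decide +kernel

theorem nodupA1 : orbA1.Nodup := by decide +kernel

theorem stepA1 : 162 * Nat.card (stabL Agen [0, 1]) ≤ Nat.card (stabL Agen [0]) := by
  have h := card_stabL_ge Agen [0] (b := 1) (by norm_num) orbA1 nodupA1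
    (level_spec gens_tab (fun k hk => gens_mem_A hk) (by decide) (by norm_num) levelA1)
  have e : orbA1.length = 162 := by decide
  rw [e] at h
  exact h

def orbA2 : List ℕ := [2, 3, 4, 5, 6, 7, 8, 9, 10, 11, 12, 13, 14, 15, 16, 17, 18, 19, 20, 21, 31, 35, 52, 71, 82, 102, 105, 107, 110, 112, 115, 116, 119, 122, 125, 126, 127, 132, 139, 142, 143, 144, 146, 148, 150, 151, 154, 159, 162, 163, 166, 167, 169, 172, 173, 175, 176, 177, 180, 182, 185, 186, 190, 192, 194, 196, 197, 198, 200, 202, 206, 208, 211, 212, 215, 216, 217, 223, 224, 225, 229, 230, 231, 236, 237, 238, 240, 241, 243, 246, 248, 249, 251, 254, 257, 258, 261, 264, 265, 266, 268, 270, 271, 272, 273]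

def wordsA2 : List (List ℕ) := [[],
  [4, 5, 3, 6, 2, 0, 2, 3, 3, 2, 2, 0],
  [3, 4, 5, 0, 2, 2, 0, 4, 2, 0, 4],
  [3, 2, 0, 2, 3, 5, 0, 4, 0],
  [0, 0, 5, 3, 3, 3, 5, 0, 5, 6, 2],
  [1, 3, 5, 6, 2, 3, 2, 4, 3, 5, 5],
  [6, 5, 5, 0, 2, 2, 0, 0, 5, 1, 3],
  [0, 5, 5, 3, 2, 0, 0, 2, 0, 6, 5],
  [5, 6, 2, 3, 2, 0, 0, 0, 2, 3, 3],
  [0, 5, 3, 5, 5, 3, 4, 5, 5, 3, 3, 2],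
  [3, 1, 3, 2, 0, 5, 3, 5, 0],
  [3, 2, 3, 3, 5, 5, 3, 3, 2, 2, 0],
  [2, 6, 3, 5, 3, 3, 5, 0, 2, 2, 3],
  [0, 5, 3, 3, 2, 4, 0, 5, 0, 1, 0],
  [4, 0, 5, 3, 5, 4, 3, 5, 4, 3, 5, 5],
  [3, 4, 3, 2, 3, 1, 5, 0, 0, 2, 3],
  [4, 0, 5, 3, 3, 2, 6, 0, 2, 2, 0, 2],
  [4, 4, 3, 2, 0, 5, 1, 3, 3, 5, 5, 0],
  [2, 4, 0, 2, 2, 6, 3, 5, 5, 3, 5, 5],
  [2, 3, 3, 5, 4, 3, 2, 3, 1, 2, 3, 6],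
  [5, 5, 3, 5, 5, 0, 0, 2, 3, 5, 1],
  [5, 0, 6, 5, 4, 4, 3, 2],
  [0, 2, 6, 3, 2, 1, 1, 3, 2, 0, 5, 0],
  [5, 4, 0, 2, 2, 3, 2, 2, 3, 2, 3, 1],
  [3, 2, 4, 0, 2, 2, 1, 0, 4, 2, 0, 0],
  [2, 3, 5, 5, 0, 4, 2, 3, 2, 2, 6],
  [5, 3, 3, 2, 3, 5, 3, 1, 3, 2],
  [1, 0, 2, 0, 2, 0, 2, 2, 2, 0, 5, 0],
  [4, 2, 2, 0, 2, 0, 2, 0, 2, 3, 4],
  [1, 1, 2, 0, 5, 3, 5, 3, 3, 5, 3, 4],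
  [3, 5, 0, 2, 0, 2, 0, 2, 2, 4, 3],
  [4, 0, 5, 0, 2, 0, 0, 5, 1, 0, 2, 2],
  [3, 3, 6, 2, 0, 2, 2, 0, 1, 2, 3, 2],
  [6, 3, 3, 2, 2, 0, 1, 2, 0, 4],
  [3, 5, 6, 2, 3, 5, 3, 2, 6, 0],
  [3, 5, 3, 6, 5, 0, 4, 5, 0, 4, 4, 5],
  [6, 0, 5, 4, 0, 5, 0, 1, 2, 0, 0, 5],
  [0, 0, 2, 1, 2, 3, 1, 2, 3, 6, 5],
  [2, 4, 3, 4, 5, 0, 2, 2, 0],
  [5, 6, 0, 1, 0, 2, 0, 5, 3, 5, 6, 0],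
  [4, 2, 2, 0, 2, 1, 3, 3, 6, 2, 3],
  [1, 2, 3, 5, 1, 0, 5, 4, 3, 1],
  [2, 0, 6, 5, 0, 1, 5, 0, 0, 2, 2],
  [3, 6, 5, 0, 2, 0, 5, 6, 2, 0],
  [0, 1, 2, 1, 3, 2, 2, 0, 2, 4, 3, 2, 0],
  [0, 5, 6, 0, 0, 4, 5, 3, 5, 5, 1],
  [4, 5, 3, 1, 2, 0, 1, 5, 0, 0, 5, 0, 4],
  [6, 5, 3, 2, 0, 4, 5, 3, 2, 6, 0],
  [6, 3, 5, 3, 3, 5, 0, 2, 2, 3, 2],
  [5, 4, 0, 5, 3, 3, 2, 3, 4, 4, 5, 5],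
  [2, 0, 5, 3, 5, 3, 4, 2, 2, 0, 4, 4],
  [4, 3, 5, 5, 3, 6, 2, 0, 5, 3, 6, 4],
  [3, 2, 0, 0, 5, 3, 3, 2, 0, 2, 0, 5],
  [2, 2, 0, 2, 4, 3, 2, 3, 1, 2, 2],
  [3, 3, 5, 1, 3, 4, 5, 5, 3, 1, 5, 0],
  [2, 2, 1, 3, 5, 5, 0, 4, 6, 5, 5, 3, 1],
  [3, 6, 5, 0, 2, 1, 3, 5, 0, 2, 6],
  [5, 0, 5, 5, 3, 2, 0, 0, 2, 0, 6],
  [3, 5, 5, 0, 0, 5, 3, 5, 6, 0, 2, 1],
  [3, 2, 3, 5, 5, 5, 3, 5, 3, 5, 3, 4],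
  [0, 5, 3, 4, 6, 3, 2, 0, 2, 3, 4],
  [2, 0, 5, 0, 5, 0, 0, 2, 1, 3, 1],
  [0, 0, 5, 0, 5, 3, 2, 0, 1, 2, 3, 3],
  [5, 0, 4, 0, 2, 0, 5, 0, 0, 2],
  [4, 2, 0, 5, 0, 5, 0, 2, 3, 1, 1],
  [1, 0, 5, 3, 5, 3, 5, 3, 5, 5, 1],
  [1, 3, 2, 2, 3, 5, 0, 2, 3, 2, 0],
  [0, 0, 2, 4, 0, 2, 0, 0, 1, 5, 0, 2],
  [0, 2, 3, 3, 2, 3, 5, 5, 3, 2],
  [4, 5, 6, 0, 5, 3, 5, 0, 6, 4, 5, 0],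
  [3, 5, 0, 5, 3, 2, 0, 5, 5, 0, 4],
  [1, 3, 2, 6, 0, 5, 0, 2, 2, 0, 6, 4],
  [2, 3, 2, 6, 0, 5, 3, 5, 3, 2, 3],
  [5, 5, 3, 3, 2, 4, 3, 2, 6, 3, 5],
  [6, 5, 5, 0, 2, 3, 2, 0, 0, 1, 5],
  [6, 2, 0, 2, 3, 3, 2, 3, 6, 2, 2, 0],
  [1, 3, 5, 4, 3, 5, 5, 0, 0, 6],
  [0, 4, 2, 0, 5, 1, 3, 2, 2, 0, 0, 5],
  [4, 5, 3, 6, 2, 0, 5, 5, 0, 0, 5, 0],
  [6, 2, 3, 5, 4, 3, 2, 1, 0, 5, 1, 3, 4],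
  [4, 0, 1, 2, 3, 4, 2, 0, 5, 4],
  [0, 2, 3, 3, 2, 6, 3, 1, 2, 3, 2],
  [1, 6, 3, 2, 0, 2, 1, 0, 5, 0, 0, 1],
  [0, 5, 0, 2, 0, 2, 3, 6, 5, 0, 5],
  [2, 0, 5, 5, 4, 3, 1, 5, 3, 5, 3, 5, 3],
  [0, 2, 4, 0, 1, 2, 0, 5, 1, 1, 3, 5],
  [3, 1, 2, 0, 2, 6, 5, 3, 4, 5, 0],
  [5, 0, 0, 2, 3, 3, 5, 3, 2, 0, 4, 4],
  [5, 0, 2, 2, 0, 5, 0, 0, 5, 3],
  [2, 4, 0, 4, 5, 0, 5, 0, 1, 5, 5, 3],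
  [2, 0, 2, 3, 5, 0, 0, 5, 5, 3, 1],
  [3, 2, 3, 3, 2, 2, 3, 5, 6, 0, 2, 1],
  [5, 5, 4, 0, 5, 0, 1, 5, 3, 5, 5],
  [2, 1, 2, 0, 1, 5, 3, 5, 5, 0, 5, 5, 3],
  [6, 5, 5, 0, 5, 1, 3, 2, 2, 0, 5],
  [2, 3, 2, 0, 0, 2, 2, 0, 0, 2, 0, 1, 2],
  [2, 3, 5, 0, 0, 2, 0, 0, 4, 5],
  [3, 5, 1, 0, 5, 5, 3, 2, 2, 0, 1, 1],
  [3, 5, 5, 3, 2, 1, 0, 1, 5],
  [1, 0, 5, 0, 0, 6, 5, 0, 2, 0, 2],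
  [0, 1, 5, 5, 3, 5, 3, 5, 3, 2, 0],
  [0, 5, 3, 5, 3, 3, 5, 5, 6, 3, 3, 4, 5],
  [1, 0, 5, 3, 5, 0, 6, 1, 0, 2, 3],
  [2, 1, 1, 3, 2, 1, 3, 2, 6, 0, 2, 0],
  [2, 2, 1, 1, 0, 5, 0, 0, 2, 3, 1, 2]]

theorem levelA2 : levelOK 275 7 gtab [0, 1] 2 orbA2 wordsA2 = true := by decide +kernel

theorem nodupA2 : orbA2.Nodup := by decide +kernel

theorem stepA2 : 105 * Nat.card (stabL Agen [0, 1, 2]) ≤ Nat.card (stabL Agen [0, 1]) := by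
  have h := card_stabL_ge Agen [0, 1] (b := 2) (by norm_num) orbA2 nodupA2
    (level_spec gens_tab (fun k hk => gens_mem_A hk) (by decide) (by norm_num) levelA2)
  have e : orbA2.length = 105 := by decide
  rw [e] at h
  exact h

def orbA3 : List ℕ := [3, 5, 6, 7, 8, 9, 10, 11, 12, 14, 15, 17, 18, 19, 20, 21, 105, 110, 116, 122, 126, 127, 132, 139, 143, 146, 151, 162, 166, 167, 169, 172, 175, 177, 180, 185, 192, 196, 197, 200, 202, 206, 211, 212, 216, 217, 223, 225, 230, 236, 238, 241, 243, 246, 248, 251, 254, 258, 261, 265, 266, 270, 271, 272]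

def wordsA3 : List (List ℕ) := [[],
  [5, 0, 5, 4, 0, 6, 5, 0, 0, 5, 3, 0, 2, 3, 4, 2, 2, 0, 4, 0, 5, 0, 5, 1, 3],
  [5, 5, 3, 4, 2, 3, 3, 5, 3, 2, 3, 1, 4, 0, 1, 5, 3, 2, 0, 1, 0, 5, 6, 0, 0, 5, 4, 3, 5, 1],
  [1, 0, 5, 3, 5, 0, 6, 1, 0, 2, 3, 3, 5, 5, 1, 0, 5, 3, 3, 1, 6, 3, 2, 3, 3, 6, 3, 5, 6],
  [2, 6, 5, 0, 6, 5, 4, 3, 3, 5, 0, 4, 3, 2, 0, 5, 6],
  [4, 0, 2, 2, 6, 1, 3, 2, 2, 0, 4, 5, 5, 3, 3, 6, 2, 0, 4, 0, 3, 2, 0, 2, 0, 2, 6, 0, 1, 2, 0],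
  [3, 6, 4, 3, 5, 3, 5, 3, 3, 0, 2, 4, 2, 3, 2, 0, 1, 0],
  [4, 3, 3, 2, 3, 4, 5, 3, 5, 0, 6, 4, 5, 6, 4, 0, 5, 0, 5, 5, 0, 6, 3, 4, 5, 3, 3, 5, 3, 2, 3],
  [3, 3, 2, 6, 5, 0, 2, 3, 4, 5, 3, 2, 1, 0, 5, 4],
  [5, 1, 3, 4, 2, 2, 1, 3, 5, 4, 6, 4, 3, 2, 2, 3, 2, 1],
  [6, 3, 5, 5, 0, 5, 6, 0, 2, 1, 2, 6, 3, 5, 0],
  [1, 0, 2, 0, 2, 0, 2, 2, 2, 0, 5, 0, 3, 5, 5, 1, 0, 5, 3, 3, 1, 5, 3, 5, 3, 5, 6],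
  [3, 6, 2, 6, 0, 2, 2, 2, 0, 4, 2, 3, 2, 1, 3, 5, 4],
  [2, 4, 6, 4, 0, 2, 3, 2, 1, 0, 5, 3, 2, 0, 1],
  [5, 3, 3, 2, 3, 5, 3, 1, 3, 2, 2, 2, 0, 5, 1, 0, 2, 1, 2, 2, 6, 0, 4],
  [3, 1, 0, 5, 5, 0, 5, 5, 4, 0, 5, 3, 2, 0, 4, 0, 6],
  [2, 3, 5, 5, 4, 3, 3, 5, 3, 5, 6, 2, 0, 5],
  [6, 5, 0, 5, 0, 5, 5, 0, 3, 2, 3, 5, 6, 3, 4, 4, 2, 3],
  [3, 5, 0, 2, 2, 3, 5, 3, 2, 3, 5, 0, 4, 4, 3, 6],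
  [4, 2, 0, 5, 3, 3, 2, 2, 0, 2, 2, 2, 3, 5, 3, 4, 4, 6, 3, 5, 4, 3, 3, 5, 3, 2, 3, 2],
  [0, 1, 6, 2, 0, 4, 2, 0, 0, 2, 3, 2, 2, 3, 1, 2, 0],
  [2, 1, 0, 6, 5, 0, 5, 0, 2, 3, 4, 4],
  [5, 5, 0, 5, 5, 0, 5, 5, 6, 2, 3, 2, 3, 1],
  [4, 2, 3, 5, 5, 0, 4, 5, 0, 5, 0, 2, 3, 2, 3, 2, 2],
  [6, 5, 5, 0, 5, 1, 3, 2, 2, 0, 5, 3, 5, 3, 2, 4, 4, 4, 0, 2, 2, 2, 1, 3, 3, 2, 1, 2, 4],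
  [4, 0, 2, 2, 3, 3, 2, 0, 5, 3, 5, 5, 3, 5, 3, 4, 5, 4, 0, 5, 3, 5, 0, 5, 3, 4, 5, 1, 0],
  [5, 0, 2, 2, 0, 5, 0, 0, 5, 3, 2, 3, 2, 6, 1, 0, 2, 3, 0, 6, 2, 2, 0, 1, 2, 0, 5, 5, 0, 1],
  [3, 5, 3, 3, 2, 4, 0, 6, 1, 5, 0, 5, 3, 5, 4],
  [3, 2, 3, 3, 2, 2, 3, 5, 6, 0, 2, 1, 1, 0, 0, 2, 6, 0, 5, 0, 6, 4, 4, 5, 0, 6, 2, 0, 5, 5],
  [6, 0, 2, 0, 5, 5, 1, 0, 6, 2, 0, 5, 4, 0, 4, 5],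
  [3, 2, 1, 0, 2, 6, 5, 3, 5, 4, 0, 2, 2, 3, 5, 3, 4, 4, 0, 0, 4, 5, 0, 4, 5, 5, 3, 3, 6, 5, 6, 3],
  [2, 4, 3, 4, 5, 0, 2, 2, 0, 3, 2, 1, 0, 6, 2, 3, 2, 3, 4, 3, 5, 3, 1, 2, 0, 0, 1, 2, 0, 4, 6],
  [0, 6, 5, 3, 2, 3, 6, 1, 5, 5, 5, 3, 5, 4, 0],
  [2, 1, 0, 5, 3, 6, 1, 3, 2, 3, 2, 3, 1, 6, 2, 0, 1],
  [1, 3, 5, 3, 5, 1, 0, 0, 2, 6, 0, 4, 4, 5, 0, 2, 1, 0],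
  [3, 5, 0, 5, 3, 2, 0, 5, 5, 0, 4, 1, 1, 0, 2, 0, 2, 2, 0, 5, 0, 2, 6, 0, 2, 3, 3, 1],
  [0, 2, 2, 4, 3, 2, 3, 2, 1, 3, 1, 5, 1, 2, 0, 2, 1, 3, 6, 3, 4, 0, 2, 6, 4, 0, 5, 5, 0],
  [3, 1, 3, 2, 0, 5, 3, 5, 0, 5, 3, 5, 3, 4, 4, 2, 4, 0, 5, 4, 3, 4, 6],
  [3, 1, 2, 0, 2, 2, 2, 4, 6, 0, 5, 0, 2, 6, 3],
  [3, 5, 1, 0, 1, 5, 1, 0, 2, 1, 1, 2, 3, 5, 6, 0, 0],
  [6, 2, 3, 5, 0, 1, 3, 2, 0, 0, 1, 2, 6, 3, 2, 6, 5],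
  [3, 2, 3, 5, 0, 4, 4, 5, 0, 6, 5, 3, 1, 1, 0, 2, 0, 2, 2, 3, 4, 2, 3, 2, 6, 3, 5, 3, 4, 5, 0],
  [0, 0, 5, 3, 3, 3, 5, 0, 5, 6, 2, 2, 3, 5, 3, 4, 5, 4, 3, 2, 3, 5, 5, 5, 3, 4, 5, 0, 1, 2, 6],
  [1, 1, 0, 6, 2, 0, 2, 0, 5, 5, 4, 3, 5, 1, 0],
  [3, 4, 2, 0, 1, 2, 2, 3, 5, 3, 5, 6, 3, 4, 4],
  [4, 2, 1, 0, 0, 2, 3, 2, 2, 2, 3, 6, 2, 3, 3, 2, 2, 3],
  [1, 2, 0, 2, 3, 2, 4, 6, 3, 1, 5, 0, 0, 2, 0],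
  [3, 3, 2, 3, 2, 3, 6, 2, 6, 4, 3, 1, 0, 2, 3, 4, 5],
  [4, 3, 5, 6, 4, 0, 5, 0, 5, 0, 4, 6, 0, 2, 3, 4, 5],
  [2, 3, 5, 0, 0, 4, 4, 2, 3, 4, 3, 5, 0, 2, 2, 0],
  [2, 2, 0, 1, 5, 0, 5, 6, 2, 0, 4, 2, 0, 0, 2, 3, 5, 0, 6, 0, 4, 5, 3, 1, 1, 1, 5, 5, 1, 0],
  [2, 4, 6, 0, 2, 0, 2, 1, 6, 0, 0, 5, 4, 3, 5, 6, 3, 5, 0],
  [2, 3, 4, 0, 5, 5, 0, 2, 6, 5, 0, 0, 4, 5, 0],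
  [3, 2, 0, 6, 5, 4, 5, 3, 6, 2, 3, 2, 2, 0, 6],
  [3, 2, 0, 6, 2, 0, 1, 2, 3, 3, 6, 4, 5, 3, 5, 3, 6, 1, 5],
  [1, 3, 2, 2, 3, 5, 0, 2, 3, 2, 0, 4, 5, 3, 2, 2, 2, 0, 6, 3, 2, 3, 2, 0, 2, 3, 5, 4],
  [3, 2, 1, 3, 3, 2, 6, 5, 3, 2, 2, 3, 1, 0, 5],
  [4, 3, 5, 0, 2, 3, 4, 5, 0, 5, 3, 1, 6, 1, 5],
  [4, 0, 1, 2, 3, 4, 2, 0, 5, 4, 0, 0, 2, 3, 2, 0, 1, 4, 3, 3, 2, 1, 2, 2, 3, 3, 2, 3],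
  [4, 0, 4, 5, 3, 3, 2, 3, 2, 3, 5, 3, 1, 5, 0, 5, 3, 1, 6, 6, 3, 4, 0, 2, 3, 4, 3, 2],
  [2, 3, 5, 5, 6, 3, 2, 0, 0, 2, 0, 1, 0, 2, 2, 1, 0, 1],
  [4, 5, 0, 5, 5, 0, 1, 6, 1, 2, 0, 4, 5, 5, 1, 0, 4, 2],
  [5, 0, 5, 4, 0, 6, 5, 0, 0, 5, 3, 4, 0, 4, 5, 3, 5, 6, 0, 2, 2, 0, 5, 5, 1, 3, 4],
  [1, 1, 0, 5, 3, 2, 3, 2, 6, 3, 4, 5]]

theorem levelA3 : levelOK 275 7 gtab [0, 1, 2] 3 orbA3 wordsA3 = true := by decide +kernel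

theorem nodupA3 : orbA3.Nodup := by decide +kernel

theorem stepA3 : 64 * Nat.card (stabL Agen [0, 1, 2, 3]) ≤ Nat.card (stabL Agen [0, 1, 2]) := by
  have h := card_stabL_ge Agen [0, 1, 2] (b := 3) (by norm_num) orbA3 nodupA3
    (level_spec gens_tab (fun k hk => gens_mem_A hk) (by decide) (by norm_num) levelA3)
  have e : orbA3.length = 64 := by decide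
  rw [e] at h
  exact h

def orbA4 : List ℕ := [4, 13, 16, 144, 215, 229]

def wordsA4 : List (List ℕ) := [[],
  [3, 2, 1, 3, 3, 2, 6, 5, 3, 2, 2, 3, 1, 0, 5, 5, 5, 3, 3, 2, 4, 3, 2, 6, 3, 5, 0, 4, 5, 3, 2, 0, 5, 3, 6, 4, 4, 0, 2, 1, 2, 6, 0, 5, 0, 0],
  [1, 1, 0, 6, 2, 0, 2, 0, 5, 5, 4, 3, 5, 1, 0, 4, 2, 2, 0, 2, 0, 2, 0, 2, 3, 4, 4, 3, 5, 0, 5, 3, 3, 3, 3, 1, 5, 1, 3, 3, 4, 5, 6, 2],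
  [2, 1, 0, 6, 5, 0, 5, 0, 2, 3, 4, 4, 6, 5, 3, 2, 0, 4, 5, 3, 2, 6, 0, 3, 1, 5, 0, 5, 3, 2, 6, 3, 2, 4, 0, 5, 0, 1, 2, 1, 6],
  [6, 3, 5, 5, 0, 5, 6, 0, 2, 1, 2, 6, 3, 5, 0, 2, 2, 0, 2, 2, 0, 6, 5, 5, 3, 1, 5, 5, 3, 5, 3, 4, 4, 2, 3, 6, 5, 0, 0, 2, 0, 4, 6, 5, 1, 3, 6],
  [2, 6, 5, 0, 6, 5, 4, 3, 3, 5, 0, 4, 3, 2, 0, 5, 6, 0, 5, 3, 3, 2, 4, 0, 5, 0, 1, 0, 0, 0, 4, 6, 5, 3, 4, 3, 6, 5, 0, 4, 6, 5, 3, 4, 0, 6]]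

theorem levelA4 : levelOK 275 7 gtab [0, 1, 2, 3] 4 orbA4 wordsA4 = true := by decide +kernel

theorem nodupA4 : orbA4.Nodup := by decide +kernel

theorem stepA4 : 6 * Nat.card (stabL Agen [0, 1, 2, 3, 4]) ≤ Nat.card (stabL Agen [0, 1, 2, 3]) := by
  have h := card_stabL_ge Agen [0, 1, 2, 3] (b := 4) (by norm_num) orbA4 nodupA4
    (level_spec gens_tab (fun k hk => gens_mem_A hk) (by decide) (by norm_num) levelA4)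
  have e : orbA4.length = 6 := by decide
  rw [e] at h
  exact h

theorem card_Agen_ge : 1796256000 ≤ Nat.card Agen := by
  have h0 := stepA0
  have h1 := stepA1
  have h2 := stepA2
  have h3 := stepA3
  have h4 := stepA4
  have hp : 1 ≤ Nat.card (stabL Agen [0, 1, 2, 3, 4]) := Nat.card_pos
  rw [stabL_nil] at h0
  omega


end Cfsg.Agent.Lib.Helper35.McL
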