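import Mathlib
import Cfsg.Prelude.Def_KGroupFacts
import Cfsg.Agent.Lib.Helper35.McLCent
import Cfsg.Agent.Lib.Helper35.McLGen
import Cfsg.Agent.Lib.Helper35.McLBridge
import Cfsg.Agent.Lib.Helper10.AutNorm

/-! The outer automorphism group of the McLaughlin group has order 2. -/

set_option autoImplicit false
set_option maxRecDepth 100000
set_option maxHeartbeats 4000000

namespace Cfsg.Agent.Lib.Helper35.McL

open Cfsg
open Cfsg.Agent.Lib.Helper35.StSearch Cfsg.Agent.Lib.Helper35.GraphTab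

/-! ### Orders -/

theorem Hgen_le_A : Hgen ≤ A := by
  unfold Hgen
  rw [Subgroup.closure_le]
  intro x hx
  simp only [Set.mem_insert_iff, Set.mem_singleton_iff] at hx
  rcases hx with rfl | rfl | rfl
  exacts [aE_mem, mE_mem, zE_mem]

theorem Agen_le_A : Agen ≤ A := by
  unfold Agen
  rw [Subgroup.closure_le]
  intro x hx
  simp only [Set.mem_insert_iff, Set.mem_singleton_iff] at hx
  rcases hx with rfl | rfl | rfl | rfl
  exacts [aE_mem, mE_mem, zE_mem, bE_mem]

theorem card_A : Nat.card A = 1796256000 := by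
  apply le_antisymm card_A_le
  exact card_Agen_ge.trans (Subgroup.card_le_of_le Agen_le_A)

/-- The image of the stabiliser inside the group `A`. -/
noncomputable def KM : Subgroup ↥A := Mimg.subgroupOf A

theorem card_KM : Nat.card KM = 898128000 := by
  rw [← card_Mimg]
  exact Nat.card_congr (Subgroup.subgroupOfEquivOfLe Mimg_le).toEquiv

theorem index_KM : KM.index = 2 := by
  have h := KM.card_mul_index
  rw [card_KM] at h
  have h2 : Nat.card ↥A = 1796256000 := card_A
  rw [h2] at h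
  omega

instance KM_normal : KM.Normal := Subgroup.normal_of_index_eq_two index_KM

theorem odd_mem {x : Equiv.Perm (Fin 275)} (hx : x ∈ A) (k : ℕ) (h : x ^ (2 * k + 1) = 1) :
    x ∈ Mimg := by
  have h1 : ((⟨x, hx⟩ : ↥A) ^ (k + 1)) ^ 2 ∈ KM := Subgroup.sq_mem_of_index_two index_KM _
  have h2 : ((⟨x, hx⟩ : ↥A) ^ (k + 1)) ^ 2 = ⟨x, hx⟩ := by
    apply Subtype.ext
    show (x ^ (k + 1)) ^ 2 = x
    rw [← pow_mul, show (k + 1) * 2 = (2 * k + 1) + 1 by ring, pow_succ, h, one_mul]
  rw [h2] at h1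
  exact Subgroup.mem_subgroupOf.mp h1

theorem Hgen_le_Mimg : Hgen ≤ Mimg := by
  unfold Hgen
  rw [Subgroup.closure_le]
  intro x hx
  simp only [Set.mem_insert_iff, Set.mem_singleton_iff] at hx
  rcases hx with rfl | rfl | rfl
  · exact odd_mem aE_mem 5 aE_pow
  · exact odd_mem mE_mem 2 mE_pow
  · exact odd_mem zE_mem 2 zE_pow

theorem Hgen_eq_Mimg : Hgen = Mimg := by
  apply Subgroup.eq_of_le_of_card_ge Hgen_le_Mimg
  rw [card_Mimg]
  exact card_Hgen_ge

theorem card_Hgen : Nat.card Hgen = 898128000 := by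
  rw [Hgen_eq_Mimg, card_Mimg]

theorem bE_notMem : bE ∉ Hgen := by
  intro h
  have h1 : Agen ≤ Hgen := by
    unfold Agen
    rw [Subgroup.closure_le]
    intro x hx
    simp only [Set.mem_insert_iff, Set.mem_singleton_iff] at hx
    rcases hx with rfl | rfl | rfl | rfl
    · exact Subgroup.subset_closure (by simp)
    · exact Subgroup.subset_closure (by simp)
    · exact Subgroup.subset_closure (by simp)
    · exact h
  have h2 := Subgroup.card_le_of_le h1
  have h3 := card_Agen_ge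
  rw [card_Hgen] at h2
  omega

theorem conj_mem_Hgen {g x : Equiv.Perm (Fin 275)} (hg : g ∈ A) (hx : x ∈ Hgen) :
    g * x * g⁻¹ ∈ Hgen := by
  rw [Hgen_eq_Mimg] at hx ⊢
  have hxA : x ∈ A := Mimg_le hx
  have h1 : (⟨x, hxA⟩ : ↥A) ∈ KM := Subgroup.mem_subgroupOf.mpr hx
  have h2 := KM_normal.conj_mem _ h1 ⟨g, hg⟩
  exact Subgroup.mem_subgroupOf.mp h2

/-! ### The generators as elements of the subgroup -/

def a' : Hgen := ⟨aE, Subgroup.subset_closure (by simp)⟩
def m' : Hgen := ⟨mE, Subgroup.subset_closure (by simp)⟩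
def z' : Hgen := ⟨zE, Subgroup.subset_closure (by simp)⟩

/-- The centraliser of `aE` meets the subgroup in the powers of `aE`. -/
theorem cent_a' (x : Hgen) (h : x * a' = a' * x) : x ∈ Subgroup.zpowers a' := by
  have h1 : x.1 * aE = aE * x.1 := congrArg Subtype.val h
  obtain ⟨i, -, e, he, hx⟩ := cent_a x.1 (Hgen_le_A x.2) h1
  interval_cases e
  · rw [pow_zero, mul_one] at hx
    refine ⟨(i : ℤ), ?_⟩
    apply Subtype.ext
    rw [hx]
    simp [a']
  · exfalso
    apply bE_notMem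
    have : bE = (aE ^ i)⁻¹ * x.1 := by rw [hx, pow_one]; group
    rw [this]
    exact Hgen.mul_mem (Hgen.inv_mem (Hgen.pow_mem a'.2 i)) x.2

/-- The words of the two order tests, with letter `e` in place of the first generator. -/
def wT1 (e i j : ℕ) : List ℕ :=
  (List.replicate 10 ([e] ++ List.replicate i 1 ++ List.replicate j 2)).flatten

def wT2 (e i j : ℕ) : List ℕ :=
  (List.replicate 9 ([e, e, 1] ++ List.replicate i 1 ++ List.replicate j 2)).flatten

/-- The two order tests, on the vertex 0. -/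
def testOK (e i j : ℕ) : Bool :=
  (weval gtab (wT1 e i j) 0 == 0) && (weval gtab (wT2 e i j) 0 == 0)

theorem tests_pos : ∀ i < 5, ∀ j < 5, testOK 0 i j = true → (i = 0 ∧ j = 1) ∨ (i = 1 ∧ j = 4) := by
  decide +kernel

theorem tests_neg : ∀ i < 5, ∀ j < 5, testOK 3 i j = true → False := by
  decide +kernel

theorem rel_t1' : (a' * z') ^ 10 = 1 := Subtype.ext rel_t1

theorem rel_t2' : (a' * a' * m' * z') ^ 9 = 1 := Subtype.ext rel_t2

theorem wprod_wT1 (e i j : ℕ) :
    wprod gens (wT1 e i j) = (gens e * (mE ^ i * zE ^ j)) ^ 10 := by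
  unfold wT1
  rw [wprod_flatten_replicate, wprod_append, wprod_append, wprod_replicate, wprod_replicate,
    wprod_singleton, mul_assoc]
  rfl

theorem wprod_wT2 (e i j : ℕ) :
    wprod gens (wT2 e i j) = (gens e * gens e * mE * (mE ^ i * zE ^ j)) ^ 9 := by
  unfold wT2
  rw [wprod_flatten_replicate, wprod_append, wprod_append, wprod_replicate, wprod_replicate]
  have : wprod gens [e, e, 1] = gens e * gens e * mE := by
    simp [wprod, mul_assoc]
    rfl
  rw [this, mul_assoc (gens e * gens e * mE)]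
  rfl

/-- The image of the third generator under an automorphism fixing the second. -/
theorem image_z (θ : Hgen ≃* Hgen) (hm : θ m' = m') :
    ∃ i < 5, ∃ j < 5, (θ z').1 = mE ^ i * zE ^ j := by
  have hcomm : (θ z').1 * mE = mE * (θ z').1 := by
    have h1 : θ (z' * m') = θ (m' * z') := by
      rw [show z' * m' = m' * z' from Subtype.ext rel_mz.symm]
    rw [map_mul, map_mul, hm] at h1
    exact congrArg Subtype.val h1
  obtain ⟨i, hi, j, hj, e, he, hx⟩ := cent_m _ (Hgen_le_A (θ z').2) hcomm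
  refine ⟨i, hi, j, hj, ?_⟩
  interval_cases e
  · rw [hx, pow_zero, mul_one]
  · exfalso
    apply bE_notMem
    have : bE = (mE ^ i * zE ^ j)⁻¹ * (θ z').1 := by rw [hx, pow_one]; group
    rw [this]
    exact Hgen.mul_mem (Hgen.inv_mem (Hgen.mul_mem (Hgen.pow_mem m'.2 i) (Hgen.pow_mem z'.2 j)))
      (θ z').2

theorem test_of_aut (θ : Hgen ≃* Hgen) (hm : θ m' = m') (e : ℕ) (ha : (θ a').1 = gens e)
    {i j : ℕ} (hz : (θ z').1 = mE ^ i * zE ^ j) : testOK e i j = true := by
  have t1 : (gens e * (mE ^ i * zE ^ j)) ^ 10 = 1 := by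
    have h1 : θ ((a' * z') ^ 10) = 1 := by rw [rel_t1', map_one]
    rw [map_pow, map_mul] at h1
    have := congrArg Subtype.val h1
    rw [← ha, ← hz]
    exact this
  have t2 : (gens e * gens e * mE * (mE ^ i * zE ^ j)) ^ 9 = 1 := by
    have h1 : θ ((a' * a' * m' * z') ^ 9) = 1 := by rw [rel_t2', map_one]
    rw [map_pow, map_mul, map_mul, map_mul, hm] at h1
    have := congrArg Subtype.val h1
    rw [← ha, ← hz]
    exact this
  unfold testOK
  rw [Bool.and_eq_true, beq_iff_eq, beq_iff_eq]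
  constructor
  · rw [← (ap_wprod gens_tab (wT1 e i j) (show 0 < 275 by norm_num)).1, wprod_wT1, t1, ap_one]
  · rw [← (ap_wprod gens_tab (wT2 e i j) (show 0 < 275 by norm_num)).1, wprod_wT2, t2, ap_one]

/-- An automorphism fixing the three generators is the identity. -/
theorem fix_gens (θ : Hgen ≃* Hgen) (ha : θ a' = a') (hm : θ m' = m') (hz : θ z' = z') :
    ∀ x, θ x = x := by
  have key : ∀ y ∈ Hgen, ∀ hy : y ∈ Hgen, θ ⟨y, hy⟩ = ⟨y, hy⟩ := by
    intro y hy
    unfold Hgen at hy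
    induction hy using Subgroup.closure_induction with
    | mem y hy' =>
      intro hy
      simp only [Set.mem_insert_iff, Set.mem_singleton_iff] at hy'
      rcases hy' with rfl | rfl | rfl
      exacts [ha, hm, hz]
    | one => intro _; exact map_one θ
    | mul y w hy' hw' ihy ihw =>
      intro hyw
      have hy : y ∈ Hgen := hy'
      have hw : w ∈ Hgen := hw'
      have : (⟨y * w, hyw⟩ : Hgen) = ⟨y, hy⟩ * ⟨w, hw⟩ := rfl
      rw [this, map_mul, ihy hy, ihw hw]
    | inv y hy' ihy =>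
      intro hyi
      have hy : y ∈ Hgen := hy'
      have : (⟨y⁻¹, hyi⟩ : Hgen) = (⟨y, hy⟩ : Hgen)⁻¹ := rfl
      rw [this, map_inv, ihy hy]
  intro x
  exact key x.1 x.2 x.2

/-! ### The outer automorphism -/

/-- Conjugation by the involution outside the subgroup. -/
def βH : Hgen ≃* Hgen where
  toFun x := ⟨bE * x.1 * bE⁻¹, conj_mem_Hgen bE_mem x.2⟩
  invFun x := ⟨bE * x.1 * bE⁻¹, conj_mem_Hgen bE_mem x.2⟩
  left_inv x := by
    apply Subtype.ext
    show bE * (bE * x.1 * bE⁻¹) * bE⁻¹ = x.1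
    rw [bE_inv]
    calc bE * (bE * x.1 * bE) * bE = (bE * bE) * x.1 * (bE * bE) := by group
      _ = x.1 := by rw [bE_sq, one_mul, mul_one]
  right_inv x := by
    apply Subtype.ext
    show bE * (bE * x.1 * bE⁻¹) * bE⁻¹ = x.1
    rw [bE_inv]
    calc bE * (bE * x.1 * bE) * bE = (bE * bE) * x.1 * (bE * bE) := by group
      _ = x.1 := by rw [bE_sq, one_mul, mul_one]
  map_mul' x y := by
    apply Subtype.ext
    show bE * (x.1 * y.1) * bE⁻¹ = (bE * x.1 * bE⁻¹) * (bE * y.1 * bE⁻¹)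
    group

theorem βH_apply (x : Hgen) : ((βH x : Hgen) : Equiv.Perm (Fin 275)) = bE * x.1 * bE⁻¹ := rfl

theorem βH_a : βH a' = a' := by
  apply Subtype.ext
  rw [βH_apply]
  show bE * aE * bE⁻¹ = aE
  rw [rel_ba, mul_inv_cancel_right]

theorem βH_m : βH m' = m' := by
  apply Subtype.ext
  rw [βH_apply]
  show bE * mE * bE⁻¹ = mE
  rw [rel_bm, mul_inv_cancel_right]

theorem βH_z : (βH z').1 = mE ^ 1 * zE ^ 4 := by
  rw [βH_apply, bE_inv, pow_one]
  exact rel_bz

theorem βH_βH (x : Hgen) : βH (βH x) = x := βH.left_inv x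

/-- The check that `aE ^ i * bE ^ e` does not commute with `zE`, on the vertex 0. -/
def centOK (i e : ℕ) : Bool :=
  weval gtab (List.replicate i 0 ++ List.replicate e 6 ++ [2]) 0 ==
    weval gtab ([2] ++ List.replicate i 0 ++ List.replicate e 6) 0

theorem centCheck : ∀ i < 11, ∀ e < 2, centOK i e = true → i = 0 ∧ e = 0 := by
  decide +kernel

theorem βH_not_inner : ¬ ∃ k : Hgen, ∀ x, βH x = k * x * k⁻¹ := by
  rintro ⟨k, hk⟩
  -- `c = k⁻¹ b` centralises the subgroup
  have hc : ∀ x : Hgen, (k.1⁻¹ * bE) * x.1 = x.1 * (k.1⁻¹ * bE) := by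
    intro x
    have h1 := congrArg Subtype.val (hk x)
    rw [βH_apply] at h1
    have h3 : bE * x.1 * bE⁻¹ = k.1 * x.1 * k.1⁻¹ := h1
    have h4 : bE * x.1 = k.1 * x.1 * k.1⁻¹ * bE := by rw [← h3]; group
    calc k.1⁻¹ * bE * x.1 = k.1⁻¹ * (bE * x.1) := by group
      _ = k.1⁻¹ * (k.1 * x.1 * k.1⁻¹ * bE) := by rw [h4]
      _ = x.1 * (k.1⁻¹ * bE) := by group
  have hcA : k.1⁻¹ * bE ∈ A := A.mul_mem (A.inv_mem (Hgen_le_A k.2)) bE_mem
  obtain ⟨i, hi, e, he, hx⟩ := cent_a _ hcA (hc a')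
  have hz := hc z'
  rw [hx] at hz
  have hid : centOK i e = true := by
    unfold centOK
    rw [beq_iff_eq, ← (ap_wprod gens_tab _ (show 0 < 275 by norm_num)).1,
      ← (ap_wprod gens_tab _ (show 0 < 275 by norm_num)).1]
    congr 1
    rw [wprod_append, wprod_append, wprod_append, wprod_append, wprod_replicate, wprod_replicate,
      wprod_singleton]
    exact hz
  obtain ⟨rfl, rfl⟩ := centCheck i hi e he hid
  rw [pow_zero, pow_zero, mul_one] at hx
  apply bE_notMem
  have : bE = k.1 := by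
    have : k.1 * (k.1⁻¹ * bE) = k.1 * 1 := by rw [hx]
    rwa [mul_inv_cancel_left, mul_one] at this
  rw [this]
  exact k.2

theorem zmod_gen : ∀ t : ZMod 11, t ≠ 0 →
    ∃ s : ℕ, t * ((3 : ℕ) : ZMod 11) ^ s = 1 ∨ t * ((3 : ℕ) : ZMod 11) ^ s = -1 := by
  have h : ∀ t : ZMod 11, t ≠ 0 →
      ∃ s < 5, t * ((3 : ℕ) : ZMod 11) ^ s = 1 ∨ t * ((3 : ℕ) : ZMod 11) ^ s = -1 := by decide
  intro t ht
  obtain ⟨s, -, hs⟩ := h t ht
  exact ⟨s, hs⟩

theorem zmod_q : ((6 : ℕ) : ZMod 11) * (((3 : ℕ) : ZMod 11) - 1) = 1 := by decide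

/-- Every automorphism of the subgroup is inner or inner times `βH`. -/
theorem all_aut (φ : Hgen ≃* Hgen) :
    (∃ k : Hgen, ∀ x, φ x = k * x * k⁻¹) ∨ (∃ k : Hgen, ∀ x, φ x = k * βH x * k⁻¹) := by
  have : Fact (Nat.Prime 11) := ⟨by norm_num⟩
  have ha : orderOf a' = 11 := by
    apply orderOf_eq_prime
    · exact Subtype.ext aE_pow
    · intro h
      exact aE_ne_one (congrArg Subtype.val h)
  have hm : m' * a' * m'⁻¹ = a' ^ 3 := Subtype.ext rel_ma
  obtain ⟨ψ, ⟨k0, hk0⟩, hψa, hψm⟩ :=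
    Cfsg.Agent.Lib.Helper10.aut_normalize_r a' m' 11 81648000 3 6 (by rw [card_Hgen])
      (by norm_num) ha hm zmod_gen zmod_q cent_a' φ
  have hφ : ∀ x, φ x = k0⁻¹ * ψ x * k0⁻¹⁻¹ := by
    intro x
    rw [hk0 x]
    group
  obtain ⟨i, hi, j, hj, hz⟩ := image_z ψ hψm
  rcases hψa with hψa | hψa
  · have htest := test_of_aut ψ hψm 0 (by rw [hψa]; rfl) hz
    rcases tests_pos i hi j hj htest with ⟨rfl, rfl⟩ | ⟨rfl, rfl⟩
    · left
      refine ⟨k0⁻¹, fun x => ?_⟩
      have hz1 : ψ z' = z' := by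
        apply Subtype.ext
        rw [hz, pow_zero, one_mul, pow_one]
        rfl
      rw [hφ x, fix_gens ψ hψa hψm hz1 x]
    · right
      refine ⟨k0⁻¹, fun x => ?_⟩
      have h1 : ∀ y, (ψ.trans βH) y = y := by
        apply fix_gens
        · show βH (ψ a') = a'
          rw [hψa, βH_a]
        · show βH (ψ m') = m'
          rw [hψm, βH_m]
        · show βH (ψ z') = z'
          have e : ψ z' = βH z' := by
            apply Subtype.ext
            rw [hz, βH_z]
          rw [e, βH_βH]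
      have h2 : ψ x = βH x := by
        have h3 : βH (ψ x) = x := h1 x
        exact βH.injective (h3.trans (βH_βH x).symm)
      rw [hφ x, h2]
  · exfalso
    have htest := test_of_aut ψ hψm 3 (by rw [hψa]; rfl) hz
    exact tests_neg i hi j hj htest

theorem card_out_Hgen : Nat.card (Cfsg.Out ↥Hgen) = 2 :=
  Cfsg.Agent.Lib.Helper10.card_out_eq_two βH βH_not_inner all_aut

/-- Outer automorphism groups of isomorphic groups have the same order. -/
theorem card_out_congr_mcl {G G' : Type*} [Group G] [Group G'] (e : G ≃* G') :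
    Nat.card (Cfsg.Out G) = Nat.card (Cfsg.Out G') := by
  have h : (Cfsg.Inn G).map (MulAut.congr e).toMonoidHom = Cfsg.Inn G' := by
    ext β
    constructor
    · rintro ⟨_, ⟨g, rfl⟩, rfl⟩
      refine ⟨e g, ?_⟩
      apply MulEquiv.ext
      intro x
      simp [MulAut.congr]
    · rintro ⟨g', rfl⟩
      refine ⟨MulAut.conj (e.symm g'), ⟨_, rfl⟩, ?_⟩
      apply MulEquiv.ext
      intro x
      simp [MulAut.congr]
  exact Nat.card_congr (QuotientGroup.congr _ _ (MulAut.congr e) h).toEquiv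

theorem card_out_McL : Nat.card (Cfsg.Out ↥Cfsg.Spor.McL) = 2 := by
  obtain ⟨e⟩ := McL_iso_Mimg
  rw [card_out_congr_mcl (e.trans (MulEquiv.subgroupCongr Hgen_eq_Mimg.symm))]
  exact card_out_Hgen

end Cfsg.Agent.Lib.Helper35.McL
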