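import Cfsg.Agent.S5613
import Cfsg.Agent.S0381

/-!
The restriction of the stabiliser of an octad to the octad: a group homomorphism to the symmetric
group of the octad, with kernel the pointwise stabiliser (of order 16) and image of order 20160,
hence equal to the alternating group.
-/

set_option autoImplicit false

namespace Cfsg.Agent.Lib.Helper35

open Cfsg MulAction
open scoped Pointwise

theorem mem_iff_of_smul_eq {o : Finset GolayPt} {g : Equiv.Perm GolayPt} (hg : g • o = o)
    (x : GolayPt) : g x ∈ o ↔ x ∈ o := by
  constructor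
  · intro h
    rw [← hg] at h
    exact (Finset.smul_mem_smul_finset_iff g).mp h
  · intro h
    rw [← hg]
    exact Finset.smul_mem_smul_finset h

theorem smul_eq_of_mem_iff {o : Finset GolayPt} {g : Equiv.Perm GolayPt}
    (h : ∀ x, g x ∈ o ↔ x ∈ o) : g • o = o := by
  ext y
  rw [← Finset.inv_smul_mem_iff]
  have := h (g⁻¹ y)
  rw [Equiv.Perm.inv_def, Equiv.apply_symm_apply] at this
  rw [Equiv.Perm.smul_def, Equiv.Perm.inv_def]
  exact this.symm

/-- The stabiliser of `o` in `M24`, as a subgroup of the symmetric group. -/
abbrev octStab (o : Finset GolayPt) : Subgroup (Equiv.Perm GolayPt) :=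
  M24 ⊓ stabilizer (Equiv.Perm GolayPt) o

theorem octStab_smul {o : Finset GolayPt} (g : ↥(octStab o)) : (g : Equiv.Perm GolayPt) • o = o :=
  mem_stabilizer_iff.mp g.2.2

/-- Restriction to the octad. -/
def restr (o : Finset GolayPt) : ↥(octStab o) →* Equiv.Perm ↥o where
  toFun g := (g : Equiv.Perm GolayPt).subtypePerm (mem_iff_of_smul_eq (octStab_smul g))
  map_one' := by
    apply Equiv.ext
    intro x
    apply Subtype.ext
    rfl
  map_mul' a b := by
    apply Equiv.ext
    intro x
    apply Subtype.ext
    rfl

theorem restr_apply {o : Finset GolayPt} (g : ↥(octStab o)) (x : ↥o) :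
    ((restr o g) x : GolayPt) = (g : Equiv.Perm GolayPt) x := rfl

theorem mem_ker_restr {o : Finset GolayPt} (g : ↥(octStab o)) :
    g ∈ (restr o).ker ↔ (g : Equiv.Perm GolayPt) ∈ fixingSubgroup (Equiv.Perm GolayPt)
      (o : Set GolayPt) := by
  rw [MonoidHom.mem_ker, mem_fixingSubgroup_iff]
  constructor
  · intro h y hy
    have := congrArg (fun e : Equiv.Perm ↥o => ((e ⟨y, hy⟩ : ↥o) : GolayPt)) h
    simpa [restr_apply] using this
  · intro h
    apply Equiv.ext
    intro x
    apply Subtype.ext
    show (g : Equiv.Perm GolayPt) x = x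
    exact h x x.2

theorem ker_restr_map (o : Finset GolayPt) :
    (restr o).ker.map (octStab o).subtype =
      M24 ⊓ fixingSubgroup (Equiv.Perm GolayPt) (o : Set GolayPt) := by
  ext g
  rw [Subgroup.mem_map, Subgroup.mem_inf]
  constructor
  · rintro ⟨k, hk, rfl⟩
    exact ⟨k.2.1, (mem_ker_restr k).mp hk⟩
  · rintro ⟨h1, h2⟩
    have hst : g • o = o := by
      apply smul_eq_of_mem_iff
      intro x
      rw [mem_fixingSubgroup_iff] at h2
      constructor
      · intro hx
        by_contra hxo
        have h3 := h2 (g x) hx
        rw [Equiv.Perm.smul_def] at h3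
        exact hxo (by rw [← g.injective h3]; exact hx)
      · intro hx
        have := h2 x hx
        rw [Equiv.Perm.smul_def] at this
        rw [this]; exact hx
    refine ⟨⟨g, h1, mem_stabilizer_iff.mpr hst⟩, (mem_ker_restr _).mpr h2, rfl⟩

theorem card_ker_restr {o : Finset GolayPt} (ho : o ∈ octads) :
    Nat.card (restr o).ker = 16 := by
  rw [← Subgroup.card_map_of_injective (octStab o).subtype_injective, ker_restr_map]
  exact (Cfsg.Agent.S0381.result o ho).1

theorem card_range_restr {o : Finset GolayPt} (ho : o ∈ octads) :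
    Nat.card (restr o).range = 20160 := by
  have h1 := Subgroup.card_mul_index (restr o).ker
  rw [Subgroup.index_ker, card_ker_restr ho, Cfsg.Agent.S5613.card_octad_stab o ho] at h1
  omega

theorem range_restr_eq {o : Finset GolayPt} (ho : o ∈ octads) :
    (restr o).range = alternatingGroup ↥o := by
  apply Equiv.Perm.eq_alternatingGroup_of_index_eq_two
  have h1 := Subgroup.card_mul_index (restr o).range
  rw [card_range_restr ho, Nat.card_eq_fintype_card, Fintype.card_perm, Fintype.card_coe,
    ho.2] at h1
  have : Nat.factorial 8 = 40320 := by decide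
  rw [this] at h1
  omega

end Cfsg.Agent.Lib.Helper35
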