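import Cfsg.Agent.Lib.Helper35.M24Base

/-!
The stabiliser of the base octad in `M24`: it is transitive on the octads meeting the base octad
in a given number of points.  Consequence: two octads meeting a fixed octad in equally many points
are in the same orbit of its stabiliser.
-/

set_option autoImplicit false

namespace Cfsg.Agent.Lib.Helper35

open Cfsg
open Cfsg.Agent.Lib.Helper10 (idx pt idx_pt enc enc_mod genMask)
open scoped Pointwise

/-- The stabiliser of the base octad in `M24`. -/
def H0 : Subgroup (Equiv.Perm GolayPt) := M24 ⊓ MulAction.stabilizer (Equiv.Perm GolayPt) x0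

theorem H0_le : H0 ≤ M24 := inf_le_left

/-- Table of a generator of the stabiliser of the base octad. -/
def s1T : List ℕ := [0, 3, 7, 12, 10, 6, 17, 2, 14, 19, 4, 8, 1, 20, 13, 15, 5, 9, 11, 16, 18, 22, 23, 21]
/-- Inverse table. -/
def s1T' : List ℕ := [0, 12, 7, 1, 10, 16, 5, 2, 11, 17, 4, 18, 3, 14, 8, 15, 19, 6, 20, 9, 13, 23, 21, 22]
theorem s1_ok : TblOK s1T s1T' := by decide +kernel
/-- A generator of the stabiliser of the base octad. -/
def s1 : Equiv.Perm GolayPt := tblPerm s1T s1T' s1_ok
theorem s1_mem : s1 ∈ M24 := tblPerm_mem_M24 _ _ _ (by decide +kernel)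
theorem s1_models : Models gmask s1 (applyTbl s1T) := tblPerm_models _ _ _
theorem s1_fix : s1 • x0 = x0 := by
  apply gmask_injective
  rw [s1_models x0, gmask_x0]
  decide +kernel
theorem s1_memH : s1 ∈ H0 := ⟨s1_mem, s1_fix⟩

/-- Table of a generator of the stabiliser of the base octad. -/
def s2T : List ℕ := [7, 10, 3, 12, 1, 9, 23, 4, 15, 13, 0, 16, 2, 6, 19, 17, 21, 5, 20, 11, 14, 8, 22, 18]
/-- Inverse table. -/
def s2T' : List ℕ := [10, 4, 12, 2, 7, 17, 13, 0, 21, 5, 1, 19, 3, 9, 20, 8, 11, 15, 23, 14, 18, 16, 22, 6]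
theorem s2_ok : TblOK s2T s2T' := by decide +kernel
/-- A generator of the stabiliser of the base octad. -/
def s2 : Equiv.Perm GolayPt := tblPerm s2T s2T' s2_ok
theorem s2_mem : s2 ∈ M24 := tblPerm_mem_M24 _ _ _ (by decide +kernel)
theorem s2_models : Models gmask s2 (applyTbl s2T) := tblPerm_models _ _ _
theorem s2_fix : s2 • x0 = x0 := by
  apply gmask_injective
  rw [s2_models x0, gmask_x0]
  decide +kernel
theorem s2_memH : s2 ∈ H0 := ⟨s2_mem, s2_fix⟩

/-- The generator actions on masks. -/
def actsH : List (ℕ → ℕ) := [applyTbl s1T, applyTbl s2T]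

/-- The generators. -/
def gensH : List (Equiv.Perm GolayPt) := [s1, s2]

theorem gensH_models :
    List.Forall₂ (fun g act => g ∈ H0 ∧ Models gmask g act) gensH actsH :=
  List.Forall₂.cons ⟨s1_memH, s1_models⟩ (List.Forall₂.cons ⟨s2_memH, s2_models⟩ List.Forall₂.nil)

/-- Mask of the representative octad meeting the base octad in 4 points. -/
def r4m : ℕ := 10558
/-- The representative octad meeting the base octad in 4 points. -/
def r4 : Finset GolayPt := setOfMask r4m
theorem gmask_r4 : gmask r4 = r4m := gmask_setOfMask (by decide)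
theorem r4_mem : r4 ∈ octads := by
  rw [mem_octads_iff, gmask_r4]
  decide +kernel
/-- Orbit certificate for the octads meeting the base octad in 4 points. -/
def cert4 : List (ℕ × ℕ) := [(0, 1070536), (0, 421910), (0, 1060490), (0, 1839388), (0, 351362), (1, 3736597), (0, 4523185), (0, 8391797), (2, 0), (2, 0), (1, 2115979), (0, 4223245), (1, 4755660), (2, 0), (2, 0), (2, 0), (2, 0), (2, 0), (1, 1103886), (0, 307594), (1, 1217620), (1, 8536111), (1, 792232), (2, 0), (2, 0), (2, 0), (2, 0), (2, 0), (2, 0), (1, 95313), (0, 1188915), (0, 1312345), (0, 924689), (0, 69395), (2, 0), (2, 0), (1, 9465987), (0, 3416079), (2, 0), (1, 804052), (0, 208020), (2, 0), (1, 9963547), (0, 2430217), (2, 0), (2, 0), (2, 0), (2, 0), (2, 0), (1, 18147), (0, 663645), (0, 1250945), (0, 786999), (2, 0), (1, 2121909), (0, 5252293), (2, 0), (2, 0), (2, 0), (1, 8394986), (1, 8721940), (0, 2624690), (2, 0), (2, 0), (2, 0), (2, 0), (2, 0), (2, 0), (1, 11010247), (0, 6488205), (0, 12587685), (1, 4465308), (1, 5255258), (2, 0), (2, 0), (2, 0), (1,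 6295992), (0, 12604486), (0, 10625178), (2, 0), (2, 0), (1, 4231958), (1, 4367374), (2, 0), (2, 0), (2, 0), (2, 0), (1, 8654232), (0, 2120980), (1, 622863), (2, 0), (2, 0), (1, 1413139), (0, 298027), (2, 0), (2, 0), (2, 0), (2, 0), (2, 0), (2, 0), (1, 1573998), (0, 463064), (1, 11538486), (0, 6554826), (0, 12720156), (0, 10491778), (1, 304405), (0, 1100945), (2, 0), (2, 0), (2, 0), (1, 4526126), (1, 7345676), (2, 0), (2, 0), (2, 0), (1, 13636881), (0, 10765331), (0, 6302745), (2, 0), (1, 1836419), (2, 0), (2, 0), (1, 4505735), (0, 8431757), (0, 3182981), (2, 0), (2, 0), (2, 0), (2, 0), (2, 0), (1, 280334), (0, 555160), (1, 596054), (1, 10554382), (2, 0), (2, 0), (2, 0), (1, 1618953), (2, 0), (2, 0), (2, 0), (2, 0), (1, 8412681), (0, 2634003), (0, 5325835), (0, 8663097), (0, 3152963), (0, 4587803), (2, 0), (1, 8471941), (2, 0), (2, 0), (1, 1315526), (2, 0), (2, 0), (1, 6837377), (0, 12656663), (2, 0), (1, 4721045), (2, 0), (2, 0), (2, 0), (1, 36294), (0, 180636), (0, 63108), (2, 0), (2, 0), (2, 0), (2, 0), (1, 864389),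 (0, 1116327), (1, 2180760), (2, 0), (2, 0), (1, 3147996), (0, 4593028), (2, 0), (1, 8474906), (0, 2126890), (2, 0), (2, 0), (2, 0), (2, 0), (2, 0), (2, 0), (2, 0), (1, 8966165), (0, 2204803), (0, 5275709), (0, 8688833), (0, 2263063), (0, 4229001), (2, 0), (1, 198058), (0, 21116), (0, 668866), (2, 0), (2, 0), (2, 0), (2, 0), (1, 9830549), (0, 2363013), (1, 1122713), (0, 1332261), (2, 0), (2, 0), (2, 0), (1, 1327290), (1, 1594898), (2, 0), (2, 0), (2, 0), (2, 0), (1, 4346506), (0, 8925710), (0, 3739786), (2, 0), (1, 277580), (0, 1186194), (2, 0), (2, 0), (2, 0), (1, 4731956), (0, 9503954), (0, 2491452), (2, 0), (2, 0), (1, 4196943), (1, 12661896), (2, 0), (2, 0), (2, 0), (2, 0), (2, 0), (1, 2229713), (0, 4343317), (0, 8922769), (1, 272595), (2, 0), (2, 0), (1, 4726955), (0, 9506893), (1, 10768524), (0, 6305926), (1, 4261212), (1, 14716939), (2, 0), (2, 0), (2, 0), (2, 0), (2, 0), (1, 4202192), (0, 9045270), (2, 0), (2, 0), (2, 0), (2, 0), (1, 8421811), (0, 2147405), (0, 4370577), (2, 0), (1, 9048457), (1, 301236), (1, 1245726),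 (2, 0), (2, 0), (2, 0), (2, 0), (1, 427666), (2, 0), (2, 0), (2, 0), (2, 0), (1, 919694), (0, 72588), (0, 545190), (0, 90318), (0, 1192108), (2, 0), (1, 11015256), (2, 0), (2, 0), (1, 560668), (0, 628112), (0, 115766), (2, 0), (2, 0), (1, 210955), (0, 1053483), (2, 0), (2, 0), (2, 0), (2, 0), (1, 2207772), (0, 5280930), (0, 8683614), (0, 2268296), (1, 201013), (2, 0), (2, 0), (1, 9835530), (2, 0), (2, 0), (2, 0), (1, 2232654), (1, 8426796), (0, 2150610), (2, 0), (1, 430605), (0, 563843), (2, 0), (2, 0), (2, 0), (2, 0), (2, 0), (2, 0), (1, 1121336), (0, 267634), (0, 150618), (0, 145176), (1, 45159), (0, 1212619), (1, 8541360), (2, 0), (2, 0), (2, 0), (2, 0), (1, 8983587), (0, 2162811), (0, 4330601), (2, 0), (2, 0), (2, 0), (2, 0), (1, 9471495), (0, 2916505), (0, 4299781), (2, 0), (2, 0), (1, 418953), (0, 1063445), (2, 0), (2, 0), (2, 0), (2, 0), (1, 2183687), (1, 2631052), (1, 39257), (1, 8622214), (0, 2130606), (2, 0), (2, 0), (2, 0), (2, 0), (2, 0), (2, 0), (2, 0), (2, 0), (2, 0), (1, 104010), (0, 692282), (1, 138790),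 (0, 525274), (0, 742412), (0, 78514), (1, 2106966), (0, 5899416), (1, 4216883), (2, 0), (2, 0), (1, 8398155), (2, 0), (2, 0), (2, 0), (1, 2627629), (0, 4264387), (1, 14714004), (2, 0), (2, 0), (2, 0), (2, 0), (1, 8436754), (0, 3179802), (0, 4510744), (2, 0), (1, 185603), (0, 57883), (2, 0), (1, 689317), (0, 99029), (2, 0), (2, 0), (2, 0), (2, 0), (1, 459847), (0, 133817), (0, 530245), (0, 737427), (2, 0), (2, 0), (2, 0), (1, 11535529), (0, 6557781), (1, 13631886), (2, 0), (2, 0), (2, 0), (2, 0), (2, 0), (2, 0), (1, 75309), (0, 1577201), (1, 8407702), (1, 861210), (2, 0), (2, 0), (2, 0), (1, 2110153), (0, 5902343), (0, 8716939), (2, 0), (1, 4213932), (1, 4788761), (2, 0), (2, 0), (2, 0), (1, 8401364), (0, 3294342), (1, 542009), (2, 0), (2, 0), (2, 0), (2, 0), (2, 0), (2, 0), (2, 0), (1, 10630149), (0, 7340691), (0, 13370381), (0, 10557585), (0, 6292775), (0, 12599513), (1, 13373586), (2, 0), (2, 0), (2, 0), (1, 2425238), (2, 0), (2, 0), (1, 5511305), (0, 8657159), (1, 1410188), (1, 3297305), (0, 4470275), (2, 0), (2, 0),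 (2, 0), (2, 0), (1, 5329044), (0, 8660134), (2, 0), (1, 6832158), (2, 0), (2, 0), (2, 0), (2, 0), (1, 4220306), (0, 9462812), (0, 3421328), (0, 5508118), (2, 0), (1, 1065303), (1, 8963210), (2, 0), (2, 0), (2, 0), (1, 806987), (1, 9968772), (1, 346141), (0, 15777), (2, 0), (2, 0), (2, 0), (2, 0), (2, 0), (1, 4752467), (0, 8619033), (0, 2135601), (2, 0), (1, 2494627), (1, 1050548), (2, 0), (2, 0), (2, 0), (1, 12717187), (0, 10486557), (2, 0), (2, 0), (2, 0), (2, 0), (2, 0), (1, 262637), (0, 153797), (0, 140167), (0, 1589901), (2, 0), (1, 42232), (1, 8524371), (0, 2754059), (2, 0), (2, 0), (2, 0), (2, 0), (1, 8978620), (0, 2168036), (0, 4325622), (0, 8521420), (2, 0), (1, 12584506), (2, 0), (2, 0), (2, 0), (1, 2365978), (0, 4726026), (2, 0), (1, 1127686), (2, 0), (2, 0), (2, 0), (2, 0), (1, 9474712), (0, 2921478), (0, 4294810), (1, 6493202), (2, 0), (2, 0), (1, 1182989), (0, 283537), (0, 551943), (1, 593097), (2, 0), (2, 0), (1, 1613974), (2, 0), (2, 0), (1, 118953), (1, 2757268), (0, 4785798), (2, 0), (2, 0), (2, 0), (2,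 0), (2, 0), (2, 0), (2, 0), (2, 0), (2, 0)]
/-- Bitmap of that orbit. -/
def bm4 : ℕ := 4728825271786158716844557845476894331030150950250363976913369894567578751444657088709755319156316164251901060106172943548573603930514170610610724996951423619211865144331457197150804257443505846186141851506505350293817249225850331770553310229302591576446170886513111322344867067708672891128340183106533754298248726073312941577303915462679700680585601878070347874259098524297275859527045417576778443296638732246943525261316320921149486869858956903255519672722162722507653388292350366530970827678024098353081565861381848025803759403081035178360297763255433482519261962227116986550732698403885039027552461465733990051710787979980872682435438603544026377480900854156611992759215268400753319740072043082424225620410518683555720117105320230795731680789042611030387873199030128558000429623932891325955755972038459582161064995178255198809192426144588144677597837432999242954729937739564497307599516417256894400574419039111273517470117398501047116554570975711569172092288505715721121258252908193110360027631654272665415501740367825253506188250469789257788793638047765231373935703385938343097392360277977375409713859814306184753327420390902093432657222832615768509056059520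
theorem cert4_ok : checkDFS actsH cert4 [r4m] = true := by decide +kernel
theorem bm4_ok : idxBitmap (r4m :: pushed 2 cert4) = bm4 := by decide +kernel
theorem reach4 {p : Finset GolayPt} (hp : p ∈ octads)
    (hbit : bm4.testBit (gmask p % 4096) = true) : ∃ g ∈ H0, g • r4 = p := by
  apply exists_smul_eq_of_cert_bitmap H0_le gensH_models r4 r4_mem.1 cert4
  · rw [gmask_r4]; exact cert4_ok
  · exact hp.1
  · rw [gmask_r4]
    show (idxBitmap (r4m :: pushed 2 cert4)).testBit _ = true
    rw [bm4_ok]
    exact hbit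

/-- Mask of the representative octad meeting the base octad in 2 points. -/
def r2m : ℕ := 31554
/-- The representative octad meeting the base octad in 2 points. -/
def r2 : Finset GolayPt := setOfMask r2m
theorem gmask_r2 : gmask r2 = r2m := gmask_setOfMask (by decide)
theorem r2_mem : r2 ∈ octads := by
  rw [mem_octads_iff, gmask_r2]
  decide +kernel
/-- Part of a certificate. -/
def cert2_0 : List (ℕ × ℕ) := [(0, 1728778), (0, 1405448), (0, 1849378), (0, 1378634), (0, 416040), (1, 1675812), (0, 884962), (0, 231532), (1, 10687016), (2, 0), (2, 0), (2, 0), (1, 2255372), (0, 5780352), (0, 10305542), (2, 0), (2, 0), (1, 602472), (0, 1265762), (1, 11028004), (2, 0), (2, 0), (1, 10525252), (1, 8855820), (2, 0), (2, 0), (2, 0), (2, 0), (2, 0), (2, 0), (1, 11654144), (0, 6594610), (0, 13667400), (0, 10916112), (0, 6344194), (2, 0), (1, 1474854), (2, 0), (2, 0), (1, 13062145), (0, 10496547), (0, 7864649), (2, 0), (1, 337856), (2, 0), (2, 0), (1, 8126628), (2, 0), (2, 0), (2, 0), (1, 5375810), (1, 12641313), (0, 11575377), (0,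 7767041), (2, 0), (2, 0), (2, 0), (2, 0), (2, 0), (1, 3031301), (0, 4287105), (0, 9969957), (0, 3489985), (1, 12075408), (1, 837906), (2, 0), (2, 0), (2, 0), (1, 314056), (2, 0), (2, 0), (1, 6889680), (0, 13829156), (2, 0), (1, 14682450), (1, 12944642), (2, 0), (2, 0), (2, 0), (2, 0), (1, 1608104), (0, 381252), (1, 12222476), (2, 0), (2, 0), (1, 252432), (1, 2826278), (2, 0), (2, 0), (2, 0), (2, 0), (2, 0), (2, 0), (1, 1134148), (0, 926128), (1, 1084018), (0, 951624), (1, 9607201), (0, 2392899), (2, 0), (2, 0), (2, 0), (1, 8611330), (0, 3678776), (2, 0), (1, 2892897), (2, 0), (2, 0), (2, 0), (2, 0), (1, 11100169), (0, 7417889), (0, 13893731), (1, 13911680), (0, 11282452), (2, 0), (2, 0), (2, 0), (1, 6308804), (0, 13262980), (0, 11608708), (2, 0), (2, 0), (1, 13148440), (1, 4626498), (2, 0), (2, 0), (2, 0), (2, 0), (1, 2890176), (0, 4409606), (0, 8414120), (2, 0), (1, 6915112), (2, 0), (2, 0), (2, 0), (2, 0), (2, 0), (2, 0), (1, 3698756), (0, 5709954), (0, 9701932), (2, 0), (1, 7357552), (0, 12985424), (0, 11669008), (0,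 7079696), (0, 13192208), (0, 10560816), (2, 0), (2, 0), (2, 0), (1, 352547), (0, 1075305), (0, 1454401), (2, 0), (1, 8999616), (2, 0), (2, 0), (1, 3704512), (0, 5210132), (2, 0), (1, 8546577), (2, 0), (2, 0), (2, 0), (2, 0), (2, 0), (2, 0), (2, 0), (1, 8931660), (0, 2322816), (0, 5268006), (0, 10232008), (1, 9721936), (2, 0), (2, 0), (2, 0), (1, 2654580), (0, 4441280), (0, 8561204), (1, 402026), (2, 0), (2, 0), (1, 15335473), (2, 0), (2, 0), (1, 8555274), (0, 2675464), (0, 4845570), (2, 0), (1, 702724), (2, 0), (2, 0), (2, 0), (2, 0), (2, 0), (1, 9279496), (0, 2201890), (0, 4243818), (0, 8581192), (1, 9310308), (2, 0), (2, 0), (2, 0), (2, 0), (1, 3610628), (0, 4459426), (1, 5350928), (1, 6447171), (2, 0), (2, 0), (2, 0), (1, 3227948), (2, 0), (2, 0), (2, 0), (2, 0), (2, 0), (2, 0), (1, 580704), (0, 237906), (0, 1230376), (0, 832080), (0, 1805314), (0, 361272), (1, 3322370), (0, 6062602), (1, 5405696), (2, 0), (2, 0), (1, 157028), (1, 8946281), (2, 0), (2, 0), (2, 0), (2, 0), (1, 2313249), (0, 4203377), (0, 10110017), (0,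 2564625), (2, 0), (1, 9193633), (2, 0), (2, 0), (1, 12624578), (2, 0), (2, 0), (2, 0), (2, 0), (1, 9578566), (0, 3539848), (0, 5003780), (2, 0), (1, 1110320), (0, 1369154), (2, 0), (2, 0), (2, 0), (1, 8733800), (0, 2242672), (1, 8455014), (0, 2769128), (2, 0), (1, 10790408), (2, 0), (2, 0), (2, 0), (2, 0), (2, 0), (2, 0), (1, 684577), (0, 1647171), (0, 2031657), (0, 334433), (0, 657763), (1, 8490656), (2, 0), (2, 0), (2, 0), (1, 3168928), (0, 4989254), (2, 0), (1, 615188), (2, 0), (2, 0), (2, 0), (1, 10513600), (0, 7479572), (2, 0), (1, 9240913), (1, 11831426), (2, 0), (2, 0), (2, 0), (2, 0), (1, 535268), (0, 1769924), (0, 475812), (2, 0), (1, 10537016), (1, 987906), (0, 608810), (2, 0), (2, 0), (2, 0), (2, 0), (1, 8464984), (0, 3806496), (0, 4538962), (1, 16262146), (2, 0), (2, 0), (1, 52005), (2, 0), (2, 0), (1, 10825794), (0, 7473194), (1, 4282144), (1, 6857221), (2, 0), (2, 0), (2, 0), (1, 11797828), (0, 6703248), (2, 0), (2, 0), (2, 0), (2, 0), (2, 0), (2, 0), (2, 0), (1, 10650722), (0, 6455896), (0, 13276672), (0,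 11108882), (1, 2501890), (0, 5262104), (2, 0), (1, 1148257), (0, 442481), (2, 0), (1, 10666625), (2, 0), (2, 0), (2, 0), (2, 0), (1, 4597797), (0, 9440193), (2, 0), (1, 5309160), (1, 14709264), (2, 0), (2, 0), (2, 0), (2, 0), (1, 12726562), (0, 11551306), (1, 9204992), (0, 3237906), (1, 2704706), (1, 11046145), (2, 0), (2, 0), (2, 0), (2, 0), (2, 0), (2, 0), (2, 0), (1, 8783649), (0, 2640465), (0, 4924673), (0, 9519665), (2, 0), (1, 6326497), (0, 12747077), (2, 0), (1, 12780432), (2, 0), (2, 0), (2, 0), (1, 8989058), (1, 2460752), (0, 4361520), (0, 8439632), (2, 0), (1, 4424227), (2, 0), (2, 0), (2, 0), (2, 0), (2, 0), (1, 1352353), (0, 1869893), (0, 493953), (2, 0), (1, 9652360), (0, 2372388), (2, 0), (2, 0), (2, 0), (1, 1204944), (0, 1975812), (0, 1903248), (2, 0), (2, 0), (1, 8937586), (0, 3351624), (0, 5640752), (2, 0), (2, 0), (1, 9178690), (0, 2820376), (2, 0), (2, 0), (2, 0), (2, 0), (2, 0), (2, 0), (2, 0), (2, 0), (1, 9112069), (0, 2687905), (0, 4800613), (0, 8593633), (0, 3277413), (0, 5112513), (1, 13641904),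 (2, 0), (2, 0), (2, 0), (1, 10748656), (0, 6949956), (2, 0), (1, 9708306), (0, 3951624), (1, 1661185), (2, 0), (2, 0), (2, 0), (2, 0), (2, 0), (1, 15207048), (0, 15274244), (1, 6588684), (0, 12638592), (2, 0), (1, 5476616), (1, 6475812), (2, 0), (2, 0), (2, 0), (2, 0), (1, 4536592), (0, 9456930), (0, 2384216), (2, 0), (2, 0), (1, 7438406), (0, 13009064), (2, 0), (1, 14828808), (2, 0), (2, 0), (2, 0), (2, 0), (2, 0), (1, 2141072), (0, 5817604), (0, 8773776), (0, 3189796), (0, 5538256), (0, 8834052), (2, 0), (2, 0), (1, 213833), (2, 0), (2, 0), (1, 4063314), (0, 4656648), (0, 8919856), (2, 0), (2, 0), (2, 0), (2, 0), (1, 4900873), (1, 4921504), (2, 0), (2, 0), (2, 0), (2, 0), (2, 0), (1, 2435240), (0, 5249380), (0, 8798658), (1, 10257456), (1, 1460739), (0, 797449), (2, 0), (1, 1664160), (0, 1384564), (2, 0), (2, 0), (2, 0), (2, 0), (2, 0), (1, 12698124), (0, 11055264), (1, 396116), (0, 675712), (2, 0), (1, 9543722), (0, 3444840), (2, 0), (2, 0), (2, 0), (2, 0), (1, 7221256), (0, 13703682), (0, 11272490), (1, 1351424), (2,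 0), (2, 0), (1, 6644740), (2, 0), (2, 0), (2, 0), (2, 0), (2, 0), (1, 3216208), (0, 5129250), (1, 5770785), (2, 0), (2, 0), (1, 10543366), (0, 7397512), (0, 13938692), (1, 5652556), (0, 8796800), (2, 0), (2, 0), (2, 0), (2, 0), (2, 0), (2, 0), (2, 0), (2, 0), (2, 0), (2, 0), (1, 9020484), (0, 3375280), (0, 4490852), (0, 9078992), (0, 2328324), (0, 4768432), (1, 4860434), (2, 0), (2, 0), (1, 2269481), (0, 5296705), (0, 9347075), (1, 1445088), (2, 0), (2, 0), (2, 0), (1, 168928), (0, 705094), (0, 762504), (2, 0), (1, 9055272), (2, 0), (2, 0), (2, 0), (2, 0), (2, 0), (1, 8849458), (0, 2101096), (0, 4870480), (1, 13142054), (0, 10584520), (2, 0), (2, 0), (2, 0), (1, 8499969), (0, 3719203), (0, 4563017), (2, 0), (2, 0), (2, 0), (2, 0), (1, 3474978), (0, 4982904), (0, 8592704), (1, 10846245), (2, 0), (2, 0), (2, 0), (1, 3172097), (0, 6053905), (0, 9776129), (2, 0), (1, 5785794), (2, 0), (2, 0), (1, 582081), (0, 1302533), (2, 0), (2, 0), (2, 0), (2, 0), (2, 0), (2, 0), (1, 13771273), (0, 12325377), (0, 7145475), (0, 12650793),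 (0, 10506593), (2, 0), (1, 6656640), (2, 0), (2, 0), (1, 7409024), (0, 12861748), (2, 0), (1, 6406417), (1, 6979970), (2, 0), (2, 0), (2, 0), (2, 0), (1, 1337732), (2, 0), (2, 0), (1, 4485344), (1, 14156372), (0, 11469952), (0, 6359604), (0, 13108704), (1, 12880401), (2, 0), (2, 0), (2, 0), (1, 3410225), (0, 4476225), (1, 14254209), (2, 0), (2, 0), (1, 1164162), (1, 2810896), (2, 0), (2, 0), (2, 0), (2, 0), (1, 12871690), (0, 11548936), (2, 0), (1, 6100032), (1, 15747077), (2, 0), (2, 0), (2, 0), (2, 0), (2, 0), (2, 0), (2, 0), (1, 2245426), (0, 4744776), (0, 10170384), (2, 0), (1, 13121601), (0, 11731203), (0, 6570537), (2, 0), (1, 2409888), (0, 4253780), (0, 9610624), (2, 0), (1, 13303882), (2, 0), (2, 0), (2, 0), (2, 0), (1, 12912836), (0, 10619300), (2, 0), (1, 16056344), (0, 14949408), (1, 5571333), (2, 0), (2, 0), (1, 7622914), (2, 0), (2, 0), (2, 0), (2, 0), (2, 0), (1, 567074), (0, 1687640), (0, 504864), (2, 0), (1, 11163650), (0, 6365962), (0, 14176296), (2, 0), (1, 6337856), (0, 13811730), (2, 0), (2, 0), (2,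 0), (1, 855332), (0, 84464), (2, 0), (1, 3246601), (0, 5017889), (2, 0), (2, 0), (2, 0), (2, 0), (2, 0), (1, 175681), (0, 1737489), (0, 902657), (0, 632881), (1, 2296514), (0, 4850476), (2, 0), (2, 0), (2, 0), (1, 3811457), (2, 0), (2, 0), (1, 190626), (0, 1090380), (0, 2019456), (0, 371206), (2, 0), (1, 1722420), (2, 0), (2, 0), (2, 0), (1, 722544), (2, 0), (2, 0), (2, 0), (2, 0), (2, 0), (2, 0), (2, 0), (1, 10881097), (0, 6429441), (0, 13124355), (1, 5024896), (0, 9537812), (1, 2605066), (0, 4241960), (0, 9998658), (2, 0), (1, 4403780), (0, 10093218), (2, 0), (2, 0), (2, 0), (2, 0), (2, 0), (1, 5441617), (1, 14762146), (0, 14688364), (0, 15864000), (2, 0), (1, 12849992), (2, 0), (2, 0), (2, 0), (2, 0), (2, 0), (2, 0), (1, 4301220), (0, 9486564), (0, 2531524), (0, 5409412), (0, 9208708), (0, 2738308), (2, 0), (1, 1484824), (2, 0), (2, 0), (1, 4415544), (0, 9451104), (1, 8675909), (2, 0), (2, 0), (1, 6820450), (1, 12594948), (2, 0), (2, 0), (2, 0), (2, 0), (1, 9568632), (0, 2512448)]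
/-- Part of a certificate. -/
def cert2_1 : List (ℕ × ℕ) := [(2, 0), (1, 8704546), (0, 2664522), (2, 0), (2, 0), (2, 0), (2, 0), (1, 9323032), (0, 2702848), (0, 5833010), (2, 0), (1, 2173253), (0, 5390753), (2, 0), (2, 0), (2, 0), (2, 0), (2, 0), (2, 0), (2, 0), (1, 9769376), (0, 2377830), (0, 4336072), (0, 9589508), (0, 2908802), (0, 5842956), (1, 6379592), (2, 0), (2, 0), (1, 1584464), (0, 1525008), (0, 290352), (2, 0), (2, 0), (1, 8505411), (2, 0), (2, 0), (2, 0), (1, 843820), (0, 1161408), (1, 10698836), (0, 6432416), (2, 0), (2, 0), (2, 0), (1, 1710664), (1, 8484900), (0, 3154402), (2, 0), (1, 2949708), (2, 0), (2, 0), (2, 0), (2, 0), (2, 0), (1, 12685424), (1, 15073798), (1, 5514536), (2, 0), (2, 0), (2, 0), (2, 0), (1, 10028808), (0, 2969648), (0, 4271202), (1, 14747201), (1, 14950785), (2, 0), (2, 0), (2, 0), (1, 3672838), (0, 5063048), (1, 7903248), (2, 0), (2, 0), (1, 126216), (1, 2854977), (2, 0), (2, 0), (2, 0), (2, 0), (1, 2422785), (0, 5286147), (0, 9748745), (2, 0), (2, 0), (2, 0), (2, 0), (2, 0), (1, 3457556),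 (2, 0), (2, 0), (2, 0), (2, 0)]
/-- Orbit certificate for the octads meeting the base octad in 2 points. -/
def cert2 : List (ℕ × ℕ) := cert2_0 ++ cert2_1
/-- Bitmap of that orbit. -/
def bm2 : ℕ := 3069183258344488755150436757045496005909114921578250557296915853095914805571005747637319796079315489745144034572189996539620779565511998048173796273981183810218393592389745128242705784529991057748235695679289979614777432194571607723270368384473110303630203470196416317883420033505550196732393241369721901662356717336783249633616658389287612024764910348968198049836461252709838612526390519065382940594529488870861640829279324464021654135453010227441891552035169942298990815775317904294537766058408464984780888589065003683079390826759130815720641206281592989820382122431413344671693841419039778567546039720316516446230774944324672801668031708090725023182050204896155232978120842956954253135038217901624997758631743160230106926266096181984081877491793684210350225763843775212588974075980108421574688874296873353015587974524083682096169383693085273266019931609850437472443806003985158873304335832800841450283197864604817424713778617744352667683564680200721698913661380133381776589131956583258985460491272568338971035594365628796386611107982314794108098605499899080045727412232420859164859782243100918892779551159460178828991875359592186672352659681405737904160530510691416965495238593261063512725374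
theorem cert2_ok : checkDFS actsH cert2 [r2m] = true := by decide +kernel
theorem bm2_ok : idxBitmap (r2m :: pushed 2 cert2) = bm2 := by decide +kernel
theorem reach2 {p : Finset GolayPt} (hp : p ∈ octads)
    (hbit : bm2.testBit (gmask p % 4096) = true) : ∃ g ∈ H0, g • r2 = p := by
  apply exists_smul_eq_of_cert_bitmap H0_le gensH_models r2 r2_mem.1 cert2
  · rw [gmask_r2]; exact cert2_ok
  · exact hp.1
  · rw [gmask_r2]
    show (idxBitmap (r2m :: pushed 2 cert2)).testBit _ = true
    rw [bm2_ok]
    exact hbit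

/-- Mask of the representative octad meeting the base octad in 0 points. -/
def r0m : ℕ := 1009728
/-- The representative octad meeting the base octad in 0 points. -/
def r0 : Finset GolayPt := setOfMask r0m
theorem gmask_r0 : gmask r0 = r0m := gmask_setOfMask (by decide)
theorem r0_mem : r0 ∈ octads := by
  rw [mem_octads_iff, gmask_r0]
  decide +kernel
/-- Orbit certificate for the octads meeting the base octad in 0 points. -/
def cert0 : List (ℕ × ℕ) := [(0, 1256224), (0, 1852256), (1, 10021376), (2, 0), (2, 0), (1, 2220640), (0, 5939296), (0, 9929280), (0, 3050016), (2, 0), (1, 11952160), (2, 0), (2, 0), (2, 0), (1, 11150144), (0, 8077824), (2, 0), (1, 8694112), (2, 0), (2, 0), (2, 0), (2, 0), (1, 12126304), (0, 6750560), (0, 12733024), (1, 13443616), (1, 7612992), (2, 0), (2, 0), (2, 0), (1, 15762208), (0, 15515712), (0, 14919680), (2, 0), (1, 14551296), (2, 0), (2, 0), (1, 4645632), (2, 0), (2, 0), (2, 0), (1, 10832640), (0, 6842656), (0, 13721920), (2, 0), (1, 4819776), (0, 9158944), (2, 0), (2, 0), (2, 0), (1,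 4038912), (0, 5621792), (2, 0), (1, 3328320), (2, 0), (2, 0), (2, 0), (2, 0)]
/-- Bitmap of that orbit. -/
def bm0 : ℕ := 925523632024538181468949325386808207522476208917788061007922867056493588420716408888574091149897999679771286015133288857061605600181923260640976090248658168269498112880630708004727101533667471228862732208331151041339238593697683062106960185097583138424053998891043424384432525576979756301700887237298845367736162422410318119452355030285227942813675244979294276256449688955546102155973072807205711911384170525141259424529680202709807412279413274977704789419997144968743416582950907001175954037663196959233743269247442945621721007123277266640183862333635524435898791559043699489268174745501622578783288996391587791864346091707201401403449577296870104780644075109734793107385038619787725191602151900724647480126253065031317190920867342194214776129776478878490443612004200709095193706185657967387215607598398188878146973299113723468438337482954420360242396655968667566080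
theorem cert0_ok : checkDFS actsH cert0 [r0m] = true := by decide +kernel
theorem bm0_ok : idxBitmap (r0m :: pushed 2 cert0) = bm0 := by decide +kernel
theorem reach0 {p : Finset GolayPt} (hp : p ∈ octads)
    (hbit : bm0.testBit (gmask p % 4096) = true) : ∃ g ∈ H0, g • r0 = p := by
  apply exists_smul_eq_of_cert_bitmap H0_le gensH_models r0 r0_mem.1 cert0
  · rw [gmask_r0]; exact cert0_ok
  · exact hp.1
  · rw [gmask_r0]
    show (idxBitmap (r0m :: pushed 2 cert0)).testBit _ = true
    rw [bm0_ok]
    exact hbit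

/-- Classification of the octads by their intersection with the base octad. -/
def classCheck (m : ℕ) : Bool :=
  (popc 24 m != 8) ||
    ((popc 24 (o0 &&& m) == 8 && m == o0) ||
     (popc 24 (o0 &&& m) == 4 && bm4.testBit (m % 4096)) ||
     (popc 24 (o0 &&& m) == 2 && bm2.testBit (m % 4096)) ||
     (popc 24 (o0 &&& m) == 0 && bm0.testBit (m % 4096)))

theorem classCheck_all : (List.range 4096).all (fun k => classCheck (enc k)) = true := by
  decide +kernel

/-- Representative of the octads meeting the base octad in `j` points. -/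
def repOf (j : ℕ) : Finset GolayPt := if j = 8 then x0 else if j = 4 then r4 else if j = 2 then r2 else r0

/-- Every octad is the image of the representative of its class under the stabiliser of the
base octad; the intersection with the base octad has 8, 4, 2 or 0 points. -/
theorem reach_rep {p : Finset GolayPt} (hp : p ∈ octads) :
    ((x0 ∩ p).card = 8 ∨ (x0 ∩ p).card = 4 ∨ (x0 ∩ p).card = 2 ∨ (x0 ∩ p).card = 0) ∧
    ∃ g ∈ H0, g • repOf (x0 ∩ p).card = p := by
  have h := forall_supports_bool classCheck classCheck_all p hp.1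
  have hcard : (x0 ∩ p).card = popc 24 (o0 &&& gmask p) := by
    rw [card_inter_eq_popc, gmask_x0]
  unfold classCheck at h
  rw [Bool.or_eq_true] at h
  rcases h with h | h
  · rw [← card_eq_popc_gmask, hp.2] at h
    exact absurd h (by decide)
  · simp only [Bool.or_eq_true, Bool.and_eq_true, beq_iff_eq] at h
    rcases h with ((⟨hj, hm⟩ | ⟨hj, hb⟩) | ⟨hj, hb⟩) | ⟨hj, hb⟩
    · rw [← hcard] at hj
      refine ⟨Or.inl hj, 1, H0.one_mem, ?_⟩
      rw [hj, one_smul]
      show x0 = p
      apply gmask_injective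
      rw [gmask_x0, hm]
    · rw [← hcard] at hj
      refine ⟨Or.inr (Or.inl hj), ?_⟩
      rw [hj]
      exact reach4 hp hb
    · rw [← hcard] at hj
      refine ⟨Or.inr (Or.inr (Or.inl hj)), ?_⟩
      rw [hj]
      exact reach2 hp hb
    · rw [← hcard] at hj
      refine ⟨Or.inr (Or.inr (Or.inr hj)), ?_⟩
      rw [hj]
      exact reach0 hp hb

/-- The stabiliser of the base octad is transitive on the octads meeting it in a given number
of points. -/
theorem base_octad_stab_transitive {p' p'' : Finset GolayPt} (h' : p' ∈ octads)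
    (h'' : p'' ∈ octads) (h : (x0 ∩ p').card = (x0 ∩ p'').card) : ∃ g ∈ H0, g • p' = p'' := by
  obtain ⟨_, g₁, hg₁, e₁⟩ := reach_rep h'
  obtain ⟨_, g₂, hg₂, e₂⟩ := reach_rep h''
  refine ⟨g₂ * g₁⁻¹, H0.mul_mem hg₂ (H0.inv_mem hg₁), ?_⟩
  rw [mul_smul, ← e₁, inv_smul_smul, h, e₂]

/-- Two octads meeting a fixed octad in equally many points are in one orbit of its stabiliser. -/
theorem octad_stab_transitive {o o' o'' : Finset GolayPt} (ho : o ∈ octads) (ho' : o' ∈ octads)
    (ho'' : o'' ∈ octads) (h : (o ∩ o').card = (o ∩ o'').card) :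
    ∃ g : Equiv.Perm GolayPt, g ∈ M24 ∧ g • o = o ∧ g • o' = o'' := by
  obtain ⟨a, ha, rfl⟩ := exists_smul_x0_eq ho
  have hai : a⁻¹ ∈ M24 := M24.inv_mem ha
  have e : ∀ q : Finset GolayPt, (x0 ∩ a⁻¹ • q).card = (a • x0 ∩ q).card := by
    intro q
    rw [← Finset.card_smul_finset a (x0 ∩ a⁻¹ • q), Finset.smul_finset_inter, smul_inv_smul]
  obtain ⟨g, hg, hgp⟩ := base_octad_stab_transitive (smul_mem_octads hai ho')
    (smul_mem_octads hai ho'') (by rw [e, e, h])
  refine ⟨a * g * a⁻¹, M24.mul_mem (M24.mul_mem ha (H0_le hg)) hai, ?_, ?_⟩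
  · rw [mul_smul, mul_smul, inv_smul_smul]
    have : g • x0 = x0 := MulAction.mem_stabilizer_iff.mp hg.2
    rw [this]
  · rw [mul_smul, mul_smul, hgp, smul_inv_smul]

end Cfsg.Agent.Lib.Helper35
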