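import Cfsg.Agent.Lib.Helper35.Families
import Cfsg.Agent.S1550

/-!
Sextets as coded families: membership checks on codes, invariance under `M24`, and the fact that
a sextet is determined by any of its tetrads (in the form needed for bitmaps of keys).
-/

set_option autoImplicit false

namespace Cfsg.Agent.Lib.Helper35

open Cfsg
open Cfsg.Agent.Lib.Helper10 (idx pt idx_pt idx_injective enc enc_mod enc_lt)
open scoped Pointwise

theorem unkey_subs4 : (subs 24 4).all (fun m => unkeyK 4 (keyK 4 m) == m) = true := by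
  decide +kernel

theorem unkey_key4 {s : Finset GolayPt} (hs : s.card = 4) :
    unkeyK 4 (keyK 4 (gmask s)) = gmask s :=
  beq_iff_eq.mp (List.all_eq_true.mp unkey_subs4 _ (gmask_mem_subs hs))

theorem smul_mem_sextets {g : Equiv.Perm GolayPt} (hg : g ∈ M24) {S : Finset (Finset GolayPt)}
    (hS : S ∈ sextets) : g • S ∈ sextets := by
  obtain ⟨h6, h4, hu⟩ := hS
  refine ⟨by rw [Finset.card_smul_finset]; exact h6, ?_, ?_⟩
  · intro t ht
    obtain ⟨t', ht', rfl⟩ := Finset.mem_smul_finset.mp ht
    rw [Finset.card_smul_finset]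
    exact h4 t' ht'
  · intro t ht u hu' hne
    obtain ⟨t', ht', rfl⟩ := Finset.mem_smul_finset.mp ht
    obtain ⟨u', hu'', rfl⟩ := Finset.mem_smul_finset.mp hu'
    have hne' : t' ≠ u' := fun h => hne (by rw [h])
    rw [← Finset.smul_finset_union]
    exact smul_mem_octads hg (hu t' ht' u' hu'' hne')

/-- Check on a code that the family is a sextet. -/
def sextetCheck (c : ℕ) : Bool :=
  (unpack 6 c).all (fun a => popc 24 a == 4) &&
    (unpack 6 c).all (fun a => (unpack 6 c).all (fun b =>
      (a == b) || ((enc (a ||| b) == (a ||| b)) && (popc 24 (a ||| b) == 8))))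

theorem famOfCode_mem_sextets {c : ℕ} (hv : validCode 6 c = true) (hc : sextetCheck c = true) :
    famOfCode 6 c ∈ sextets := by
  unfold sextetCheck at hc
  rw [Bool.and_eq_true, List.all_eq_true, List.all_eq_true] at hc
  obtain ⟨h4, h8⟩ := hc
  refine ⟨famOfCode_card hv, ?_, ?_⟩
  · intro t ht
    obtain ⟨m, hm, _, hgm⟩ := mem_famOfCode ht
    rw [card_eq_popc_gmask, hgm]
    exact beq_iff_eq.mp (h4 m hm)
  · intro t ht u hu hne
    obtain ⟨a, ha, hta, hga⟩ := mem_famOfCode ht
    obtain ⟨b, hb, hub, hgb⟩ := mem_famOfCode hu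
    have hab : a ≠ b := by
      intro h
      apply hne
      rw [hta, hub, h]
    have h := List.all_eq_true.mp (h8 a ha) b hb
    simp only [Bool.or_eq_true, Bool.and_eq_true, beq_iff_eq] at h
    rcases h with h | h
    · exact absurd h hab
    · rw [mem_octads_iff]
      have hun : gmask (t ∪ u) = a ||| b := by
        rw [gmask, maskOf_union, ← gmask, ← gmask, hga, hgb]
      rw [hun]
      exact h

/-- A sextet is determined by any of its tetrads. -/
theorem sextet_eq_of_common_tetrad {X Y : Finset (Finset GolayPt)} (hX : X ∈ sextets)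
    (hY : Y ∈ sextets) {t : Finset GolayPt} (htX : t ∈ X) (htY : t ∈ Y) : X = Y := by
  obtain ⟨Z, _, hZ⟩ := Cfsg.Agent.S1550.result.1 t (hX.2.1 t htX)
  rw [hZ X ⟨hX, htX⟩, hZ Y ⟨hY, htY⟩]

/-- Two sextets with members having the same key are equal. -/
theorem sextet_eq_of_common_key {X Y : Finset (Finset GolayPt)} (hX : X ∈ sextets)
    (hY : Y ∈ sextets) {m m' : ℕ} (hm : m ∈ fmasks X) (hm' : m' ∈ fmasks Y)
    (h : keyK 4 m = keyK 4 m') : X = Y := by
  obtain ⟨x, hx, rfl⟩ := mem_fmasks.mp hm
  obtain ⟨y, hy, rfl⟩ := mem_fmasks.mp hm'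
  have hxy : gmask x = gmask y := by
    rw [← unkey_key4 (hX.2.1 x hx), ← unkey_key4 (hY.2.1 y hy), h]
  have : x = y := gmask_injective hxy
  exact sextet_eq_of_common_tetrad hX hY hx (this ▸ hy)

theorem first_mem_fmasks {S : Finset (Finset GolayPt)} {n : ℕ} (hS : S.card = n + 1) :
    fcode S % 2 ^ 24 ∈ fmasks S := by
  rw [← unpack_fcode hS]
  simp [unpack]

/-- Bitmap of the keys of all the members of the families in a list of codes. -/
def tetBitmap (l : List ℕ) : ℕ := keyBitmap (keyK 4) (l.flatMap (unpack 6))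

/-- The key of the first member of a coded family. -/
def firstKey (c : ℕ) : ℕ := keyK 4 (c % 2 ^ 24)

end Cfsg.Agent.Lib.Helper35
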