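import Mathlib
import Cfsg.Agent.Lib.Helper35.SteinerSearch

/-! Uniqueness of the Steiner system with parameters (4, 5, 11): the standard family of masks and
the certificates for the checker of `SteinerSearch`. -/

set_option autoImplicit false
set_option maxHeartbeats 4000000
set_option maxRecDepth 100000

namespace Cfsg.Agent.Lib.Helper35.St11

open Cfsg Cfsg.Agent.Lib.Helper35 Cfsg.Agent.Lib.Helper35.StSearch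

/-- The masks of the standard family. -/
def std11 : List ℕ := [87, 107, 124, 143, 181, 186, 217, 230, 286, 295, 313, 333, 370, 403, 428, 458, 468, 481, 541, 558, 563, 602, 613, 662, 681, 707, 716, 752, 779, 820, 838, 849, 872, 901, 920, 930, 1051, 1069, 1078, 1102, 1137, 1180, 1187, 1221, 1234, 1256, 1301, 1322, 1347, 1368, 1380, 1414, 1417, 1456, 1543, 1592, 1609, 1620, 1634, 1674, 1681, 1700, 1804, 1810, 1825, 1984]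

theorem std11_cover_check : ∀ m ∈ List.range 2048, popc 11 m = 4 →
    std11.any (fun b => m &&& b == m) = true := by decide +kernel

theorem std11_lt : ∀ b ∈ std11, b < 2 ^ 11 := by decide +kernel

theorem hstd11 : ∀ S : Finset (Fin 11), S.card = 4 → ∃ d ∈ stdSet 11 std11, S ⊆ d := by
  intro S hS
  have h1 : mk 11 S < 2048 := maskOf_lt (vl_lt 11) S
  have h2 : popc 11 (mk 11 S) = 4 := by rw [← card_eq, hS]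
  have := std11_cover_check _ (List.mem_range.mpr h1) h2
  rw [List.any_eq_true] at this
  obtain ⟨b, hb, hmb⟩ := this
  refine ⟨ofMask (vl 11) b, ?_, ?_⟩
  · show mk 11 (ofMask (vl 11) b) ∈ std11
    rw [mk, maskOf_ofMask (vl_surj 11) (std11_lt b hb)]; exact hb
  · rw [maskOf_subset_iff (vl_inj 11), maskOf_ofMask (vl_surj 11) (std11_lt b hb)]
    simpa [mk] using hmb

theorem goal_zero (n t : ℕ) (std : List ℕ) : GoalOK n t std [0] := by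
  intro B hB hg
  obtain ⟨b, hb, hbm⟩ := hg 0 (List.mem_singleton_self 0)
  have h0 : b = ∅ := mk_inj n (by rw [hbm]; exact (maskOf_empty _).symm)
  have := hB.1 b hb
  rw [h0] at this
  simp at this

/-- Start of a stage. -/
def start7 : List ℕ := [31, 103, 391, 1543, 171, 587, 1291]

/-- Certificate of a stage. -/
def cert7 : List Instr :=
  [.branch 1059 [0, 0, 2, 5, 0, 0, 2, 5, 7, 4, 0],
  .branch 291 [0, 0, 3, 6, 1, 0, 3, 4, 0, 0, 1],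
  .branch 275 [0, 0, 3, 3, 0, 1, 0, 5, 0, 1, 2],
  .branch 147 [0, 0, 4, 4, 0, 3, 1, 0, 1, 0, 3],
  .branch 195 [0, 0, 6, 9, 1, 6, 0, 0, 2, 1, 0],
  .branch 45 [0, 6, 0, 0, 6, 0, 7, 10, 0, 0, 0],
  .branch 525 [0, 7, 0, 0, 7, 1, 12, 0, 1, 0, 10],
  .branch 77 [0, 8, 0, 0, 8, 2, 0, 1, 2, 1, 0],
  .branch 549 [0, 7, 0, 2, 0, 0, 10, 2, 3, 0, 12],
  .branch 85 [0, 7, 0, 2, 0, 1, 0, 0, 7, 1, 2],
  .branch 277 [0, 8, 0, 5, 0, 2, 1, 1, 0, 2, 0],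
  .branch 165 [0, 13, 0, 5, 2, 0, 2, 0, 6, 3, 0],
  .branch 325 [0, 10, 0, 5, 2, 7, 0, 3, 0, 0, 2],
  .branch 57 [0, 13, 5, 0, 0, 0, 0, 18, 8, 5, 13],
  .branch 553 [0, 13, 6, 0, 1, 0, 1, 8, 9, 0, 0],
  .branch 537 [0, 12, 7, 0, 0, 1, 2, 9, 0, 0, 1],
  .branch 153 [0, 13, 7, 0, 0, 3, 3, 0, 1, 1, 0],
  .branch 201 [0, 13, 8, 0, 1, 4, 0, 0, 0, 11, 1],
  .branch 177 [0, 15, 7, 2, 0, 0, 5, 0, 0, 10, 2],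
  .branch 593 [0, 16, 7, 4, 0, 6, 0, 10, 4, 0, 0],
  .branch 225 [0, 16, 9, 3, 2, 0, 0, 0, 2, 0, 9],
  .branch 353 [0, 19, 9, 4, 3, 0, 0, 1, 0, 1, 0],
  .branch 897 [0, 19, 10, 5, 4, 2, 2, 0, 0, 0, 0],
  .branch 46 [18, 0, 0, 0, 24, 0, 25, 28, 18, 0, 0],
  .branch 270 [19, 0, 0, 0, 25, 1, 0, 27, 0, 1, 31],
  .branch 142 [19, 0, 0, 0, 26, 2, 1, 0, 1, 2, 0],
  .branch 150 [17, 0, 0, 1, 0, 0, 17, 0, 29, 23, 1],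
  .branch 278 [17, 0, 0, 3, 0, 1, 3, 1, 0, 0, 17],
  .branch 86 [19, 0, 0, 4, 0, 2, 0, 2, 1, 1, 0],
  .branch 294 [24, 0, 0, 5, 2, 0, 5, 3, 0, 2, 0],
  .branch 198 [21, 0, 0, 5, 2, 4, 0, 0, 6, 0, 2],
  .branch 58 [18, 0, 5, 0, 0, 0, 18, 5, 0, 8, 31],
  .branch 90 [19, 0, 4, 0, 0, 1, 0, 0, 1, 38, 4],
  .branch 538 [18, 0, 6, 0, 0, 2, 1, 1, 2, 0, 0],
  .branch 106 [21, 0, 10, 0, 2, 0, 0, 2, 3, 11, 0],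
  .branch 394 [18, 0, 10, 0, 3, 4, 3, 0, 0, 0, 10],
  .branch 114 [23, 0, 8, 2, 0, 0, 0, 4, 5, 0, 2],
  .branch 402 [19, 0, 10, 2, 0, 6, 5, 0, 0, 2, 0],
  .branch 226 [18, 0, 8, 4, 2, 0, 0, 0, 0, 2, 4],
  .branch 674 [19, 0, 9, 4, 3, 0, 1, 0, 1, 0, 0],
  .branch 834 [28, 0, 10, 5, 4, 2, 0, 2, 0, 0, 0],
  .branch 60 [28, 10, 0, 0, 0, 0, 28, 15, 10, 18, 0],
  .branch 92 [29, 10, 0, 0, 0, 1, 0, 10, 18, 0, 1],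
  .branch 156 [27, 11, 0, 0, 0, 2, 1, 0, 0, 1, 2],
  .branch 108 [31, 10, 0, 0, 2, 0, 0, 0, 20, 2, 3],
  .branch 780 [30, 10, 0, 0, 2, 22, 3, 2, 0, 0, 0],
  .branch 116 [33, 10, 0, 2, 0, 0, 0, 2, 0, 4, 5],
  .branch 660 [38, 17, 0, 4, 0, 21, 5, 0, 4, 0, 0],
  .branch 612 [28, 12, 0, 4, 2, 0, 0, 4, 2, 0, 0],
  .branch 420 [31, 11, 0, 5, 3, 0, 3, 0, 0, 0, 20],
  .branch 452 [33, 12, 0, 6, 4, 1, 0, 0, 0, 1, 0],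
  .branch 184 [33, 19, 7, 0, 0, 0, 7, 0, 8, 0, 10],
  .branch 344 [35, 20, 6, 0, 0, 6, 0, 9, 0, 10, 0],
  .branch 360 [32, 15, 7, 0, 1, 0, 0, 9, 0, 0, 1],
  .branch 424 [36, 16, 5, 0, 3, 0, 1, 0, 0, 1, 0],
  .branch 712 [35, 20, 11, 0, 4, 2, 0, 0, 2, 0, 0],
  .branch 240 [36, 18, 10, 5, 0, 0, 0, 0, 10, 5, 0],
  .branch 816 [39, 21, 8, 4, 0, 0, 4, 6, 0, 0, 0],
  .branch 464 [40, 20, 8, 6, 0, 2, 0, 0, 0, 0, 2],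
  .leaf [0, 1, 2, 3, 6, 7, 5, 4, 8, 10, 9] [0, 1, 2, 3, 7, 6, 4, 5, 8, 10, 9],
  .branch 142 [18, 0, 0, 0, 25, 1, 0, 0, 27, 18, 1],
  .branch 270 [20, 0, 0, 0, 26, 2, 1, 1, 0, 0, 2],
  .branch 278 [16, 0, 0, 1, 0, 0, 24, 29, 0, 1, 16],
  .branch 150 [18, 0, 0, 3, 0, 1, 3, 0, 1, 24, 0],
  .branch 86 [19, 0, 0, 4, 0, 2, 0, 1, 2, 0, 1],
  .branch 166 [18, 0, 0, 5, 2, 0, 5, 0, 3, 0, 2],
  .branch 326 [18, 0, 0, 5, 2, 4, 0, 6, 0, 2, 0],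
  .branch 58 [18, 0, 5, 0, 0, 0, 18, 36, 5, 0, 8],
  .branch 90 [19, 0, 4, 0, 0, 1, 0, 8, 30, 1, 0],
  .branch 154 [17, 0, 6, 0, 0, 2, 1, 0, 0, 2, 1],
  .branch 106 [21, 0, 10, 0, 2, 0, 0, 10, 0, 3, 2],
  .branch 650 [29, 0, 6, 0, 2, 4, 11, 0, 2, 0, 0],
  .branch 114 [23, 0, 8, 2, 0, 0, 0, 0, 2, 5, 4],
  .branch 786 [22, 0, 9, 4, 0, 6, 9, 4, 0, 0, 0],
  .branch 610 [18, 0, 9, 4, 2, 0, 0, 2, 4, 0, 0],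
  .branch 418 [21, 0, 10, 5, 3, 0, 3, 0, 0, 10, 0],
  .branch 450 [23, 0, 10, 6, 4, 1, 0, 0, 0, 0, 1],
  .branch 60 [28, 10, 0, 0, 0, 0, 28, 0, 15, 10, 18],
  .branch 92 [29, 10, 0, 0, 0, 1, 0, 1, 0, 14, 10],
  .branch 540 [28, 12, 0, 0, 0, 2, 1, 2, 1, 0, 0],
  .branch 108 [31, 10, 0, 0, 2, 0, 0, 3, 2, 0, 21],
  .branch 396 [28, 12, 0, 0, 3, 4, 3, 0, 0, 20, 0],
  .branch 116 [33, 10, 0, 2, 0, 0, 0, 5, 4, 2, 0],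
  .branch 404 [29, 14, 0, 2, 0, 6, 5, 0, 0, 0, 2],
  .branch 228 [28, 12, 0, 4, 2, 0, 0, 0, 0, 4, 2],
  .branch 804 [37, 20, 0, 5, 2, 0, 1, 1, 0, 0, 0],
  .branch 708 [30, 10, 0, 6, 3, 2, 0, 0, 2, 0, 0],
  .branch 312 [33, 17, 9, 0, 0, 0, 9, 10, 0, 20, 0],
  .branch 216 [35, 16, 10, 0, 0, 11, 0, 0, 10, 0, 20],
  .branch 232 [33, 17, 5, 0, 1, 0, 0, 0, 5, 1, 0],
  .branch 424 [36, 15, 6, 0, 3, 0, 1, 0, 0, 0, 1],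
  .branch 840 [38, 15, 11, 0, 3, 1, 0, 1, 0, 0, 0],
  .branch 368 [35, 20, 8, 5, 0, 0, 0, 8, 0, 0, 5],
  .branch 688 [37, 21, 10, 3, 0, 0, 1, 0, 1, 0, 0],
  .branch 464 [40, 18, 10, 6, 0, 2, 0, 0, 0, 2, 0],
  .leaf [0, 1, 2, 3, 5, 9, 6, 4, 10, 8, 7] [0, 1, 2, 3, 7, 4, 6, 10, 9, 5, 8],
  .branch 269 [0, 7, 0, 0, 7, 1, 0, 9, 0, 1, 13],
  .branch 141 [0, 8, 0, 0, 8, 2, 1, 0, 1, 2, 0],
  .branch 165 [0, 10, 0, 1, 0, 0, 10, 0, 11, 3, 1],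
  .branch 293 [0, 8, 0, 3, 1, 0, 3, 1, 0, 4, 0],
  .branch 277 [0, 8, 0, 4, 0, 1, 4, 2, 0, 0, 1],
  .branch 85 [0, 9, 0, 5, 0, 3, 0, 3, 1, 1, 0],
  .branch 197 [0, 8, 0, 5, 1, 4, 0, 0, 6, 0, 1],
  .branch 537 [0, 10, 3, 0, 0, 8, 19, 10, 3, 0, 0],
  .branch 297 [0, 13, 5, 0, 0, 0, 8, 19, 0, 9, 5],
  .branch 89 [0, 13, 4, 0, 0, 1, 0, 0, 1, 2, 2],
  .branch 105 [0, 18, 10, 0, 1, 0, 0, 1, 2, 11, 0],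
  .branch 393 [0, 20, 10, 0, 2, 3, 2, 0, 0, 0, 10],
  .branch 113 [0, 16, 7, 2, 0, 0, 0, 3, 4, 0, 2],
  .branch 401 [0, 16, 9, 2, 0, 5, 4, 0, 0, 2, 0],
  .branch 225 [0, 16, 8, 4, 2, 0, 0, 0, 0, 2, 4],
  .branch 673 [0, 18, 9, 4, 3, 0, 1, 0, 1, 0, 0],
  .branch 833 [0, 20, 10, 5, 4, 2, 0, 2, 0, 0, 0],
  .branch 46 [18, 0, 0, 0, 24, 0, 25, 28, 0, 18, 0],
  .branch 526 [19, 0, 0, 0, 25, 1, 30, 0, 1, 0, 28],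
  .branch 78 [19, 0, 0, 0, 26, 2, 0, 1, 2, 1, 0],
  .branch 54 [18, 0, 0, 3, 0, 0, 28, 18, 3, 0, 26],
  .branch 86 [16, 0, 0, 2, 0, 1, 0, 0, 25, 1, 2],
  .branch 278 [18, 0, 0, 5, 0, 2, 1, 1, 0, 2, 0],
  .branch 166 [21, 0, 0, 5, 2, 0, 2, 0, 6, 3, 0],
  .branch 326 [24, 0, 0, 5, 2, 7, 0, 3, 0, 0, 2],
  .branch 58 [17, 0, 5, 0, 0, 0, 0, 36, 8, 5, 31],
  .branch 538 [19, 0, 6, 0, 0, 1, 1, 8, 0, 0, 19],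
  .branch 154 [18, 0, 6, 0, 0, 2, 2, 0, 1, 1, 0],
  .branch 554 [29, 0, 8, 0, 2, 0, 3, 10, 2, 0, 0],
  .branch 202 [20, 0, 8, 0, 2, 4, 0, 0, 0, 11, 2],
  .branch 178 [28, 0, 7, 3, 0, 0, 5, 0, 0, 10, 3],
  .branch 594 [19, 0, 7, 5, 0, 6, 0, 10, 5, 0, 0],
  .branch 226 [18, 0, 9, 3, 2, 0, 0, 0, 2, 0, 9],
  .branch 354 [19, 0, 9, 4, 3, 0, 0, 1, 0, 1, 0],
  .branch 898 [23, 0, 10, 5, 4, 2, 2, 0, 0, 0, 0],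
  .branch 60 [27, 10, 0, 0, 0, 0, 10, 33, 18, 15, 0],
  .branch 92 [27, 11, 0, 0, 0, 1, 0, 15, 36, 0, 1],
  .branch 156 [28, 10, 0, 0, 0, 2, 1, 0, 0, 1, 2],
  .branch 108 [28, 13, 0, 0, 2, 0, 0, 0, 21, 2, 3],
  .branch 780 [28, 13, 0, 0, 2, 22, 3, 2, 0, 0, 0],
  .branch 116 [28, 15, 0, 2, 0, 0, 0, 2, 0, 4, 5],
  .branch 660 [35, 20, 0, 4, 0, 21, 5, 0, 4, 0, 0],
  .branch 612 [30, 10, 0, 4, 2, 0, 0, 4, 2, 0, 0],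
  .branch 420 [29, 13, 0, 5, 3, 0, 3, 0, 0, 0, 20],
  .branch 452 [30, 15, 0, 6, 4, 1, 0, 0, 0, 1, 0],
  .branch 184 [36, 15, 7, 0, 0, 0, 7, 0, 8, 0, 10],
  .branch 344 [37, 17, 6, 0, 0, 6, 0, 9, 0, 10, 0],
  .branch 360 [33, 14, 7, 0, 1, 0, 0, 9, 0, 0, 1],
  .branch 424 [34, 18, 5, 0, 3, 0, 1, 0, 0, 1, 0],
  .branch 712 [38, 17, 11, 0, 4, 2, 0, 0, 2, 0, 0],
  .branch 240 [36, 18, 10, 5, 0, 0, 0, 0, 10, 5, 0],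
  .branch 816 [39, 21, 8, 4, 0, 0, 4, 6, 0, 0, 0],
  .branch 464 [38, 22, 8, 6, 0, 2, 0, 0, 0, 0, 2],
  .leaf [0, 1, 2, 3, 9, 8, 10, 4, 7, 5, 6] [0, 1, 2, 3, 7, 9, 10, 8, 5, 4, 6],
  .branch 78 [18, 0, 0, 0, 25, 1, 0, 0, 18, 30, 1],
  .branch 270 [19, 0, 0, 0, 26, 2, 1, 1, 0, 0, 2],
  .branch 86 [15, 0, 0, 2, 0, 28, 0, 2, 24, 0, 15],
  .branch 54 [19, 0, 0, 4, 0, 0, 1, 19, 0, 1, 4],
  .branch 150 [20, 0, 0, 4, 0, 1, 2, 0, 1, 2, 0],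
  .branch 166 [21, 0, 0, 5, 1, 0, 5, 0, 2, 0, 1],
  .branch 326 [24, 0, 0, 5, 3, 3, 0, 6, 0, 4, 0],
  .branch 154 [16, 0, 3, 0, 0, 36, 7, 0, 0, 28, 3],
  .branch 538 [19, 0, 6, 0, 0, 0, 6, 1, 1, 0, 19],
  .branch 90 [18, 0, 7, 0, 0, 1, 0, 2, 2, 1, 0],
  .branch 106 [18, 0, 10, 0, 1, 0, 0, 10, 0, 2, 1],
  .branch 650 [18, 0, 6, 0, 3, 3, 11, 0, 4, 0, 0],
  .branch 114 [18, 0, 9, 2, 0, 0, 0, 0, 2, 4, 3],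
  .branch 786 [27, 0, 10, 5, 0, 5, 11, 6, 0, 0, 0],
  .branch 610 [20, 0, 9, 4, 2, 0, 0, 2, 4, 0, 0],
  .branch 418 [19, 0, 10, 5, 3, 0, 3, 0, 0, 10, 0],
  .branch 450 [20, 0, 10, 6, 4, 1, 0, 0, 0, 0, 1],
  .branch 60 [27, 9, 0, 0, 0, 0, 0, 33, 14, 9, 18],
  .branch 156 [27, 11, 0, 0, 0, 1, 1, 0, 11, 0, 14],
  .branch 284 [29, 12, 0, 0, 0, 2, 2, 1, 0, 1, 0],
  .branch 172 [36, 15, 0, 0, 2, 0, 3, 0, 0, 2, 21],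
  .branch 588 [33, 19, 0, 0, 3, 4, 0, 3, 20, 0, 0],
  .branch 564 [28, 14, 0, 4, 0, 0, 5, 4, 19, 0, 0],
  .branch 212 [32, 11, 0, 5, 0, 6, 0, 0, 0, 5, 19],
  .branch 228 [28, 12, 0, 4, 1, 0, 0, 0, 1, 19, 0],
  .branch 356 [29, 15, 0, 5, 2, 0, 0, 1, 0, 0, 1],
  .branch 900 [33, 10, 0, 6, 3, 1, 1, 0, 0, 0, 0],
  .branch 184 [36, 15, 7, 0, 0, 0, 10, 0, 7, 9, 0],
  .branch 344 [37, 18, 5, 0, 0, 11, 0, 5, 0, 0, 9],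
  .branch 232 [33, 17, 5, 0, 2, 0, 0, 0, 9, 0, 2],
  .branch 808 [37, 20, 5, 0, 2, 0, 1, 1, 0, 0, 0],
  .branch 456 [35, 15, 8, 0, 3, 2, 0, 0, 0, 2, 0],
  .branch 368 [36, 20, 7, 4, 0, 0, 0, 9, 0, 4, 0],
  .branch 432 [37, 18, 10, 6, 0, 0, 1, 0, 0, 0, 1],
  .branch 720 [40, 18, 11, 5, 0, 1, 0, 0, 1, 0, 0],
  .leaf [0, 1, 2, 3, 10, 6, 9, 4, 5, 7, 8] [0, 1, 2, 3, 7, 8, 5, 9, 10, 6, 4],
  .branch 293 [0, 5, 0, 1, 0, 0, 8, 9, 0, 5, 1],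
  .branch 533 [0, 4, 0, 8, 0, 1, 0, 4, 1, 0, 11],
  .branch 149 [0, 5, 0, 9, 0, 2, 1, 0, 2, 1, 0],
  .branch 165 [0, 11, 0, 4, 1, 0, 11, 0, 3, 0, 1],
  .branch 141 [0, 11, 0, 0, 2, 1, 0, 0, 13, 1, 2],
  .branch 269 [0, 12, 0, 0, 5, 5, 1, 1, 0, 0, 6],
  .branch 325 [0, 10, 0, 1, 5, 6, 0, 2, 0, 1, 0],
  .branch 153 [0, 10, 3, 0, 0, 18, 3, 0, 0, 10, 5],
  .branch 297 [0, 13, 3, 0, 1, 0, 0, 1, 0, 3, 9],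
  .branch 57 [0, 15, 9, 0, 0, 0, 1, 2, 1, 0, 10],
  .branch 89 [0, 14, 6, 0, 0, 1, 0, 3, 2, 1, 0],
  .branch 649 [0, 14, 6, 0, 2, 2, 7, 0, 4, 0, 0],
  .branch 113 [0, 16, 11, 2, 0, 0, 0, 0, 4, 3, 2],
  .branch 785 [0, 16, 8, 4, 0, 4, 12, 6, 0, 0, 0],
  .branch 609 [0, 19, 11, 5, 2, 0, 0, 2, 6, 0, 0],
  .branch 417 [0, 20, 12, 7, 3, 0, 3, 0, 0, 12, 0],
  .branch 449 [0, 18, 10, 8, 4, 1, 0, 0, 0, 0, 1],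
  .branch 46 [18, 0, 0, 0, 24, 0, 25, 28, 0, 0, 18],
  .branch 78 [14, 0, 0, 0, 25, 1, 0, 14, 1, 30, 0],
  .branch 142 [15, 0, 0, 0, 26, 2, 1, 0, 2, 0, 1],
  .branch 86 [19, 0, 0, 2, 0, 28, 0, 0, 24, 19, 2],
  .branch 54 [21, 0, 0, 4, 0, 0, 1, 1, 4, 0, 27],
  .branch 278 [22, 0, 0, 5, 0, 1, 2, 2, 0, 1, 0],
  .branch 166 [20, 0, 0, 4, 2, 0, 3, 0, 6, 2, 0],
  .branch 326 [18, 0, 0, 6, 2, 7, 0, 4, 0, 0, 2],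
  .branch 58 [16, 0, 4, 0, 0, 0, 0, 36, 8, 4, 31],
  .branch 154 [19, 0, 6, 0, 0, 1, 1, 0, 19, 7, 0],
  .branch 282 [20, 0, 5, 0, 0, 2, 2, 1, 0, 0, 1],
  .branch 554 [19, 0, 7, 0, 1, 0, 3, 9, 1, 0, 0],
  .branch 202 [25, 0, 9, 0, 3, 4, 0, 0, 0, 10, 3],
  .branch 178 [18, 0, 7, 4, 0, 0, 5, 0, 0, 9, 4],
  .branch 594 [30, 0, 7, 4, 0, 6, 0, 11, 4, 0, 0],
  .branch 226 [20, 0, 9, 3, 2, 0, 0, 0, 2, 0, 9],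
  .branch 354 [25, 0, 9, 4, 3, 0, 0, 1, 0, 1, 0],
  .branch 898 [18, 0, 10, 5, 4, 2, 2, 0, 0, 0, 0],
  .branch 60 [26, 10, 0, 0, 0, 0, 10, 0, 18, 14, 36],
  .branch 92 [26, 11, 0, 0, 0, 1, 0, 1, 0, 35, 18],
  .branch 540 [28, 10, 0, 0, 0, 2, 1, 2, 1, 0, 0],
  .branch 108 [30, 13, 0, 0, 2, 0, 0, 3, 2, 0, 20],
  .branch 396 [32, 10, 0, 0, 3, 4, 3, 0, 0, 20, 0],
  .branch 116 [28, 15, 0, 2, 0, 0, 0, 5, 4, 2, 0],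
  .branch 404 [34, 11, 0, 2, 0, 6, 5, 0, 0, 0, 2],
  .branch 228 [30, 10, 0, 4, 2, 0, 0, 0, 0, 4, 2],
  .branch 804 [38, 19, 0, 5, 2, 0, 1, 1, 0, 0, 0],
  .branch 708 [28, 12, 0, 6, 3, 2, 0, 0, 2, 0, 0],
  .branch 312 [36, 15, 9, 0, 0, 0, 9, 10, 0, 18, 0],
  .branch 216 [34, 17, 10, 0, 0, 11, 0, 0, 10, 0, 20],
  .branch 232 [35, 15, 5, 0, 1, 0, 0, 0, 5, 1, 0],
  .branch 424 [33, 18, 6, 0, 3, 0, 1, 0, 0, 0, 1],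
  .branch 840 [33, 20, 11, 0, 3, 1, 0, 1, 0, 0, 0],
  .branch 368 [38, 17, 8, 5, 0, 0, 0, 8, 0, 0, 5],
  .branch 688 [39, 19, 10, 3, 0, 0, 1, 0, 1, 0, 0],
  .branch 464 [36, 22, 10, 6, 0, 2, 0, 0, 0, 2, 0],
  .leaf [0, 1, 2, 3, 7, 10, 8, 4, 9, 6, 5] [0, 1, 2, 3, 7, 10, 9, 4, 6, 8, 5],
  .branch 142 [14, 0, 0, 0, 25, 1, 14, 0, 27, 1, 0],
  .branch 78 [15, 0, 0, 0, 26, 2, 0, 1, 0, 2, 1],
  .branch 54 [20, 0, 0, 3, 0, 0, 28, 0, 20, 3, 26],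
  .branch 86 [20, 0, 0, 2, 0, 1, 0, 1, 2, 20, 0],
  .branch 278 [22, 0, 0, 3, 0, 2, 1, 2, 0, 0, 1],
  .branch 294 [23, 0, 0, 4, 1, 0, 4, 3, 0, 1, 0],
  .branch 198 [20, 0, 0, 5, 3, 4, 0, 0, 5, 0, 3],
  .branch 154 [18, 0, 5, 0, 0, 5, 0, 0, 18, 28, 7],
  .branch 58 [17, 0, 6, 0, 0, 0, 1, 1, 0, 9, 32],
  .branch 538 [18, 0, 5, 0, 0, 1, 2, 2, 1, 0, 0],
  .branch 106 [20, 0, 9, 0, 2, 0, 0, 3, 2, 11, 0],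
  .branch 394 [22, 0, 10, 0, 3, 3, 4, 0, 0, 0, 11],
  .branch 114 [18, 0, 9, 2, 0, 0, 0, 5, 4, 0, 2],
  .branch 402 [24, 0, 9, 2, 0, 5, 6, 0, 0, 2, 0],
  .branch 226 [20, 0, 8, 4, 2, 0, 0, 0, 0, 2, 4],
  .branch 674 [30, 0, 9, 4, 3, 0, 1, 0, 1, 0, 0],
  .branch 834 [18, 0, 10, 5, 4, 2, 0, 2, 0, 0, 0],
  .branch 60 [26, 9, 0, 0, 0, 0, 0, 15, 9, 18, 36],
  .branch 156 [29, 11, 0, 0, 0, 1, 1, 0, 29, 0, 18],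
  .branch 284 [30, 11, 0, 0, 0, 2, 2, 1, 0, 1, 0],
  .branch 172 [34, 18, 0, 0, 2, 0, 3, 0, 0, 2, 20],
  .branch 588 [34, 15, 0, 0, 3, 4, 0, 3, 20, 0, 0],
  .branch 564 [31, 10, 0, 4, 0, 0, 5, 4, 18, 0, 0],
  .branch 212 [29, 16, 0, 5, 0, 6, 0, 0, 0, 5, 20],
  .branch 228 [30, 10, 0, 4, 1, 0, 0, 0, 1, 18, 0],
  .branch 356 [35, 11, 0, 5, 2, 0, 0, 1, 0, 0, 1],
  .branch 900 [28, 15, 0, 6, 3, 1, 1, 0, 0, 0, 0],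
  .branch 184 [33, 19, 7, 0, 0, 0, 10, 0, 7, 9, 0],
  .branch 344 [36, 20, 5, 0, 0, 11, 0, 5, 0, 0, 9],
  .branch 232 [35, 15, 5, 0, 2, 0, 0, 0, 9, 0, 2],
  .branch 808 [39, 19, 5, 0, 2, 0, 1, 1, 0, 0, 0],
  .branch 456 [33, 17, 8, 0, 3, 2, 0, 0, 0, 2, 0],
  .branch 368 [38, 18, 7, 4, 0, 0, 0, 9, 0, 4, 0],
  .branch 432 [36, 19, 10, 6, 0, 0, 1, 0, 0, 0, 1],
  .branch 720 [36, 22, 11, 5, 0, 1, 0, 0, 1, 0, 0],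
  .leaf [0, 1, 2, 3, 8, 5, 7, 4, 6, 9, 10] [0, 1, 2, 3, 7, 5, 8, 6, 4, 9, 10]]

theorem run7 : run 11 4 std11 [0] cert7 [start7] = true := by decide +kernel

theorem goal7 : GoalOK 11 4 std11 start7 :=
  run_sound hstd11 (goal_zero 11 4 std11) cert7 [start7] run7 start7 (List.mem_singleton_self _)

/-- Start of a stage. -/
def start5 : List ℕ := [31, 103, 391, 1543, 171]

/-- Certificate of a stage. -/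
def cert5 : List Instr :=
  [.branch 523 [0, 0, 1, 0, 1, 5, 0, 5, 0, 0, 4],
  .branch 267 [0, 0, 2, 0, 2, 6, 1, 4, 0, 1, 0],
  .useReq,
  .branch 75 [0, 0, 2, 0, 2, 3, 0, 6, 1, 1, 0],
  .relabel [0, 1, 2, 3, 4, 5, 6, 7, 8, 10, 9] [0, 1, 2, 3, 4, 5, 6, 7, 8, 10, 9],
  .useReq]

theorem run5 : run 11 4 std11 start7 cert5 [start5] = true := by decide +kernel

theorem goal5 : GoalOK 11 4 std11 start5 :=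
  run_sound hstd11 goal7 cert5 [start5] run5 start5 (List.mem_singleton_self _)

/-- Start of a stage. -/
def start4 : List ℕ := [31, 103, 391, 1543]

/-- Certificate of a stage. -/
def cert4 : List Instr :=
  [.branch 43 [0, 0, 1, 0, 1, 0, 2, 0, 0, 0, 0],
  .useReq,
  .relabel [0, 1, 2, 3, 4, 5, 6, 8, 7, 9, 10] [0, 1, 2, 3, 4, 5, 6, 8, 7, 9, 10],
  .useReq,
  .relabel [0, 1, 2, 3, 4, 5, 6, 9, 10, 7, 8] [0, 1, 2, 3, 4, 5, 6, 9, 10, 7, 8],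
  .useReq,
  .relabel [0, 1, 2, 3, 4, 5, 6, 9, 10, 8, 7] [0, 1, 2, 3, 4, 5, 6, 10, 9, 7, 8],
  .useReq]

theorem run4 : run 11 4 std11 start5 cert4 [start4] = true := by decide +kernel

theorem goal4 : GoalOK 11 4 std11 start4 :=
  run_sound hstd11 goal5 cert4 [start4] run4 start4 (List.mem_singleton_self _)

/-- Start of a stage. -/
def start2 : List ℕ := [31, 103]

/-- Certificate of a stage. -/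
def cert2 : List Instr :=
  [.branch 135 [0, 0, 0, 1, 1, 2, 2, 0, 0, 0, 0],
  .branch 519 [0, 0, 0, 2, 2, 3, 3, 1, 1, 0, 0],
  .useReq,
  .branch 263 [0, 0, 0, 2, 2, 3, 3, 1, 0, 1, 0],
  .relabel [0, 1, 2, 3, 4, 5, 6, 7, 9, 8, 10] [0, 1, 2, 3, 4, 5, 6, 7, 9, 8, 10],
  .useReq,
  .branch 263 [0, 0, 0, 2, 2, 3, 3, 1, 0, 0, 1],
  .relabel [0, 1, 2, 3, 4, 5, 6, 7, 10, 9, 8] [0, 1, 2, 3, 4, 5, 6, 7, 10, 9, 8],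
  .useReq]

theorem run2 : run 11 4 std11 start4 cert2 [start2] = true := by decide +kernel

theorem goal2 : GoalOK 11 4 std11 start2 :=
  run_sound hstd11 goal4 cert2 [start2] run2 start2 (List.mem_singleton_self _)

/-- Start of a stage. -/
def start1 : List ℕ := [31]

/-- Certificate of a stage. -/
def cert1 : List Instr :=
  [.branch 39 [0, 0, 0, 1, 1, 0, 0, 0, 0, 0, 0],
  .useReq,
  .relabel [0, 1, 2, 3, 4, 5, 7, 6, 8, 9, 10] [0, 1, 2, 3, 4, 5, 7, 6, 8, 9, 10],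
  .useReq,
  .relabel [0, 1, 2, 3, 4, 5, 8, 7, 6, 9, 10] [0, 1, 2, 3, 4, 5, 8, 7, 6, 9, 10],
  .useReq,
  .relabel [0, 1, 2, 3, 4, 5, 9, 7, 8, 6, 10] [0, 1, 2, 3, 4, 5, 9, 7, 8, 6, 10],
  .useReq,
  .relabel [0, 1, 2, 3, 4, 5, 10, 7, 8, 9, 6] [0, 1, 2, 3, 4, 5, 10, 7, 8, 9, 6],
  .useReq]

theorem run1 : run 11 4 std11 start2 cert1 [start1] = true := by decide +kernel

theorem goal1 : GoalOK 11 4 std11 start1 :=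
  run_sound hstd11 goal2 cert1 [start1] run1 start1 (List.mem_singleton_self _)

/-- Start of a stage. -/
def start0 : List ℕ := []

/-- Certificate of a stage. -/
def cert0 : List Instr :=
  [.branch 15 [0, 0, 0, 0, 0, 0, 0, 0, 0, 0, 0],
  .useReq,
  .relabel [0, 1, 2, 3, 5, 4, 6, 7, 8, 9, 10] [0, 1, 2, 3, 5, 4, 6, 7, 8, 9, 10],
  .useReq,
  .relabel [0, 1, 2, 3, 6, 5, 4, 7, 8, 9, 10] [0, 1, 2, 3, 6, 5, 4, 7, 8, 9, 10],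
  .useReq,
  .relabel [0, 1, 2, 3, 7, 5, 6, 4, 8, 9, 10] [0, 1, 2, 3, 7, 5, 6, 4, 8, 9, 10],
  .useReq,
  .relabel [0, 1, 2, 3, 8, 5, 6, 7, 4, 9, 10] [0, 1, 2, 3, 8, 5, 6, 7, 4, 9, 10],
  .useReq,
  .relabel [0, 1, 2, 3, 9, 5, 6, 7, 8, 4, 10] [0, 1, 2, 3, 9, 5, 6, 7, 8, 4, 10],
  .useReq,
  .relabel [0, 1, 2, 3, 10, 5, 6, 7, 8, 9, 4] [0, 1, 2, 3, 10, 5, 6, 7, 8, 9, 4],
  .useReq]

theorem run0 : run 11 4 std11 start1 cert0 [start0] = true := by decide +kernel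

theorem goal0 : GoalOK 11 4 std11 start0 :=
  run_sound hstd11 goal1 cert0 [start0] run0 start0 (List.mem_singleton_self _)

/-- Every Steiner system with parameters (4, 5, 11) is isomorphic to the standard family. -/
theorem unique11 {α : Type*} [Fintype α] [DecidableEq α] (hα : Fintype.card α = 11)
    {B : Set (Finset α)} (hB : IsSteinerSystem 4 5 B) : SetSystemIso (stdSet 11 std11) B := by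
  have h1 := goal0 _ (steiner_image hB (Fintype.equivFinOfCardEq hα))
    (fun m hm => absurd hm List.not_mem_nil)
  exact iso_trans h1 (iso_symm (iso_image B (Fintype.equivFinOfCardEq hα)))

end Cfsg.Agent.Lib.Helper35.St11
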