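import Mathlib
import Cfsg.Agent.Lib.Helper35.Steiner11
import Cfsg.Agent.Lib.Helper35.SteinerAutCheck

/-! The automorphism group of any Steiner system with parameters (4, 5, 11) is sharply
4-transitive. -/

set_option autoImplicit false
set_option maxHeartbeats 4000000
set_option maxRecDepth 100000

namespace Cfsg.Agent.Lib.Helper35.St11

open Cfsg Cfsg.Agent.Lib.Helper35 Cfsg.Agent.Lib.Helper35.StSearch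

/-- The chain of transversals. -/
def chain11 : List (ℕ × ℕ × List ℕ × List ℕ) :=
  [(0, 0, [0, 1, 2, 3, 4, 5, 6, 7, 8, 9, 10], [0, 1, 2, 3, 4, 5, 6, 7, 8, 9, 10]),
   (0, 1, [1, 0, 2, 3, 10, 8, 9, 7, 5, 6, 4], [1, 0, 2, 3, 10, 8, 9, 7, 5, 6, 4]),
   (0, 2, [2, 0, 1, 3, 8, 10, 5, 7, 9, 4, 6], [1, 2, 0, 3, 9, 6, 10, 7, 4, 8, 5]),
   (0, 3, [3, 0, 1, 2, 4, 5, 10, 7, 6, 8, 9], [1, 2, 3, 0, 4, 5, 8, 7, 9, 10, 6]),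
   (0, 4, [4, 0, 1, 2, 7, 10, 8, 6, 3, 9, 5], [1, 2, 3, 8, 0, 10, 7, 4, 6, 9, 5]),
   (0, 5, [5, 0, 1, 2, 9, 7, 4, 8, 10, 3, 6], [1, 2, 3, 9, 6, 0, 10, 5, 7, 4, 8]),
   (0, 6, [6, 0, 1, 2, 3, 9, 5, 4, 7, 10, 8], [1, 2, 3, 4, 7, 6, 0, 8, 10, 5, 9]),
   (0, 7, [7, 0, 1, 2, 6, 8, 9, 3, 4, 5, 10], [1, 2, 3, 7, 8, 9, 4, 0, 5, 6, 10]),
   (0, 8, [8, 0, 1, 2, 10, 3, 6, 5, 9, 7, 4], [1, 2, 3, 5, 10, 7, 6, 9, 0, 8, 4]),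
   (0, 9, [9, 0, 1, 2, 8, 4, 3, 10, 5, 6, 7], [1, 2, 3, 6, 5, 8, 9, 10, 4, 0, 7]),
   (0, 10, [10, 0, 1, 2, 5, 6, 7, 9, 8, 4, 3], [1, 2, 3, 10, 9, 4, 5, 6, 8, 7, 0]),
   (1, 1, [0, 1, 2, 3, 4, 5, 6, 7, 8, 9, 10], [0, 1, 2, 3, 4, 5, 6, 7, 8, 9, 10]),
   (1, 2, [0, 2, 1, 3, 6, 9, 4, 7, 10, 5, 8], [0, 2, 1, 3, 6, 9, 4, 7, 10, 5, 8]),
   (1, 3, [0, 3, 1, 2, 9, 6, 8, 7, 5, 10, 4], [0, 2, 3, 1, 10, 8, 5, 7, 6, 4, 9]),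
   (1, 4, [0, 4, 1, 2, 5, 3, 9, 6, 10, 8, 7], [0, 2, 3, 5, 1, 4, 7, 10, 9, 6, 8]),
   (1, 5, [0, 5, 1, 2, 6, 10, 3, 8, 7, 4, 9], [0, 2, 3, 6, 9, 1, 4, 8, 7, 10, 5]),
   (1, 6, [0, 6, 1, 2, 8, 7, 10, 4, 9, 5, 3], [0, 2, 3, 10, 7, 9, 1, 5, 4, 8, 6]),
   (1, 7, [0, 7, 1, 2, 10, 4, 5, 3, 8, 9, 6], [0, 2, 3, 7, 5, 6, 10, 1, 8, 9, 4]),
   (1, 8, [0, 8, 1, 2, 4, 9, 7, 5, 3, 6, 10], [0, 2, 3, 8, 4, 7, 9, 6, 1, 5, 10]),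
   (1, 9, [0, 9, 1, 2, 7, 5, 6, 10, 4, 3, 8], [0, 2, 3, 9, 8, 5, 6, 4, 10, 1, 7]),
   (1, 10, [0, 10, 1, 2, 3, 8, 4, 9, 6, 7, 5], [0, 2, 3, 4, 6, 10, 8, 9, 5, 7, 1]),
   (2, 2, [0, 1, 2, 3, 4, 5, 6, 7, 8, 9, 10], [0, 1, 2, 3, 4, 5, 6, 7, 8, 9, 10]),
   (2, 3, [0, 1, 3, 2, 8, 10, 9, 7, 4, 6, 5], [0, 1, 3, 2, 8, 10, 9, 7, 4, 6, 5]),
   (2, 4, [0, 1, 4, 2, 9, 8, 5, 6, 7, 3, 10], [0, 1, 3, 9, 2, 6, 7, 8, 5, 4, 10]),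
   (2, 5, [0, 1, 5, 2, 3, 4, 6, 8, 9, 10, 7], [0, 1, 3, 4, 5, 2, 6, 10, 7, 8, 9]),
   (2, 6, [0, 1, 6, 2, 10, 5, 8, 4, 3, 7, 9], [0, 1, 3, 8, 7, 5, 2, 9, 6, 10, 4]),
   (2, 7, [0, 1, 7, 2, 5, 9, 10, 3, 6, 4, 8], [0, 1, 3, 7, 9, 4, 8, 2, 10, 5, 6]),
   (2, 8, [0, 1, 8, 2, 7, 6, 4, 5, 10, 9, 3], [0, 1, 3, 10, 6, 7, 5, 4, 2, 9, 8]),
   (2, 9, [0, 1, 9, 2, 6, 3, 7, 10, 8, 5, 4], [0, 1, 3, 5, 10, 9, 4, 6, 8, 2, 7]),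
   (2, 10, [0, 1, 10, 2, 4, 7, 3, 9, 5, 8, 6], [0, 1, 3, 6, 4, 8, 10, 5, 9, 7, 2]),
   (3, 3, [0, 1, 2, 3, 4, 5, 6, 7, 8, 9, 10], [0, 1, 2, 3, 4, 5, 6, 7, 8, 9, 10]),
   (3, 4, [0, 1, 2, 4, 7, 10, 3, 6, 9, 5, 8], [0, 1, 2, 6, 3, 9, 7, 4, 10, 8, 5]),
   (3, 5, [0, 1, 2, 5, 9, 7, 10, 8, 3, 6, 4], [0, 1, 2, 8, 10, 3, 9, 5, 7, 4, 6]),
   (3, 6, [0, 1, 2, 6, 3, 9, 7, 4, 10, 8, 5], [0, 1, 2, 4, 7, 10, 3, 6, 9, 5, 8]),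
   (3, 7, [0, 1, 2, 7, 6, 8, 4, 3, 5, 10, 9], [0, 1, 2, 7, 6, 8, 4, 3, 5, 10, 9]),
   (3, 8, [0, 1, 2, 8, 10, 3, 9, 5, 7, 4, 6], [0, 1, 2, 5, 9, 7, 10, 8, 3, 6, 4]),
   (3, 9, [0, 1, 2, 9, 8, 4, 5, 10, 6, 7, 3], [0, 1, 2, 10, 5, 6, 8, 9, 4, 3, 7]),
   (3, 10, [0, 1, 2, 10, 5, 6, 8, 9, 4, 3, 7], [0, 1, 2, 9, 8, 4, 5, 10, 6, 7, 3])]

theorem chain11_ok : chain11.all (chainOK 11 std11) = true := by decide +kernel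

theorem chain11_complete : ∀ j : Fin 4, ∀ p : Fin 11, j.val ≤ p.val →
    chain11.any (fun e => e.1 == j.val && e.2.1 == p.val) = true := by decide +kernel

theorem rigid11_check : ∀ l ∈ (List.range' 4 (11 - 4)).permutations',
    l ≠ List.range' 4 (11 - 4) →
      std11.all (fun d => std11.contains (mapT 11 (List.range 4 ++ l) d)) = false := by
  decide +kernel

theorem std11_transSharp : TransSharp 4 (stdSet 11 std11) := by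
  apply transSharp_of_checks (by norm_num)
  · apply chain_of_list chain11 chain11_ok
    intro j hj p hp
    have := chain11_complete ⟨j, hj⟩ p hp
    rw [List.any_eq_true] at this
    obtain ⟨e, he, h⟩ := this
    simp only [Bool.and_eq_true, beq_iff_eq] at h
    exact ⟨e, he, h.1, h.2⟩
  · intro g hg hfix
    exact rigid_of_check std11_lt rigid11_check (by norm_num) g hg hfix

/-- The automorphism group of any Steiner system with parameters (4, 5, 11) is sharply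
4-transitive (elementary form). -/
theorem transSharp11 {α : Type*} [Fintype α] [DecidableEq α] (hα : Fintype.card α = 11)
    {B : Set (Finset α)} (hB : IsSteinerSystem 4 5 B) : TransSharp 4 B :=
  std11_transSharp.of_iso (unique11 hα hB)

end Cfsg.Agent.Lib.Helper35.St11
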