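import Mathlib
import Cfsg.Agent.Lib.Helper35.SteinerSearch

/-! Uniqueness of the Steiner system with parameters (5, 6, 12): the standard family of masks and
the certificates for the checker of `SteinerSearch`. -/

set_option autoImplicit false
set_option maxHeartbeats 4000000
set_option maxRecDepth 100000

namespace Cfsg.Agent.Lib.Helper35.St12

open Cfsg Cfsg.Agent.Lib.Helper35 Cfsg.Agent.Lib.Helper35.StSearch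

/-- The masks of the standard family. -/
def std12 : List ℕ := [63, 222, 237, 243, 347, 366, 373, 413, 427, 438, 455, 504, 591, 630, 633, 667, 679, 700, 725, 746, 791, 813, 826, 860, 867, 910, 945, 969, 978, 996, 1117, 1127, 1146, 1175, 1198, 1209, 1227, 1268, 1295, 1331, 1340, 1366, 1385, 1434, 1445, 1484, 1489, 1506, 1566, 1579, 1589, 1619, 1644, 1677, 1714, 1734, 1752, 1761, 1817, 1830, 1861, 1866, 1904, 1923, 1940, 1960, 2135, 2155, 2172, 2191, 2229, 2234, 2265, 2278, 2334, 2343, 2361, 2381, 2418, 2451, 2476, 2506, 2516, 2529, 2589, 2606, 2611, 2650, 2661, 2710, 2729, 2755, 2764, 2800, 2827, 2868, 2886, 2897, 2920, 2949, 2968, 2978, 3099, 3117, 3126, 3150, 3185, 3228, 3235, 3269, 3282, 3304, 3349, 3370, 3395, 3416, 3428, 3462, 3465, 3504, 3591, 3640,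 3657, 3668, 3682, 3722, 3729, 3748, 3852, 3858, 3873, 4032]

theorem std12_cover_check : ∀ m ∈ List.range 4096, popc 12 m = 5 →
    std12.any (fun b => m &&& b == m) = true := by decide +kernel

theorem std12_lt : ∀ b ∈ std12, b < 2 ^ 12 := by decide +kernel

theorem hstd12 : ∀ S : Finset (Fin 12), S.card = 5 → ∃ d ∈ stdSet 12 std12, S ⊆ d := by
  intro S hS
  have h1 : mk 12 S < 4096 := maskOf_lt (vl_lt 12) S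
  have h2 : popc 12 (mk 12 S) = 5 := by rw [← card_eq, hS]
  have := std12_cover_check _ (List.mem_range.mpr h1) h2
  rw [List.any_eq_true] at this
  obtain ⟨b, hb, hmb⟩ := this
  refine ⟨ofMask (vl 12) b, ?_, ?_⟩
  · show mk 12 (ofMask (vl 12) b) ∈ std12
    rw [mk, maskOf_ofMask (vl_surj 12) (std12_lt b hb)]; exact hb
  · rw [maskOf_subset_iff (vl_inj 12), maskOf_ofMask (vl_surj 12) (std12_lt b hb)]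
    simpa [mk] using hmb

theorem goal_zero (n t : ℕ) (std : List ℕ) : GoalOK n t std [0] := by
  intro B hB hg
  obtain ⟨b, hb, hbm⟩ := hg 0 (List.mem_singleton_self 0)
  have h0 : b = ∅ := mk_inj n (by rw [hbm]; exact (maskOf_empty _).symm)
  have := hB.1 b hb
  rw [h0] at this
  simp at this

/-- Start of a stage. -/
def start7 : List ℕ := [63, 207, 783, 3087, 343, 1175, 2583]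

/-- Certificate of a stage. -/
def cert7 : List Instr :=
  [.branch 2119 [0, 0, 0, 2, 5, 0, 0, 2, 5, 7, 4, 0],
  .branch 583 [0, 0, 0, 3, 6, 1, 0, 3, 4, 0, 0, 1],
  .branch 551 [0, 0, 0, 3, 3, 0, 1, 0, 5, 0, 1, 2],
  .branch 295 [0, 0, 0, 4, 4, 0, 3, 1, 0, 1, 0, 3],
  .branch 391 [0, 0, 0, 6, 9, 1, 6, 0, 0, 2, 1, 0],
  .branch 91 [0, 0, 6, 0, 0, 6, 0, 7, 10, 0, 0, 0],
  .branch 1051 [0, 0, 7, 0, 0, 7, 1, 12, 0, 1, 0, 10],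
  .branch 155 [0, 0, 8, 0, 0, 8, 2, 0, 1, 2, 1, 0],
  .branch 1099 [0, 0, 7, 0, 2, 0, 0, 10, 2, 3, 0, 12],
  .branch 171 [0, 0, 7, 0, 2, 0, 1, 0, 0, 7, 1, 2],
  .branch 555 [0, 0, 8, 0, 5, 0, 2, 1, 1, 0, 2, 0],
  .branch 331 [0, 0, 13, 0, 5, 2, 0, 2, 0, 6, 3, 0],
  .branch 651 [0, 0, 10, 0, 5, 2, 7, 0, 3, 0, 0, 2],
  .branch 115 [0, 0, 13, 5, 0, 0, 0, 0, 18, 8, 5, 13],
  .branch 1107 [0, 0, 13, 6, 0, 1, 0, 1, 8, 9, 0, 0],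
  .branch 1075 [0, 0, 12, 7, 0, 0, 1, 2, 9, 0, 0, 1],
  .branch 307 [0, 0, 13, 7, 0, 0, 3, 3, 0, 1, 1, 0],
  .branch 403 [0, 0, 13, 8, 0, 1, 4, 0, 0, 0, 11, 1],
  .branch 355 [0, 0, 15, 7, 2, 0, 0, 5, 0, 0, 10, 2],
  .branch 1187 [0, 0, 16, 7, 4, 0, 6, 0, 10, 4, 0, 0],
  .branch 451 [0, 0, 16, 9, 3, 2, 0, 0, 0, 2, 0, 9],
  .branch 707 [0, 0, 19, 9, 4, 3, 0, 0, 1, 0, 1, 0],
  .branch 1795 [0, 0, 19, 10, 5, 4, 2, 2, 0, 0, 0, 0],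
  .branch 93 [0, 18, 0, 0, 0, 24, 0, 25, 28, 18, 0, 0],
  .branch 541 [0, 19, 0, 0, 0, 25, 1, 0, 27, 0, 1, 31],
  .branch 285 [0, 19, 0, 0, 0, 26, 2, 1, 0, 1, 2, 0],
  .branch 301 [0, 17, 0, 0, 1, 0, 0, 17, 0, 29, 23, 1],
  .branch 557 [0, 17, 0, 0, 3, 0, 1, 3, 1, 0, 0, 17],
  .branch 173 [0, 19, 0, 0, 4, 0, 2, 0, 2, 1, 1, 0],
  .branch 589 [0, 24, 0, 0, 5, 2, 0, 5, 3, 0, 2, 0],
  .branch 397 [0, 21, 0, 0, 5, 2, 4, 0, 0, 6, 0, 2],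
  .branch 117 [0, 18, 0, 5, 0, 0, 0, 18, 5, 0, 8, 31],
  .branch 181 [0, 19, 0, 4, 0, 0, 1, 0, 0, 1, 38, 4],
  .branch 1077 [0, 18, 0, 6, 0, 0, 2, 1, 1, 2, 0, 0],
  .branch 213 [0, 21, 0, 10, 0, 2, 0, 0, 2, 3, 11, 0],
  .branch 789 [0, 18, 0, 10, 0, 3, 4, 3, 0, 0, 0, 10],
  .branch 229 [0, 23, 0, 8, 2, 0, 0, 0, 4, 5, 0, 2],
  .branch 805 [0, 19, 0, 10, 2, 0, 6, 5, 0, 0, 2, 0],
  .branch 453 [0, 18, 0, 8, 4, 2, 0, 0, 0, 0, 2, 4],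
  .branch 1349 [0, 19, 0, 9, 4, 3, 0, 1, 0, 1, 0, 0],
  .branch 1669 [0, 28, 0, 10, 5, 4, 2, 0, 2, 0, 0, 0],
  .branch 121 [0, 28, 10, 0, 0, 0, 0, 28, 15, 10, 18, 0],
  .branch 185 [0, 29, 10, 0, 0, 0, 1, 0, 10, 18, 0, 1],
  .branch 313 [0, 27, 11, 0, 0, 0, 2, 1, 0, 0, 1, 2],
  .branch 217 [0, 31, 10, 0, 0, 2, 0, 0, 0, 20, 2, 3],
  .branch 1561 [0, 30, 10, 0, 0, 2, 22, 3, 2, 0, 0, 0],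
  .branch 233 [0, 33, 10, 0, 2, 0, 0, 0, 2, 0, 4, 5],
  .branch 1321 [0, 38, 17, 0, 4, 0, 21, 5, 0, 4, 0, 0],
  .branch 1225 [0, 28, 12, 0, 4, 2, 0, 0, 4, 2, 0, 0],
  .branch 841 [0, 31, 11, 0, 5, 3, 0, 3, 0, 0, 0, 20],
  .branch 905 [0, 33, 12, 0, 6, 4, 1, 0, 0, 0, 1, 0],
  .branch 369 [0, 33, 19, 7, 0, 0, 0, 7, 0, 8, 0, 10],
  .branch 689 [0, 35, 20, 6, 0, 0, 6, 0, 9, 0, 10, 0],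
  .branch 721 [0, 32, 15, 7, 0, 1, 0, 0, 9, 0, 0, 1],
  .branch 849 [0, 36, 16, 5, 0, 3, 0, 1, 0, 0, 1, 0],
  .branch 1425 [0, 35, 20, 11, 0, 4, 2, 0, 0, 2, 0, 0],
  .branch 481 [0, 36, 18, 10, 5, 0, 0, 0, 0, 10, 5, 0],
  .branch 1633 [0, 39, 21, 8, 4, 0, 0, 4, 6, 0, 0, 0],
  .branch 929 [0, 40, 20, 8, 6, 0, 2, 0, 0, 0, 0, 2],
  .branch 94 [36, 0, 0, 0, 0, 60, 0, 61, 64, 54, 36, 0],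
  .branch 158 [36, 0, 0, 0, 0, 61, 1, 0, 0, 36, 66, 1],
  .branch 542 [37, 0, 0, 0, 0, 62, 2, 1, 1, 0, 0, 2],
  .branch 110 [36, 0, 0, 0, 3, 0, 0, 64, 36, 0, 54, 3],
  .branch 174 [35, 0, 0, 0, 3, 0, 1, 0, 3, 1, 0, 35],
  .branch 302 [38, 0, 0, 0, 4, 0, 2, 1, 0, 2, 1, 0],
  .branch 334 [39, 0, 0, 0, 5, 1, 0, 5, 0, 3, 0, 1],
  .branch 654 [42, 0, 0, 0, 5, 3, 4, 0, 6, 0, 3, 0],
  .branch 118 [36, 0, 0, 5, 0, 0, 0, 54, 72, 5, 0, 8],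
  .branch 182 [36, 0, 0, 5, 0, 0, 1, 0, 8, 66, 1, 0],
  .branch 310 [37, 0, 0, 5, 0, 0, 2, 1, 0, 0, 2, 1],
  .branch 214 [36, 0, 0, 10, 0, 2, 0, 0, 10, 0, 3, 2],
  .branch 1302 [36, 0, 0, 6, 0, 2, 4, 11, 0, 2, 0, 0],
  .branch 230 [36, 0, 0, 9, 2, 0, 0, 0, 0, 2, 5, 4],
  .branch 1574 [46, 0, 0, 10, 4, 0, 6, 10, 4, 0, 0, 0],
  .branch 1222 [38, 0, 0, 9, 4, 2, 0, 0, 2, 4, 0, 0],
  .branch 838 [37, 0, 0, 10, 5, 3, 0, 3, 0, 0, 10, 0],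
  .branch 902 [38, 0, 0, 10, 6, 4, 1, 0, 0, 0, 0, 1],
  .branch 122 [36, 0, 10, 0, 0, 0, 0, 64, 0, 15, 10, 18],
  .branch 186 [36, 0, 10, 0, 0, 0, 1, 0, 1, 0, 15, 10],
  .branch 1082 [37, 0, 12, 0, 0, 0, 2, 1, 2, 1, 0, 0],
  .branch 218 [36, 0, 10, 0, 0, 2, 0, 0, 3, 2, 0, 21],
  .branch 794 [38, 0, 12, 0, 0, 3, 4, 3, 0, 0, 20, 0],
  .branch 234 [36, 0, 10, 0, 2, 0, 0, 0, 5, 4, 2, 0],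
  .branch 810 [40, 0, 14, 0, 2, 0, 6, 5, 0, 0, 0, 2],
  .branch 458 [40, 0, 12, 0, 4, 2, 0, 0, 0, 0, 4, 2],
  .branch 1610 [36, 0, 20, 0, 5, 2, 0, 1, 1, 0, 0, 0],
  .branch 1418 [56, 0, 10, 0, 6, 3, 2, 0, 0, 2, 0, 0],
  .branch 626 [56, 0, 17, 9, 0, 0, 0, 9, 10, 0, 20, 0],
  .branch 434 [56, 0, 16, 10, 0, 0, 11, 0, 0, 10, 0, 20],
  .branch 466 [45, 0, 17, 5, 0, 1, 0, 0, 0, 5, 1, 0],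
  .branch 850 [36, 0, 15, 6, 0, 3, 0, 1, 0, 0, 0, 1],
  .branch 1682 [38, 0, 15, 11, 0, 3, 1, 0, 1, 0, 0, 0],
  .branch 738 [46, 0, 20, 8, 5, 0, 0, 0, 8, 0, 0, 5],
  .branch 1378 [42, 0, 21, 10, 3, 0, 0, 1, 0, 1, 0, 0],
  .branch 930 [36, 0, 18, 10, 6, 0, 2, 0, 0, 0, 2, 0],
  .branch 124 [54, 18, 0, 0, 0, 0, 0, 0, 18, 33, 28, 36],
  .branch 316 [53, 19, 0, 0, 0, 0, 1, 1, 0, 27, 0, 32],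
  .branch 572 [54, 19, 0, 0, 0, 0, 2, 2, 1, 0, 1, 0],
  .branch 348 [54, 21, 0, 0, 0, 2, 0, 3, 0, 0, 2, 39],
  .branch 1180 [57, 19, 0, 0, 0, 3, 4, 0, 3, 38, 0, 0],
  .branch 1132 [64, 33, 0, 0, 4, 0, 0, 5, 4, 38, 0, 0],
  .branch 428 [69, 29, 0, 0, 5, 0, 6, 0, 0, 0, 5, 37],
  .branch 460 [58, 18, 0, 0, 4, 1, 0, 0, 0, 1, 37, 0],
  .branch 716 [57, 19, 0, 0, 5, 2, 0, 0, 1, 0, 0, 1],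
  .branch 1804 [55, 21, 0, 0, 6, 3, 1, 1, 0, 0, 0, 0],
  .branch 372 [54, 28, 0, 7, 0, 0, 0, 10, 0, 7, 9, 0],
  .branch 692 [54, 28, 0, 5, 0, 0, 11, 0, 5, 0, 0, 9],
  .branch 468 [63, 18, 0, 5, 0, 2, 0, 0, 0, 9, 0, 2],
  .branch 1620 [55, 18, 0, 5, 0, 2, 0, 1, 1, 0, 0, 0],
  .branch 916 [71, 33, 0, 8, 0, 3, 2, 0, 0, 0, 2, 0],
  .branch 740 [64, 18, 0, 7, 4, 0, 0, 0, 9, 0, 4, 0],
  .branch 868 [73, 36, 0, 10, 6, 0, 0, 1, 0, 0, 0, 1],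
  .branch 1444 [54, 24, 0, 11, 5, 0, 1, 0, 0, 1, 0, 0],
  .branch 632 [67, 26, 15, 0, 0, 0, 0, 18, 15, 0, 0, 16],
  .branch 440 [70, 26, 13, 0, 0, 0, 19, 0, 0, 13, 18, 0],
  .branch 728 [62, 31, 12, 0, 0, 2, 0, 0, 17, 0, 2, 0],
  .branch 1368 [65, 26, 9, 0, 0, 3, 0, 9, 0, 3, 0, 0],
  .branch 920 [67, 33, 8, 0, 0, 3, 2, 0, 0, 0, 0, 2],
  .branch 488 [62, 34, 16, 0, 4, 0, 0, 0, 0, 17, 0, 4],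
  .branch 872 [70, 35, 8, 0, 6, 0, 0, 1, 0, 0, 1, 0],
  .branch 1704 [62, 28, 14, 0, 3, 0, 2, 0, 2, 0, 0, 0],
  .branch 496 [65, 32, 14, 3, 0, 0, 0, 0, 0, 0, 3, 7],
  .branch 1264 [69, 30, 15, 4, 0, 0, 0, 0, 1, 1, 0, 0],
  .branch 1840 [65, 33, 12, 6, 0, 0, 2, 2, 0, 0, 0, 0],
  .branch 1984 [66, 32, 13, 6, 3, 3, 0, 0, 0, 0, 0, 0],
  .leaf [0, 1, 2, 3, 4, 5, 9, 10, 6, 8, 7, 11] [0, 1, 2, 3, 4, 5, 8, 10, 9, 6, 7, 11],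
  .branch 285 [0, 18, 0, 0, 0, 25, 1, 0, 0, 27, 18, 1],
  .branch 541 [0, 20, 0, 0, 0, 26, 2, 1, 1, 0, 0, 2],
  .branch 557 [0, 16, 0, 0, 1, 0, 0, 24, 29, 0, 1, 16],
  .branch 301 [0, 18, 0, 0, 3, 0, 1, 3, 0, 1, 24, 0],
  .branch 173 [0, 19, 0, 0, 4, 0, 2, 0, 1, 2, 0, 1],
  .branch 333 [0, 18, 0, 0, 5, 2, 0, 5, 0, 3, 0, 2],
  .branch 653 [0, 18, 0, 0, 5, 2, 4, 0, 6, 0, 2, 0],
  .branch 117 [0, 18, 0, 5, 0, 0, 0, 18, 36, 5, 0, 8],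
  .branch 181 [0, 19, 0, 4, 0, 0, 1, 0, 8, 30, 1, 0],
  .branch 309 [0, 17, 0, 6, 0, 0, 2, 1, 0, 0, 2, 1],
  .branch 213 [0, 21, 0, 10, 0, 2, 0, 0, 10, 0, 3, 2],
  .branch 1301 [0, 29, 0, 6, 0, 2, 4, 11, 0, 2, 0, 0],
  .branch 229 [0, 23, 0, 8, 2, 0, 0, 0, 0, 2, 5, 4],
  .branch 1573 [0, 22, 0, 9, 4, 0, 6, 9, 4, 0, 0, 0],
  .branch 1221 [0, 18, 0, 9, 4, 2, 0, 0, 2, 4, 0, 0],
  .branch 837 [0, 21, 0, 10, 5, 3, 0, 3, 0, 0, 10, 0],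
  .branch 901 [0, 23, 0, 10, 6, 4, 1, 0, 0, 0, 0, 1],
  .branch 121 [0, 28, 10, 0, 0, 0, 0, 28, 0, 15, 10, 18],
  .branch 185 [0, 29, 10, 0, 0, 0, 1, 0, 1, 0, 14, 10],
  .branch 1081 [0, 28, 12, 0, 0, 0, 2, 1, 2, 1, 0, 0],
  .branch 217 [0, 31, 10, 0, 0, 2, 0, 0, 3, 2, 0, 21],
  .branch 793 [0, 28, 12, 0, 0, 3, 4, 3, 0, 0, 20, 0],
  .branch 233 [0, 33, 10, 0, 2, 0, 0, 0, 5, 4, 2, 0],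
  .branch 809 [0, 29, 14, 0, 2, 0, 6, 5, 0, 0, 0, 2],
  .branch 457 [0, 28, 12, 0, 4, 2, 0, 0, 0, 0, 4, 2],
  .branch 1609 [0, 37, 20, 0, 5, 2, 0, 1, 1, 0, 0, 0],
  .branch 1417 [0, 30, 10, 0, 6, 3, 2, 0, 0, 2, 0, 0],
  .branch 625 [0, 33, 17, 9, 0, 0, 0, 9, 10, 0, 20, 0],
  .branch 433 [0, 35, 16, 10, 0, 0, 11, 0, 0, 10, 0, 20],
  .branch 465 [0, 33, 17, 5, 0, 1, 0, 0, 0, 5, 1, 0],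
  .branch 849 [0, 36, 15, 6, 0, 3, 0, 1, 0, 0, 0, 1],
  .branch 1681 [0, 38, 15, 11, 0, 3, 1, 0, 1, 0, 0, 0],
  .branch 737 [0, 35, 20, 8, 5, 0, 0, 0, 8, 0, 0, 5],
  .branch 1377 [0, 37, 21, 10, 3, 0, 0, 1, 0, 1, 0, 0],
  .branch 929 [0, 40, 18, 10, 6, 0, 2, 0, 0, 0, 2, 0],
  .branch 94 [36, 0, 0, 0, 0, 60, 0, 61, 64, 54, 0, 36],
  .branch 158 [36, 0, 0, 0, 0, 61, 1, 0, 36, 0, 1, 53],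
  .branch 286 [37, 0, 0, 0, 0, 62, 2, 1, 0, 1, 2, 0],
  .branch 110 [36, 0, 0, 0, 3, 0, 0, 64, 0, 36, 3, 62],
  .branch 174 [35, 0, 0, 0, 3, 0, 1, 0, 1, 3, 35, 0],
  .branch 558 [38, 0, 0, 0, 4, 0, 2, 1, 2, 0, 0, 1],
  .branch 590 [39, 0, 0, 0, 5, 1, 0, 5, 3, 0, 1, 0],
  .branch 398 [42, 0, 0, 0, 5, 3, 4, 0, 0, 6, 0, 3],
  .branch 118 [36, 0, 0, 5, 0, 0, 0, 54, 5, 0, 8, 67],
  .branch 182 [36, 0, 0, 5, 0, 0, 1, 0, 0, 1, 74, 5],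
  .branch 1078 [38, 0, 0, 5, 0, 0, 2, 1, 1, 2, 0, 0],
  .branch 214 [36, 0, 0, 10, 0, 2, 0, 0, 2, 3, 11, 0],
  .branch 790 [38, 0, 0, 10, 0, 3, 4, 3, 0, 0, 0, 10],
  .branch 230 [36, 0, 0, 9, 2, 0, 0, 0, 4, 5, 0, 2],
  .branch 806 [40, 0, 0, 9, 2, 0, 6, 5, 0, 0, 2, 0],
  .branch 454 [38, 0, 0, 8, 4, 2, 0, 0, 0, 0, 2, 4],
  .branch 1350 [46, 0, 0, 9, 4, 3, 0, 1, 0, 1, 0, 0],
  .branch 1670 [36, 0, 0, 10, 5, 4, 2, 0, 2, 0, 0, 0],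
  .branch 122 [36, 0, 10, 0, 0, 0, 0, 64, 15, 10, 18, 0],
  .branch 186 [36, 0, 10, 0, 0, 0, 1, 0, 10, 18, 0, 1],
  .branch 314 [38, 0, 11, 0, 0, 0, 2, 1, 0, 0, 1, 2],
  .branch 218 [36, 0, 10, 0, 0, 2, 0, 0, 0, 20, 2, 3],
  .branch 1562 [56, 0, 10, 0, 0, 2, 22, 3, 2, 0, 0, 0],
  .branch 234 [36, 0, 10, 0, 2, 0, 0, 0, 2, 0, 4, 5],
  .branch 1322 [36, 0, 17, 0, 4, 0, 21, 5, 0, 4, 0, 0],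
  .branch 1226 [40, 0, 12, 0, 4, 2, 0, 0, 4, 2, 0, 0],
  .branch 842 [37, 0, 11, 0, 5, 3, 0, 3, 0, 0, 0, 20],
  .branch 906 [38, 0, 12, 0, 6, 4, 1, 0, 0, 0, 1, 0],
  .branch 370 [46, 0, 19, 7, 0, 0, 0, 7, 0, 8, 0, 10],
  .branch 690 [46, 0, 20, 6, 0, 0, 6, 0, 9, 0, 10, 0],
  .branch 722 [55, 0, 15, 7, 0, 1, 0, 0, 9, 0, 0, 1],
  .branch 850 [36, 0, 16, 5, 0, 3, 0, 1, 0, 0, 1, 0],
  .branch 1426 [39, 0, 20, 11, 0, 4, 2, 0, 0, 2, 0, 0],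
  .branch 482 [56, 0, 18, 10, 5, 0, 0, 0, 0, 10, 5, 0],
  .branch 1634 [37, 0, 21, 8, 4, 0, 0, 4, 6, 0, 0, 0],
  .branch 930 [36, 0, 20, 8, 6, 0, 2, 0, 0, 0, 0, 2],
  .branch 124 [54, 18, 0, 0, 0, 0, 0, 0, 33, 28, 36, 18],
  .branch 316 [55, 17, 0, 0, 0, 0, 1, 1, 0, 17, 0, 35],
  .branch 572 [55, 18, 0, 0, 0, 0, 2, 2, 1, 0, 1, 0],
  .branch 348 [57, 18, 0, 0, 0, 2, 0, 3, 0, 0, 2, 37],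
  .branch 1180 [55, 21, 0, 0, 0, 3, 4, 0, 3, 39, 0, 0],
  .branch 1132 [69, 28, 0, 0, 4, 0, 0, 5, 4, 36, 0, 0],
  .branch 428 [65, 33, 0, 0, 5, 0, 6, 0, 0, 0, 5, 38],
  .branch 460 [54, 22, 0, 0, 4, 1, 0, 0, 0, 1, 36, 0],
  .branch 716 [55, 21, 0, 0, 5, 2, 0, 0, 1, 0, 0, 1],
  .branch 1804 [57, 19, 0, 0, 6, 3, 1, 1, 0, 0, 0, 0],
  .branch 372 [64, 18, 0, 7, 0, 0, 0, 10, 0, 7, 9, 0],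
  .branch 692 [64, 18, 0, 5, 0, 0, 11, 0, 5, 0, 0, 9],
  .branch 468 [54, 27, 0, 5, 0, 2, 0, 0, 0, 9, 0, 2],
  .branch 1620 [54, 19, 0, 5, 0, 2, 0, 1, 1, 0, 0, 0],
  .branch 916 [69, 35, 0, 8, 0, 3, 2, 0, 0, 0, 2, 0],
  .branch 740 [54, 28, 0, 7, 4, 0, 0, 0, 9, 0, 4, 0],
  .branch 868 [72, 37, 0, 10, 6, 0, 0, 1, 0, 0, 0, 1],
  .branch 1444 [60, 18, 0, 11, 5, 0, 1, 0, 0, 1, 0, 0],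
  .branch 632 [62, 31, 15, 0, 0, 0, 0, 18, 15, 0, 0, 16],
  .branch 440 [62, 34, 13, 0, 0, 0, 19, 0, 0, 13, 18, 0],
  .branch 728 [67, 26, 12, 0, 0, 2, 0, 0, 17, 0, 2, 0],
  .branch 1368 [62, 29, 9, 0, 0, 3, 0, 9, 0, 3, 0, 0],
  .branch 920 [69, 31, 8, 0, 0, 3, 2, 0, 0, 0, 0, 2],
  .branch 488 [70, 26, 16, 0, 4, 0, 0, 0, 0, 17, 0, 4],
  .branch 872 [71, 34, 8, 0, 6, 0, 0, 1, 0, 0, 1, 0],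
  .branch 1704 [64, 26, 14, 0, 3, 0, 2, 0, 2, 0, 0, 0],
  .branch 496 [68, 29, 14, 3, 0, 0, 0, 0, 0, 0, 3, 7],
  .branch 1264 [66, 33, 15, 4, 0, 0, 0, 0, 1, 1, 0, 0],
  .branch 1840 [69, 29, 12, 6, 0, 0, 2, 2, 0, 0, 0, 0],
  .branch 1984 [68, 30, 13, 6, 3, 3, 0, 0, 0, 0, 0, 0],
  .leaf [0, 1, 2, 3, 4, 5, 11, 8, 7, 10, 6, 9] [0, 1, 2, 3, 4, 5, 10, 8, 7, 11, 9, 6],
  .branch 539 [0, 0, 7, 0, 0, 7, 1, 0, 9, 0, 1, 13],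
  .branch 283 [0, 0, 8, 0, 0, 8, 2, 1, 0, 1, 2, 0],
  .branch 331 [0, 0, 10, 0, 1, 0, 0, 10, 0, 11, 3, 1],
  .branch 587 [0, 0, 8, 0, 3, 1, 0, 3, 1, 0, 4, 0],
  .branch 555 [0, 0, 8, 0, 4, 0, 1, 4, 2, 0, 0, 1],
  .branch 171 [0, 0, 9, 0, 5, 0, 3, 0, 3, 1, 1, 0],
  .branch 395 [0, 0, 8, 0, 5, 1, 4, 0, 0, 6, 0, 1],
  .branch 1075 [0, 0, 10, 3, 0, 0, 8, 19, 10, 3, 0, 0],
  .branch 595 [0, 0, 13, 5, 0, 0, 0, 8, 19, 0, 9, 5],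
  .branch 179 [0, 0, 13, 4, 0, 0, 1, 0, 0, 1, 2, 2],
  .branch 211 [0, 0, 18, 10, 0, 1, 0, 0, 1, 2, 11, 0],
  .branch 787 [0, 0, 20, 10, 0, 2, 3, 2, 0, 0, 0, 10],
  .branch 227 [0, 0, 16, 7, 2, 0, 0, 0, 3, 4, 0, 2],
  .branch 803 [0, 0, 16, 9, 2, 0, 5, 4, 0, 0, 2, 0],
  .branch 451 [0, 0, 16, 8, 4, 2, 0, 0, 0, 0, 2, 4],
  .branch 1347 [0, 0, 18, 9, 4, 3, 0, 1, 0, 1, 0, 0],
  .branch 1667 [0, 0, 20, 10, 5, 4, 2, 0, 2, 0, 0, 0],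
  .branch 93 [0, 18, 0, 0, 0, 24, 0, 25, 28, 0, 18, 0],
  .branch 1053 [0, 19, 0, 0, 0, 25, 1, 30, 0, 1, 0, 28],
  .branch 157 [0, 19, 0, 0, 0, 26, 2, 0, 1, 2, 1, 0],
  .branch 109 [0, 18, 0, 0, 3, 0, 0, 28, 18, 3, 0, 26],
  .branch 173 [0, 16, 0, 0, 2, 0, 1, 0, 0, 25, 1, 2],
  .branch 557 [0, 18, 0, 0, 5, 0, 2, 1, 1, 0, 2, 0],
  .branch 333 [0, 21, 0, 0, 5, 2, 0, 2, 0, 6, 3, 0],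
  .branch 653 [0, 24, 0, 0, 5, 2, 7, 0, 3, 0, 0, 2],
  .branch 117 [0, 17, 0, 5, 0, 0, 0, 0, 36, 8, 5, 31],
  .branch 1077 [0, 19, 0, 6, 0, 0, 1, 1, 8, 0, 0, 19],
  .branch 309 [0, 18, 0, 6, 0, 0, 2, 2, 0, 1, 1, 0],
  .branch 1109 [0, 29, 0, 8, 0, 2, 0, 3, 10, 2, 0, 0],
  .branch 405 [0, 20, 0, 8, 0, 2, 4, 0, 0, 0, 11, 2],
  .branch 357 [0, 28, 0, 7, 3, 0, 0, 5, 0, 0, 10, 3],
  .branch 1189 [0, 19, 0, 7, 5, 0, 6, 0, 10, 5, 0, 0],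
  .branch 453 [0, 18, 0, 9, 3, 2, 0, 0, 0, 2, 0, 9],
  .branch 709 [0, 19, 0, 9, 4, 3, 0, 0, 1, 0, 1, 0],
  .branch 1797 [0, 23, 0, 10, 5, 4, 2, 2, 0, 0, 0, 0],
  .branch 121 [0, 27, 10, 0, 0, 0, 0, 10, 33, 18, 15, 0],
  .branch 185 [0, 27, 11, 0, 0, 0, 1, 0, 15, 36, 0, 1],
  .branch 313 [0, 28, 10, 0, 0, 0, 2, 1, 0, 0, 1, 2],
  .branch 217 [0, 28, 13, 0, 0, 2, 0, 0, 0, 21, 2, 3],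
  .branch 1561 [0, 28, 13, 0, 0, 2, 22, 3, 2, 0, 0, 0],
  .branch 233 [0, 28, 15, 0, 2, 0, 0, 0, 2, 0, 4, 5],
  .branch 1321 [0, 35, 20, 0, 4, 0, 21, 5, 0, 4, 0, 0],
  .branch 1225 [0, 30, 10, 0, 4, 2, 0, 0, 4, 2, 0, 0],
  .branch 841 [0, 29, 13, 0, 5, 3, 0, 3, 0, 0, 0, 20],
  .branch 905 [0, 30, 15, 0, 6, 4, 1, 0, 0, 0, 1, 0],
  .branch 369 [0, 36, 15, 7, 0, 0, 0, 7, 0, 8, 0, 10],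
  .branch 689 [0, 37, 17, 6, 0, 0, 6, 0, 9, 0, 10, 0],
  .branch 721 [0, 33, 14, 7, 0, 1, 0, 0, 9, 0, 0, 1],
  .branch 849 [0, 34, 18, 5, 0, 3, 0, 1, 0, 0, 1, 0],
  .branch 1425 [0, 38, 17, 11, 0, 4, 2, 0, 0, 2, 0, 0],
  .branch 481 [0, 36, 18, 10, 5, 0, 0, 0, 0, 10, 5, 0],
  .branch 1633 [0, 39, 21, 8, 4, 0, 0, 4, 6, 0, 0, 0],
  .branch 929 [0, 38, 22, 8, 6, 0, 2, 0, 0, 0, 0, 2],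
  .branch 94 [36, 0, 0, 0, 0, 60, 0, 61, 64, 36, 54, 0],
  .branch 158 [35, 0, 0, 0, 0, 61, 1, 0, 0, 54, 66, 1],
  .branch 542 [38, 0, 0, 0, 0, 62, 2, 1, 1, 0, 0, 2],
  .branch 110 [36, 0, 0, 0, 3, 0, 0, 64, 54, 0, 36, 3],
  .branch 174 [36, 0, 0, 0, 3, 0, 1, 0, 3, 1, 0, 52],
  .branch 302 [37, 0, 0, 0, 4, 0, 2, 1, 0, 2, 1, 0],
  .branch 334 [36, 0, 0, 0, 5, 1, 0, 5, 0, 3, 0, 1],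
  .branch 654 [36, 0, 0, 0, 5, 3, 4, 0, 6, 0, 3, 0],
  .branch 118 [36, 0, 0, 5, 0, 0, 0, 36, 72, 5, 0, 8],
  .branch 182 [37, 0, 0, 5, 0, 0, 1, 0, 8, 66, 1, 0],
  .branch 310 [36, 0, 0, 5, 0, 0, 2, 1, 0, 0, 2, 1],
  .branch 214 [39, 0, 0, 10, 0, 2, 0, 0, 10, 0, 3, 2],
  .branch 1302 [47, 0, 0, 6, 0, 2, 4, 11, 0, 2, 0, 0],
  .branch 230 [41, 0, 0, 9, 2, 0, 0, 0, 0, 2, 5, 4],
  .branch 1574 [41, 0, 0, 10, 4, 0, 6, 10, 4, 0, 0, 0],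
  .branch 1222 [36, 0, 0, 9, 4, 2, 0, 0, 2, 4, 0, 0],
  .branch 838 [39, 0, 0, 10, 5, 3, 0, 3, 0, 0, 10, 0],
  .branch 902 [41, 0, 0, 10, 6, 4, 1, 0, 0, 0, 0, 1],
  .branch 122 [36, 0, 10, 0, 0, 0, 0, 0, 69, 15, 10, 18],
  .branch 314 [35, 0, 9, 0, 0, 0, 1, 1, 0, 9, 0, 14],
  .branch 570 [36, 0, 10, 0, 0, 0, 2, 2, 1, 0, 1, 0],
  .branch 346 [36, 0, 15, 0, 0, 2, 0, 3, 0, 0, 2, 21],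
  .branch 1178 [39, 0, 18, 0, 0, 3, 4, 0, 3, 20, 0, 0],
  .branch 1130 [56, 0, 15, 0, 4, 0, 0, 5, 4, 20, 0, 0],
  .branch 426 [56, 0, 11, 0, 5, 0, 6, 0, 0, 0, 5, 19],
  .branch 458 [40, 0, 12, 0, 4, 1, 0, 0, 0, 1, 19, 0],
  .branch 714 [39, 0, 15, 0, 5, 2, 0, 0, 1, 0, 0, 1],
  .branch 1802 [37, 0, 10, 0, 6, 3, 1, 1, 0, 0, 0, 0],
  .branch 370 [36, 0, 15, 7, 0, 0, 0, 10, 0, 7, 9, 0],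
  .branch 690 [36, 0, 18, 5, 0, 0, 11, 0, 5, 0, 0, 9],
  .branch 466 [45, 0, 17, 5, 0, 2, 0, 0, 0, 9, 0, 2],
  .branch 1618 [37, 0, 20, 5, 0, 2, 0, 1, 1, 0, 0, 0],
  .branch 914 [56, 0, 15, 8, 0, 3, 2, 0, 0, 0, 2, 0],
  .branch 738 [46, 0, 20, 7, 4, 0, 0, 0, 9, 0, 4, 0],
  .branch 866 [57, 0, 18, 10, 6, 0, 0, 1, 0, 0, 0, 1],
  .branch 1442 [36, 0, 18, 11, 5, 0, 1, 0, 0, 1, 0, 0],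
  .branch 124 [54, 18, 0, 0, 0, 0, 0, 18, 0, 33, 28, 36],
  .branch 188 [54, 19, 0, 0, 0, 0, 1, 0, 1, 0, 33, 28],
  .branch 1084 [55, 19, 0, 0, 0, 0, 2, 1, 2, 1, 0, 0],
  .branch 220 [54, 21, 0, 0, 0, 2, 0, 0, 3, 2, 0, 39],
  .branch 796 [56, 19, 0, 0, 0, 3, 4, 3, 0, 0, 38, 0],
  .branch 236 [54, 23, 0, 0, 2, 0, 0, 0, 5, 4, 2, 0],
  .branch 812 [58, 18, 0, 0, 2, 0, 6, 5, 0, 0, 0, 2],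
  .branch 460 [58, 18, 0, 0, 4, 2, 0, 0, 0, 0, 4, 2],
  .branch 1612 [54, 18, 0, 0, 5, 2, 0, 1, 1, 0, 0, 0],
  .branch 1420 [66, 28, 0, 0, 6, 3, 2, 0, 0, 2, 0, 0],
  .branch 628 [69, 35, 0, 9, 0, 0, 0, 9, 10, 0, 38, 0],
  .branch 436 [71, 34, 0, 10, 0, 0, 11, 0, 0, 10, 0, 38],
  .branch 468 [63, 18, 0, 5, 0, 1, 0, 0, 0, 5, 1, 0],
  .branch 852 [54, 28, 0, 6, 0, 3, 0, 1, 0, 0, 0, 1],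
  .branch 1684 [56, 21, 0, 11, 0, 3, 1, 0, 1, 0, 0, 0],
  .branch 740 [64, 18, 0, 8, 5, 0, 0, 0, 8, 0, 0, 5],
  .branch 1380 [60, 18, 0, 10, 3, 0, 0, 1, 0, 1, 0, 0],
  .branch 932 [54, 29, 0, 10, 6, 0, 2, 0, 0, 0, 2, 0],
  .branch 632 [67, 33, 8, 0, 0, 0, 0, 17, 18, 0, 0, 8],
  .branch 440 [70, 31, 8, 0, 0, 0, 19, 0, 0, 18, 8, 0],
  .branch 728 [62, 30, 13, 0, 0, 2, 0, 0, 13, 0, 2, 0],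
  .branch 1368 [65, 27, 8, 0, 0, 3, 0, 18, 0, 3, 0, 0],
  .branch 920 [67, 26, 15, 0, 0, 3, 2, 0, 0, 0, 0, 2],
  .branch 488 [62, 34, 16, 0, 4, 0, 0, 0, 0, 16, 0, 4],
  .branch 872 [70, 26, 17, 0, 6, 0, 0, 1, 0, 0, 1, 0],
  .branch 1704 [62, 32, 10, 0, 3, 0, 2, 0, 2, 0, 0, 0],
  .branch 496 [65, 32, 14, 3, 0, 0, 0, 0, 0, 0, 3, 7],
  .branch 1264 [69, 33, 12, 4, 0, 0, 0, 0, 1, 1, 0, 0],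
  .branch 1840 [65, 30, 15, 6, 0, 0, 2, 2, 0, 0, 0, 0],
  .branch 1984 [66, 31, 14, 6, 3, 3, 0, 0, 0, 0, 0, 0],
  .leaf [0, 1, 2, 3, 4, 5, 8, 7, 11, 9, 10, 6] [0, 1, 2, 3, 4, 5, 11, 7, 6, 9, 10, 8],
  .branch 157 [0, 18, 0, 0, 0, 25, 1, 0, 0, 18, 30, 1],
  .branch 541 [0, 19, 0, 0, 0, 26, 2, 1, 1, 0, 0, 2],
  .branch 173 [0, 15, 0, 0, 2, 0, 28, 0, 2, 24, 0, 15],
  .branch 109 [0, 19, 0, 0, 4, 0, 0, 1, 19, 0, 1, 4],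
  .branch 301 [0, 20, 0, 0, 4, 0, 1, 2, 0, 1, 2, 0],
  .branch 333 [0, 21, 0, 0, 5, 1, 0, 5, 0, 2, 0, 1],
  .branch 653 [0, 24, 0, 0, 5, 3, 3, 0, 6, 0, 4, 0],
  .branch 309 [0, 16, 0, 3, 0, 0, 36, 7, 0, 0, 28, 3],
  .branch 1077 [0, 19, 0, 6, 0, 0, 0, 6, 1, 1, 0, 19],
  .branch 181 [0, 18, 0, 7, 0, 0, 1, 0, 2, 2, 1, 0],
  .branch 213 [0, 18, 0, 10, 0, 1, 0, 0, 10, 0, 2, 1],
  .branch 1301 [0, 18, 0, 6, 0, 3, 3, 11, 0, 4, 0, 0],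
  .branch 229 [0, 18, 0, 9, 2, 0, 0, 0, 0, 2, 4, 3],
  .branch 1573 [0, 27, 0, 10, 5, 0, 5, 11, 6, 0, 0, 0],
  .branch 1221 [0, 20, 0, 9, 4, 2, 0, 0, 2, 4, 0, 0],
  .branch 837 [0, 19, 0, 10, 5, 3, 0, 3, 0, 0, 10, 0],
  .branch 901 [0, 20, 0, 10, 6, 4, 1, 0, 0, 0, 0, 1],
  .branch 121 [0, 27, 9, 0, 0, 0, 0, 0, 33, 14, 9, 18],
  .branch 313 [0, 27, 11, 0, 0, 0, 1, 1, 0, 11, 0, 14],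
  .branch 569 [0, 29, 12, 0, 0, 0, 2, 2, 1, 0, 1, 0],
  .branch 345 [0, 36, 15, 0, 0, 2, 0, 3, 0, 0, 2, 21],
  .branch 1177 [0, 33, 19, 0, 0, 3, 4, 0, 3, 20, 0, 0],
  .branch 1129 [0, 28, 14, 0, 4, 0, 0, 5, 4, 19, 0, 0],
  .branch 425 [0, 32, 11, 0, 5, 0, 6, 0, 0, 0, 5, 19],
  .branch 457 [0, 28, 12, 0, 4, 1, 0, 0, 0, 1, 19, 0],
  .branch 713 [0, 29, 15, 0, 5, 2, 0, 0, 1, 0, 0, 1],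
  .branch 1801 [0, 33, 10, 0, 6, 3, 1, 1, 0, 0, 0, 0],
  .branch 369 [0, 36, 15, 7, 0, 0, 0, 10, 0, 7, 9, 0],
  .branch 689 [0, 37, 18, 5, 0, 0, 11, 0, 5, 0, 0, 9],
  .branch 465 [0, 33, 17, 5, 0, 2, 0, 0, 0, 9, 0, 2],
  .branch 1617 [0, 37, 20, 5, 0, 2, 0, 1, 1, 0, 0, 0],
  .branch 913 [0, 35, 15, 8, 0, 3, 2, 0, 0, 0, 2, 0],
  .branch 737 [0, 36, 20, 7, 4, 0, 0, 0, 9, 0, 4, 0],
  .branch 865 [0, 37, 18, 10, 6, 0, 0, 1, 0, 0, 0, 1],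
  .branch 1441 [0, 40, 18, 11, 5, 0, 1, 0, 0, 1, 0, 0],
  .branch 94 [36, 0, 0, 0, 0, 60, 0, 61, 64, 0, 54, 36],
  .branch 158 [36, 0, 0, 0, 0, 61, 1, 0, 36, 1, 66, 0],
  .branch 286 [37, 0, 0, 0, 0, 62, 2, 1, 0, 2, 0, 1],
  .branch 110 [35, 0, 0, 0, 3, 0, 0, 64, 54, 3, 0, 62],
  .branch 174 [37, 0, 0, 0, 3, 0, 1, 0, 0, 61, 1, 3],
  .branch 558 [37, 0, 0, 0, 5, 0, 2, 1, 1, 0, 2, 0],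
  .branch 334 [36, 0, 0, 0, 4, 2, 0, 2, 0, 6, 3, 0],
  .branch 654 [36, 0, 0, 0, 6, 2, 7, 0, 3, 0, 0, 2],
  .branch 118 [35, 0, 0, 5, 0, 0, 0, 0, 72, 8, 5, 67],
  .branch 310 [37, 0, 0, 5, 0, 0, 1, 1, 0, 37, 7, 0],
  .branch 566 [38, 0, 0, 5, 0, 0, 2, 2, 1, 0, 0, 1],
  .branch 1110 [38, 0, 0, 8, 0, 1, 0, 3, 9, 1, 0, 0],
  .branch 406 [47, 0, 0, 8, 0, 3, 4, 0, 0, 0, 10, 3],
  .branch 358 [36, 0, 0, 7, 4, 0, 0, 5, 0, 0, 10, 4],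
  .branch 1190 [47, 0, 0, 7, 4, 0, 6, 0, 10, 4, 0, 0],
  .branch 454 [38, 0, 0, 9, 3, 2, 0, 0, 0, 2, 0, 9],
  .branch 710 [41, 0, 0, 9, 4, 3, 0, 0, 1, 0, 1, 0],
  .branch 1798 [36, 0, 0, 10, 5, 4, 2, 2, 0, 0, 0, 0],
  .branch 122 [36, 0, 10, 0, 0, 0, 0, 10, 69, 18, 15, 0],
  .branch 186 [37, 0, 11, 0, 0, 0, 1, 0, 15, 72, 0, 1],
  .branch 314 [37, 0, 11, 0, 0, 0, 2, 1, 0, 0, 1, 2],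
  .branch 218 [39, 0, 13, 0, 0, 2, 0, 0, 0, 21, 2, 3],
  .branch 1562 [56, 0, 12, 0, 0, 2, 22, 3, 2, 0, 0, 0],
  .branch 234 [41, 0, 15, 0, 2, 0, 0, 0, 2, 0, 4, 5],
  .branch 1322 [41, 0, 20, 0, 4, 0, 21, 5, 0, 4, 0, 0],
  .branch 1226 [35, 0, 10, 0, 4, 2, 0, 0, 4, 2, 0, 0],
  .branch 842 [41, 0, 13, 0, 5, 3, 0, 3, 0, 0, 0, 20],
  .branch 906 [39, 0, 15, 0, 6, 4, 1, 0, 0, 0, 1, 0],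
  .branch 370 [36, 0, 15, 7, 0, 0, 0, 7, 0, 8, 0, 10],
  .branch 690 [36, 0, 17, 6, 0, 0, 6, 0, 9, 0, 10, 0],
  .branch 722 [55, 0, 14, 7, 0, 1, 0, 0, 9, 0, 0, 1],
  .branch 850 [46, 0, 18, 5, 0, 3, 0, 1, 0, 0, 1, 0],
  .branch 1426 [38, 0, 17, 11, 0, 4, 2, 0, 0, 2, 0, 0],
  .branch 482 [56, 0, 18, 10, 5, 0, 0, 0, 0, 10, 5, 0],
  .branch 1634 [36, 0, 21, 8, 4, 0, 0, 4, 6, 0, 0, 0],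
  .branch 930 [47, 0, 22, 8, 6, 0, 2, 0, 0, 0, 0, 2],
  .branch 124 [54, 18, 0, 0, 0, 0, 0, 28, 0, 36, 33, 18],
  .branch 188 [55, 18, 0, 0, 0, 0, 1, 0, 1, 0, 18, 36],
  .branch 1084 [55, 19, 0, 0, 0, 0, 2, 1, 2, 1, 0, 0],
  .branch 220 [57, 18, 0, 0, 0, 2, 0, 0, 3, 2, 0, 38],
  .branch 796 [55, 20, 0, 0, 0, 3, 4, 3, 0, 0, 38, 0],
  .branch 236 [59, 18, 0, 0, 2, 0, 0, 0, 5, 4, 2, 0],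
  .branch 812 [54, 22, 0, 0, 2, 0, 6, 5, 0, 0, 0, 2],
  .branch 460 [54, 22, 0, 0, 4, 2, 0, 0, 0, 0, 4, 2],
  .branch 1612 [54, 18, 0, 0, 5, 2, 0, 1, 1, 0, 0, 0],
  .branch 1420 [64, 30, 0, 0, 6, 3, 2, 0, 0, 2, 0, 0],
  .branch 628 [71, 33, 0, 9, 0, 0, 0, 9, 10, 0, 36, 0],
  .branch 436 [70, 35, 0, 10, 0, 0, 11, 0, 0, 10, 0, 38],
  .branch 468 [54, 27, 0, 5, 0, 1, 0, 0, 0, 5, 1, 0],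
  .branch 852 [64, 18, 0, 6, 0, 3, 0, 1, 0, 0, 0, 1],
  .branch 1684 [57, 20, 0, 11, 0, 3, 1, 0, 1, 0, 0, 0],
  .branch 740 [54, 28, 0, 8, 5, 0, 0, 0, 8, 0, 0, 5],
  .branch 1380 [54, 24, 0, 10, 3, 0, 0, 1, 0, 1, 0, 0],
  .branch 932 [65, 18, 0, 10, 6, 0, 2, 0, 0, 0, 2, 0],
  .branch 632 [69, 31, 8, 0, 0, 0, 0, 17, 18, 0, 0, 8],
  .branch 440 [67, 34, 8, 0, 0, 0, 19, 0, 0, 18, 8, 0],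
  .branch 728 [66, 26, 13, 0, 0, 2, 0, 0, 13, 0, 2, 0],
  .branch 1368 [63, 29, 8, 0, 0, 3, 0, 18, 0, 3, 0, 0],
  .branch 920 [62, 31, 15, 0, 0, 3, 2, 0, 0, 0, 0, 2],
  .branch 488 [70, 26, 16, 0, 4, 0, 0, 0, 0, 16, 0, 4],
  .branch 872 [62, 34, 17, 0, 6, 0, 0, 1, 0, 0, 1, 0],
  .branch 1704 [68, 26, 10, 0, 3, 0, 2, 0, 2, 0, 0, 0],
  .branch 496 [68, 29, 14, 3, 0, 0, 0, 0, 0, 0, 3, 7],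
  .branch 1264 [69, 33, 12, 4, 0, 0, 0, 0, 1, 1, 0, 0],
  .branch 1840 [66, 29, 15, 6, 0, 0, 2, 2, 0, 0, 0, 0],
  .branch 1984 [67, 30, 14, 6, 3, 3, 0, 0, 0, 0, 0, 0],
  .leaf [0, 1, 2, 3, 4, 5, 6, 9, 10, 7, 11, 8] [0, 1, 2, 3, 4, 5, 6, 9, 11, 7, 8, 10],
  .branch 587 [0, 0, 5, 0, 1, 0, 0, 8, 9, 0, 5, 1],
  .branch 1067 [0, 0, 4, 0, 8, 0, 1, 0, 4, 1, 0, 11],
  .branch 299 [0, 0, 5, 0, 9, 0, 2, 1, 0, 2, 1, 0],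
  .branch 331 [0, 0, 11, 0, 4, 1, 0, 11, 0, 3, 0, 1],
  .branch 283 [0, 0, 11, 0, 0, 2, 1, 0, 0, 13, 1, 2],
  .branch 539 [0, 0, 12, 0, 0, 5, 5, 1, 1, 0, 0, 6],
  .branch 651 [0, 0, 10, 0, 1, 5, 6, 0, 2, 0, 1, 0],
  .branch 307 [0, 0, 10, 3, 0, 0, 18, 3, 0, 0, 10, 5],
  .branch 595 [0, 0, 13, 3, 0, 1, 0, 0, 1, 0, 3, 9],
  .branch 115 [0, 0, 15, 9, 0, 0, 0, 1, 2, 1, 0, 10],
  .branch 179 [0, 0, 14, 6, 0, 0, 1, 0, 3, 2, 1, 0],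
  .branch 1299 [0, 0, 14, 6, 0, 2, 2, 7, 0, 4, 0, 0],
  .branch 227 [0, 0, 16, 11, 2, 0, 0, 0, 0, 4, 3, 2],
  .branch 1571 [0, 0, 16, 8, 4, 0, 4, 12, 6, 0, 0, 0],
  .branch 1219 [0, 0, 19, 11, 5, 2, 0, 0, 2, 6, 0, 0],
  .branch 835 [0, 0, 20, 12, 7, 3, 0, 3, 0, 0, 12, 0],
  .branch 899 [0, 0, 18, 10, 8, 4, 1, 0, 0, 0, 0, 1],
  .branch 93 [0, 18, 0, 0, 0, 24, 0, 25, 28, 0, 0, 18],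
  .branch 157 [0, 14, 0, 0, 0, 25, 1, 0, 14, 1, 30, 0],
  .branch 285 [0, 15, 0, 0, 0, 26, 2, 1, 0, 2, 0, 1],
  .branch 173 [0, 19, 0, 0, 2, 0, 28, 0, 0, 24, 19, 2],
  .branch 109 [0, 21, 0, 0, 4, 0, 0, 1, 1, 4, 0, 27],
  .branch 557 [0, 22, 0, 0, 5, 0, 1, 2, 2, 0, 1, 0],
  .branch 333 [0, 20, 0, 0, 4, 2, 0, 3, 0, 6, 2, 0],
  .branch 653 [0, 18, 0, 0, 6, 2, 7, 0, 4, 0, 0, 2],
  .branch 117 [0, 16, 0, 4, 0, 0, 0, 0, 36, 8, 4, 31],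
  .branch 309 [0, 19, 0, 6, 0, 0, 1, 1, 0, 19, 7, 0],
  .branch 565 [0, 20, 0, 5, 0, 0, 2, 2, 1, 0, 0, 1],
  .branch 1109 [0, 19, 0, 7, 0, 1, 0, 3, 9, 1, 0, 0],
  .branch 405 [0, 25, 0, 9, 0, 3, 4, 0, 0, 0, 10, 3],
  .branch 357 [0, 18, 0, 7, 4, 0, 0, 5, 0, 0, 9, 4],
  .branch 1189 [0, 30, 0, 7, 4, 0, 6, 0, 11, 4, 0, 0],
  .branch 453 [0, 20, 0, 9, 3, 2, 0, 0, 0, 2, 0, 9],
  .branch 709 [0, 25, 0, 9, 4, 3, 0, 0, 1, 0, 1, 0],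
  .branch 1797 [0, 18, 0, 10, 5, 4, 2, 2, 0, 0, 0, 0],
  .branch 121 [0, 26, 10, 0, 0, 0, 0, 10, 0, 18, 14, 36],
  .branch 185 [0, 26, 11, 0, 0, 0, 1, 0, 1, 0, 35, 18],
  .branch 1081 [0, 28, 10, 0, 0, 0, 2, 1, 2, 1, 0, 0],
  .branch 217 [0, 30, 13, 0, 0, 2, 0, 0, 3, 2, 0, 20],
  .branch 793 [0, 32, 10, 0, 0, 3, 4, 3, 0, 0, 20, 0],
  .branch 233 [0, 28, 15, 0, 2, 0, 0, 0, 5, 4, 2, 0],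
  .branch 809 [0, 34, 11, 0, 2, 0, 6, 5, 0, 0, 0, 2],
  .branch 457 [0, 30, 10, 0, 4, 2, 0, 0, 0, 0, 4, 2],
  .branch 1609 [0, 38, 19, 0, 5, 2, 0, 1, 1, 0, 0, 0],
  .branch 1417 [0, 28, 12, 0, 6, 3, 2, 0, 0, 2, 0, 0],
  .branch 625 [0, 36, 15, 9, 0, 0, 0, 9, 10, 0, 18, 0],
  .branch 433 [0, 34, 17, 10, 0, 0, 11, 0, 0, 10, 0, 20],
  .branch 465 [0, 35, 15, 5, 0, 1, 0, 0, 0, 5, 1, 0],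
  .branch 849 [0, 33, 18, 6, 0, 3, 0, 1, 0, 0, 0, 1],
  .branch 1681 [0, 33, 20, 11, 0, 3, 1, 0, 1, 0, 0, 0],
  .branch 737 [0, 38, 17, 8, 5, 0, 0, 0, 8, 0, 0, 5],
  .branch 1377 [0, 39, 19, 10, 3, 0, 0, 1, 0, 1, 0, 0],
  .branch 929 [0, 36, 22, 10, 6, 0, 2, 0, 0, 0, 2, 0],
  .branch 94 [36, 0, 0, 0, 0, 60, 0, 61, 64, 36, 0, 54],
  .branch 158 [36, 0, 0, 0, 0, 61, 1, 0, 50, 0, 1, 36],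
  .branch 286 [36, 0, 0, 0, 0, 62, 2, 1, 0, 1, 2, 0],
  .branch 110 [35, 0, 0, 0, 3, 0, 0, 64, 0, 56, 3, 62],
  .branch 174 [37, 0, 0, 0, 3, 0, 1, 0, 1, 3, 56, 0],
  .branch 558 [36, 0, 0, 0, 4, 0, 2, 1, 2, 0, 0, 1],
  .branch 590 [42, 0, 0, 0, 5, 1, 0, 5, 3, 0, 1, 0],
  .branch 398 [40, 0, 0, 0, 5, 3, 4, 0, 0, 6, 0, 3],
  .branch 118 [36, 0, 0, 5, 0, 0, 0, 36, 5, 0, 8, 67],
  .branch 182 [37, 0, 0, 5, 0, 0, 1, 0, 0, 1, 74, 5],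
  .branch 1078 [36, 0, 0, 5, 0, 0, 2, 1, 1, 2, 0, 0],
  .branch 214 [39, 0, 0, 10, 0, 2, 0, 0, 2, 3, 11, 0],
  .branch 790 [36, 0, 0, 10, 0, 3, 4, 3, 0, 0, 0, 10],
  .branch 230 [41, 0, 0, 9, 2, 0, 0, 0, 4, 5, 0, 2],
  .branch 806 [37, 0, 0, 9, 2, 0, 6, 5, 0, 0, 2, 0],
  .branch 454 [36, 0, 0, 8, 4, 2, 0, 0, 0, 0, 2, 4],
  .branch 1350 [37, 0, 0, 9, 4, 3, 0, 1, 0, 1, 0, 0],
  .branch 1670 [46, 0, 0, 10, 5, 4, 2, 0, 2, 0, 0, 0],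
  .branch 122 [36, 0, 10, 0, 0, 0, 0, 0, 15, 10, 18, 72],
  .branch 314 [37, 0, 10, 0, 0, 0, 1, 1, 0, 65, 0, 17],
  .branch 570 [37, 0, 12, 0, 0, 0, 2, 2, 1, 0, 1, 0],
  .branch 346 [39, 0, 18, 0, 0, 2, 0, 3, 0, 0, 2, 19],
  .branch 1178 [37, 0, 15, 0, 0, 3, 4, 0, 3, 21, 0, 0],
  .branch 1130 [55, 0, 10, 0, 4, 0, 0, 5, 4, 18, 0, 0],
  .branch 426 [57, 0, 15, 0, 5, 0, 6, 0, 0, 0, 5, 20],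
  .branch 458 [36, 0, 10, 0, 4, 1, 0, 0, 0, 1, 18, 0],
  .branch 714 [37, 0, 11, 0, 5, 2, 0, 0, 1, 0, 0, 1],
  .branch 1802 [39, 0, 15, 0, 6, 3, 1, 1, 0, 0, 0, 0],
  .branch 370 [46, 0, 19, 7, 0, 0, 0, 10, 0, 7, 9, 0],
  .branch 690 [46, 0, 20, 5, 0, 0, 11, 0, 5, 0, 0, 9],
  .branch 466 [36, 0, 15, 5, 0, 2, 0, 0, 0, 9, 0, 2],
  .branch 1618 [36, 0, 19, 5, 0, 2, 0, 1, 1, 0, 0, 0],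
  .branch 914 [56, 0, 17, 8, 0, 3, 2, 0, 0, 0, 2, 0],
  .branch 738 [36, 0, 18, 7, 4, 0, 0, 0, 9, 0, 4, 0],
  .branch 866 [57, 0, 19, 10, 6, 0, 0, 1, 0, 0, 0, 1],
  .branch 1442 [42, 0, 22, 11, 5, 0, 1, 0, 0, 1, 0, 0],
  .branch 124 [54, 18, 0, 0, 0, 0, 0, 18, 33, 28, 36, 0],
  .branch 188 [54, 19, 0, 0, 0, 0, 1, 0, 28, 36, 0, 1],
  .branch 316 [56, 19, 0, 0, 0, 0, 2, 1, 0, 0, 1, 2],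
  .branch 220 [54, 21, 0, 0, 0, 2, 0, 0, 0, 38, 2, 3],
  .branch 1564 [66, 28, 0, 0, 0, 2, 40, 3, 2, 0, 0, 0],
  .branch 236 [54, 23, 0, 0, 2, 0, 0, 0, 2, 0, 4, 5],
  .branch 1324 [54, 23, 0, 0, 4, 0, 39, 5, 0, 4, 0, 0],
  .branch 1228 [58, 17, 0, 0, 4, 2, 0, 0, 4, 2, 0, 0],
  .branch 844 [55, 23, 0, 0, 5, 3, 0, 3, 0, 0, 0, 38],
  .branch 908 [56, 21, 0, 0, 6, 4, 1, 0, 0, 0, 1, 0],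
  .branch 372 [64, 18, 0, 7, 0, 0, 0, 7, 0, 8, 0, 10],
  .branch 692 [64, 18, 0, 6, 0, 0, 6, 0, 9, 0, 10, 0],
  .branch 724 [68, 33, 0, 7, 0, 1, 0, 0, 9, 0, 0, 1],
  .branch 852 [54, 28, 0, 5, 0, 3, 0, 1, 0, 0, 1, 0],
  .branch 1428 [57, 20, 0, 11, 0, 4, 2, 0, 0, 2, 0, 0],
  .branch 484 [72, 36, 0, 10, 5, 0, 0, 0, 0, 10, 5, 0],
  .branch 1636 [55, 18, 0, 8, 4, 0, 0, 4, 6, 0, 0, 0],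
  .branch 932 [54, 29, 0, 8, 6, 0, 2, 0, 0, 0, 0, 2],
  .branch 632 [62, 33, 13, 0, 0, 0, 0, 13, 16, 0, 0, 18],
  .branch 440 [62, 31, 16, 0, 0, 0, 16, 0, 0, 17, 18, 0],
  .branch 728 [67, 30, 8, 0, 0, 2, 0, 0, 17, 0, 2, 0],
  .branch 1368 [62, 27, 11, 0, 0, 3, 0, 18, 0, 3, 0, 0],
  .branch 920 [69, 26, 13, 0, 0, 3, 2, 0, 0, 0, 0, 2],
  .branch 488 [70, 34, 8, 0, 4, 0, 0, 0, 0, 18, 0, 4],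
  .branch 872 [71, 26, 16, 0, 6, 0, 0, 1, 0, 0, 1, 0],
  .branch 1704 [64, 32, 8, 0, 3, 0, 2, 0, 2, 0, 0, 0],
  .branch 496 [68, 32, 11, 3, 0, 0, 0, 0, 0, 0, 3, 7],
  .branch 1264 [66, 33, 15, 4, 0, 0, 0, 0, 1, 1, 0, 0],
  .branch 1840 [69, 30, 11, 6, 0, 0, 2, 2, 0, 0, 0, 0],
  .branch 1984 [68, 31, 12, 6, 3, 3, 0, 0, 0, 0, 0, 0],
  .leaf [0, 1, 2, 3, 4, 5, 10, 6, 9, 11, 8, 7] [0, 1, 2, 3, 4, 5, 7, 11, 10, 8, 6, 9],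
  .branch 285 [0, 14, 0, 0, 0, 25, 1, 14, 0, 27, 1, 0],
  .branch 157 [0, 15, 0, 0, 0, 26, 2, 0, 1, 0, 2, 1],
  .branch 109 [0, 20, 0, 0, 3, 0, 0, 28, 0, 20, 3, 26],
  .branch 173 [0, 20, 0, 0, 2, 0, 1, 0, 1, 2, 20, 0],
  .branch 557 [0, 22, 0, 0, 3, 0, 2, 1, 2, 0, 0, 1],
  .branch 589 [0, 23, 0, 0, 4, 1, 0, 4, 3, 0, 1, 0],
  .branch 397 [0, 20, 0, 0, 5, 3, 4, 0, 0, 5, 0, 3],
  .branch 309 [0, 18, 0, 5, 0, 0, 5, 0, 0, 18, 28, 7],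
  .branch 117 [0, 17, 0, 6, 0, 0, 0, 1, 1, 0, 9, 32],
  .branch 1077 [0, 18, 0, 5, 0, 0, 1, 2, 2, 1, 0, 0],
  .branch 213 [0, 20, 0, 9, 0, 2, 0, 0, 3, 2, 11, 0],
  .branch 789 [0, 22, 0, 10, 0, 3, 3, 4, 0, 0, 0, 11],
  .branch 229 [0, 18, 0, 9, 2, 0, 0, 0, 5, 4, 0, 2],
  .branch 805 [0, 24, 0, 9, 2, 0, 5, 6, 0, 0, 2, 0],
  .branch 453 [0, 20, 0, 8, 4, 2, 0, 0, 0, 0, 2, 4],
  .branch 1349 [0, 30, 0, 9, 4, 3, 0, 1, 0, 1, 0, 0],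
  .branch 1669 [0, 18, 0, 10, 5, 4, 2, 0, 2, 0, 0, 0],
  .branch 121 [0, 26, 9, 0, 0, 0, 0, 0, 15, 9, 18, 36],
  .branch 313 [0, 29, 11, 0, 0, 0, 1, 1, 0, 29, 0, 18],
  .branch 569 [0, 30, 11, 0, 0, 0, 2, 2, 1, 0, 1, 0],
  .branch 345 [0, 34, 18, 0, 0, 2, 0, 3, 0, 0, 2, 20],
  .branch 1177 [0, 34, 15, 0, 0, 3, 4, 0, 3, 20, 0, 0],
  .branch 1129 [0, 31, 10, 0, 4, 0, 0, 5, 4, 18, 0, 0],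
  .branch 425 [0, 29, 16, 0, 5, 0, 6, 0, 0, 0, 5, 20],
  .branch 457 [0, 30, 10, 0, 4, 1, 0, 0, 0, 1, 18, 0],
  .branch 713 [0, 35, 11, 0, 5, 2, 0, 0, 1, 0, 0, 1],
  .branch 1801 [0, 28, 15, 0, 6, 3, 1, 1, 0, 0, 0, 0],
  .branch 369 [0, 33, 19, 7, 0, 0, 0, 10, 0, 7, 9, 0],
  .branch 689 [0, 36, 20, 5, 0, 0, 11, 0, 5, 0, 0, 9],
  .branch 465 [0, 35, 15, 5, 0, 2, 0, 0, 0, 9, 0, 2],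
  .branch 1617 [0, 39, 19, 5, 0, 2, 0, 1, 1, 0, 0, 0],
  .branch 913 [0, 33, 17, 8, 0, 3, 2, 0, 0, 0, 2, 0],
  .branch 737 [0, 38, 18, 7, 4, 0, 0, 0, 9, 0, 4, 0],
  .branch 865 [0, 36, 19, 10, 6, 0, 0, 1, 0, 0, 0, 1],
  .branch 1441 [0, 36, 22, 11, 5, 0, 1, 0, 0, 1, 0, 0],
  .branch 94 [36, 0, 0, 0, 0, 60, 0, 61, 64, 0, 36, 54],
  .branch 158 [35, 0, 0, 0, 0, 61, 1, 0, 50, 1, 66, 0],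
  .branch 286 [37, 0, 0, 0, 0, 62, 2, 1, 0, 2, 0, 1],
  .branch 110 [36, 0, 0, 0, 3, 0, 0, 64, 36, 3, 0, 62],
  .branch 174 [36, 0, 0, 0, 3, 0, 1, 0, 0, 61, 1, 3],
  .branch 558 [36, 0, 0, 0, 5, 0, 2, 1, 1, 0, 2, 0],
  .branch 334 [39, 0, 0, 0, 4, 2, 0, 2, 0, 6, 3, 0],
  .branch 654 [41, 0, 0, 0, 6, 2, 7, 0, 3, 0, 0, 2],
  .branch 118 [35, 0, 0, 5, 0, 0, 0, 0, 72, 8, 5, 67],
  .branch 310 [37, 0, 0, 5, 0, 0, 1, 1, 0, 55, 7, 0],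
  .branch 566 [37, 0, 0, 5, 0, 0, 2, 2, 1, 0, 0, 1],
  .branch 1110 [47, 0, 0, 8, 0, 1, 0, 3, 9, 1, 0, 0],
  .branch 406 [40, 0, 0, 8, 0, 3, 4, 0, 0, 0, 10, 3],
  .branch 358 [46, 0, 0, 7, 4, 0, 0, 5, 0, 0, 10, 4],
  .branch 1190 [37, 0, 0, 7, 4, 0, 6, 0, 10, 4, 0, 0],
  .branch 454 [36, 0, 0, 9, 3, 2, 0, 0, 0, 2, 0, 9],
  .branch 710 [37, 0, 0, 9, 4, 3, 0, 0, 1, 0, 1, 0],
  .branch 1798 [41, 0, 0, 10, 5, 4, 2, 2, 0, 0, 0, 0],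
  .branch 122 [36, 0, 10, 0, 0, 0, 0, 10, 0, 18, 15, 72],
  .branch 186 [37, 0, 11, 0, 0, 0, 1, 0, 1, 0, 71, 18],
  .branch 1082 [37, 0, 10, 0, 0, 0, 2, 1, 2, 1, 0, 0],
  .branch 218 [39, 0, 13, 0, 0, 2, 0, 0, 3, 2, 0, 20],
  .branch 794 [37, 0, 10, 0, 0, 3, 4, 3, 0, 0, 20, 0],
  .branch 234 [41, 0, 15, 0, 2, 0, 0, 0, 5, 4, 2, 0],
  .branch 810 [36, 0, 11, 0, 2, 0, 6, 5, 0, 0, 0, 2],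
  .branch 458 [36, 0, 10, 0, 4, 2, 0, 0, 0, 0, 4, 2],
  .branch 1610 [36, 0, 19, 0, 5, 2, 0, 1, 1, 0, 0, 0],
  .branch 1418 [56, 0, 12, 0, 6, 3, 2, 0, 0, 2, 0, 0],
  .branch 626 [55, 0, 15, 9, 0, 0, 0, 9, 10, 0, 18, 0],
  .branch 434 [57, 0, 17, 10, 0, 0, 11, 0, 0, 10, 0, 20],
  .branch 466 [36, 0, 15, 5, 0, 1, 0, 0, 0, 5, 1, 0],
  .branch 850 [46, 0, 18, 6, 0, 3, 0, 1, 0, 0, 0, 1],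
  .branch 1682 [39, 0, 20, 11, 0, 3, 1, 0, 1, 0, 0, 0],
  .branch 738 [36, 0, 17, 8, 5, 0, 0, 0, 8, 0, 0, 5],
  .branch 1378 [36, 0, 19, 10, 3, 0, 0, 1, 0, 1, 0, 0],
  .branch 930 [47, 0, 22, 10, 6, 0, 2, 0, 0, 0, 2, 0],
  .branch 124 [54, 18, 0, 0, 0, 0, 0, 28, 18, 36, 33, 0],
  .branch 188 [55, 18, 0, 0, 0, 0, 1, 0, 33, 18, 0, 1],
  .branch 316 [55, 20, 0, 0, 0, 0, 2, 1, 0, 0, 1, 2],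
  .branch 220 [57, 18, 0, 0, 0, 2, 0, 0, 0, 39, 2, 3],
  .branch 1564 [64, 30, 0, 0, 0, 2, 40, 3, 2, 0, 0, 0],
  .branch 236 [59, 18, 0, 0, 2, 0, 0, 0, 2, 0, 4, 5],
  .branch 1324 [59, 18, 0, 0, 4, 0, 39, 5, 0, 4, 0, 0],
  .branch 1228 [53, 22, 0, 0, 4, 2, 0, 0, 4, 2, 0, 0],
  .branch 844 [59, 19, 0, 0, 5, 3, 0, 3, 0, 0, 0, 38],
  .branch 908 [57, 20, 0, 0, 6, 4, 1, 0, 0, 0, 1, 0],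
  .branch 372 [54, 28, 0, 7, 0, 0, 0, 7, 0, 8, 0, 10],
  .branch 692 [54, 28, 0, 6, 0, 0, 6, 0, 9, 0, 10, 0],
  .branch 724 [69, 32, 0, 7, 0, 1, 0, 0, 9, 0, 0, 1],
  .branch 852 [64, 18, 0, 5, 0, 3, 0, 1, 0, 0, 1, 0],
  .branch 1428 [56, 21, 0, 11, 0, 4, 2, 0, 0, 2, 0, 0],
  .branch 484 [72, 36, 0, 10, 5, 0, 0, 0, 0, 10, 5, 0],
  .branch 1636 [54, 19, 0, 8, 4, 0, 0, 4, 6, 0, 0, 0],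
  .branch 932 [65, 18, 0, 8, 6, 0, 2, 0, 0, 0, 0, 2],
  .branch 632 [69, 26, 13, 0, 0, 0, 0, 13, 16, 0, 0, 18],
  .branch 440 [67, 26, 16, 0, 0, 0, 16, 0, 0, 17, 18, 0],
  .branch 728 [66, 31, 8, 0, 0, 2, 0, 0, 17, 0, 2, 0],
  .branch 1368 [63, 26, 11, 0, 0, 3, 0, 18, 0, 3, 0, 0],
  .branch 920 [62, 33, 13, 0, 0, 3, 2, 0, 0, 0, 0, 2],
  .branch 488 [70, 34, 8, 0, 4, 0, 0, 0, 0, 18, 0, 4],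
  .branch 872 [62, 35, 16, 0, 6, 0, 0, 1, 0, 0, 1, 0],
  .branch 1704 [68, 28, 8, 0, 3, 0, 2, 0, 2, 0, 0, 0],
  .branch 496 [68, 32, 11, 3, 0, 0, 0, 0, 0, 0, 3, 7],
  .branch 1264 [69, 30, 15, 4, 0, 0, 0, 0, 1, 1, 0, 0],
  .branch 1840 [66, 33, 11, 6, 0, 0, 2, 2, 0, 0, 0, 0],
  .branch 1984 [67, 32, 12, 6, 3, 3, 0, 0, 0, 0, 0, 0],
  .leaf [0, 1, 2, 3, 4, 5, 7, 11, 8, 6, 9, 10] [0, 1, 2, 3, 4, 5, 9, 6, 8, 10, 11, 7]]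

theorem run7 : run 12 5 std12 [0] cert7 [start7] = true := by decide +kernel

theorem goal7 : GoalOK 12 5 std12 start7 :=
  run_sound hstd12 (goal_zero 12 5 std12) cert7 [start7] run7 start7 (List.mem_singleton_self _)

/-- Start of a stage. -/
def start5 : List ℕ := [63, 207, 783, 3087, 343]

/-- Certificate of a stage. -/
def cert5 : List Instr :=
  [.branch 1047 [0, 0, 0, 1, 0, 1, 5, 0, 5, 0, 0, 4],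
  .branch 535 [0, 0, 0, 2, 0, 2, 6, 1, 4, 0, 1, 0],
  .useReq,
  .branch 151 [0, 0, 0, 2, 0, 2, 3, 0, 6, 1, 1, 0],
  .relabel [0, 1, 2, 3, 4, 5, 6, 7, 8, 9, 11, 10] [0, 1, 2, 3, 4, 5, 6, 7, 8, 9, 11, 10],
  .useReq]

theorem run5 : run 12 5 std12 start7 cert5 [start5] = true := by decide +kernel

theorem goal5 : GoalOK 12 5 std12 start5 :=
  run_sound hstd12 goal7 cert5 [start5] run5 start5 (List.mem_singleton_self _)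

/-- Start of a stage. -/
def start4 : List ℕ := [63, 207, 783, 3087]

/-- Certificate of a stage. -/
def cert4 : List Instr :=
  [.branch 87 [0, 0, 0, 1, 0, 1, 0, 2, 0, 0, 0, 0],
  .useReq,
  .relabel [0, 1, 2, 3, 4, 5, 6, 7, 9, 8, 10, 11] [0, 1, 2, 3, 4, 5, 6, 7, 9, 8, 10, 11],
  .useReq,
  .relabel [0, 1, 2, 3, 4, 5, 6, 7, 10, 11, 8, 9] [0, 1, 2, 3, 4, 5, 6, 7, 10, 11, 8, 9],
  .useReq,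
  .relabel [0, 1, 2, 3, 4, 5, 6, 7, 10, 11, 9, 8] [0, 1, 2, 3, 4, 5, 6, 7, 11, 10, 8, 9],
  .useReq]

theorem run4 : run 12 5 std12 start5 cert4 [start4] = true := by decide +kernel

theorem goal4 : GoalOK 12 5 std12 start4 :=
  run_sound hstd12 goal5 cert4 [start4] run4 start4 (List.mem_singleton_self _)

/-- Start of a stage. -/
def start2 : List ℕ := [63, 207]

/-- Certificate of a stage. -/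
def cert2 : List Instr :=
  [.branch 271 [0, 0, 0, 0, 1, 1, 2, 2, 0, 0, 0, 0],
  .branch 1039 [0, 0, 0, 0, 2, 2, 3, 3, 1, 1, 0, 0],
  .useReq,
  .branch 527 [0, 0, 0, 0, 2, 2, 3, 3, 1, 0, 1, 0],
  .relabel [0, 1, 2, 3, 4, 5, 6, 7, 8, 10, 9, 11] [0, 1, 2, 3, 4, 5, 6, 7, 8, 10, 9, 11],
  .useReq,
  .branch 527 [0, 0, 0, 0, 2, 2, 3, 3, 1, 0, 0, 1],
  .relabel [0, 1, 2, 3, 4, 5, 6, 7, 8, 11, 10, 9] [0, 1, 2, 3, 4, 5, 6, 7, 8, 11, 10, 9],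
  .useReq]

theorem run2 : run 12 5 std12 start4 cert2 [start2] = true := by decide +kernel

theorem goal2 : GoalOK 12 5 std12 start2 :=
  run_sound hstd12 goal4 cert2 [start2] run2 start2 (List.mem_singleton_self _)

/-- Start of a stage. -/
def start1 : List ℕ := [63]

/-- Certificate of a stage. -/
def cert1 : List Instr :=
  [.branch 79 [0, 0, 0, 0, 1, 1, 0, 0, 0, 0, 0, 0],
  .useReq,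
  .relabel [0, 1, 2, 3, 4, 5, 6, 8, 7, 9, 10, 11] [0, 1, 2, 3, 4, 5, 6, 8, 7, 9, 10, 11],
  .useReq,
  .relabel [0, 1, 2, 3, 4, 5, 6, 9, 8, 7, 10, 11] [0, 1, 2, 3, 4, 5, 6, 9, 8, 7, 10, 11],
  .useReq,
  .relabel [0, 1, 2, 3, 4, 5, 6, 10, 8, 9, 7, 11] [0, 1, 2, 3, 4, 5, 6, 10, 8, 9, 7, 11],
  .useReq,
  .relabel [0, 1, 2, 3, 4, 5, 6, 11, 8, 9, 10, 7] [0, 1, 2, 3, 4, 5, 6, 11, 8, 9, 10, 7],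
  .useReq]

theorem run1 : run 12 5 std12 start2 cert1 [start1] = true := by decide +kernel

theorem goal1 : GoalOK 12 5 std12 start1 :=
  run_sound hstd12 goal2 cert1 [start1] run1 start1 (List.mem_singleton_self _)

/-- Start of a stage. -/
def start0 : List ℕ := []

/-- Certificate of a stage. -/
def cert0 : List Instr :=
  [.branch 31 [0, 0, 0, 0, 0, 0, 0, 0, 0, 0, 0, 0],
  .useReq,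
  .relabel [0, 1, 2, 3, 4, 6, 5, 7, 8, 9, 10, 11] [0, 1, 2, 3, 4, 6, 5, 7, 8, 9, 10, 11],
  .useReq,
  .relabel [0, 1, 2, 3, 4, 7, 6, 5, 8, 9, 10, 11] [0, 1, 2, 3, 4, 7, 6, 5, 8, 9, 10, 11],
  .useReq,
  .relabel [0, 1, 2, 3, 4, 8, 6, 7, 5, 9, 10, 11] [0, 1, 2, 3, 4, 8, 6, 7, 5, 9, 10, 11],
  .useReq,
  .relabel [0, 1, 2, 3, 4, 9, 6, 7, 8, 5, 10, 11] [0, 1, 2, 3, 4, 9, 6, 7, 8, 5, 10, 11],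
  .useReq,
  .relabel [0, 1, 2, 3, 4, 10, 6, 7, 8, 9, 5, 11] [0, 1, 2, 3, 4, 10, 6, 7, 8, 9, 5, 11],
  .useReq,
  .relabel [0, 1, 2, 3, 4, 11, 6, 7, 8, 9, 10, 5] [0, 1, 2, 3, 4, 11, 6, 7, 8, 9, 10, 5],
  .useReq]

theorem run0 : run 12 5 std12 start1 cert0 [start0] = true := by decide +kernel

theorem goal0 : GoalOK 12 5 std12 start0 :=
  run_sound hstd12 goal1 cert0 [start0] run0 start0 (List.mem_singleton_self _)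

/-- Every Steiner system with parameters (5, 6, 12) is isomorphic to the standard family. -/
theorem unique12 {α : Type*} [Fintype α] [DecidableEq α] (hα : Fintype.card α = 12)
    {B : Set (Finset α)} (hB : IsSteinerSystem 5 6 B) : SetSystemIso (stdSet 12 std12) B := by
  have h1 := goal0 _ (steiner_image hB (Fintype.equivFinOfCardEq hα))
    (fun m hm => absurd hm List.not_mem_nil)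
  exact iso_trans h1 (iso_symm (iso_image B (Fintype.equivFinOfCardEq hα)))

end Cfsg.Agent.Lib.Helper35.St12
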