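import Cfsg.Agent.Lib.Helper35.TernRigid

/-!
Explicit monomial automorphisms of the length-12 ternary code and a stabiliser chain showing
that their permutation parts form a group of order at least 95040.
-/

set_option autoImplicit false
set_option maxHeartbeats 4000000

namespace Cfsg.Agent.Lib.Helper35

open Cfsg MulAction
open Cfsg.Agent.S1592 (Blocks idx12 idx12_inj idx12_lt)
open scoped Pointwise

/-! ### Linearity -/

theorem monomialMap_add (σ : Equiv.Perm ArrayPt) (c : ArrayPt → (ZMod 3)ˣ)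
    (x y : ArrayPt → ZMod 3) :
    monomialMap σ c (x + y) = monomialMap σ c x + monomialMap σ c y := by
  funext i
  simp only [monomialMap_apply, Pi.add_apply, mul_add]

theorem monomialMap_smul (σ : Equiv.Perm ArrayPt) (c : ArrayPt → (ZMod 3)ˣ) (a : ZMod 3)
    (x : ArrayPt → ZMod 3) : monomialMap σ c (a • x) = a • monomialMap σ c x := by
  funext i
  simp only [monomialMap_apply, Pi.smul_apply, smul_eq_mul]
  ring

/-- The basis words. -/
def bw (j : Fin 6) : ArrayPt → ZMod 3 :=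
  word (if j = 0 then 1 else 0) (if j = 1 then 1 else 0) (if j = 2 then 1 else 0)
    (if j = 3 then 1 else 0) (if j = 4 then 1 else 0) (if j = 5 then 1 else 0)

theorem word_eq_sum (a0 a1 a2 a3 a4 a5 : ZMod 3) :
    word a0 a1 a2 a3 a4 a5 = a0 • bw 0 + a1 • bw 1 + a2 • bw 2 + a3 • bw 3 + a4 • bw 4 + a5 • bw 5 := by
  funext p
  revert a0 a1 a2 a3 a4 a5 p
  decide +kernel

theorem monoOK_of_basis {σ : Equiv.Perm ArrayPt} {c : ArrayPt → (ZMod 3)ˣ}
    (h : ∀ j : Fin 6, IsTernaryGolayWord (monomialMap σ c (bw j))) : MonoOK σ c := by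
  intro x hx
  rw [eq_word_of_mem x hx, word_eq_sum]
  simp only [monomialMap_add, monomialMap_smul]
  have hj : ∀ j : Fin 6, monomialMap σ c (bw j) ∈ ternaryGolayCode := h
  exact ternaryGolayCode.add_mem (ternaryGolayCode.add_mem (ternaryGolayCode.add_mem
    (ternaryGolayCode.add_mem (ternaryGolayCode.add_mem (ternaryGolayCode.smul_mem _ (hj 0))
    (ternaryGolayCode.smul_mem _ (hj 1))) (ternaryGolayCode.smul_mem _ (hj 2)))
    (ternaryGolayCode.smul_mem _ (hj 3))) (ternaryGolayCode.smul_mem _ (hj 4)))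
    (ternaryGolayCode.smul_mem _ (hj 5))

/-! ### Permutations and signs from tables -/

/-- Validity of a pair of mutually inverse tables. -/
def TblOK12 (t t' : List ℕ) : Prop :=
  (∀ p : ArrayPt, pt12 (t'.getD (idx12 (pt12 (t.getD (idx12 p) 0))) 0) = p) ∧
    ∀ p : ArrayPt, pt12 (t.getD (idx12 (pt12 (t'.getD (idx12 p) 0))) 0) = p

instance (t t' : List ℕ) : Decidable (TblOK12 t t') := by unfold TblOK12; infer_instance

/-- The permutation of the array points given by a table and its inverse. -/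
def tblPerm12 (t t' : List ℕ) (h : TblOK12 t t') : Equiv.Perm ArrayPt where
  toFun p := pt12 (t.getD (idx12 p) 0)
  invFun p := pt12 (t'.getD (idx12 p) 0)
  left_inv := h.1
  right_inv := h.2

/-- Signs from a list of numbers (`2` standing for `-1`). -/
def signOf (s : List ℕ) : ArrayPt → (ZMod 3)ˣ := fun p => if s.getD (idx12 p) 1 = 2 then -1 else 1

/-- Table of a generator. -/
def tg0T : List ℕ := [1, 0, 2, 3, 4, 5, 11, 9, 10, 7, 8, 6]
/-- Inverse table. -/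
def tg0T' : List ℕ := [1, 0, 2, 3, 4, 5, 11, 9, 10, 7, 8, 6]
/-- Signs of a generator. -/
def tg0S : List ℕ := [1, 1, 1, 1, 1, 1, 1, 1, 1, 1, 1, 1]
/-- A generator. -/
def tg0 : Equiv.Perm ArrayPt := tblPerm12 tg0T tg0T' (by decide)
theorem tg0_ok : MonoOK tg0 (signOf tg0S) := monoOK_of_basis (by decide +kernel)
theorem tg0_mem : tg0 ∈ Gbar := ⟨_, tg0_ok⟩
theorem tg0_apply {j : ℕ} (hj : j < 12) : tg0 (pt12 j) = pt12 (tg0T.getD j 0) := by
  show pt12 (tg0T.getD (idx12 (pt12 j)) 0) = _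
  rw [idx12_pt12 hj]

/-- Table of a generator. -/
def tg1T : List ℕ := [1, 2, 3, 4, 0, 5, 6, 10, 11, 7, 8, 9]
/-- Inverse table. -/
def tg1T' : List ℕ := [4, 0, 1, 2, 3, 5, 6, 9, 10, 11, 7, 8]
/-- Signs of a generator. -/
def tg1S : List ℕ := [1, 2, 2, 1, 2, 2, 2, 1, 1, 2, 1, 1]
/-- A generator. -/
def tg1 : Equiv.Perm ArrayPt := tblPerm12 tg1T tg1T' (by decide)
theorem tg1_ok : MonoOK tg1 (signOf tg1S) := monoOK_of_basis (by decide +kernel)
theorem tg1_mem : tg1 ∈ Gbar := ⟨_, tg1_ok⟩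
theorem tg1_apply {j : ℕ} (hj : j < 12) : tg1 (pt12 j) = pt12 (tg1T.getD j 0) := by
  show pt12 (tg1T.getD (idx12 (pt12 j)) 0) = _
  rw [idx12_pt12 hj]

/-- Table of a generator. -/
def tg2T : List ℕ := [0, 1, 2, 3, 5, 4, 9, 11, 10, 6, 8, 7]
/-- Inverse table. -/
def tg2T' : List ℕ := [0, 1, 2, 3, 5, 4, 9, 11, 10, 6, 8, 7]
/-- Signs of a generator. -/
def tg2S : List ℕ := [1, 1, 1, 1, 1, 1, 1, 1, 1, 1, 1, 1]
/-- A generator. -/
def tg2 : Equiv.Perm ArrayPt := tblPerm12 tg2T tg2T' (by decide)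
theorem tg2_ok : MonoOK tg2 (signOf tg2S) := monoOK_of_basis (by decide +kernel)
theorem tg2_mem : tg2 ∈ Gbar := ⟨_, tg2_ok⟩
theorem tg2_apply {j : ℕ} (hj : j < 12) : tg2 (pt12 j) = pt12 (tg2T.getD j 0) := by
  show pt12 (tg2T.getD (idx12 (pt12 j)) 0) = _
  rw [idx12_pt12 hj]

/-- Table of a generator. -/
def tg3T : List ℕ := [5, 7, 9, 11, 2, 10, 0, 8, 4, 3, 6, 1]
/-- Inverse table. -/
def tg3T' : List ℕ := [6, 11, 4, 9, 8, 0, 10, 1, 7, 2, 5, 3]
/-- Signs of a generator. -/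
def tg3S : List ℕ := [1, 1, 2, 2, 2, 1, 2, 1, 2, 2, 2, 2]
/-- A generator. -/
def tg3 : Equiv.Perm ArrayPt := tblPerm12 tg3T tg3T' (by decide)
theorem tg3_ok : MonoOK tg3 (signOf tg3S) := monoOK_of_basis (by decide +kernel)
theorem tg3_mem : tg3 ∈ Gbar := ⟨_, tg3_ok⟩
theorem tg3_apply {j : ℕ} (hj : j < 12) : tg3 (pt12 j) = pt12 (tg3T.getD j 0) := by
  show pt12 (tg3T.getD (idx12 (pt12 j)) 0) = _
  rw [idx12_pt12 hj]

/-- The generators. -/
def tgen : ℕ → Equiv.Perm ArrayPt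
  | 0 => tg0
  | 1 => tg1
  | 2 => tg2
  | _ => tg3

/-- The tables of the generators. -/
def tgenT : ℕ → List ℕ
  | 0 => tg0T
  | 1 => tg1T
  | 2 => tg2T
  | _ => tg3T

theorem tgen_mem (k : ℕ) : tgen k ∈ Gbar := by
  rcases k with _ | _ | _ | k
  · exact tg0_mem
  · exact tg1_mem
  · exact tg2_mem
  · exact tg3_mem

theorem tgenT_lt : ∀ k : Fin 4, ∀ i : Fin 12, (tgenT k).getD i 0 < 12 := by decide

theorem tgen_apply (k : ℕ) {i : ℕ} (hi : i < 12) :
    tgen k (pt12 i) = pt12 ((tgenT k).getD i 0) ∧ (tgenT k).getD i 0 < 12 := by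
  rcases k with _ | _ | _ | k
  · exact ⟨tg0_apply hi, tgenT_lt 0 ⟨i, hi⟩⟩
  · exact ⟨tg1_apply hi, tgenT_lt 1 ⟨i, hi⟩⟩
  · exact ⟨tg2_apply hi, tgenT_lt 2 ⟨i, hi⟩⟩
  · exact ⟨tg3_apply hi, tgenT_lt 3 ⟨i, hi⟩⟩

/-- The product of the generators along a word. -/
def gprod : List ℕ → Equiv.Perm ArrayPt
  | [] => 1
  | k :: w => tgen k * gprod w

/-- The composite of the tables along a word. -/
def wtab : List ℕ → ℕ → ℕ
  | [], i => i
  | k :: w, i => (tgenT k).getD (wtab w i) 0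

theorem gprod_mem : ∀ w : List ℕ, gprod w ∈ Gbar
  | [] => Gbar.one_mem
  | k :: w => Gbar.mul_mem (tgen_mem k) (gprod_mem w)

theorem gprod_apply : ∀ (w : List ℕ) {i : ℕ}, i < 12 →
    gprod w (pt12 i) = pt12 (wtab w i) ∧ wtab w i < 12
  | [], i, hi => ⟨rfl, hi⟩
  | k :: w, i, hi => by
    obtain ⟨h1, h2⟩ := gprod_apply w hi
    obtain ⟨h3, h4⟩ := tgen_apply k h2
    refine ⟨?_, h4⟩
    show tgen k (gprod w (pt12 i)) = _
    rw [h1, h3]
    rfl

/-! ### The stabiliser chain -/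

/-- A lower bound for the order of a permutation group from part of an orbit. -/
theorem card_ge_of_orbit {α : Type*} [DecidableEq α] [Fintype α] (K : Subgroup (Equiv.Perm α))
    (b : α) (S : Finset α) (h2 : ∀ c ∈ S, ∃ σ ∈ K, σ b = c) :
    S.card * Nat.card ↥(K ⊓ stabilizer (Equiv.Perm α) b) ≤ Nat.card K := by
  have h1 : Nat.card K = Nat.card (orbit K b) * Nat.card (stabilizer K b) := by
    rw [Subgroup.card_eq_card_quotient_mul_card_subgroup (stabilizer K b)]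
    congr 1
    exact (Nat.card_congr (orbitEquivQuotientStabilizer K b)).symm
  have h3 : S.card ≤ Nat.card (orbit K b) := by
    let f : ↥S → orbit K b := fun c => ⟨c.1, by
      obtain ⟨σ, hσ, hc⟩ := h2 c.1 c.2
      exact ⟨⟨σ, hσ⟩, hc⟩⟩
    have hf : Function.Injective f := by
      intro x y hxy
      exact Subtype.ext (congrArg (fun z : orbit K b => (z : α)) hxy)
    have := Nat.card_le_card_of_injective f hf
    rwa [Nat.card_eq_fintype_card, Fintype.card_coe] at this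
  have h4 : Nat.card (stabilizer K b) = Nat.card ↥(K ⊓ stabilizer (Equiv.Perm α) b) := by
    apply Nat.card_congr
    exact
      { toFun := fun g => ⟨g.1.1, ⟨g.1.2, g.2⟩⟩
        invFun := fun g => ⟨⟨g.1, g.2.1⟩, g.2.2⟩
        left_inv := fun g => rfl
        right_inv := fun g => rfl }
  rw [h1, h4]
  exact Nat.mul_le_mul_right _ h3

/-- The chain of stabilisers of the first points. -/
def chainK : ℕ → Subgroup (Equiv.Perm ArrayPt)
  | 0 => Gbar
  | k + 1 => chainK k ⊓ stabilizer (Equiv.Perm ArrayPt) (pt12 k)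

theorem mem_chainK (k : ℕ) (σ : Equiv.Perm ArrayPt) :
    σ ∈ chainK k ↔ σ ∈ Gbar ∧ ∀ i < k, σ (pt12 i) = pt12 i := by
  induction k with
  | zero => simp [chainK]
  | succ k ih =>
    rw [chainK, Subgroup.mem_inf, ih, mem_stabilizer_iff]
    constructor
    · rintro ⟨⟨h1, h2⟩, h3⟩
      refine ⟨h1, fun i hi => ?_⟩
      rcases Nat.lt_succ_iff_lt_or_eq.mp hi with h | rfl
      · exact h2 i h
      · exact h3
    · rintro ⟨h1, h2⟩
      exact ⟨⟨h1, fun i hi => h2 i (Nat.lt_succ_of_lt hi)⟩, h2 k (Nat.lt_succ_self k)⟩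

/-- Words for the transversals of the chain. -/
def chainWords : List (List (List ℕ)) := [[[], [0], [1, 0], [1, 1, 0], [2, 3], [3], [3, 3, 3], [3, 0], [3, 3, 0], [3, 1, 0], [3, 3], [2, 3, 0]],
  [[], [0, 1], [0, 1, 0, 1], [1, 1, 1, 1, 0], [3, 3, 3, 1, 3], [1, 2, 0, 3], [2, 1, 2, 1, 3], [3, 2, 3, 1, 1], [1, 2, 3], [2, 3, 2, 3, 1, 1], [1, 2, 1, 3]],
  [[], [3, 2, 0, 3, 1], [2, 1, 1, 1, 2, 1, 1], [1, 1, 1, 2, 1, 1], [0, 3, 2, 1, 3, 1, 1], [0, 1, 3, 3, 1, 3, 1], [3, 2, 3, 1, 0], [1, 3, 3, 1, 3, 1, 0], [0, 3, 2, 3, 1], [3, 2, 1, 3, 1, 1, 0]],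
  [[], [1, 1, 1, 0, 1, 1], [1, 1, 1, 1, 2, 1], [1, 0, 3, 2, 1, 3, 1], [3, 3, 3, 0, 1, 3, 0, 1], [2, 3, 3, 3, 0, 3], [1, 0, 3, 2, 1, 3, 2, 1], [3, 3, 3, 0, 3], [0, 1, 0, 3, 2, 1, 3, 1, 0]],
  [[], [2], [1, 2, 1, 3, 1, 3, 1, 1, 3, 0], [1, 3, 1, 3, 3, 2, 1, 1, 1, 1, 0], [1, 1, 2, 3, 2, 1, 2, 0, 3, 0], [1, 1, 0, 3, 0, 1, 0, 3, 2, 1], [0, 1, 1, 2, 3, 2, 1, 2, 0, 3], [0, 1, 2, 1, 3, 1, 3, 1, 1, 3]]]

/-- The word for level `k` and target `p`. -/
def cword (k p : ℕ) : List ℕ := (chainWords.getD k []).getD (p - k) []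

theorem chain_check : ∀ k : Fin 5, ∀ p : Fin 12, k.val ≤ p.val →
    (∀ i : Fin 5, i.val < k.val → wtab (cword k p) i = i) ∧ wtab (cword k p) k = p := by
  decide +kernel

theorem chain_step (k : ℕ) (hk : k < 5) :
    (12 - k) * Nat.card ↥(chainK (k + 1)) ≤ Nat.card ↥(chainK k) := by
  have h := card_ge_of_orbit (chainK k) (pt12 k) ((Finset.Ico k 12).image pt12) ?_
  · have hc : ((Finset.Ico k 12).image pt12).card = 12 - k := by
      rw [Finset.card_image_of_injOn, Nat.card_Ico]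
      intro a ha b hb hab
      rw [Finset.coe_Ico, Set.mem_Ico] at ha hb
      exact pt12_inj ha.2 hb.2 hab
    rw [hc] at h
    exact h
  · intro c hc
    obtain ⟨p, hp, rfl⟩ := Finset.mem_image.mp hc
    rw [Finset.mem_Ico] at hp
    obtain ⟨h1, h2⟩ := chain_check ⟨k, hk⟩ ⟨p, hp.2⟩ hp.1
    refine ⟨gprod (cword k p), ?_, ?_⟩
    · rw [mem_chainK]
      refine ⟨gprod_mem _, fun i hi => ?_⟩
      rw [(gprod_apply _ (by omega)).1]
      have := h1 ⟨i, by omega⟩ hi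
      exact congrArg pt12 this
    · rw [(gprod_apply _ (by omega)).1]
      exact congrArg pt12 h2

theorem card_Gbar_ge : 95040 ≤ Nat.card ↥Gbar := by
  have h0 := chain_step 0 (by norm_num)
  have h1 := chain_step 1 (by norm_num)
  have h2 := chain_step 2 (by norm_num)
  have h3 := chain_step 3 (by norm_num)
  have h4 := chain_step 4 (by norm_num)
  have h5 : 1 ≤ Nat.card ↥(chainK 5) := Nat.card_pos
  have e : chainK 0 = Gbar := rfl
  rw [e] at h0
  norm_num at h0 h1 h2 h3 h4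
  omega

end Cfsg.Agent.Lib.Helper35
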