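import Mathlib
import Cfsg.Agent.Lib.Helper35.Steiner12
import Cfsg.Agent.Lib.Helper35.SteinerAut
import Cfsg.Agent.Lib.Helper35.TernChain

/-! The automorphism group of any Steiner system with parameters (5, 6, 12) is sharply
5-transitive. -/

set_option autoImplicit false

namespace Cfsg.Agent.Lib.Helper35.St12

open Cfsg Cfsg.Agent.Lib.Helper35 Cfsg.Agent.Lib.Helper35.StSearch
open Cfsg.Agent.S1592 (Blocks)

/-- The images of the first five points under an automorphism. -/
def baseImg (σ : ↥(setSystemAut Blocks)) : Fin 5 ↪ ArrayPt :=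
  ⟨fun i => σ.1 (pt12 i), by
    intro i j hij
    have := pt12_inj (by omega) (by omega) (σ.1.injective hij)
    exact Fin.ext this⟩

theorem baseImg_injective : Function.Injective baseImg := by
  intro σ τ hστ
  have h1 : ∀ a < 5, (σ⁻¹ * τ).1 (pt12 a) = pt12 a := by
    intro a ha
    have := congrArg (fun e : Fin 5 ↪ ArrayPt => e ⟨a, ha⟩) hστ
    have e : σ.1 (pt12 a) = τ.1 (pt12 a) := this
    show (σ.1⁻¹ * τ.1) (pt12 a) = pt12 a
    rw [Equiv.Perm.mul_apply, ← e, Equiv.Perm.inv_def, Equiv.symm_apply_apply]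
  have h2 := aut_rigid (σ⁻¹ * τ).2 h1
  have h3 : σ⁻¹ * τ = 1 := Subtype.ext h2
  exact inv_mul_eq_one.mp h3

theorem card_emb : Nat.card (Fin 5 ↪ ArrayPt) = 95040 := by
  rw [Nat.card_eq_fintype_card, Fintype.card_embedding_eq]
  simp [Nat.descFactorial]

theorem baseImg_surjective : Function.Surjective baseImg := by
  have h : Nat.card (Fin 5 ↪ ArrayPt) ≤ Nat.card ↥(setSystemAut Blocks) := by
    rw [card_emb]
    exact card_Gbar_ge.trans (Subgroup.card_le_of_le Gbar_le)
  exact (Function.Injective.bijective_of_nat_card_le baseImg_injective h).2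

theorem blocks_transSharp : TransSharp 5 Blocks := by
  have key : ∀ x : Fin 5 ↪ ArrayPt, ∃ g ∈ setSystemAut Blocks, ∀ i : Fin 5, g (pt12 i) = x i := by
    intro x
    obtain ⟨σ, hσ⟩ := baseImg_surjective x
    exact ⟨σ.1, σ.2, fun i => congrArg (fun e : Fin 5 ↪ ArrayPt => e i) hσ⟩
  refine ⟨fun x y => ?_, fun g hg x hx => ?_⟩
  · obtain ⟨g1, hg1, h1⟩ := key x
    obtain ⟨g2, hg2, h2⟩ := key y
    refine ⟨g2 * g1⁻¹, (setSystemAut Blocks).mul_mem hg2 ((setSystemAut Blocks).inv_mem hg1),
      fun i => ?_⟩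
    rw [Equiv.Perm.mul_apply, ← h1 i, Equiv.Perm.inv_def, Equiv.symm_apply_apply, h2 i]
  · obtain ⟨g1, hg1, h1⟩ := key x
    have h2 : g1⁻¹ * g * g1 = 1 := by
      apply aut_rigid ((setSystemAut Blocks).mul_mem
        ((setSystemAut Blocks).mul_mem ((setSystemAut Blocks).inv_mem hg1) hg) hg1)
      intro a ha
      have e1 := h1 ⟨a, ha⟩
      have e2 := hx ⟨a, ha⟩
      simp only at e1
      rw [Equiv.Perm.mul_apply, Equiv.Perm.mul_apply, e1, e2, ← e1, Equiv.Perm.inv_def,
        Equiv.symm_apply_apply]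
    have h3 : g = g1 * 1 * g1⁻¹ := by rw [← h2]; group
    rw [h3]; group

theorem card_arrayPt : Fintype.card ArrayPt = 12 := by decide

/-- The automorphism group of any Steiner system with parameters (5, 6, 12) is sharply
5-transitive (elementary form). -/
theorem transSharp12 {α : Type*} [Fintype α] [DecidableEq α] (hα : Fintype.card α = 12)
    {B : Set (Finset α)} (hB : IsSteinerSystem 5 6 B) : TransSharp 5 B :=
  blocks_transSharp.of_iso
    (iso_trans (iso_symm (unique12 card_arrayPt Cfsg.Agent.Lib.Helper35.steiner)) (unique12 hα hB))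

end Cfsg.Agent.Lib.Helper35.St12
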