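import Cfsg.Agent.Lib.Helper35.M24Base
import Cfsg.Agent.Lib.Helper35.Counting

/-!
Enumeration of the masks of the `k`-element subsets of `{0, …, n-1}`, and counting of the
`k`-element sets of points whose mask satisfies a Boolean condition.
-/

set_option autoImplicit false

namespace Cfsg.Agent.Lib.Helper35

open Cfsg
open Cfsg.Agent.Lib.Helper10 (idx pt idx_pt idx_injective)

/-- Masks of the `k`-element subsets of `{0, …, n-1}`. -/
def subs : ℕ → ℕ → List ℕ
  | 0, 0 => [0]
  | 0, _ + 1 => []
  | n + 1, 0 => (subs n 0).map (fun m => 2 * m)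
  | n + 1, k + 1 => (subs n (k + 1)).map (fun m => 2 * m) ++ (subs n k).map (fun m => 2 * m + 1)

theorem popc_succ (n m : ℕ) : popc (n + 1) m = m % 2 + popc n (m / 2) := rfl

theorem mem_subs_iff (n k m : ℕ) : m ∈ subs n k ↔ m < 2 ^ n ∧ popc n m = k := by
  induction n generalizing k m with
  | zero =>
    cases k with
    | zero => simp [subs, popc]
    | succ k => simp [subs, popc]
  | succ n ih =>
    cases k with
    | zero =>
      simp only [subs, List.mem_map, ih, popc_succ]
      constructor
      · rintro ⟨a, ⟨ha, hp⟩, rfl⟩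
        refine ⟨by rw [pow_succ]; omega, ?_⟩
        rw [Nat.mul_mod_right, Nat.mul_div_cancel_left _ (by norm_num : 0 < 2), hp]
      · rintro ⟨hm, hp⟩
        refine ⟨m / 2, ⟨by rw [pow_succ] at hm; omega, by omega⟩, by omega⟩
    | succ k =>
      simp only [subs, List.mem_append, List.mem_map, ih, popc_succ]
      constructor
      · rintro (⟨a, ⟨ha, hp⟩, rfl⟩ | ⟨a, ⟨ha, hp⟩, rfl⟩)
        · refine ⟨by rw [pow_succ]; omega, ?_⟩
          rw [Nat.mul_mod_right, Nat.mul_div_cancel_left _ (by norm_num : 0 < 2), hp, zero_add]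
        · refine ⟨by rw [pow_succ]; omega, ?_⟩
          have h1 : (2 * a + 1) % 2 = 1 := by omega
          have h2 : (2 * a + 1) / 2 = a := by omega
          rw [h1, h2, hp, add_comm]
      · rintro ⟨hm, hp⟩
        rcases Nat.mod_two_eq_zero_or_one m with h | h
        · left
          refine ⟨m / 2, ⟨by rw [pow_succ] at hm; omega, by omega⟩, by omega⟩
        · right
          refine ⟨m / 2, ⟨by rw [pow_succ] at hm; omega, by omega⟩, by omega⟩

theorem subs_nodup (n k : ℕ) : (subs n k).Nodup := by
  induction n generalizing k with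
  | zero =>
    cases k with
    | zero => simp [subs]
    | succ k => simp [subs]
  | succ n ih =>
    have inj1 : Function.Injective (fun m : ℕ => 2 * m) := fun a b h => by
      simp only at h; omega
    have inj2 : Function.Injective (fun m : ℕ => 2 * m + 1) := fun a b h => by
      simp only at h; omega
    cases k with
    | zero => exact (ih 0).map inj1
    | succ k =>
      show ((subs n (k + 1)).map (fun m => 2 * m) ++ (subs n k).map (fun m => 2 * m + 1)).Nodup
      refine List.Nodup.append ((ih _).map inj1) ((ih _).map inj2) ?_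
      intro a ha hb
      rw [List.mem_map] at ha hb
      obtain ⟨x, _, rfl⟩ := ha
      obtain ⟨y, _, h⟩ := hb
      omega

theorem gmask_mem_subs {s : Finset GolayPt} {k : ℕ} (hs : s.card = k) : gmask s ∈ subs 24 k := by
  rw [mem_subs_iff]
  exact ⟨gmask_lt s, by rw [← card_eq_popc_gmask, hs]⟩

/-- Number of `k`-element sets of points whose mask satisfies `f`. -/
theorem ncard_ksubsets_filter (k : ℕ) (f : ℕ → Bool) :
    {s : Finset GolayPt | s.card = k ∧ f (gmask s) = true}.ncard =
      ((subs 24 k).filter f).length := by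
  set L := (subs 24 k).filter f with hL
  have hnd : L.Nodup := List.Nodup.filter _ (subs_nodup 24 k)
  have hset : {s : Finset GolayPt | s.card = k ∧ f (gmask s) = true} =
      setOfMask '' (L.toFinset : Set ℕ) := by
    ext s
    simp only [Set.mem_ofPred_eq, Set.mem_image, Finset.mem_coe, List.mem_toFinset, hL,
      List.mem_filter]
    constructor
    · rintro ⟨hs, hf⟩
      exact ⟨gmask s, ⟨gmask_mem_subs hs, hf⟩, setOfMask_gmask s⟩
    · rintro ⟨m, ⟨hm, hf⟩, rfl⟩
      rw [mem_subs_iff] at hm
      have hg : gmask (setOfMask m) = m := gmask_setOfMask hm.1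
      refine ⟨?_, ?_⟩
      · rw [card_eq_popc_gmask, hg]; exact hm.2
      · rw [hg]; exact hf
  rw [hset, Set.InjOn.ncard_image, Set.ncard_coe_finset, List.toFinset_card_of_nodup hnd]
  intro a ha b hb hab
  simp only [Finset.mem_coe, List.mem_toFinset, hL, List.mem_filter, mem_subs_iff] at ha hb
  have h1 : gmask (setOfMask a) = gmask (setOfMask b) := by rw [hab]
  rwa [gmask_setOfMask ha.1.1, gmask_setOfMask hb.1.1] at h1

/-- `Bool` test that a list contains a number. -/
def memL (l : List ℕ) (m : ℕ) : Bool := l.any (fun x => x == m)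

theorem mem_of_memL {l : List ℕ} {m : ℕ} (h : memL l m = true) : m ∈ l := by
  unfold memL at h
  rw [List.any_eq_true] at h
  obtain ⟨x, hx, hxm⟩ := h
  rw [beq_iff_eq] at hxm
  exact hxm ▸ hx

end Cfsg.Agent.Lib.Helper35
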