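import Mathlib
import Cfsg.Prelude.Def_SporadicCombinatorics

/-!
The extended ternary Golay code of `Def_SporadicCombinatorics`: explicit parametrisation of its
729 words by six free coordinates.
-/

set_option autoImplicit false

namespace Cfsg.Agent.Lib.Helper35
open Cfsg

theorem sum_zmod3 {β : Type*} [AddCommMonoid β] (f : ZMod 3 → β) :
    ∑ r : ZMod 3, f r = f 0 + f 1 + f 2 := by
  have : (Finset.univ : Finset (ZMod 3)) = {0, 1, 2} := by decide
  rw [this, Finset.sum_insert (by decide), Finset.sum_insert (by decide), Finset.sum_singleton,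
    add_assoc]

theorem mem_tetracode_iff (t : Fin 4 → ZMod 3) :
    t ∈ tetracode ↔ ∃ a b : ZMod 3, t = ![b, a, a + b, a + 2 * b] := by
  unfold tetracode
  rw [Submodule.mem_span_pair]
  constructor
  · rintro ⟨a, b, rfl⟩
    refine ⟨a, b, ?_⟩
    funext i
    fin_cases i <;> (simp; try ring)
  · rintro ⟨a, b, rfl⟩
    refine ⟨a, b, ?_⟩
    funext i
    fin_cases i <;> (simp; try ring)

theorem isWord_iff (x : ArrayPt → ZMod 3) : IsTernaryGolayWord x ↔
    ∃ s : ZMod 3, (∀ i : Fin 4, x (i, 0) + x (i, 1) + x (i, 2) = -s) ∧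
      ∀ a b : ZMod 3, x (0, b) + x (1, a) + x (2, a + b) + x (3, a + 2 * b) = s := by
  unfold IsTernaryGolayWord
  apply exists_congr
  intro s
  apply and_congr
  · apply forall_congr'
    intro i
    rw [sum_zmod3]
  · constructor
    · intro h a b
      have := h _ ((mem_tetracode_iff _).mpr ⟨a, b, rfl⟩)
      rw [Fin.sum_univ_four] at this
      simpa using this
    · intro h t ht
      obtain ⟨a, b, rfl⟩ := (mem_tetracode_iff t).mp ht
      rw [Fin.sum_univ_four]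
      simpa using h a b

instance decIsWord (x : ArrayPt → ZMod 3) : Decidable (IsTernaryGolayWord x) :=
  decidable_of_iff _ (isWord_iff x).symm

/-- A word on the 4 × 3 array from the list of its 12 entries (column by column). -/
def mk12 (l : List (ZMod 3)) : ArrayPt → ZMod 3 := fun p => l.getD (3 * p.1.val + p.2.val) 0

theorem eq_mk12 (x : ArrayPt → ZMod 3) :
    x = mk12 [x (0,0), x (0,1), x (0,2), x (1,0), x (1,1), x (1,2), x (2,0), x (2,1), x (2,2),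
      x (3,0), x (3,1), x (3,2)] := by
  funext ⟨i, r⟩
  fin_cases i <;> fin_cases r <;> rfl

/-- The codeword with free coordinates `a0 .. a5`
(positions (0,0),(0,1),(0,2),(1,0),(1,1),(2,0)). -/
def word (a0 a1 a2 a3 a4 a5 : ZMod 3) : ArrayPt → ZMod 3 :=
  mk12 [a0, a1, a2, a3, a4, a0 + a1 + a2 + 2 * a3 + 2 * a4, a5,
    2 * a1 + a2 + 2 * a3 + a4 + a5, a0 + 2 * a1 + a3 + 2 * a4 + a5,
    a0 + 2 * a1 + 2 * a2 + 2 * a3 + 2 * a5, a0 + a2 + a3 + a4 + 2 * a5,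
    2 * a0 + 2 * a1 + a2 + 2 * a4 + 2 * a5]

theorem isWord_word : ∀ a0 a1 a2 a3 a4 a5 : ZMod 3, IsTernaryGolayWord (word a0 a1 a2 a3 a4 a5) := by
  decide +kernel

theorem word_mem (a0 a1 a2 a3 a4 a5 : ZMod 3) : word a0 a1 a2 a3 a4 a5 ∈ ternaryGolayCode :=
  isWord_word a0 a1 a2 a3 a4 a5

theorem zero_of_free_zero : ∀ y5 y7 y8 y9 y10 y11 : ZMod 3,
    IsTernaryGolayWord (mk12 [0, 0, 0, 0, 0, y5, 0, y7, y8, y9, y10, y11]) →
    y5 = 0 ∧ y7 = 0 ∧ y8 = 0 ∧ y9 = 0 ∧ y10 = 0 ∧ y11 = 0 := by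
  decide +kernel

theorem eq_zero_of_free_zero (y : ArrayPt → ZMod 3) (hy : y ∈ ternaryGolayCode)
    (h0 : y (0,0) = 0) (h1 : y (0,1) = 0) (h2 : y (0,2) = 0) (h3 : y (1,0) = 0) (h4 : y (1,1) = 0)
    (h6 : y (2,0) = 0) : y = 0 := by
  have hy' : IsTernaryGolayWord y := hy
  rw [eq_mk12 y, h0, h1, h2, h3, h4, h6] at hy'
  obtain ⟨e5, e7, e8, e9, e10, e11⟩ := zero_of_free_zero _ _ _ _ _ _ hy'
  rw [eq_mk12 y, h0, h1, h2, h3, h4, h6, e5, e7, e8, e9, e10, e11]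
  funext ⟨i, r⟩
  fin_cases i <;> fin_cases r <;> rfl

theorem word_free (a0 a1 a2 a3 a4 a5 : ZMod 3) :
    word a0 a1 a2 a3 a4 a5 (0,0) = a0 ∧ word a0 a1 a2 a3 a4 a5 (0,1) = a1 ∧
    word a0 a1 a2 a3 a4 a5 (0,2) = a2 ∧ word a0 a1 a2 a3 a4 a5 (1,0) = a3 ∧
    word a0 a1 a2 a3 a4 a5 (1,1) = a4 ∧ word a0 a1 a2 a3 a4 a5 (2,0) = a5 :=
  ⟨rfl, rfl, rfl, rfl, rfl, rfl⟩

theorem eq_word_of_mem (x : ArrayPt → ZMod 3) (hx : x ∈ ternaryGolayCode) :
    x = word (x (0,0)) (x (0,1)) (x (0,2)) (x (1,0)) (x (1,1)) (x (2,0)) := by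
  set w := word (x (0,0)) (x (0,1)) (x (0,2)) (x (1,0)) (x (1,1)) (x (2,0)) with hw
  have hwm : w ∈ ternaryGolayCode := word_mem _ _ _ _ _ _
  obtain ⟨f0, f1, f2, f3, f4, f5⟩ := word_free (x (0,0)) (x (0,1)) (x (0,2)) (x (1,0)) (x (1,1)) (x (2,0))
  have hd : x - w ∈ ternaryGolayCode := ternaryGolayCode.sub_mem hx hwm
  have := eq_zero_of_free_zero (x - w) hd (by simp [hw, f0]) (by simp [hw, f1]) (by simp [hw, f2])
    (by simp [hw, f3]) (by simp [hw, f4]) (by simp [hw, f5])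
  exact sub_eq_zero.mp this

theorem mem_code_iff (x : ArrayPt → ZMod 3) :
    x ∈ ternaryGolayCode ↔ ∃ a0 a1 a2 a3 a4 a5 : ZMod 3, x = word a0 a1 a2 a3 a4 a5 := by
  constructor
  · intro hx
    exact ⟨_, _, _, _, _, _, eq_word_of_mem x hx⟩
  · rintro ⟨a0, a1, a2, a3, a4, a5, rfl⟩
    exact word_mem _ _ _ _ _ _

/-- The parameter space of the code. -/
abbrev P6 : Type := ZMod 3 × ZMod 3 × ZMod 3 × ZMod 3 × ZMod 3 × ZMod 3

/-- The codeword with parameter `a`. -/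
def wordP (a : P6) : ArrayPt → ZMod 3 := word a.1 a.2.1 a.2.2.1 a.2.2.2.1 a.2.2.2.2.1 a.2.2.2.2.2

theorem wordP_mem (a : P6) : wordP a ∈ ternaryGolayCode := word_mem _ _ _ _ _ _

theorem wordP_injective : Function.Injective wordP := by
  rintro ⟨a0, a1, a2, a3, a4, a5⟩ ⟨b0, b1, b2, b3, b4, b5⟩ h
  have e0 := congrFun h (0,0)
  have e1 := congrFun h (0,1)
  have e2 := congrFun h (0,2)
  have e3 := congrFun h (1,0)
  have e4 := congrFun h (1,1)
  have e5 := congrFun h (2,0)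
  obtain ⟨f0, f1, f2, f3, f4, f5⟩ := word_free a0 a1 a2 a3 a4 a5
  obtain ⟨g0, g1, g2, g3, g4, g5⟩ := word_free b0 b1 b2 b3 b4 b5
  simp only [wordP] at e0 e1 e2 e3 e4 e5
  rw [f0, g0] at e0
  rw [f1, g1] at e1
  rw [f2, g2] at e2
  rw [f3, g3] at e3
  rw [f4, g4] at e4
  rw [f5, g5] at e5
  subst e0 e1 e2 e3 e4 e5
  rfl

theorem mem_code_iff' (x : ArrayPt → ZMod 3) : x ∈ ternaryGolayCode ↔ ∃ a : P6, wordP a = x := by
  rw [mem_code_iff]
  constructor
  · rintro ⟨a0, a1, a2, a3, a4, a5, rfl⟩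
    exact ⟨(a0, a1, a2, a3, a4, a5), rfl⟩
  · rintro ⟨⟨a0, a1, a2, a3, a4, a5⟩, rfl⟩
    exact ⟨a0, a1, a2, a3, a4, a5, rfl⟩

theorem code_eq_range : (ternaryGolayCode : Set (ArrayPt → ZMod 3)) = Set.range wordP := by
  ext x
  rw [SetLike.mem_coe, mem_code_iff', Set.mem_range]

/-- The code is in bijection with its parameter space. -/
noncomputable def codeEquiv : P6 ≃ ↥ternaryGolayCode :=
  Equiv.ofBijective (fun a => ⟨wordP a, wordP_mem a⟩)
    ⟨fun a b h => wordP_injective (congrArg Subtype.val h), fun ⟨x, hx⟩ => by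
      obtain ⟨a, rfl⟩ := (mem_code_iff' x).mp hx
      exact ⟨a, rfl⟩⟩

/-- Counting codewords satisfying a predicate by counting parameters. -/
theorem ncard_code_filter (Q : (ArrayPt → ZMod 3) → Prop) [DecidablePred Q] :
    {x : ArrayPt → ZMod 3 | x ∈ ternaryGolayCode ∧ Q x}.ncard =
      (Finset.univ.filter fun a : P6 => Q (wordP a)).card := by
  have : {x : ArrayPt → ZMod 3 | x ∈ ternaryGolayCode ∧ Q x} =
      wordP '' ((Finset.univ.filter fun a : P6 => Q (wordP a)) : Finset P6) := by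
    ext x
    simp only [Set.mem_ofPred_eq, Set.mem_image, Finset.coe_filter, Finset.mem_univ, true_and]
    constructor
    · rintro ⟨hx, hq⟩
      obtain ⟨a, rfl⟩ := (mem_code_iff' x).mp hx
      exact ⟨a, hq, rfl⟩
    · rintro ⟨a, hq, rfl⟩
      exact ⟨wordP_mem a, hq⟩
  rw [this, Set.ncard_image_of_injective _ wordP_injective, Set.ncard_coe_finset]

end Cfsg.Agent.Lib.Helper35
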