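import Cfsg.Agent.S1592
import Cfsg.Agent.S1593

/-!
The monomial automorphisms of the length-12 ternary code: group structure, action on supports.
-/

set_option autoImplicit false
set_option maxHeartbeats 4000000

namespace Cfsg.Agent.Lib.Helper35

open Cfsg
open Cfsg.Agent.S1592 (Blocks)
open scoped Pointwise

/-- The monomial map preserves the code. -/
def MonoOK (σ : Equiv.Perm ArrayPt) (c : ArrayPt → (ZMod 3)ˣ) : Prop :=
  ∀ x ∈ ternaryGolayCode, monomialMap σ c x ∈ ternaryGolayCode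

theorem monomialMap_apply (σ : Equiv.Perm ArrayPt) (c : ArrayPt → (ZMod 3)ˣ)
    (x : ArrayPt → ZMod 3) (i : ArrayPt) :
    monomialMap σ c x i = (c i : ZMod 3) * x (σ.symm i) := rfl

theorem monomialMap_comp (σ τ : Equiv.Perm ArrayPt) (c d : ArrayPt → (ZMod 3)ˣ)
    (x : ArrayPt → ZMod 3) :
    monomialMap σ c (monomialMap τ d x) =
      monomialMap (σ * τ) (fun i => c i * d (σ.symm i)) x := by
  funext i
  simp only [monomialMap_apply, Units.val_mul]
  have : (σ * τ).symm i = τ.symm (σ.symm i) := rfl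
  rw [this]
  ring

theorem monomialMap_one (x : ArrayPt → ZMod 3) :
    monomialMap (1 : Equiv.Perm ArrayPt) (fun _ => 1) x = x := by
  funext i
  show (((1 : (ZMod 3)ˣ) : ZMod 3)) * x ((1 : Equiv.Perm ArrayPt).symm i) = x i
  rw [Units.val_one, one_mul]
  rfl

/-- The signs of the inverse monomial map. -/
def invSign (σ : Equiv.Perm ArrayPt) (c : ArrayPt → (ZMod 3)ˣ) : ArrayPt → (ZMod 3)ˣ :=
  fun i => (c (σ i))⁻¹

theorem monomialMap_inv_left (σ : Equiv.Perm ArrayPt) (c : ArrayPt → (ZMod 3)ˣ)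
    (x : ArrayPt → ZMod 3) : monomialMap σ⁻¹ (invSign σ c) (monomialMap σ c x) = x := by
  funext i
  simp only [monomialMap_apply, invSign]
  have : (σ⁻¹).symm i = σ i := rfl
  rw [this, Equiv.symm_apply_apply, ← mul_assoc, ← Units.val_mul, inv_mul_cancel, Units.val_one,
    one_mul]

theorem monomialMap_inv_right (σ : Equiv.Perm ArrayPt) (c : ArrayPt → (ZMod 3)ˣ)
    (x : ArrayPt → ZMod 3) : monomialMap σ c (monomialMap σ⁻¹ (invSign σ c) x) = x := by
  funext i
  simp only [monomialMap_apply, invSign]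
  have : (σ⁻¹).symm (σ.symm i) = σ (σ.symm i) := rfl
  rw [this, Equiv.apply_symm_apply, ← mul_assoc, ← Units.val_mul, mul_inv_cancel, Units.val_one,
    one_mul]

theorem MonoOK.mul {σ τ : Equiv.Perm ArrayPt} {c d : ArrayPt → (ZMod 3)ˣ} (h : MonoOK σ c)
    (h' : MonoOK τ d) : MonoOK (σ * τ) (fun i => c i * d (σ.symm i)) := by
  intro x hx
  rw [← monomialMap_comp]
  exact h _ (h' _ hx)

theorem MonoOK.one : MonoOK 1 (fun _ => 1) := by
  intro x hx
  rw [monomialMap_one]
  exact hx

theorem MonoOK.inv {σ : Equiv.Perm ArrayPt} {c : ArrayPt → (ZMod 3)ˣ} (h : MonoOK σ c) :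
    MonoOK σ⁻¹ (invSign σ c) := by
  let f : ↥ternaryGolayCode → ↥ternaryGolayCode := fun x => ⟨monomialMap σ c x.1, h x.1 x.2⟩
  have hinj : Function.Injective f := by
    intro x y hxy
    have e : monomialMap σ c x.1 = monomialMap σ c y.1 := congrArg Subtype.val hxy
    have := congrArg (monomialMap σ⁻¹ (invSign σ c)) e
    rw [monomialMap_inv_left, monomialMap_inv_left] at this
    exact Subtype.ext this
  have hsurj : Function.Surjective f := Finite.injective_iff_surjective.mp hinj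
  intro y hy
  obtain ⟨x, hx⟩ := hsurj ⟨y, hy⟩
  have e : monomialMap σ c x.1 = y := congrArg Subtype.val hx
  rw [← e, monomialMap_inv_left]
  exact x.2

/-- The permutation parts of the monomial automorphisms of the code. -/
def Gbar : Subgroup (Equiv.Perm ArrayPt) where
  carrier := {σ | ∃ c, MonoOK σ c}
  mul_mem' := by
    rintro σ τ ⟨c, hc⟩ ⟨d, hd⟩
    exact ⟨_, hc.mul hd⟩
  one_mem' := ⟨_, MonoOK.one⟩
  inv_mem' := by
    rintro σ ⟨c, hc⟩
    exact ⟨_, hc.inv⟩

theorem mem_Gbar (σ : Equiv.Perm ArrayPt) : σ ∈ Gbar ↔ ∃ c, MonoOK σ c := Iff.rfl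

theorem support_monomialMap (σ : Equiv.Perm ArrayPt) (c : ArrayPt → (ZMod 3)ˣ)
    (x : ArrayPt → ZMod 3) : ternarySupport (monomialMap σ c x) = σ • ternarySupport x := by
  ext i
  rw [← Finset.inv_smul_mem_iff]
  have e : σ⁻¹ • i = σ.symm i := rfl
  rw [e]
  unfold ternarySupport
  rw [Finset.mem_filter, Finset.mem_filter, monomialMap_apply]
  simp only [Finset.mem_univ, true_and]
  constructor
  · intro h h0
    apply h
    rw [h0, mul_zero]
  · intro h h0
    rcases mul_eq_zero.mp h0 with h1 | h1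
    · exact (c i).ne_zero h1
    · exact h h1

theorem smul_mem_Blocks {σ : Equiv.Perm ArrayPt} (hσ : σ ∈ Gbar) {h : Finset ArrayPt}
    (hh : h ∈ Blocks) : σ • h ∈ Blocks := by
  obtain ⟨c, hc⟩ := hσ
  obtain ⟨x, hx, rfl, hcard⟩ := hh
  refine ⟨monomialMap σ c x, hc x hx, support_monomialMap σ c x, ?_⟩
  rw [Finset.card_smul_finset]
  exact hcard

theorem Gbar_le : Gbar ≤ setSystemAut Blocks := by
  intro σ hσ
  rw [MulAction.mem_stabilizer_iff]
  ext h
  rw [Set.mem_smul_set_iff_inv_smul_mem]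
  constructor
  · intro hh
    have := smul_mem_Blocks hσ hh
    rwa [smul_inv_smul] at this
  · intro hh
    exact smul_mem_Blocks (Gbar.inv_mem hσ) hh

end Cfsg.Agent.Lib.Helper35
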