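import Cfsg.Agent.Lib.Helper35.TernMono

/-!
Rigidity of the automorphism group of the Steiner system of hexads: an automorphism fixing five
given points is the identity; hence the group has order at most 95040.
-/

set_option autoImplicit false
set_option maxHeartbeats 4000000

namespace Cfsg.Agent.Lib.Helper35

open Cfsg
open Cfsg.Agent.S1592 (Blocks blockList idx12 idx12_inj idx12_lt exists_of_mem_blockList)
open scoped Pointwise

/-- The point of the array with a given index. -/
def pt12 (n : ℕ) : ArrayPt := (⟨(n / 3) % 4, Nat.mod_lt _ (by norm_num)⟩, ((n % 3 : ℕ) : ZMod 3))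

theorem idx12_pt12_fin : ∀ n : Fin 12, idx12 (pt12 n) = n := by decide

theorem idx12_pt12 {n : ℕ} (h : n < 12) : idx12 (pt12 n) = n := idx12_pt12_fin ⟨n, h⟩

theorem pt12_idx12 : ∀ p : ArrayPt, pt12 (idx12 p) = p := by decide

theorem pt12_inj {a b : ℕ} (ha : a < 12) (hb : b < 12) (h : pt12 a = pt12 b) : a = b := by
  rw [← idx12_pt12 ha, ← idx12_pt12 hb, h]

theorem ofMask_mem_Blocks {m : ℕ} (hm : m ∈ blockList) : ofMask idx12 m ∈ Blocks := by
  obtain ⟨h, hh, rfl⟩ := exists_of_mem_blockList hm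
  rwa [ofMask_maskOf idx12_inj]

theorem steiner : Cfsg.IsSteinerSystem 5 6 Blocks := Cfsg.Agent.S1592.result.1

/-- An automorphism maps a block onto the block containing the images of five of its points. -/
theorem prop5 {σ : Equiv.Perm ArrayPt} (hσ : σ ∈ setSystemAut Blocks) {k k' : Finset ArrayPt}
    (hk : k ∈ Blocks) (hk' : k' ∈ Blocks) (s : Finset ArrayPt) (hs : s.card = 5) (hsk : s ⊆ k)
    (hsk' : ∀ p ∈ s, σ p ∈ k') : σ • k = k' := by
  have hσk : σ • k ∈ Blocks := by
    have h1 : σ • k ∈ σ • Blocks := Set.smul_mem_smul_set hk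
    rwa [MulAction.mem_stabilizer_iff.mp hσ] at h1
  have hcard : (σ • s).card = 5 := by rw [Finset.card_smul_finset, hs]
  obtain ⟨b, -, hb⟩ := steiner.2 (σ • s) hcard
  have e1 : σ • k = b := hb _ ⟨hσk, Finset.smul_finset_subset_smul_finset hsk⟩
  have e2 : k' = b := by
    apply hb _ ⟨hk', ?_⟩
    intro x hx
    obtain ⟨p, hp, rfl⟩ := Finset.mem_smul_finset.mp hx
    exact hsk' p hp
  rw [e1, e2]

/-- The invariant of the propagation: known images of points. -/
def Inv (σ : Equiv.Perm ArrayPt) (img : List (ℕ × ℕ)) : Prop :=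
  ∀ p ∈ img, p.1 < 12 ∧ p.2 < 12 ∧ σ (pt12 p.1) = pt12 p.2

/-- The known pairs inside a block, apart from one point. -/
def knownIn (img : List (ℕ × ℕ)) (m a6 : ℕ) : List (ℕ × ℕ) :=
  img.filter (fun p => m.testBit p.1 && p.1 != a6)

/-- Validity of a propagation step. -/
def stepOK (img : List (ℕ × ℕ)) (st : ℕ × ℕ × ℕ × ℕ) : Bool :=
  blockList.contains st.1 && blockList.contains st.2.1 &&
    (knownIn img st.1 st.2.2.1).length == 5 &&
    decide ((knownIn img st.1 st.2.2.1).map Prod.fst).Nodup &&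
    (knownIn img st.1 st.2.2.1).all (fun p => st.2.1.testBit p.2) &&
    st.1.testBit st.2.2.1 && decide (st.2.2.1 < 12) &&
    (List.range 12).all (fun j => !st.2.1.testBit j || j == st.2.2.2 ||
      ((knownIn img st.1 st.2.2.1).map Prod.snd).contains j)

theorem step_sound {σ : Equiv.Perm ArrayPt} (hσ : σ ∈ setSystemAut Blocks)
    {img : List (ℕ × ℕ)} (hI : Inv σ img) {st : ℕ × ℕ × ℕ × ℕ} (hst : stepOK img st = true) :
    Inv σ ((st.2.2.1, st.2.2.2) :: img) := by
  obtain ⟨m, m', a6, b6⟩ := st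
  unfold stepOK at hst
  simp only [Bool.and_eq_true, List.contains_iff_mem, beq_iff_eq, decide_eq_true_eq,
    List.all_eq_true] at hst
  obtain ⟨⟨⟨⟨⟨⟨⟨hm, hm'⟩, hlen⟩, hnd⟩, hall⟩, hma6⟩, ha6⟩, hbits⟩ := hst
  set K := knownIn img m a6 with hK
  have hKimg : ∀ p ∈ K, p ∈ img ∧ m.testBit p.1 = true ∧ p.1 ≠ a6 := by
    intro p hp
    rw [hK, knownIn, List.mem_filter] at hp
    simp only [Bool.and_eq_true, bne_iff_ne, ne_eq] at hp
    exact ⟨hp.1, hp.2.1, hp.2.2⟩
  have hk : ofMask idx12 m ∈ Blocks := ofMask_mem_Blocks hm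
  have hk' : ofMask idx12 m' ∈ Blocks := ofMask_mem_Blocks hm'
  -- the five points
  have hnd' : (K.map (fun p => pt12 p.1)).Nodup := by
    have e : K.map (fun p => pt12 p.1) = (K.map Prod.fst).map pt12 := by
      rw [List.map_map]; rfl
    rw [e]
    apply List.Nodup.map_on _ hnd
    intro a ha b hb hab
    obtain ⟨p, hp, rfl⟩ := List.mem_map.mp ha
    obtain ⟨q, hq, rfl⟩ := List.mem_map.mp hb
    exact pt12_inj (hI p (hKimg p hp).1).1 (hI q (hKimg q hq).1).1 hab
  have hs : ((K.map (fun p => pt12 p.1)).toFinset).card = 5 := by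
    rw [List.toFinset_card_of_nodup hnd', List.length_map, hlen]
  have hsk : (K.map (fun p => pt12 p.1)).toFinset ⊆ ofMask idx12 m := by
    intro x hx
    rw [List.mem_toFinset, List.mem_map] at hx
    obtain ⟨p, hp, rfl⟩ := hx
    rw [mem_ofMask, idx12_pt12 (hI p (hKimg p hp).1).1]
    exact (hKimg p hp).2.1
  have hsk' : ∀ x ∈ (K.map (fun p => pt12 p.1)).toFinset, σ x ∈ ofMask idx12 m' := by
    intro x hx
    rw [List.mem_toFinset, List.mem_map] at hx
    obtain ⟨p, hp, rfl⟩ := hx
    obtain ⟨h1, h2, h3⟩ := hI p (hKimg p hp).1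
    rw [h3, mem_ofMask, idx12_pt12 h2]
    exact hall p hp
  have hsmul := prop5 hσ hk hk' _ hs hsk hsk'
  -- the sixth point
  have hq : σ (pt12 a6) ∈ ofMask idx12 m' := by
    rw [← hsmul]
    apply Finset.smul_mem_smul_finset (a := σ)
    rw [mem_ofMask, idx12_pt12 ha6]
    exact hma6
  rw [mem_ofMask] at hq
  have hj : idx12 (σ (pt12 a6)) < 12 := idx12_lt _
  have hcases := hbits (idx12 (σ (pt12 a6))) (List.mem_range.mpr hj)
  rw [hq] at hcases
  simp only [Bool.not_true, Bool.false_or, Bool.or_eq_true, beq_iff_eq,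
    List.contains_iff_mem] at hcases
  have hfin : idx12 (σ (pt12 a6)) = b6 := by
    rcases hcases with h | h
    · exact h
    · exfalso
      obtain ⟨p, hp, hp2⟩ := List.mem_map.mp h
      obtain ⟨h1, h2, h3⟩ := hI p (hKimg p hp).1
      have e : σ (pt12 p.1) = σ (pt12 a6) := by
        rw [h3, hp2, pt12_idx12]
      have e' : pt12 p.1 = pt12 a6 := σ.injective e
      exact (hKimg p hp).2.2 (pt12_inj h1 ha6 e')
  intro p hp
  rcases List.mem_cons.mp hp with rfl | hp
  · refine ⟨ha6, ?_, ?_⟩
    · show b6 < 12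
      rw [← hfin]; exact hj
    · show σ (pt12 a6) = pt12 b6
      rw [← hfin, pt12_idx12]
  · exact hI p hp

/-- Run a list of propagation steps. -/
def run : List (ℕ × ℕ) → List (ℕ × ℕ × ℕ × ℕ) → Option (List (ℕ × ℕ))
  | img, [] => some img
  | img, st :: rest => if stepOK img st then run ((st.2.2.1, st.2.2.2) :: img) rest else none

theorem run_sound {σ : Equiv.Perm ArrayPt} (hσ : σ ∈ setSystemAut Blocks) :
    ∀ (steps : List (ℕ × ℕ × ℕ × ℕ)) (img img' : List (ℕ × ℕ)), Inv σ img →
      run img steps = some img' → Inv σ img'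
  | [], img, img', hI, h => by
    simp only [run, Option.some.injEq] at h
    rw [← h]; exact hI
  | st :: rest, img, img', hI, h => by
    rw [run] at h
    split_ifs at h with hst
    exact run_sound hσ rest _ img' (step_sound hσ hI hst) h

/-- Two known pairs contradict each other. -/
def hasConflict (img : List (ℕ × ℕ)) : Bool :=
  img.any (fun p => img.any (fun q => (p.1 == q.1 && p.2 != q.2) || (p.1 != q.1 && p.2 == q.2)))

theorem no_conflict {σ : Equiv.Perm ArrayPt} {img : List (ℕ × ℕ)} (hI : Inv σ img) :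
    hasConflict img = false := by
  by_contra h
  rw [Bool.not_eq_false] at h
  unfold hasConflict at h
  simp only [List.any_eq_true, Bool.or_eq_true, Bool.and_eq_true, beq_iff_eq, bne_iff_ne,
    ne_eq] at h
  obtain ⟨p, hp, q, hq, hc⟩ := h
  obtain ⟨p1, p2, p3⟩ := hI p hp
  obtain ⟨q1, q2, q3⟩ := hI q hq
  rcases hc with ⟨h1, h2⟩ | ⟨h1, h2⟩
  · apply h2
    apply pt12_inj p2 q2
    rw [← p3, ← q3, h1]
  · apply h1
    apply pt12_inj p1 q1
    apply σ.injective
    rw [p3, q3, h2]

/-- All points are known to be fixed. -/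
def isComplete (img : List (ℕ × ℕ)) : Bool := (List.range 12).all (fun a => img.contains (a, a))

theorem eq_one_of_complete {σ : Equiv.Perm ArrayPt} {img : List (ℕ × ℕ)} (hI : Inv σ img)
    (hc : isComplete img = true) : σ = 1 := by
  apply Equiv.ext
  intro p
  unfold isComplete at hc
  rw [List.all_eq_true] at hc
  have h := hc (idx12 p) (List.mem_range.mpr (idx12_lt p))
  rw [List.contains_iff_mem] at h
  have := (hI _ h).2.2
  rw [pt12_idx12] at this
  exact this

/-- Start of the propagation. -/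
def img0 : List (ℕ × ℕ) := [(0, 0), (1, 1), (2, 2), (3, 3), (4, 4)]
/-- After the first step. -/
def img6 : List (ℕ × ℕ) := [(5, 5), (0, 0), (1, 1), (2, 2), (3, 3), (4, 4)]
/-- The steps of the twelve branches. -/
def branchSteps : List (List (ℕ × ℕ × ℕ × ℕ)) := [[], [], [], [], [], [], [(222, 222, 7, 7), (347, 347, 8, 8), (591, 591, 9, 9), (1117, 1117, 10, 10), (2135, 2135, 11, 11)], [(222, 222, 7, 6), (347, 667, 8, 9), (366, 700, 1, 4)], [(222, 2334, 7, 11), (237, 2476, 0, 7)], [(222, 1566, 7, 10), (237, 1644, 0, 6)], [(222, 1566, 7, 9), (237, 1644, 0, 6)], [(222, 2334, 7, 8), (237, 2476, 0, 7)]]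

theorem run0 : run img0 [(63, 63, 5, 5)] = some img6 := by decide +kernel

/-- Run of a branch. -/
def branchRun (j : ℕ) : Option (List (ℕ × ℕ)) := run ((6, j) :: img6) (branchSteps.getD j [])

/-- Outcome of a branch. -/
def branchOK (j : ℕ) : Bool :=
  match branchRun j with
  | some img => hasConflict img || isComplete img
  | none => false

theorem branch_all : ∀ j : Fin 12, branchOK j = true := by decide +kernel

/-- Rigidity: an automorphism of the block system fixing the first five points is trivial. -/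
theorem aut_rigid {σ : Equiv.Perm ArrayPt} (hσ : σ ∈ setSystemAut Blocks)
    (h : ∀ a < 5, σ (pt12 a) = pt12 a) : σ = 1 := by
  have hI0 : Inv σ img0 := by
    intro p hp
    unfold img0 at hp
    simp only [List.mem_cons, List.not_mem_nil, or_false] at hp
    rcases hp with rfl | rfl | rfl | rfl | rfl <;>
      exact ⟨by norm_num, by norm_num, h _ (by norm_num)⟩
  have hI6 : Inv σ img6 := run_sound hσ _ _ _ hI0 run0
  have hj : idx12 (σ (pt12 6)) < 12 := idx12_lt _
  have hI : Inv σ ((6, idx12 (σ (pt12 6))) :: img6) := by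
    intro p hp
    rcases List.mem_cons.mp hp with rfl | hp
    · exact ⟨by norm_num, hj, (pt12_idx12 _).symm⟩
    · exact hI6 p hp
  have hb := branch_all ⟨_, hj⟩
  unfold branchOK at hb
  cases hrun : branchRun (idx12 (σ (pt12 6))) with
  | none =>
    rw [hrun] at hb
    exact absurd hb (by decide)
  | some img =>
    rw [hrun] at hb
    simp only [Bool.or_eq_true] at hb
    have hI' := run_sound hσ _ _ _ hI hrun
    rcases hb with hb | hb
    · rw [no_conflict hI'] at hb
      exact absurd hb (by decide)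
    · exact eq_one_of_complete hI' hb

/-- The automorphism group of the block system has order at most 95040. -/
theorem card_aut_le : Nat.card ↥(setSystemAut Blocks) ≤ 95040 := by
  let f : ↥(setSystemAut Blocks) → (Fin 5 ↪ ArrayPt) := fun σ =>
    ⟨fun i => σ.1 (pt12 i), by
      intro i j hij
      have := pt12_inj (by omega) (by omega) (σ.1.injective hij)
      exact Fin.ext this⟩
  have hinj : Function.Injective f := by
    intro σ τ hστ
    have h1 : ∀ a < 5, (σ⁻¹ * τ).1 (pt12 a) = pt12 a := by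
      intro a ha
      have := congrArg (fun e : Fin 5 ↪ ArrayPt => e ⟨a, ha⟩) hστ
      have e : σ.1 (pt12 a) = τ.1 (pt12 a) := this
      show (σ.1⁻¹ * τ.1) (pt12 a) = pt12 a
      rw [Equiv.Perm.mul_apply, ← e, Equiv.Perm.inv_def, Equiv.symm_apply_apply]
    have h2 := aut_rigid (σ⁻¹ * τ).2 h1
    have h3 : σ⁻¹ * τ = 1 := Subtype.ext h2
    exact inv_mul_eq_one.mp h3
  have h := Nat.card_le_card_of_injective f hinj
  have hc : Nat.card (Fin 5 ↪ ArrayPt) = 95040 := by
    rw [Nat.card_eq_fintype_card, Fintype.card_embedding_eq]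
    simp [Nat.descFactorial]
  rw [hc] at h
  exact h

end Cfsg.Agent.Lib.Helper35
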