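import Cfsg.Agent.Lib.Helper35.OctadList
import Cfsg.Agent.Lib.Helper35.KeySets
import Cfsg.Agent.Lib.Helper35.GenConn

/-!
Triads (3-element sets of points): `M24` is transitive on them, and the stabiliser of a triad is
transitive on each class of triads (classes: size of the intersection with the fixed triad and,
for disjoint triads, whether the union lies in an octad).
-/

set_option autoImplicit false
set_option maxHeartbeats 4000000

namespace Cfsg.Agent.Lib.Helper35

open Cfsg
open Cfsg.Agent.Lib.Helper10 (idx pt idx_pt idx_injective enc enc_mod enc_lt genMask)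
open scoped Pointwise

/-- The subgroup generated by the four generators of `M24`. -/
def Kgen : Subgroup (Equiv.Perm GolayPt) := Subgroup.closure {gA, gB, gC, gD}

theorem Kgen_le : Kgen ≤ M24 := by
  unfold Kgen
  rw [Subgroup.closure_le]
  intro g hg
  rcases hg with rfl | rfl | rfl | rfl
  · exact gA_mem
  · exact gB_mem
  · exact gC_mem
  · exact gD_mem

theorem gensK_models :
    List.Forall₂ (fun g act => g ∈ Kgen ∧ Models gmask g act) gensM24 actsM24 :=
  List.Forall₂.cons ⟨Subgroup.subset_closure (by simp), gA_models⟩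
    (List.Forall₂.cons ⟨Subgroup.subset_closure (by simp), gB_models⟩
    (List.Forall₂.cons ⟨Subgroup.subset_closure (by simp), gC_models⟩
    (List.Forall₂.cons ⟨Subgroup.subset_closure (by simp), gD_models⟩
      List.Forall₂.nil)))

/-- Mask of the base triad. -/
def t0m : ℕ := 7

/-- The base triad. -/
def t0 : Finset GolayPt := setOfMask t0m

theorem gmask_t0 : gmask t0 = t0m := gmask_setOfMask (by decide)

theorem t0_card : t0.card = 3 := by
  rw [card_eq_popc_gmask, gmask_t0]
  decide

/-- Part of a certificate. -/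
def triCert_0 : List (ℕ × ℕ) := [(0, 14), (0, 28), (0, 56), (0, 112), (0, 224), (0, 448), (0, 896), (4, 0), (3, 65570), (4, 0), (4, 0), (1, 21504), (1, 1048610), (4, 0), (2, 2424832), (4, 0), (4, 0), (2, 532992), (0, 1065984), (0, 2131968), (4, 0), (4, 0), (1, 294920), (4, 0), (3, 4198912), (4, 0), (4, 0), (3, 2097186), (0, 4194372), (0, 137), (4, 0), (4, 0), (1, 525316), (4, 0), (4, 0), (4, 0), (1, 5376), (0, 10752), (2, 164), (0, 328), (4, 0), (4, 0), (3, 528896), (4, 0), (4, 0), (1, 1114114), (2, 4195584), (3, 82048), (4, 0), (4, 0), (3, 271360), (1, 1056776), (4, 0), (4, 0), (4, 0), (2, 3211264), (3, 1057792), (1, 1179656), (4, 0), (4, 0), (4, 0), (3, 65920), (1, 82432), (4, 0), (3, 73760), (1, 1544), (4, 0), (4, 0), (4, 0), (4, 0), (2, 655872), (0, 1311744), (1, 1187840), (3, 3584), (4, 0), (4, 0), (2, 82176), (1, 66080), (4, 0), (4, 0), (3, 1168), (0, 2336), (4, 0), (4, 0), (4, 0), (1, 296960), (3, 557072), (3, 4227076), (4, 0), (4, 0), (4, 0), (3, 4200448), (1, 6291458), (4, 0), (4, 0),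 (4, 0), (3, 2097158), (0, 4194316), (3, 16456), (0, 32912), (4, 0), (4, 0), (4, 0), (1, 524308), (1, 33040), (4, 0), (2, 133184), (4, 0), (4, 0), (3, 1310784), (1, 143360), (4, 0), (4, 0), (4, 0), (4, 0), (1, 1344), (0, 2688), (1, 4472832), (2, 278530), (3, 393232), (4, 0), (4, 0), (3, 147472), (4, 0), (4, 0), (2, 8228), (4, 0), (3, 528416), (1, 33794), (4, 0), (3, 6291712), (4, 0), (4, 0), (4, 0), (1, 1118208), (0, 2236416), (4, 0), (2, 2098432), (3, 1114240), (4, 0), (4, 0), (3, 9472), (1, 1114120), (0, 2228240), (4, 0), (4, 0), (3, 66176), (4, 0), (4, 0), (4, 0), (2, 1638400), (3, 4203520), (3, 17024), (4, 0), (4, 0), (4, 0), (3, 65666), (0, 131332), (2, 1050640), (4, 0), (3, 67648), (4, 0), (4, 0), (1, 16900), (1, 262192), (4, 0), (4, 0), (3, 270368), (1, 9224), (4, 0), (4, 0), (4, 0), (4, 0), (2, 164352), (0, 328704), (1, 1057280), (1, 393224), (4, 0), (4, 0), (3, 8336), (0, 16672), (4, 0), (1, 16648), (0, 33296), (4, 0), (3, 196616), (4, 0), (4, 0), (4, 0), (4, 0), (1, 264320), (0, 528640),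 (1, 98306), (3, 303104), (4, 0), (4, 0), (3, 4260096), (4, 0), (4, 0), (1, 4218880), (0, 49153), (4, 0), (4, 0), (3, 524336), (0, 1048672), (1, 136192), (4, 0), (2, 525056), (4, 0), (4, 0), (1, 34048), (4, 0), (3, 6291460), (4, 0), (4, 0), (4, 0), (3, 38912), (0, 77824), (0, 155648), (4, 0), (3, 8960), (4, 0), (4, 0), (1, 4194434), (3, 278560), (4, 0), (4, 0), (3, 557312), (0, 1114624), (4, 0), (1, 98432), (4, 0), (3, 4292608), (4, 0), (4, 0), (4, 0), (4, 0), (3, 2097164), (0, 4194328), (0, 49), (4, 0), (1, 2097472), (4, 0), (2, 163842), (4, 0), (4, 0), (1, 524368), (0, 1048736), (1, 148480), (2, 327696), (4, 0), (4, 0), (3, 2098208), (4, 0), (4, 0), (1, 37120), (3, 98560), (4, 0), (4, 0), (2, 655424), (0, 1310848), (2, 24832), (4, 0), (4, 0), (3, 4196354), (4, 0), (4, 0), (3, 4194310), (1, 2097172), (4, 0), (4, 0), (4, 0), (3, 1048648), (0, 2097296), (0, 4194592), (4, 0), (4, 0), (1, 135232), (1, 6146), (4, 0), (3, 2306), (4, 0), (4, 0), (3, 1034), (0, 2068), (4, 0), (1, 1048644), (2, 526592),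 (4, 0), (4, 0), (4, 0), (4, 0), (4, 0), (4, 0), (1, 336), (0, 672), (1, 279552), (1, 1056800), (4, 0), (2, 344064), (4, 0), (3, 131216), (0, 262432), (4, 0), (4, 0), (4, 0), (3, 2101280), (1, 525314), (1, 1081348), (4, 0), (4, 0), (3, 3145984), (0, 6291968), (1, 2883584), (4, 0), (4, 0), (3, 1115136), (3, 9344), (4, 0), (4, 0), (4, 0), (4, 0), (4, 0), (1, 69888), (0, 139776), (3, 6656), (4, 0), (4, 0), (1, 66050), (0, 132100), (3, 2240), (4, 0), (4, 0), (1, 262660), (1, 270352), (1, 8456), (4, 0), (4, 0), (2, 18464), (4, 0), (4, 0), (2, 4195360), (0, 2113), (0, 4226), (4, 0), (4, 0), (4, 0), (3, 274432), (3, 784), (4, 0), (4, 0), (4, 0), (2, 3146752), (0, 6293504), (2, 4102), (4, 0), (3, 1589248), (3, 4326400), (4, 0), (4, 0), (4, 0), (3, 1049728), (0, 2099456), (1, 4784128), (4, 0), (4, 0), (3, 1184), (0, 2368), (4, 0), (4, 0), (4, 0), (4, 0), (3, 73984), (0, 147968), (0, 295936), (4, 0), (3, 137216), (4, 0), (4, 0), (1, 66056), (4, 0), (3, 74240), (3, 12800), (4, 0), (4, 0), (4, 0), (4, 0),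 (2, 1703936), (0, 3407872), (0, 6815744), (0, 5242881), (4, 0), (1, 2654208), (4, 0), (2, 4162), (4, 0), (4, 0), (2, 20736), (4, 0), (3, 1049616), (0, 2099232), (4, 0), (3, 1156), (4, 0), (4, 0), (4, 0), (3, 4197376), (0, 6145), (4, 0), (1, 7340032), (4, 0), (3, 540800), (4, 0), (4, 0), (4, 0), (3, 65542), (0, 131084), (0, 262168), (1, 8512), (4, 0), (2, 180224), (4, 0), (4, 0), (1, 2128), (0, 4256), (4, 0), (2, 655364), (4, 0), (4, 0), (2, 34832), (1, 4194688), (3, 81952), (4, 0), (4, 0), (3, 557060), (4, 0), (4, 0), (3, 2120), (1, 4198464), (2, 2621442), (4, 0), (4, 0), (4, 0), (4, 0), (1, 532), (0, 1064), (1, 1049664), (4, 0), (4, 0), (1, 262416), (0, 524832), (4, 0), (4, 0), (2, 133152), (4, 0), (4, 0), (3, 270400), (1, 12296), (0, 24592), (4, 0), (4, 0), (4, 0), (4, 0), (4, 0), (2, 165888), (0, 331776), (0, 663552), (0, 1327104), (2, 278784), (4, 0), (4, 0), (1, 34824), (4, 0), (4, 0), (1, 8706), (0, 17412), (3, 131264), (3, 2082), (4, 0), (4, 0), (4, 0), (2, 4194464), (4, 0), (3, 266752),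 (0, 533504), (4, 0), (4, 0), (4, 0), (2, 2114560), (1, 1572896), (1, 164864), (4, 0), (3, 6292480), (4, 0), (4, 0), (3, 1179776), (0, 2359552), (1, 598016), (4, 0), (4, 0), (4, 0), (4, 0), (3, 8464), (0, 16928), (3, 2232320), (4, 0), (4, 0), (1, 65800), (0, 131600), (4, 0), (1, 66112), (4, 0), (2, 1082368), (4, 0), (3, 73736), (4, 0), (4, 0), (4, 0), (4, 0), (1, 4196480), (0, 4353), (1, 65539), (4, 0), (2, 11534336), (4, 0), (4, 0), (1, 6307840), (0, 4227073), (1, 2097281), (4, 0), (4, 0), (1, 2621472), (0, 5242944), (4, 0), (1, 558080), (4, 0), (2, 4672), (4, 0), (4, 0), (2, 266242), (0, 532484), (4, 0), (4, 0), (3, 1196032), (0, 2392064), (4, 0), (3, 134144), (4, 0), (4, 0), (4, 0), (3, 540704), (0, 1081408), (0, 2162816), (4, 0), (1, 135296), (4, 0), (4, 0), (1, 33824), (4, 0), (3, 6422528), (0, 4456449), (4, 0), (3, 1067008), (4, 0), (4, 0), (4, 0), (4, 0), (3, 559104), (1, 4227200), (1, 2113664), (0, 4227328), (4, 0), (3, 1179680), (4, 0), (4, 0), (3, 49184), (0, 98368), (4, 0), (3, 2260992),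 (4, 0), (4, 0), (4, 0), (3, 4751360), (0, 1114113), (0, 2228226), (4, 0), (3, 9217), (4, 0), (4, 0), (1, 2130048), (3, 1081376), (3, 2130944), (4, 0), (4, 0), (4, 0), (3, 4243456), (1, 2097312), (4, 0), (4, 0), (4, 0), (4, 0), (4, 0), (3, 76), (0, 152), (0, 304), (0, 608), (0, 1216), (0, 2432), (4, 0), (4, 0), (3, 2101250), (4, 0), (4, 0), (1, 66816), (3, 73856), (4, 0), (4, 0), (2, 1180160), (3, 7168), (4, 0), (4, 0), (3, 2162692), (0, 4325384), (1, 2099264), (4, 0), (4, 0), (4, 0), (4, 0), (1, 16704), (0, 33408), (4, 0), (1, 69664), (3, 2105600), (4, 0), (4, 0), (2, 1835008), (0, 3670016), (4, 0), (4, 0), (3, 196610), (0, 393220), (0, 786440), (4, 0), (4, 0), (1, 2564), (4, 0), (4, 0), (4, 0), (2, 172032), (4, 0), (4, 0), (1, 4176), (0, 8352), (1, 17416), (4, 0), (2, 8832), (1, 278536), (4, 0), (3, 4640), (4, 0), (4, 0), (3, 2097696), (4, 0), (4, 0), (1, 4354), (0, 8708), (4, 0), (3, 327936), (4, 0), (4, 0), (2, 2752512), (0, 5505024), (0, 2621441), (4, 0), (4, 0), (3, 5244928), (3, 541696),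 (4, 0), (4, 0), (4, 0), (3, 262), (0, 524), (1, 262224), (4, 0), (2, 34848), (0, 69696), (4, 0), (4, 0), (3, 4168), (4, 0), (4, 0), (1, 65556), (0, 131112), (4, 0), (4, 0), (3, 327744), (4, 0), (4, 0), (4, 0), (3, 74), (0, 148), (0, 296), (0, 592), (4, 0), (3, 2162696), (4, 0), (4, 0), (1, 16656), (1, 65824), (1, 67072), (4, 0), (2, 1050112), (4, 0), (4, 0), (2, 1441792), (3, 3088), (4, 0), (4, 0), (3, 196612), (4, 0), (4, 0), (2, 141312), (1, 4196360), (3, 540680), (4, 0), (4, 0), (4, 0), (3, 100), (4, 0), (4, 0), (1, 4164), (0, 8328), (2, 41088), (4, 0), (4, 0), (1, 4114), (4, 0), (2, 2623488), (0, 5246976), (4, 0), (3, 5767168), (4, 0), (4, 0), (3, 322), (0, 644), (4, 0), (3, 327682), (4, 0), (4, 0), (4, 0), (3, 262154), (1, 8260), (0, 16520), (4, 0), (2, 526464), (4, 0), (3, 578), (4, 0), (4, 0), (4, 0), (4, 0), (4, 0), (4, 0), (1, 84), (0, 168), (1, 17472), (0, 34944), (1, 4210816), (4, 0), (2, 8204), (4, 0), (4, 0), (1, 1052704), (0, 2105408), (4, 0), (2, 2097920), (0, 4195840), (4, 0),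 (4, 0), (4, 0), (2, 851968), (4, 0), (3, 131202), (0, 262404), (0, 524808), (4, 0), (4, 0), (1, 18436), (4, 0), (3, 264224), (4, 0), (4, 0), (4, 0), (2, 41472), (0, 82944), (1, 1049120), (0, 2098240), (4, 0), (1, 394240), (4, 0)]
/-- Part of a certificate. -/
def triCert_1 : List (ℕ × ℕ) := [(2, 800), (4, 0), (3, 2102272), (1, 1572866), (4, 0), (4, 0), (4, 0), (3, 139392), (1, 18440), (4, 0), (4, 0), (4, 0), (1, 262280), (0, 524560), (2, 1179712), (3, 3074), (4, 0), (4, 0), (3, 4259844), (4, 0), (4, 0), (1, 24640), (0, 49280), (2, 270344), (4, 0), (4, 0), (2, 786560), (4, 0), (4, 0), (2, 57344), (4, 0), (4, 0), (3, 37376), (0, 74752), (1, 1049096), (2, 33056), (4, 0), (4, 0), (2, 66688), (4, 0), (4, 0), (1, 262274), (4, 0), (4, 0), (4, 0), (3, 2097192), (0, 4194384), (0, 161), (1, 17409), (4, 0), (2, 8397312), (4, 0), (4, 0), (1, 2101504), (1, 589826), (4, 0), (4, 0), (3, 16390), (3, 393280), (3, 2066), (4, 0), (4, 0), (4, 0), (4, 0), (1, 525376), (0, 1050752), (3, 525344), (4, 0), (4, 0), (1,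 1085440), (0, 2170880), (4, 0), (4, 0), (2, 589888), (4, 0), (4, 0), (3, 3145736), (0, 6291472), (1, 2621696), (4, 0), (2, 135170), (4, 0), (4, 0), (3, 1049608), (4, 0), (4, 0), (4, 0), (4, 0), (1, 4368), (0, 8736), (1, 263176), (0, 526352), (3, 4718596), (1, 2129936), (4, 0), (4, 0), (4, 0), (1, 1056832), (1, 135176), (4, 0), (2, 524672), (4, 0), (4, 0), (2, 114688), (4, 0), (4, 0), (3, 2101760), (1, 786434), (0, 1572868), (4, 0), (4, 0), (3, 1052928), (0, 2105856), (4, 0), (4, 0), (4, 0), (4, 0), (1, 65794), (0, 131588), (1, 264208), (4, 0), (2, 2096), (0, 4192), (4, 0), (3, 2621444), (4, 0), (4, 0), (3, 6208), (0, 12416), (2, 2105472), (4, 0), (4, 0), (1, 4198402), (4, 0), (3, 524546), (4, 0), (4, 0), (4, 0), (1, 66052), (0, 132104), (1, 1050688), (4, 0), (2, 98320), (0, 196640), (4, 0), (4, 0), (4, 0), (1, 262672), (4, 0), (2, 3104), (4, 0), (4, 0), (2, 5243904), (0, 2099201), (2, 8392708), (4, 0), (3, 1572865), (4, 0), (4, 0), (4, 0), (3, 335872), (0, 671744), (0, 1343488), (4, 0), (4,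 0), (3, 8720), (0, 17440), (4, 0), (4, 0), (4, 0), (4, 0), (2, 3276800), (0, 6553600), (0, 4718593), (1, 2129921), (4, 0), (3, 4210689), (4, 0), (4, 0), (2, 20482), (3, 393472), (4, 0), (4, 0), (3, 1064976), (1, 131360), (4, 0), (4, 0), (4, 0), (3, 1051648), (0, 2103296), (0, 4206592), (3, 17152), (4, 0), (4, 0), (1, 4718594), (4, 0), (2, 2101252), (4, 0), (4, 0), (3, 525440), (4, 0), (4, 0), (4, 0), (3, 65796), (0, 131592), (0, 263184), (1, 1057024), (4, 0), (4, 0), (1, 264256), (2, 540676), (4, 0), (4, 0), (2, 32816), (4, 0), (4, 0), (1, 66064), (4, 0), (3, 73792), (0, 147584), (0, 295168), (4, 0), (4, 0), (1, 4616), (4, 0), (4, 0), (4, 0), (4, 0), (2, 657408), (0, 1314816), (0, 2629632), (0, 5259264), (1, 2228256), (4, 0), (2, 262402), (4, 0), (4, 0), (1, 557064), (2, 32840), (4, 0), (3, 4227080), (4, 0), (4, 0), (2, 4288), (0, 8576), (4, 0), (3, 290), (4, 0), (4, 0), (3, 5243392), (4, 0), (4, 0), (2, 2113792), (1, 589856), (1, 34304), (3, 36992), (4, 0), (4, 0), (2, 1600), (4, 0), (3, 6299648),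 (4, 0), (4, 0), (3, 1245184), (4, 0), (4, 0), (3, 1296), (0, 2592), (1, 4457472), (2, 81922), (4, 0), (3, 16528), (4, 0), (4, 0), (3, 2625536), (4, 0), (4, 0), (1, 1114368), (1, 197120), (4, 0), (2, 1049856), (4, 0), (4, 0), (3, 65668), (4, 0), (4, 0), (4, 0), (3, 4720640), (0, 1052673), (0, 2105346), (1, 524300), (4, 0), (2, 4198528), (4, 0), (3, 1311232), (4, 0), (4, 0), (1, 131075), (1, 2053), (4, 0), (2, 12582928), (4, 0), (4, 0), (2, 10486016), (4, 0), (3, 1281), (4, 0), (4, 0), (1, 6324224), (0, 4259841), (3, 24577), (4, 0), (4, 0), (3, 1097728), (4, 0), (4, 0), (3, 4734976), (0, 1081345), (1, 131201), (4, 0), (2, 8388872), (4, 0), (4, 0), (3, 4341760), (0, 294913), (4, 0), (4, 0), (4, 0), (4, 0), (4, 0), (3, 70), (0, 140), (0, 280), (0, 560), (4, 0), (2, 1212416), (3, 35840), (1, 5243008), (4, 0), (4, 0), (4, 0), (3, 65548), (0, 131096), (4, 0), (3, 8264), (4, 0), (4, 0), (4, 0), (1, 16464), (1, 4384), (0, 8768), (4, 0), (1, 66562), (4, 0), (3, 2162944), (4, 0), (4, 0), (2, 917504), (3,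 4196368), (4, 0), (4, 0), (3, 131078), (4, 0), (4, 0), (2, 43008), (0, 86016), (4, 0), (1, 4194440), (4, 0), (3, 557568), (1, 295040), (4, 0), (3, 4231168), (4, 0), (4, 0), (4, 0), (3, 104), (1, 5184), (2, 2686976), (4, 0), (4, 0), (3, 2097162), (4, 0), (4, 0), (4, 0), (1, 4116), (0, 8232), (1, 1096), (0, 2192), (1, 4210944), (4, 0), (4, 0), (1, 1052736), (4, 0), (2, 622592), (4, 0), (4, 0), (4, 0), (1, 274), (0, 548), (3, 2101312), (4, 0), (4, 0), (4, 0), (2, 2230272), (0, 4460544), (0, 532481), (0, 1064962), (4, 0), (4, 0), (2, 2113538), (4, 0), (4, 0), (4, 0), (4, 0), (3, 262210), (0, 524420), (1, 49168), (0, 98336), (4, 0), (3, 163844), (4, 0), (4, 0), (2, 10304), (0, 20608), (4, 0), (1, 4198408), (4, 0), (4, 0), (3, 4194400), (4, 0), (4, 0), (1, 12292), (0, 24584), (4, 0), (3, 832), (0, 1664), (4, 0), (4, 0), (4, 0), (3, 262162), (0, 524324), (1, 33808), (3, 32900), (4, 0), (4, 0), (2, 2624), (4, 0), (3, 6291520), (4, 0), (4, 0), (1, 8452), (0, 16904), (4, 0), (4, 0), (4, 0), (4, 0), (4,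 0), (4, 0), (2, 4229120), (0, 69633), (0, 139266), (0, 278532), (1, 8240), (0, 16480), (4, 0), (3, 2097668), (4, 0), (4, 0), (2, 280576), (1, 4202528), (0, 16449), (4, 0), (4, 0), (3, 655376), (4, 0), (4, 0), (3, 131152), (1, 6400), (4, 0), (3, 2054), (4, 0), (4, 0), (4, 0), (1, 2060), (0, 4120), (4, 0), (2, 34820), (0, 69640), (4, 0), (3, 557120), (4, 0), (4, 0), (3, 524360), (1, 36928), (4, 0), (4, 0), (4, 0), (2, 4194448), (0, 289), (4, 0), (3, 16420), (1, 1072), (4, 0), (4, 0), (4, 0), (3, 264704), (0, 529408), (2, 2162752), (4, 0), (4, 0), (1, 4464640), (1, 2105352), (4, 0), (4, 0), (4, 0), (4, 0), (1, 515), (0, 1030), (2, 4261888), (0, 135169), (4, 0), (4, 0), (3, 262336), (4, 0), (4, 0), (2, 12582944), (3, 10502144), (4, 0), (4, 0), (3, 266241), (4, 0), (4, 0), (2, 10486784), (1, 9961472), (1, 8552448), (0, 8716288), (4, 0), (4, 0), (3, 12583936), (4, 0), (4, 0), (3, 9437312), (1, 8536064), (4, 0), (4, 0), (4, 0), (3, 8449), (1, 65545), (0, 131090), (1, 2308), (4, 0), (2, 4325392), (4,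 0), (4, 0), (1, 577), (4, 0), (3, 8201), (0, 16402), (4, 0), (4, 0), (4, 0), (4, 0), (4, 0), (1, 6291584), (0, 4194561), (1, 2162689), (0, 4325378), (1, 2099204), (4, 0), (4, 0), (1, 524801), (0, 1049602), (4, 0), (4, 0), (2, 8393728), (0, 8398848), (4, 0), (3, 8388992), (4, 0), (4, 0), (3, 1056769), (1, 131081), (4, 0), (3, 1537), (4, 0), (4, 0), (4, 0), (2, 9437186), (1, 8519684), (1, 8390672), (4, 0), (2, 2065), (4, 0), (4, 0), (3, 8651776), (4, 0), (4, 0), (3, 81921), (1, 545), (0, 1090), (4, 0), (4, 0), (3, 139265), (1, 2057), (4, 0), (3, 2561), (4, 0), (4, 0), (4, 0), (4, 0), (1, 2637824), (0, 5275648), (1, 2228352), (0, 4456704), (4, 0), (3, 1050656), (4, 0), (4, 0), (2, 266), (3, 327688), (3, 8216), (4, 0), (4, 0), (4, 0), (3, 50176), (3, 163968), (4, 0), (4, 0), (4, 0), (1, 557088), (0, 1114176), (4, 0), (1, 33920), (0, 67840), (4, 0), (4, 0), (2, 584), (4, 0), (4, 0), (2, 266304), (0, 532608), (0, 1065216), (4, 0), (2, 8384), (0, 16768), (4, 0), (4, 0), (4, 0), (4, 0), (3, 5373952),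 (0, 2359297), (3, 1048593), (4, 0), (4, 0), (3, 19456), (4, 0), (4, 0), (4, 0), (2, 12290), (0, 24580), (0, 49160), (3, 163848), (4, 0), (4, 0), (3, 131648), (0, 263296), (4, 0), (4, 0), (4, 0), (3, 262912), (0, 525824), (4, 0), (4, 0), (4, 0), (3, 1064992), (0, 2129984), (0, 4259968), (1, 2114048), (4, 0), (4, 0), (1, 528512), (4, 0), (2, 528392), (3, 4194568), (4, 0), (4, 0), (3, 1081346), (4, 0), (4, 0), (1, 132128), (4, 0), (3, 2229248), (0, 4458496), (3, 540688), (4, 0), (4, 0), (4, 0), (4, 0), (4, 0), (3, 573440), (0, 1146880), (0, 2293760), (0, 4587520), (0, 786433), (4, 0), (1, 2107392), (4, 0), (3, 18448), (4, 0), (4, 0), (1, 526848), (0, 1053696), (4, 0), (1, 4489216), (4, 0), (3, 4722688), (4, 0), (4, 0), (2, 5136), (0, 10272), (4, 0), (4, 0), (3, 1058816), (4, 0), (4, 0), (1, 131712), (0, 263424), (1, 1122304), (4, 0), (2, 1130496), (4, 0), (3, 65680), (4, 0), (4, 0), (3, 6176), (1, 4195330), (4, 0), (4, 0), (4, 0), (2, 1288), (0, 2576), (2, 131108), (4, 0), (3, 528388), (4, 0),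 (4, 0), (3, 65672), (1, 16960), (4, 0), (4, 0), (4, 0), (3, 41984), (1, 1048712), (2, 41216), (4, 0), (4, 0), (4, 0), (4, 0), (1, 32928), (0, 65856), (1, 70144), (0, 140288), (4, 0), (1, 262658), (4, 0), (4, 0), (2, 1573888), (0, 3147776), (4, 0), (4, 0), (3, 73730), (3, 270848), (4, 0), (4, 0), (4, 0), (1, 17536), (0, 35072), (4, 0), (3, 131232), (0, 262464), (4, 0), (4, 0), (4, 0), (2, 8712), (0, 17424), (4, 0), (4, 0), (3, 2129952), (0, 4259904), (4, 0), (3, 3178496), (4, 0), (4, 0), (4, 0), (3, 4358144), (1, 2099328), (0, 4198656), (2, 3145730), (4, 0)]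
/-- Part of a certificate. -/
def triCert_2 : List (ℕ × ℕ) := [(4, 0), (4, 0), (3, 51200), (0, 102400), (0, 204800), (4, 0), (2, 2098184), (4, 0), (4, 0), (3, 688128), (4, 0), (4, 0), (4, 0), (4, 0), (4, 0), (3, 262216), (0, 524432), (0, 1048864), (0, 2097728), (0, 4195456), (0, 2305), (4, 0), (1, 3162112), (4, 0), (4, 0), (1, 790528), (4, 0), (3, 1052674), (4, 0), (4, 0), (1, 197632), (0, 395264), (4, 0), (1, 1051136), (2, 292), (4, 0), (4, 0), (2, 66576), (3, 8324), (4, 0), (4, 0), (3, 10368), (1, 4210696), (4, 0), (4, 0), (4, 0), (2, 1049344), (0, 2098688), (3, 1052800), (4, 0), (4, 0), (1, 458752), (3, 10256), (4, 0), (4, 0), (3, 70656), (4, 0), (4, 0), (3, 2163712), (1, 1573376), (1, 425984), (4, 0), (3, 4199424), (4, 0), (4, 0), (3, 1056896), (1, 147464), (0, 294928), (4, 0), (4, 0), (3, 1568), (4, 0), (4, 0), (4, 0), (4, 0), (1, 49408), (0, 98816), (1, 262784), (4, 0), (3, 45056), (0, 90112), (4, 0), (3, 33536), (4, 0), (4, 0), (4, 0), (1, 65696), (1, 17920), (1, 1310752), (4, 0), (2,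 327712), (4, 0), (4, 0), (2, 9728), (4, 0), (4, 0), (2, 1310728), (0, 2621456), (3, 5242884), (4, 0), (4, 0), (3, 1048), (1, 1048896), (4, 0), (4, 0), (4, 0), (3, 229376), (4, 0), (4, 0), (2, 139328), (0, 278656), (1, 24608), (0, 49216), (4, 0), (4, 0), (2, 286720), (4, 0), (3, 131120), (4, 0), (4, 0), (1, 6152), (0, 12304), (3, 772), (4, 0), (4, 0), (1, 4194370), (0, 133), (4, 0), (4, 0), (2, 2129924), (0, 4259848), (4, 0), (4, 0), (3, 524552), (0, 1049104), (4, 0), (4, 0), (4, 0), (3, 2562), (0, 5124), (0, 10248), (4, 0), (2, 2164736), (4, 0), (4, 0), (1, 4456452), (0, 524297), (4, 0), (2, 18434), (4, 0), (4, 0), (4, 0), (4, 0), (3, 4194340), (0, 73), (0, 146), (2, 4333568), (4, 0), (4, 0), (4, 0), (1, 2098192), (0, 4196384), (4, 0), (1, 1573120), (3, 4260864), (4, 0), (4, 0), (2, 200704), (0, 401408), (4, 0), (3, 10496), (4, 0), (4, 0), (3, 1048708), (4, 0), (4, 0), (3, 2113600), (3, 1179650), (1, 133124), (4, 0), (4, 0), (4, 0), (4, 0), (4, 0), (1, 12352), (0, 24704), (1, 16424), (0, 32848),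 (1, 4480), (4, 0), (3, 32774), (4, 0), (4, 0), (1, 1120), (2, 590336), (4, 0), (3, 2097282), (4, 0), (4, 0), (2, 295424), (3, 36880), (4, 0), (4, 0), (3, 2228232), (1, 526400), (4, 0), (3, 1050632), (4, 0), (4, 0), (4, 0), (2, 270464), (0, 540928), (4, 0), (4, 0), (3, 131616), (0, 263232), (1, 1060864), (4, 0), (2, 606208), (4, 0), (4, 0), (1, 265216), (1, 5251072), (4, 0), (2, 81924), (4, 0), (4, 0), (4, 0), (4, 0), (1, 4106), (0, 8212), (3, 580), (1, 266256), (4, 0), (4, 0), (4, 0), (3, 262408), (0, 524816), (0, 1049632), (4, 0), (2, 131168), (4, 0), (3, 4198404), (4, 0), (4, 0), (3, 65560), (4, 0), (4, 0), (4, 0), (2, 2621568), (0, 5243136), (0, 2097665), (2, 8392736), (4, 0), (4, 0), (2, 1048834), (4, 0), (4, 0), (3, 5242912), (0, 2097217), (4, 0), (4, 0), (4, 0), (3, 770), (0, 1540), (0, 3080), (2, 98308), (4, 0), (4, 0), (1, 1310736), (2, 147712), (4, 0), (4, 0), (2, 67616), (4, 0), (4, 0), (1, 327684), (0, 655368), (1, 34880), (4, 0), (4, 0), (4, 0), (4, 0), (4, 0), (3, 26), (0, 52),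 (2, 133632), (0, 267264), (1, 1056770), (4, 0), (2, 2179072), (4, 0), (3, 400), (4, 0), (4, 0), (3, 530432), (4, 0), (4, 0), (3, 2097220), (3, 1048642), (1, 135172), (4, 0), (3, 263170), (4, 0), (4, 0), (4, 0), (4, 0), (1, 324), (0, 648), (1, 278592), (0, 557184), (4, 0), (2, 802816), (0, 1605632), (4, 0), (4, 0), (4, 0), (2, 40992), (3, 2130432), (4, 0), (4, 0), (3, 4136), (4, 0), (4, 0), (1, 69648), (0, 139296), (2, 656), (4, 0), (4, 0), (4, 0), (2, 1574912), (0, 3149824), (4, 0), (3, 4719616), (0, 1050625), (4, 0), (4, 0), (4, 0), (3, 65602), (0, 131204), (3, 2144), (4, 0), (4, 0), (1, 4612), (4, 0), (3, 270338), (4, 0), (4, 0), (4, 0), (3, 262156), (0, 524312), (1, 33088), (4, 0), (4, 0), (1, 8272), (0, 16544), (4, 0), (1, 4360), (4, 0), (2, 655488), (0, 1310976), (4, 0), (4, 0), (4, 0), (3, 88), (1, 4416), (4, 0), (4, 0), (4, 0), (4, 0), (4, 0), (4, 0), (1, 21), (0, 42), (1, 1092), (0, 2184), (1, 4210752), (0, 32897), (3, 32801), (4, 0), (4, 0), (4, 0), (2, 40964), (0, 81928), (0, 163856),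 (4, 0), (3, 139272), (4, 0), (4, 0), (3, 33344), (3, 36866), (4, 0), (4, 0), (4, 0), (3, 524328), (0, 1048656), (1, 135424), (4, 0), (4, 0), (1, 33856), (2, 589832), (4, 0), (3, 32898), (4, 0), (4, 0), (3, 6291464), (1, 2621504), (4, 0), (3, 1064968), (4, 0), (4, 0), (4, 0), (4, 0), (1, 1052688), (0, 2105376), (1, 525320), (4, 0), (2, 4736), (4, 0), (3, 3146240), (4, 0), (4, 0), (1, 131330), (1, 67588), (4, 0), (2, 5242896), (4, 0), (3, 329728), (0, 659456), (4, 0), (4, 0), (4, 0), (2, 2228480), (0, 4456960), (4, 0), (3, 1116160), (4, 0), (4, 0), (3, 1284), (0, 2568), (2, 32804), (4, 0), (4, 0), (1, 1114128), (4, 0), (3, 65728), (1, 20992), (4, 0), (4, 0), (4, 0), (4, 0), (2, 591872), (0, 1183744), (0, 2367488), (1, 532488), (4, 0), (4, 0), (2, 2097424), (1, 590080), (4, 0), (3, 1114116), (4, 0), (4, 0), (3, 3328), (1, 5308416), (4, 0), (4, 0), (4, 0), (3, 4726784), (0, 1064961), (0, 2129922), (4, 0), (4, 0), (1, 2129928), (3, 1081352), (4, 0), (4, 0), (3, 4211200), (3, 151552), (4, 0), (4,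 0), (4, 0), (4, 0), (3, 194), (0, 388), (0, 776), (0, 1552), (4, 0), (4, 0), (1, 81936), (0, 163872), (4, 0), (3, 139268), (4, 0), (4, 0), (3, 65632), (4, 0), (4, 0), (1, 20484), (1, 50), (4, 0), (2, 2361344), (4, 0), (4, 0), (3, 262178), (0, 524356), (4, 0), (1, 9220), (4, 0), (3, 2359312), (0, 4718624), (4, 0), (4, 0), (4, 0), (4, 0), (4, 0), (2, 4227584), (0, 66561), (0, 133122), (0, 266244), (2, 2115584), (4, 0), (4, 0), (1, 4196356), (4, 0), (2, 4194324), (0, 41), (4, 0), (4, 0), (4, 0), (1, 1049089), (0, 2098178), (2, 4263936), (4, 0), (4, 0), (1, 393217), (1, 10241), (4, 0), (4, 0), (2, 8388896), (4, 0), (4, 0), (2, 8455168), (1, 9437696), (1, 8781824), (4, 0), (4, 0), (3, 8396928), (1, 8405000), (4, 0), (4, 0), (4, 0), (3, 8321), (0, 16642), (1, 65572), (4, 0), (4, 0), (1, 16393), (0, 32786), (4, 0), (4, 0), (4, 0), (4, 0), (1, 2359424), (0, 4718848), (1, 2195456), (1, 524928), (4, 0), (2, 5128), (4, 0), (4, 0), (3, 4276224), (4, 0), (4, 0), (1, 548864), (1, 32808), (4, 0), (3, 4325888),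 (3, 22528), (4, 0), (4, 0), (4, 0), (2, 28672), (3, 131840), (0, 263680), (4, 0), (4, 0), (4, 0), (3, 1048624), (0, 2097248), (4, 0), (1, 132352), (4, 0), (3, 2098180), (4, 0), (4, 0), (4, 0), (3, 53248), (0, 106496), (0, 212992), (4, 0), (2, 1160), (1, 1065024), (4, 0), (4, 0), (4, 0), (1, 162), (2, 4203008), (4, 0), (3, 2359328), (4, 0), (4, 0), (3, 164096), (0, 328192), (0, 656384), (4, 0), (4, 0), (1, 67712), (4, 0), (3, 100352), (3, 565248), (4, 0), (4, 0), (4, 0), (4, 0), (4, 0), (3, 2359304), (0, 4718608), (0, 1048609), (0, 2097218), (3, 1310722), (4, 0), (4, 0), (1, 132097), (3, 2177), (4, 0), (4, 0), (2, 8389376), (3, 8458240), (3, 8397056), (4, 0), (4, 0), (4, 0), (3, 2098177), (3, 1048705), (4, 0), (4, 0), (4, 0), (1, 2130176), (0, 4260352), (4, 0), (1, 589952), (4, 0), (4, 0), (2, 131138), (0, 262276), (4, 0), (1, 6148), (4, 0), (3, 264194), (1, 4202500), (4, 0), (3, 786448), (4, 0), (4, 0), (4, 0), (3, 4210692), (0, 32777), (0, 65554), (4, 0), (4, 0), (3, 147520), (4, 0), (4, 0),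 (4, 0), (1, 532544), (0, 1065088), (1, 147488), (0, 294976), (4, 0), (4, 0), (2, 270592), (4, 0), (4, 0), (1, 36872), (0, 73744), (2, 132224), (4, 0), (4, 0), (3, 33032), (4, 0), (4, 0), (2, 524480), (0, 1048960), (3, 66592), (4, 0), (4, 0), (3, 4194338), (4, 0), (4, 0), (3, 4194818), (0, 1029), (0, 2058), (4, 0), (4, 0), (1, 2359300), (4, 0), (3, 282624), (4, 0), (4, 0), (4, 0), (3, 1048600), (0, 2097200), (1, 525568), (4, 0), (2, 135680), (4, 0), (3, 3145732), (4, 0), (4, 0), (1, 131392), (1, 71680), (4, 0), (2, 1572880), (0, 3145760), (4, 0), (3, 4195332), (4, 0), (4, 0), (3, 67586), (1, 4194820), (4, 0), (4, 0), (4, 0), (3, 1036), (0, 2072), (1, 4194624), (4, 0), (4, 0), (3, 200), (1, 20544), (4, 0), (4, 0), (4, 0), (4, 0), (4, 0), (4, 0), (1, 273), (0, 546), (1, 263172), (0, 526344), (3, 4718600), (4, 0), (4, 0), (1, 1056784), (0, 2113568), (4, 0), (1, 131336), (2, 1081360), (4, 0), (4, 0), (2, 131456), (4, 0), (4, 0), (2, 83968), (0, 167936), (4, 0), (4, 0), (3, 208), (0, 416), (3, 2162720),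 (4, 0), (4, 0), (4, 0), (4, 0), (2, 4194848), (0, 1089), (0, 2178), (0, 4356), (4, 0), (3, 786464), (4, 0), (4, 0), (2, 8978432), (1, 8421888), (4, 0), (4, 0), (3, 131), (3, 262177), (4, 0), (4, 0), (4, 0), (1, 2360320), (1, 1581056), (4, 0), (3, 1048720), (4, 0), (4, 0), (3, 2117632), (1, 524322)]
/-- Part of a certificate. -/
def triCert_3 : List (ℕ × ℕ) := [(2, 4194880), (4, 0), (4, 0), (3, 1179904), (3, 68608), (4, 0), (4, 0), (4, 0), (4, 0), (3, 2363392), (1, 532482), (0, 1064964), (2, 264448), (4, 0), (3, 132160), (4, 0), (4, 0), (1, 32780), (4, 0), (2, 4194496), (4, 0), (4, 0), (3, 1048848), (1, 196864), (1, 68096), (4, 0), (3, 75776), (4, 0), (4, 0), (3, 66564), (0, 133128), (4, 0), (4, 0), (4, 0), (4, 0), (4, 0), (1, 65793), (0, 131586), (1, 264196), (4, 0), (2, 4194352), (0, 97), (4, 0), (3, 2113540), (4, 0), (4, 0), (3, 268288), (1, 4202498), (3, 279040), (4, 0), (4, 0), (4, 0), (4, 0), (1, 66049), (0, 132098), (1, 1050628), (4, 0), (2, 4259856), (4, 0), (4, 0), (1, 262657), (1, 270337),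 (0, 540674), (4, 0), (4, 0), (2, 8405024), (0, 8421440), (4, 0), (4, 0), (4, 0), (2, 8389664), (0, 8390720), (0, 8392832), (4, 0), (2, 524293), (4, 0), (4, 0), (4, 0), (4, 0), (2, 9438208), (4, 0), (3, 73729), (0, 147458), (0, 294916), (4, 0), (1, 2084), (4, 0), (2, 4456464), (4, 0), (4, 0), (3, 8705), (0, 17410), (3, 393344), (4, 0), (4, 0), (4, 0), (4, 0), (4, 0), (2, 9568256), (0, 10747904), (2, 20481), (0, 40962), (4, 0), (1, 35), (4, 0), (3, 131329), (4, 0), (4, 0), (3, 9437200), (0, 10485792), (0, 12582976), (4, 0), (4, 0), (1, 8519936), (4, 0), (4, 0), (4, 0), (3, 8391680), (0, 8394752), (0, 8400896), (4, 0), (2, 2097157), (3, 1048641), (4, 0), (4, 0), (3, 8913152), (4, 0), (4, 0), (3, 8913024), (0, 9437440), (1, 8585216), (2, 1041), (4, 0), (4, 0), (4, 0), (4, 0), (4, 0), (4, 0), (3, 65541), (0, 131082), (0, 262164), (2, 149504), (0, 299008), (4, 0), (4, 0), (4, 0), (1, 2116), (0, 4232), (1, 16450), (4, 0), (2, 2138112), (4, 0), (4, 0), (1, 4198416), (0, 8225), (4, 0), (1, 2097410),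 (4, 0), (4, 0), (2, 526340), (4, 0), (4, 0), (2, 4227088), (0, 65569), (3, 2105345), (4, 0), (4, 0), (1, 2097536), (4, 0), (4, 0), (4, 0), (1, 529), (0, 1058), (1, 1049604), (0, 2099208), (4, 0), (1, 1179664), (4, 0), (4, 0), (4, 0), (4, 0), (3, 8257), (0, 16514), (0, 33028), (4, 0), (4, 0), (1, 4105), (0, 8210), (2, 4325504), (4, 0), (4, 0), (4, 0), (4, 0), (4, 0), (4, 0), (2, 8521728), (0, 8654848), (0, 8921088), (1, 8421384), (0, 8454160), (3, 8396804), (4, 0), (4, 0), (1, 8388800), (4, 0), (4, 0), (2, 193), (0, 386), (4, 0), (4, 0), (3, 12583424), (3, 8409088), (0, 8429568), (4, 0), (4, 0), (4, 0), (4, 0), (2, 2113537), (0, 4227074), (1, 2097284), (2, 14336), (4, 0), (4, 0), (2, 4194314), (4, 0), (3, 311296), (4, 0), (4, 0), (1, 524321), (1, 33793), (2, 8454152), (4, 0), (4, 0), (2, 8389184), (4, 0), (3, 6291457), (4, 0), (4, 0), (3, 1179649), (0, 2359298), (2, 4214784), (4, 0), (4, 0), (1, 133121), (3, 526337), (4, 0), (4, 0), (3, 3073), (3, 524417), (4, 0), (4, 0), (4, 0), (4, 0), (3,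 8388880), (0, 8389152), (0, 8389696), (4, 0), (4, 0), (1, 8454400), (0, 8520192), (4, 0), (1, 8454656), (4, 0), (2, 1049601), (0, 2099202), (4, 0), (3, 1153), (4, 0), (4, 0), (3, 8462336), (1, 8389128), (4, 0), (4, 0), (4, 0), (3, 8454148), (0, 8519688), (0, 8650768), (4, 0), (2, 32785), (4, 0), (4, 0), (1, 8389136), (4, 0), (3, 8396864), (1, 8392712), (4, 0), (4, 0), (4, 0), (4, 0), (4, 0), (3, 8914944), (0, 9441280), (0, 10493952), (1, 8912904), (2, 32833), (4, 0), (4, 0), (2, 4225), (0, 8450), (4, 0), (4, 0), (4, 0), (1, 8519682), (1, 8390660), (4, 0), (2, 4194321), (4, 0), (4, 0), (2, 2097409), (1, 589825), (1, 33281), (4, 0), (4, 0), (4, 0), (3, 8389888), (0, 8391168), (2, 37), (4, 0), (4, 0), (3, 8454272), (1, 8405504), (4, 0), (4, 0), (4, 0), (4, 0), (1, 12615680), (3, 8437760), (0, 8486912), (1, 8389248), (4, 0), (2, 1033), (4, 0), (4, 0), (4, 0), (4, 0), (3, 13107200), (3, 12599296), (4, 0), (4, 0), (4, 0), (4, 0), (3, 69), (0, 138), (0, 276), (0, 552), (2, 33312), (4, 0), (4, 0), (1,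 65808), (1, 66304), (0, 132608), (4, 0), (4, 0), (2, 1180672), (3, 3200), (4, 0), (4, 0), (3, 73732), (4, 0), (4, 0), (2, 1181696), (3, 527360), (0, 1054720), (4, 0), (4, 0), (4, 0), (3, 65604), (0, 131208), (1, 18496), (4, 0), (2, 40976), (4, 0), (4, 0), (1, 4624), (0, 9248), (4, 0), (4, 0), (3, 8258), (1, 4108), (4, 0), (4, 0), (4, 0), (4, 0), (1, 16452), (0, 32904), (1, 16576), (0, 33152), (4, 0), (4, 0), (4, 0), (1, 4144), (0, 8288), (3, 2097666), (4, 0), (4, 0), (1, 1282), (4, 0), (2, 2228736), (4, 0), (3, 2097412), (0, 4194824), (4, 0), (1, 589840), (4, 0), (4, 0), (4, 0), (2, 788480), (0, 1576960), (0, 3153920), (4, 0), (4, 0), (4, 0), (4, 0), (2, 4235264), (1, 2097288), (0, 4194576), (4, 0), (1, 540736), (0, 1081472), (4, 0), (4, 0), (3, 1048616), (4, 0), (4, 0), (3, 49664), (0, 99328), (4, 0), (1, 262304), (4, 0), (4, 0), (4, 0), (3, 262184), (1, 9280), (0, 18560), (2, 270340), (4, 0), (3, 655392), (4, 0), (4, 0), (3, 642), (3, 266272), (4, 0), (4, 0), (4, 0), (3, 2097176), (1, 524608),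 (2, 1572928), (4, 0), (3, 4259842), (4, 0), (4, 0), (3, 1048588), (4, 0), (4, 0), (4, 0), (4, 0), (1, 4113), (0, 8226), (2, 4194944), (1, 2375680), (4, 0), (3, 20512), (0, 41024), (4, 0), (4, 0), (4, 0), (3, 2359808), (1, 794624), (4, 0), (4, 0), (4, 0), (1, 259), (0, 518), (4, 0), (4, 0), (2, 10616832), (0, 12845056), (2, 16387), (4, 0), (3, 8405008), (4, 0), (4, 0), (4, 0), (4, 0), (3, 67), (0, 134), (0, 268), (0, 536), (4, 0), (1, 65616), (1, 4864), (4, 0), (4, 0), (2, 1083392), (0, 2166784), (4, 0), (4, 0), (3, 65608), (4, 0), (4, 0), (1, 16404), (3, 131140), (3, 2114), (4, 0), (4, 0), (4, 0), (2, 4204544), (3, 541184), (1, 294944), (4, 0), (3, 4329472), (4, 0), (4, 0), (4, 0), (3, 262240), (1, 13312), (4, 0), (3, 2097170), (4, 0), (4, 0), (4, 0), (1, 4101), (0, 8202), (3, 262664), (4, 0), (4, 0), (3, 321), (4, 0), (4, 0), (3, 262147), (0, 524294), (1, 32788), (0, 65576), (4, 0), (4, 0), (2, 4196416), (1, 6295552), (4, 0), (4, 0), (3, 4456512), (1, 2109440), (4, 0), (4, 0), (4, 0), (1, 8197),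 (0, 16394), (4, 0), (4, 0), (3, 262161), (4, 0), (4, 0), (4, 0), (4, 0), (4, 0), (2, 12584960), (0, 8392705), (0, 8396802), (0, 8404996), (1, 8388656), (0, 8388704), (4, 0), (2, 131585), (4, 0), (4, 0), (2, 264193), (0, 528386), (0, 1056772), (4, 0), (4, 0), (1, 4202497), (3, 16897), (4, 0), (4, 0), (3, 524305), (3, 4194309), (4, 0), (4, 0), (4, 0), (3, 8519744), (0, 8650880), (4, 0), (3, 8390658), (3, 9175040), (4, 0), (4, 0), (4, 0), (4, 0), (1, 8388620), (0, 8388632), (1, 8388928), (4, 0), (2, 163841), (4, 0), (4, 0), (1, 8388688), (1, 8392960), (2, 3145729), (4, 0), (4, 0), (2, 655361), (4, 0), (4, 0), (2, 34817), (0, 69634), (4, 0), (3, 557057), (4, 0), (4, 0), (3, 8388680), (0, 8388752), (3, 8388644), (4, 0), (4, 0), (1, 8392768), (4, 0), (4, 0), (4, 0), (2, 4194433), (3, 16417), (0, 32834), (1, 4228), (4, 0), (3, 294914), (4, 0), (4, 0), (1, 1057), (4, 0), (3, 2228225), (4, 0), (4, 0), (4, 0), (3, 8651264), (0, 8913920), (3, 12583040), (4, 0), (4, 0), (1, 8658944), (1, 8396808), (4, 0),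 (4, 0), (3, 8392720), (0, 8396832), (0, 8405056), (4, 0), (1, 8389640), (4, 0), (2, 641), (4, 0), (4, 0), (1, 8388866), (0, 8389124), (4, 0), (4, 0), (3, 8388868), (4, 0), (4, 0), (4, 0), (4, 0), (1, 8388611), (0, 8388614), (1, 8388628), (0, 8388648), (4, 0), (3, 8388676), (0, 8388744), (4, 0), (4, 0), (4, 0), (2, 4196353), (3, 540673), (3, 4325377), (4, 0), (4, 0), (4, 0), (3, 8650816), (3, 8388626), (4, 0), (4, 0), (4, 0), (1, 8388613), (0, 8388618), (3, 8650760), (4, 0), (4, 0), (1, 8388625), (0, 8388642), (2, 4194817), (4, 0), (4, 0), (4, 0), (2, 8390657), (0, 8392706), (4, 0), (4, 0), (3, 8388673), (0, 8388738), (3, 8650784), (4, 0), (4, 0), (4, 0), (4, 0), (3, 8650753), (0, 8912898), (0, 9437188), (4, 0), (1, 8421380), (4, 0), (2, 4194369), (4, 0), (4, 0), (1, 8396801), (0, 8404994), (4, 0), (1, 8388617), (4, 0), (2, 8388737), (4, 0), (4, 0), (4, 0), (4, 0), (2, 10485761), (0, 12582914), (1, 10485764), (0, 12582920), (2, 32771), (4, 0), (4, 0), (1, 8912912), (4, 0), (3, 9437248), (4, 0),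 (4, 0), (2, 4194307), (3, 278529), (0, 557058), (4, 0), (3, 131089), (4, 0), (4, 0), (4, 0), (3, 8667136), (3, 8519696), (4, 0), (4, 0), (4, 0), (1, 8912897), (1, 8421377), (0, 8454146), (2, 4195329), (4, 0), (4, 0), (4, 0), (4, 0), (3, 9437185), (0, 10485762), (0, 12582916), (1, 10485776), (4, 0), (2, 2051), (4, 0), (4, 0), (1, 8912900), (0, 9437192), (4, 0), (1, 8421392), (4, 0), (4, 0), (2, 4198401), (3, 16641), (4, 0), (4, 0), (3, 9699328), (3, 8389648), (4, 0), (4, 0), (4, 0), (1, 8519681), (0, 8650754), (4, 0), (4, 0), (3, 8389633), (4, 0), (4, 0), (4, 0), (3, 8388865), (0, 8389122), (0, 8389636), (0, 8390664), (2, 32773), (4, 0), (4, 0), (2, 67585), (4, 0), (4, 0), (1, 8650756), (1, 8396816), (4, 0), (2, 18433), (4, 0), (4, 0)]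
/-- Part of a certificate. -/
def triCert_4 : List (ℕ × ℕ) := [(2, 4194337), (4, 0), (4, 0), (1, 8454145), (1, 8389121), (0, 8389634), (4, 0), (4, 0), (4, 0), (4, 0), (4, 0), (1, 14680064), (0, 12582913), (3, 8404993), (0, 8421378), (1, 8388740), (4, 0), (2, 4194313), (4, 0), (3, 8683520), (4, 0), (4, 0), (1, 8388641), (0, 8388674), (4, 0), (4, 0), (4, 0), (4, 0), (1, 11010048), (0, 13631488), (3, 8406016), (0, 8423424), (4, 0), (4, 0), (4, 0), (1, 8945664), (0, 9502720), (3, 8397824), (4, 0), (4, 0), (1, 8421504), (1, 8405120), (4, 0), (4, 0), (4, 0), (2, 4161), (0, 8322), (0, 16644), (1, 65584), (4, 0), (2, 1312768), (4, 0), (4, 0), (2, 4202624), (1, 2113544), (4, 0), (4, 0), (3, 262688), (3, 2101264), (4, 0), (4, 0), (4, 0), (4, 0), (4, 0), (2, 4099), (0, 8198), (0, 16396), (0, 32792), (4, 0), (3, 131144), (0, 262288), (4, 0), (4, 0), (4, 0), (3, 262720), (4, 0), (4, 0), (3, 262401), (0, 524802), (4, 0), (4, 0), (4, 0), (3, 9453568), (0, 10518528), (0, 12648448), (1, 10486272), (2, 4129),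 (4, 0), (4, 0), (2, 1027), (3, 262273), (4, 0), (4, 0), (3, 8413184), (4, 0), (4, 0), (4, 0), (1, 8519712), (4, 0), (3, 8520704), (0, 8652800), (0, 8916992), (4, 0), (1, 12591104), (4, 0), (2, 16389), (4, 0), (4, 0), (3, 8390784), (3, 8912928), (4, 0), (4, 0), (4, 0), (4, 0), (4, 0), (3, 8929280), (0, 9469952), (0, 10551296), (1, 8913408), (4, 0), (2, 5121), (0, 10242), (3, 786944), (4, 0), (4, 0), (3, 385), (4, 0), (4, 0), (3, 9445376), (3, 8390144), (4, 0), (4, 0), (4, 0), (1, 8519808), (0, 8651008), (4, 0), (3, 8390688), (4, 0), (4, 0), (2, 265), (0, 530), (0, 1060), (4, 0), (2, 4325408), (1, 2100224), (4, 0), (4, 0), (4, 0), (4, 0), (3, 8422400), (0, 8456192), (0, 8523776), (2, 2097169), (4, 0), (4, 0), (4, 0), (4, 0), (4, 0), (1, 8421408), (0, 8454208), (1, 8393216), (2, 2097185), (4, 0), (4, 0), (2, 525313), (0, 1050626), (1, 4325380), (4, 0), (4, 0), (4, 0), (4, 0), (1, 8389760), (0, 8390912), (2, 1048581), (4, 0), (4, 0), (3, 8388768), (4, 0), (4, 0), (2, 521), (0, 1042), (4, 0), (4,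 0), (4, 0), (3, 12713984), (1, 10487808), (0, 12587008), (2, 2097155), (3, 1310721), (4, 0), (4, 0), (3, 8405248), (1, 8454176), (4, 0), (4, 0), (4, 0), (4, 0), (3, 8407040), (0, 8425472), (2, 2097161), (3, 1048585), (4, 0), (4, 0), (3, 8421632), (4, 0), (4, 0), (3, 9043968), (4, 0), (4, 0), (4, 0), (4, 0), (4, 0), (3, 262209), (0, 524418), (0, 1048836), (0, 2097672), (0, 4195344), (0, 2081), (4, 0), (3, 16516), (4, 0), (4, 0), (1, 786496), (0, 1572992), (4, 0), (3, 4194322), (4, 0), (4, 0), (2, 36896), (1, 1154), (4, 0), (4, 0), (3, 1052680), (0, 2105360), (3, 1049092), (4, 0), (4, 0), (4, 0), (4, 0), (1, 196624), (0, 393248), (1, 11264), (4, 0), (2, 16912), (4, 0), (3, 2099216), (0, 4198432), (4, 0), (4, 0), (4, 0), (1, 2816), (0, 5632), (4, 0), (1, 4521984), (4, 0), (2, 1048612), (4, 0), (3, 593920), (1, 33282), (4, 0), (4, 0), (4, 0), (2, 132112), (3, 2180), (1, 4210704), (4, 0), (3, 524384), (4, 0), (4, 0), (4, 0), (3, 10244), (0, 20488), (4, 0), (3, 524864), (4, 0), (4, 0), (4, 0), (2,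 1050880), (1, 4390912), (1, 2099712), (1, 4980736), (4, 0), (2, 4132), (4, 0), (4, 0), (3, 26624), (1, 4194344), (4, 0), (4, 0), (4, 0), (3, 590848), (1, 1081856), (3, 37888), (4, 0), (4, 0), (4, 0), (4, 0), (3, 66624), (0, 133248), (0, 266496), (4, 0), (3, 526368), (1, 4228096), (4, 0), (4, 0), (4, 0), (1, 1053184), (1, 393218), (0, 786436), (4, 0), (4, 0), (2, 2097440), (4, 0), (4, 0), (4, 0), (4, 0), (1, 49156), (0, 98312), (1, 704), (0, 1408), (4, 0), (2, 532512), (4, 0), (3, 4130), (4, 0), (4, 0), (2, 33800), (0, 67600), (0, 135200), (4, 0), (4, 0), (1, 1048768), (4, 0), (4, 0), (3, 40968), (3, 33288), (4, 0), (4, 0), (4, 0), (1, 176), (0, 352), (3, 2162690), (1, 524804), (4, 0), (3, 1318912), (4, 0), (4, 0), (4, 0), (1, 17664), (1, 1114144), (2, 1792), (4, 0), (4, 0), (2, 1376256), (4, 0), (3, 196736), (4, 0), (4, 0), (3, 2097188), (0, 4194376), (0, 145), (4, 0), (4, 0), (1, 525328), (4, 0), (3, 3145792), (4, 0), (4, 0), (4, 0), (2, 264200), (0, 528400), (2, 2228288), (4, 0), (3, 4194564),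 (1, 2162704), (4, 0), (4, 0), (4, 0), (4, 0), (3, 163904), (0, 327808), (0, 655616), (4, 0), (1, 25088), (4, 0), (2, 25600), (4, 0), (4, 0), (1, 6272), (0, 12544), (1, 65546), (4, 0), (2, 3145856), (4, 0), (4, 0), (1, 4210690), (4, 0), (2, 2105348), (4, 0), (4, 0), (3, 34818), (0, 69636), (4, 0), (1, 4194436), (4, 0), (3, 819200), (4, 0), (4, 0), (4, 0), (4, 0), (2, 4202560), (0, 16513), (0, 33026), (2, 5242888), (4, 0), (3, 360448), (4, 0), (4, 0), (3, 131105), (4, 0), (4, 0), (1, 2101256), (0, 4202512), (1, 2097416), (4, 0), (4, 0), (1, 524354), (1, 36868), (4, 0), (2, 4718656), (4, 0), (3, 4456450), (3, 278544), (4, 0), (4, 0), (4, 0), (2, 2134016), (0, 4268032), (0, 147457), (4, 0), (4, 0), (3, 1081600), (0, 2163200), (4, 0), (4, 0), (4, 0), (3, 1048840), (0, 2097680), (1, 786688), (4, 0), (3, 1052676), (4, 0), (4, 0), (1, 196672), (4, 0), (3, 66568), (4, 0), (4, 0), (4, 0), (3, 16898), (0, 33796), (0, 67592), (0, 135184), (4, 0), (4, 0), (3, 32960), (4, 0), (4, 0), (1, 262180), (1, 9232),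 (4, 0), (2, 18944), (4, 0), (3, 2097232), (3, 1048582), (4, 0), (4, 0), (4, 0), (3, 397312), (3, 2320), (3, 589828), (4, 0), (4, 0), (4, 0), (4, 0), (4, 0), (3, 4456480), (0, 524353), (0, 1048706), (1, 147460), (4, 0), (2, 4202752), (4, 0), (3, 263200), (4, 0), (4, 0), (1, 36865), (2, 10485768), (4, 0), (3, 33025), (4, 0), (4, 0), (2, 8912960), (4, 0), (4, 0), (1, 2106368), (0, 4212736), (1, 6291488), (1, 2622464), (4, 0), (2, 4610), (4, 0), (4, 0), (2, 262150), (4, 0), (4, 0), (1, 1572872), (0, 3145744), (4, 0), (3, 4195336), (4, 0), (4, 0), (2, 69760), (0, 139520), (4, 0), (3, 8480), (4, 0), (4, 0), (3, 1049216), (1, 409600), (4, 0), (3, 5152), (4, 0), (4, 0), (4, 0), (3, 2113552), (0, 4227104), (1, 2098304), (0, 4196608), (4, 0), (4, 0), (3, 2146304), (1, 524448), (4, 0), (4, 0), (4, 0), (1, 524576), (0, 1049152), (3, 5122), (4, 0), (4, 0), (3, 6356992), (1, 2621952), (4, 0), (4, 0), (4, 0), (3, 1179652), (1, 133136), (2, 131092), (4, 0), (4, 0), (3, 3136), (4, 0), (4, 0), (4, 0), (4, 0),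 (4, 0), (1, 12289), (0, 24578), (1, 44), (1, 1104), (0, 2208), (1, 4211712), (4, 0), (4, 0), (2, 720896), (4, 0), (4, 0), (2, 35328), (3, 561152), (4, 0), (4, 0), (3, 2097224), (1, 528448), (4, 0), (3, 1048586), (4, 0), (4, 0), (4, 0), (2, 4456576), (0, 524545), (0, 1049090), (4, 0), (1, 98305), (3, 40961), (4, 0), (4, 0), (4, 0), (1, 2121728), (4, 0), (3, 16432), (0, 32864), (1, 5248), (4, 0), (4, 0), (1, 1312), (4, 0), (3, 2228228), (4, 0), (4, 0), (4, 0), (3, 393728), (0, 787456), (1, 1089536), (4, 0), (2, 81984), (4, 0), (4, 0), (1, 272384), (1, 4202504), (0, 16401), (4, 0), (4, 0), (4, 0), (3, 6160), (0, 12320), (2, 2097792), (4, 0), (4, 0), (1, 4194562), (2, 5242882), (4, 0), (4, 0), (3, 524548), (4, 0), (4, 0), (4, 0), (4, 0), (1, 11), (0, 22), (2, 4327424), (3, 542720), (3, 4849664), (4, 0), (4, 0), (4, 0), (3, 262212), (0, 524424), (4, 0), (3, 82), (4, 0), (4, 0), (4, 0), (3, 262153), (0, 524306), (2, 4325440), (4, 0), (4, 0), (3, 25), (3, 13), (4, 0), (4, 0), (4, 0), (4, 0), (2, 10485888),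 (0, 12583168), (2, 1048579), (1, 131077), (4, 0), (3, 263169), (0, 526338), (4, 0), (4, 0), (4, 0), (3, 8470528), (3, 8527872), (4, 0), (4, 0), (4, 0), (3, 9437216), (0, 10485824), (2, 528385), (4, 0), (4, 0), (4, 0), (4, 0), (3, 769), (0, 1538), (0, 3076), (4, 0), (1, 1310724), (0, 2621448), (4, 0), (1, 139280), (1, 2312), (4, 0), (4, 0), (2, 18688), (4, 0), (4, 0), (2, 4259872), (0, 131137), (4, 0), (4, 0), (3, 266368), (0, 532736), (0, 1065472), (4, 0), (4, 0), (4, 0), (4, 0), (1, 327681), (0, 655362), (4, 0), (4, 0), (4, 0), (4, 0), (3, 19), (0, 38), (1, 1044), (0, 2088), (1, 4195392), (4, 0), (2, 33284), (4, 0), (4, 0), (2, 198656), (3, 534528), (0, 1069056), (4, 0), (3, 4719104), (4, 0), (4, 0), (4, 0), (3, 196), (0, 392), (4, 0), (1, 20496), (4, 0), (3, 98), (4, 0), (4, 0), (4, 0), (2, 4196864), (3, 544768), (1, 32802), (4, 0), (3, 4325632), (4, 0), (4, 0), (4, 0), (3, 2359360), (0, 4718720), (0, 1048833), (1, 196609), (4, 0), (4, 0), (3, 4210720), (3, 2244608), (4, 0), (4, 0), (4, 0),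 (1, 536576), (0, 1073152), (2, 262528), (4, 0), (4, 0), (1, 32778), (4, 0), (2, 2097344), (4, 0), (3, 4195072), (4, 0), (4, 0), (3, 1048594), (4, 0), (4, 0), (4, 0), (1, 261), (0, 522), (3, 266248), (0, 532496), (4, 0), (4, 0), (4, 0), (1, 65553), (0, 131106), (2, 4194832), (4, 0), (4, 0), (4, 0), (2, 9439232), (0, 10489856), (2, 2101249), (1, 524291), (4, 0), (4, 0), (4, 0), (4, 0), (3, 65601)]
/-- Part of a certificate. -/
def triCert_5 : List (ℕ × ℕ) := [(1, 4609), (0, 9218), (4, 0), (4, 0), (3, 8195), (4, 0), (4, 0), (4, 0), (3, 262149), (0, 524298), (0, 1048596), (1, 131344), (4, 0), (2, 133376), (4, 0), (4, 0), (1, 32836), (1, 4240), (4, 0), (4, 0), (2, 4227136), (0, 65665), (4, 0), (1, 2101376), (4, 0), (3, 49154), (4, 0), (4, 0), (3, 4456456), (3, 16408), (4, 0), (4, 0), (4, 0), (1, 8209), (0, 16418), (3, 2490368), (4, 0), (4, 0), (3, 517), (4, 0), (4, 0), (3, 81), (4, 0), (4, 0), (4, 0), (4, 0)]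
/-- Orbit certificate for the triads under the generators of `M24`. -/
def triCert : List (ℕ × ℕ) := triCert_0 ++ triCert_1 ++ triCert_2 ++ triCert_3 ++ triCert_4 ++ triCert_5
/-- Bitmap of the keys of the triads. -/
def triBM : ℕ := 133768902017270170535462612759567624540626429876001929361902777755370082327705662161963330178813826447379298584548607664897176508127493159294548403274350916403643440550556312702762851874301699837831646455910932581852412400850453139320536199309855623517680500968195109015109778903340841457690336766013263375973718015830265144010213485998812444869295223747383507183436875274462100554872329208141724530854882363760052195975008030419333647134707471806645081887877284484178280206790322169530432297000036659810307591323552498407244619827848076532621314392881114982074826295852363648371066036710154167916079438181442537522931345193519637954888804590913309497473558940460083593483845801046004356109325405317136185420663678697174604955798249514374180368591298376194727474585141825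2061615395838964937193610379521958116575008002910792032377421326012039541179642483085841201591842810345109917345322382757370480613169222055322220898720055411628221778077337200176357224409216396602976299574085947699734158708084123806992015654767439980191271322195496756594804294496509651306070691965378004313907077120008039025301204908934994247063518931743440555203376077295042818092636919082971024544795867419345082038861647080614226565797365185755716166419084562471757195978082086800251162497801784785957536192314025445729886915566984737093908648596581236216578384835376190236956243768910427760747421264231529980522318097641814103316216647939921227446984938608464023537805548262131978398961102229314170115824995474040501023058727131151034859906160230666213987693233318729290788952759239139492690326023049191041616613794253765701409529749816110729415229920825336216617152365382308104115791122668675842442642280380018436987231524122445320425291955479155172456186835598026998444728106146392623795402706449605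5541850685662620591820497329246361587933919744272853068472987226728623048990643317190589952524587530152217125918637588794505207276375821908801664387434071662957056371502454263988973010799510375083965846422782720747609560414579158082653799921600755896578526008499713682662253319138588683363507471661702120716730882726565918047110093366741871291496106358989752498757414601528878204346146826352756440095225435388220716358207549055570393530109794682375711852668287830013436412141428353241226785887453481750196322045121630240529434222864673097068031633658330127797157978078226481837286615198104677996369261548460471475450364493304561591600301190162051131463887169629849765307257778668505662161607605334068963880869335787108796507953404814088504143191670842282823460680379312717237661116973350758132504100154584533444486110058847152293340488462858008259587391562116121543451297302749765358702006982220220058755315449813409380744389664356967739591474400009760603616745341752269099909644151540653819109028363927777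81964924771813935198328936995301564190055574010707845792692232397005370845465037360942875328453046414900868698782445611266574598524318753187727676628028947693153043382460647536683319097724341433079188389902484220597157563084911731523366326926765373625311681336222604168462197725513353551185467462667369303909793004568740355406592238032989651278449685732569992901883750336646142442365327555753730021681932135583372146357567852936302513181059920451350655752456038401158989807274210069421754725428998424180271167018052072288574706441231406268672890726147827286726448472952622247730976330541573921614165428402976476858381709020584464802970420276843710822782693576456048380243569355729801594794447893948376087028580420163321903025689841282907892624415777548390654832508681843556118701639983627841312104350712450667183774932013275509613994346521169329335102474892848624965572253658418758392715550505612308089803585694979965049238077909363505691924187793030018268252216549989966850447498938929434365380453392681126795144785976885248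
theorem triCert_ok : checkDFS actsM24 triCert [t0m] = true := by decide +kernel

theorem triBM_ok : keyBitmap (keyK 3) (t0m :: pushed 4 triCert) = triBM := by decide +kernel

theorem triBM_complete : (subs 24 3).all (fun m => triBM.testBit (keyK 3 m)) = true := by
  decide +kernel

/-- The group generated by the four generators is transitive on triads. -/
theorem exists_smul_t0_eq_K {s : Finset GolayPt} (hs : s.card = 3) : ∃ g ∈ Kgen, g • t0 = s := by
  apply exists_smul_eq_of_cert_key gensK_models t0 triCert _ (keyK 3) (unkeyK 3) 3 t0_card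
    (fun s hs => unkey_key3 hs) hs
  · rw [gmask_t0]
    show (keyBitmap (keyK 3) (t0m :: pushed 4 triCert)).testBit _ = true
    rw [triBM_ok]
    exact List.all_eq_true.mp triBM_complete _ (gmask_mem_subs hs)
  · rw [gmask_t0]; exact triCert_ok

/-- `M24` is transitive on triads. -/
theorem exists_smul_t0_eq {s : Finset GolayPt} (hs : s.card = 3) : ∃ g ∈ M24, g • t0 = s := by
  obtain ⟨g, hg, h⟩ := exists_smul_t0_eq_K hs
  exact ⟨g, Kgen_le hg, h⟩

/-- The stabiliser of the base triad in `M24`. -/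
def Ht : Subgroup (Equiv.Perm GolayPt) := M24 ⊓ MulAction.stabilizer (Equiv.Perm GolayPt) t0

theorem Ht_le : Ht ≤ M24 := inf_le_left

/-- Table of a generator of the stabiliser. -/
def ts1T : List ℕ := [2, 1, 0, 23, 12, 20, 5, 8, 13, 17, 18, 14, 11, 7, 15, 16, 4, 9, 19, 22, 6, 21, 3, 10]
/-- Inverse table. -/
def ts1T' : List ℕ := [2, 1, 0, 22, 16, 6, 20, 13, 7, 17, 23, 12, 4, 8, 11, 14, 15, 9, 10, 18, 5, 21, 19, 3]
theorem ts1_ok : TblOK ts1T ts1T' := by decide +kernel
/-- A generator of the stabiliser. -/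
def ts1 : Equiv.Perm GolayPt := tblPerm ts1T ts1T' ts1_ok
theorem ts1_mem : ts1 ∈ M24 := tblPerm_mem_M24 _ _ _ (by decide +kernel)
theorem ts1_models : Models gmask ts1 (applyTbl ts1T) := tblPerm_models _ _ _
theorem ts1_fix : ts1 • t0 = t0 := by
  apply gmask_injective
  rw [ts1_models t0, gmask_t0]
  decide +kernel
theorem ts1_memH : ts1 ∈ Ht := ⟨ts1_mem, ts1_fix⟩

/-- Table of a generator of the stabiliser. -/
def ts2T : List ℕ := [1, 0, 2, 23, 19, 18, 17, 21, 22, 5, 7, 3, 6, 10, 12, 16, 13, 8, 9, 4, 20, 15, 14, 11]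
/-- Inverse table. -/
def ts2T' : List ℕ := [1, 0, 2, 11, 19, 9, 12, 10, 17, 18, 13, 23, 14, 16, 22, 21, 15, 6, 5, 4, 20, 7, 8, 3]
theorem ts2_ok : TblOK ts2T ts2T' := by decide +kernel
/-- A generator of the stabiliser. -/
def ts2 : Equiv.Perm GolayPt := tblPerm ts2T ts2T' ts2_ok
theorem ts2_mem : ts2 ∈ M24 := tblPerm_mem_M24 _ _ _ (by decide +kernel)
theorem ts2_models : Models gmask ts2 (applyTbl ts2T) := tblPerm_models _ _ _
theorem ts2_fix : ts2 • t0 = t0 := by
  apply gmask_injective
  rw [ts2_models t0, gmask_t0]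
  decide +kernel
theorem ts2_memH : ts2 ∈ Ht := ⟨ts2_mem, ts2_fix⟩

/-- The generator actions on masks. -/
def tactsH : List (ℕ → ℕ) := [applyTbl ts1T, applyTbl ts2T]

/-- The generators. -/
def tgensH : List (Equiv.Perm GolayPt) := [ts1, ts2]

theorem tgensH_models :
    List.Forall₂ (fun g act => g ∈ Ht ∧ Models gmask g act) tgensH tactsH :=
  List.Forall₂.cons ⟨ts1_memH, ts1_models⟩ (List.Forall₂.cons ⟨ts2_memH, ts2_models⟩ (List.Forall₂.nil))

/-- The octads containing the base triad. -/
def oct7L : List ℕ := [5279, 45159, 140167, 459847, 551943, 622863, 786999, 1065303, 1116327, 2183687, 2263063, 3416079, 4196943, 4505735, 5902343, 6292775, 8536111, 8657159, 9471495, 11010247, 12656663]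

theorem oct7L_eq : octL.filter (fun o => t0m &&& o == t0m) = oct7L := by decide +kernel

/-- The mask, together with the base triad, is contained in an octad. -/
def inOct7 (m : ℕ) : Bool := oct7L.any (fun o => m &&& o == m)

theorem exists_octad_t0_union_iff (U : Finset GolayPt) :
    (∃ o ∈ octads, t0 ∪ U ⊆ o) ↔ inOct7 (gmask U) = true := by
  unfold inOct7
  rw [List.any_eq_true, ← oct7L_eq]
  constructor
  · rintro ⟨o, ho, hso⟩
    have h1 := Finset.union_subset_iff.mp hso
    refine ⟨gmask o, List.mem_filter.mpr ⟨(mem_octads_iff_octL o).mp ho, ?_⟩, ?_⟩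
    · have := (maskOf_subset_iff idx_injective t0 o).mp h1.1
      rw [beq_iff_eq, ← gmask_t0]
      exact this
    · exact beq_iff_eq.mpr ((maskOf_subset_iff idx_injective U o).mp h1.2)
  · rintro ⟨m, hm, hUm⟩
    rw [List.mem_filter] at hm
    obtain ⟨hmL, h7⟩ := hm
    have hlt : m < 2 ^ 24 := (octL_spec hmL).1 ▸ enc_lt m
    have hg : gmask (setOfMask m) = m := gmask_setOfMask hlt
    refine ⟨setOfMask m, (mem_octads_iff_octL _).mpr (hg.symm ▸ hmL),
      Finset.union_subset ?_ ?_⟩
    · rw [maskOf_subset_iff idx_injective]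
      show gmask t0 &&& gmask (setOfMask m) = gmask t0
      rw [hg, gmask_t0]
      exact beq_iff_eq.mp h7
    · rw [maskOf_subset_iff idx_injective]
      show gmask U &&& gmask (setOfMask m) = gmask U
      rw [hg]
      exact beq_iff_eq.mp hUm

/-- The class of a triad mask relative to the base triad. -/
def tcls (m : ℕ) : ℕ :=
  if popc 24 (t0m &&& m) = 0 then (if inOct7 m = true then 1 else 0)
  else 2 * popc 24 (t0m &&& m)

/-- The class of a pair of masks. -/
def tclsG (a b : ℕ) : ℕ :=
  if popc 24 (a &&& b) = 0 then (if inOctad (a ||| b) = true then 1 else 0)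
  else 2 * popc 24 (a &&& b)

open Classical in
/-- The class of a triad `U` relative to a triad `T`: twice the size of the intersection when they
meet; for disjoint triads, `1` when the union lies in an octad and `0` otherwise. -/
noncomputable def triadClass (T U : Finset GolayPt) : ℕ :=
  if (T ∩ U).card = 0 then (if ∃ o ∈ octads, T ∪ U ⊆ o then 1 else 0) else 2 * (T ∩ U).card

open Classical in
theorem triadClass_t0 (U : Finset GolayPt) : triadClass t0 U = tcls (gmask U) := by
  unfold triadClass tcls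
  rw [card_inter_eq_popc, gmask_t0]
  exact if_congr Iff.rfl (if_congr (exists_octad_t0_union_iff U) rfl rfl) rfl

open Classical in
theorem triadClass_eq (T U : Finset GolayPt) : triadClass T U = tclsG (gmask T) (gmask U) := by
  unfold triadClass tclsG
  rw [card_inter_eq_popc]
  have hu : gmask (T ∪ U) = gmask T ||| gmask U := by
    rw [gmask, maskOf_union]
  have h : (∃ o ∈ octads, T ∪ U ⊆ o) ↔ inOctad (gmask T ||| gmask U) = true := by
    rw [exists_octad_iff, hu]
  exact if_congr Iff.rfl (if_congr h rfl rfl) rfl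

open Classical in
theorem triadClass_smul {g : Equiv.Perm GolayPt} (hg : g ∈ M24) (T U : Finset GolayPt) :
    triadClass (g • T) (g • U) = triadClass T U := by
  unfold triadClass
  rw [← Finset.smul_finset_inter, Finset.card_smul_finset, ← Finset.smul_finset_union]
  have h : (∃ o ∈ octads, g • (T ∪ U) ⊆ o) ↔ ∃ o ∈ octads, T ∪ U ⊆ o := by
    constructor
    · rintro ⟨o, ho, h⟩
      refine ⟨g⁻¹ • o, smul_mem_octads (M24.inv_mem hg) ho, ?_⟩
      rw [← Finset.smul_finset_subset_smul_finset_iff (a := g), smul_inv_smul]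
      exact h
    · rintro ⟨o, ho, h⟩
      exact ⟨g • o, smul_mem_octads hg ho, Finset.smul_finset_subset_smul_finset_iff.mpr h⟩
  exact if_congr Iff.rfl (if_congr h rfl rfl) rfl

/-- Mask of the representative of class 4. -/
def tr4m : ℕ := 11
/-- The representative of class 4. -/
def tr4 : Finset GolayPt := setOfMask tr4m
theorem gmask_tr4 : gmask tr4 = tr4m := gmask_setOfMask (by decide)
theorem tr4_card : tr4.card = 3 := by
  rw [card_eq_popc_gmask, gmask_tr4]
  decide
/-- Orbit certificate for class 4. -/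
def tcert4 : List (ℕ × ℕ) := [(0, 8388614), (0, 1027), (0, 262150), (0, 524291), (0, 4194310), (2, 0), (1, 19), (2, 0), (2, 0), (1, 517), (0, 131077), (2, 0), (1, 38), (0, 1048579), (2, 0), (1, 262149), (0, 524293), (2, 0), (1, 518), (0, 131075), (2, 0), (2, 0), (2, 0), (2, 0), (2, 0), (2, 0), (1, 131), (0, 262), (0, 8195), (0, 134), (0, 259), (2, 0), (1, 2097157), (2, 0), (2, 0), (2, 0), (1, 4194309), (0, 13), (2, 0), (2, 0), (2, 0), (1, 2097155), (2, 0), (2, 0), (2, 0), (1, 2053), (0, 16389), (0, 32773), (0, 65541), (1, 8198), (2, 0), (2, 0), (1, 65542), (2, 0), (2, 0), (1, 4102), (1, 69), (0, 37), (0, 1048581), (2, 0), (2, 0), (2, 0), (2, 0), (2, 0), (1, 14), (1, 8388613), (0, 1029), (2, 0), (1, 2054), (0, 16387), (0, 32774), (2, 0), (1, 4099), (2, 0), (2, 0), (2, 0), (2, 0), (2, 0), (2, 0), (2, 0), (1, 8388611), (0, 1030), (0, 262147), (0, 524294), (0, 4194307), (2, 0), (1, 21), (2, 0), (2, 0), (1, 515), (0, 131078), (2, 0), (1, 35), (0, 1048582), (0, 67), (2, 0), (2, 0), (2, 0), (2, 0),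 (2, 0), (1, 133), (0, 261), (0, 8197), (2, 0), (2, 0), (1, 2097158), (2, 0), (2, 0), (2, 0), (1, 2051), (0, 16390), (0, 32771), (1, 65539), (0, 22), (2, 0), (2, 0), (2, 0), (1, 4101), (1, 70), (2, 0), (2, 0), (2, 0), (2, 0), (2, 0)]
/-- Bitmap of the keys of the triads of class 4. -/
def tbm4 : ℕ := 1167984241172730020137762655525631305211323127100198328488047383801877785179058226292512397237187103078268981709542612901125259740617336569027535026772065577039411484781409184450300266346451042304
theorem tcert4_ok : checkDFS tactsH tcert4 [tr4m] = true := by decide +kernel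
theorem tbm4_ok : keyBitmap (keyK 3) (tr4m :: pushed 2 tcert4) = tbm4 := by
  decide +kernel
theorem treach4 {p : Finset GolayPt} (hp : p.card = 3)
    (hbit : tbm4.testBit (keyK 3 (gmask p)) = true) : ∃ g ∈ Ht, g • tr4 = p := by
  apply exists_smul_eq_of_cert_key tgensH_models tr4 tcert4 _ (keyK 3) (unkeyK 3) 3 tr4_card
    (fun s hs => unkey_key3 hs) hp
  · rw [gmask_tr4]
    show (keyBitmap (keyK 3) (tr4m :: pushed 2 tcert4)).testBit _ = true
    rw [tbm4_ok]
    exact hbit
  · rw [gmask_tr4]; exact tcert4_ok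

/-- Mask of the representative of class 2. -/
def tr2m : ℕ := 25
/-- The representative of class 2. -/
def tr2 : Finset GolayPt := setOfMask tr2m
theorem gmask_tr2 : gmask tr2 = tr2m := gmask_setOfMask (by decide)
theorem tr2_card : tr2.card = 3 := by
  rw [card_eq_popc_gmask, gmask_tr2]
  decide
/-- Part of a certificate. -/
def tcert2_0 : List (ℕ × ℕ) := [(0, 8392708), (0, 3073), (0, 278532), (0, 557057), (0, 4259844), (1, 24580), (0, 32897), (0, 65796), (2, 0), (1, 2162690), (0, 2097170), (2, 0), (1, 40961), (0, 65668), (2, 0), (2, 0), (2, 0), (2, 0), (2, 0), (2, 0), (1, 65554), (0, 4114), (0, 6146), (0, 18434), (0, 49154), (2, 0), (1, 4105), (0, 8390660), (1, 2060), (2, 0), (2, 0), (1, 8388674), (2, 0), (2, 0), (2, 0), (1, 73), (0, 8388644), (0, 1049601), (1, 1048706), (2, 0), (2, 0), (2, 0), (2, 0), (2, 0), (1, 524353), (0, 4194340), (0, 1048585), (0, 8388676), (2, 0), (2, 0), (2, 0), (1, 131090), (0, 4610), (2, 0), (2, 0), (2, 0), (2, 0), (1, 532481), (0, 4194436), (0, 265), (0, 8396804),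 (2, 0), (2, 0), (1, 2113540), (1, 36868), (1, 65604), (0, 49), (2, 0), (2, 0), (2, 0), (2, 0), (2, 0), (1, 1042), (1, 524417), (2, 0), (2, 0), (2, 0), (2, 0), (2, 0), (1, 4612), (0, 133121), (0, 16900), (0, 163841), (0, 66052), (0, 131089), (2, 0), (1, 8228), (0, 1048705), (0, 324), (0, 8225), (2, 0), (2, 0), (1, 3145730), (2, 0), (2, 0), (1, 263172), (2, 0), (2, 0), (2, 0), (1, 65794), (0, 8210), (0, 4226), (0, 2306), (2, 0), (2, 0), (1, 525313), (2, 0), (2, 0), (1, 4202497), (2, 0), (2, 0), (2, 0), (1, 4132), (0, 1050625), (0, 16452), (0, 32801), (1, 327682), (2, 0), (2, 0), (1, 135172), (2, 0), (2, 0), (1, 1048586), (1, 9437185), (1, 1050626), (0, 16450), (2, 0), (2, 0), (2, 0), (2, 0), (2, 0), (1, 262212), (1, 131588), (0, 131585), (2, 0), (2, 0), (2, 0), (2, 0), (2, 0), (1, 266), (0, 8396802), (2, 0), (1, 12582913), (0, 1036), (0, 8650753), (2, 0), (1, 8388740), (1, 2099204), (2, 0), (2, 0), (2, 0), (2, 0), (2, 0), (2, 0), (1, 100), (0, 1048609), (0, 1048644), (0, 97), (0, 1048612), (0,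 1048641), (2, 0), (1, 1310724), (1, 1049092), (2, 0), (2, 0), (2, 0), (1, 393218), (0, 524802), (2, 0), (2, 0), (2, 0), (2, 0), (1, 1310722), (0, 524354), (0, 4194338), (2, 0), (2, 0), (2, 0), (2, 0), (1, 393220), (0, 524801), (0, 4325380), (0, 521), (0, 8519684), (2, 0), (1, 8388642), (2, 0), (2, 0), (2, 0), (1, 50), (0, 1052674), (2, 0), (1, 786433), (2, 0), (2, 0), (2, 0), (1, 772), (0, 139265), (0, 644), (1, 2097188), (0, 3145729), (2, 0), (2, 0), (2, 0), (1, 1282), (2, 0), (2, 0), (2, 0), (2, 0), (2, 0), (2, 0), (2, 0), (1, 138), (0, 8388866), (0, 9218), (0, 262274), (0, 524546), (0, 4202498), (1, 17409), (0, 294916), (2, 0), (2, 0), (2, 0), (1, 4194321), (0, 4108), (0, 8390657), (1, 2058), (2, 0), (2, 0), (2, 0), (1, 540674), (0, 4227074), (2, 0), (2, 0), (2, 0), (2, 0), (1, 2097665), (1, 32802), (0, 1114114), (0, 82), (1, 655361), (1, 274), (2, 0), (2, 0), (2, 0), (2, 0), (1, 327681), (0, 524308), (0, 4198401), (2, 0), (2, 0), (2, 0), (2, 0), (2, 0), (2, 0), (1, 1153), (0, 262404), (1,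 4194820), (0, 131081), (0, 8389124), (0, 132097), (0, 262660), (2, 0), (2, 0), (1, 2084), (2, 0), (2, 0), (2, 0), (1, 16420), (0, 1081345), (2, 0), (2, 0), (2, 0), (2, 0), (1, 2097282), (0, 2097410), (0, 2105346), (1, 33793), (1, 65666), (2, 0), (2, 0), (2, 0), (2, 0), (1, 2129921), (1, 98306), (2, 0), (2, 0), (2, 0), (2, 0), (2, 0), (1, 4196353), (0, 16396), (0, 8421377), (0, 66564), (0, 262161), (0, 528388), (2, 0), (2, 0), (2, 0), (1, 67586), (0, 16402), (0, 36866), (2, 0), (1, 528385), (2, 0), (2, 0), (2, 0), (2, 0), (2, 0), (1, 16394), (0, 8421378), (0, 66562), (0, 262162), (0, 528386), (0, 4196354), (2, 0), (2, 0), (2, 0), (1, 8321), (1, 2098178), (2, 0), (2, 0), (2, 0), (1, 67585), (0, 16404), (2, 0), (1, 8202), (0, 8388738), (2, 0), (1, 8389633), (1, 2178), (0, 16642), (2, 0), (2, 0), (2, 0), (2, 0), (2, 0), (2, 0), (1, 8392705), (0, 3076), (0, 278529), (0, 557060), (2, 0), (2, 0), (1, 140), (0, 8388865), (0, 9220), (2, 0), (2, 0), (2, 0), (2, 0), (1, 2114), (0, 16418), (0, 1081346),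 (2, 0), (1, 266241), (2, 0), (2, 0), (2, 0), (2, 0), (2, 0), (2, 0), (2, 0), (1, 10485761), (0, 2098180), (0, 2359297), (0, 2621444), (0, 6291457), (0, 2097164), (2, 0), (2, 0), (1, 32788), (0, 69633), (1, 8258), (0, 162), (2, 0), (2, 0), (2, 0), (1, 589828), (2, 0), (2, 0), (2, 0), (1, 33282), (1, 65569), (0, 1048596), (0, 4161), (2, 0), (2, 0), (1, 270338), (1, 1537), (2, 0), (2, 0), (2, 0), (2, 0), (2, 0), (1, 32900), (0, 65793), (0, 8212), (0, 4225), (0, 2308), (0, 24577), (2, 0), (2, 0), (1, 2097218), (0, 2097186), (2, 0), (2, 0), (2, 0), (1, 525316), (0, 4456449), (2, 0), (2, 0), (2, 0), (2, 0), (1, 2162692), (0, 2097169), (0, 2101252), (0, 2099201), (2, 0), (1, 32836), (2, 0), (2, 0), (1, 557058), (0, 4259842), (2, 0), (1, 65553), (2, 0), (2, 0), (2, 0), (1, 40964), (0, 65665), (2, 0), (2, 0), (2, 0), (2, 0), (2, 0), (1, 34818), (0, 81922), (0, 32786), (0, 69634), (0, 2066), (0, 20482), (2, 0), (1, 524297), (0, 12582916), (2, 0), (2, 0), (2, 0), (1, 8257), (2, 0), (2, 0), (1, 589825),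 (0, 4194324), (2, 0), (2, 0), (2, 0), (1, 12289), (0, 2180), (0, 16641), (1, 4198402), (1, 16449), (2, 0), (2, 0), (2, 0), (2, 0), (1, 1090), (1, 131201), (2, 0), (2, 0), (2, 0), (2, 0), (1, 65545), (0, 8388628), (0, 5121), (0, 264196), (1, 524), (0, 8519681), (2, 0), (2, 0), (2, 0), (1, 194), (0, 290), (2, 0), (2, 0), (2, 0), (1, 526340), (0, 4210689), (0, 32780), (2, 0), (2, 0), (1, 28), (2, 0), (2, 0), (2, 0), (2, 0), (2, 0), (2, 0), (2, 0), (2, 0), (1, 2116), (0, 16417), (0, 1081348), (0, 65601), (0, 52), (0, 1052673), (1, 1048642), (0, 98), (2, 0), (1, 1179649), (0, 580), (2, 0), (1, 1048834), (2, 0), (2, 0), (2, 0), (2, 0), (1, 786436), (0, 4718593), (0, 4194316), (0, 8388617), (2, 0), (2, 0), (2, 0), (1, 532), (0, 135169), (0, 2564), (1, 44), (2, 0), (2, 0), (1, 322), (0, 8226), (2, 0), (1, 4325377), (2, 0), (2, 0), (2, 0), (1, 524324), (0, 5242881), (0, 76), (2, 0), (2, 0), (2, 0), (2, 0), (2, 0), (2, 0), (1, 139266), (0, 642), (0, 131330), (0, 8706), (0, 131202), (2, 0), (1, 1057),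 (2, 0), (2, 0), (1, 4194561), (2, 0), (2, 0), (1, 2097185), (0, 3145732), (0, 2097217), (2, 0), (2, 0), (1, 294914), (1, 66049), (2, 0), (2, 0), (2, 0), (2, 0), (1, 1281), (1, 4194434), (1, 2113537), (2, 0), (2, 0), (2, 0), (2, 0), (2, 0), (1, 1114116), (0, 81), (1, 655362), (0, 4194818), (0, 131082), (2, 0), (2, 0), (1, 273), (1, 4718594), (0, 4194314), (1, 8404993), (2, 0), (2, 0), (2, 0), (2, 0), (2, 0), (2, 0), (1, 1056772), (0, 193), (0, 292), (0, 1056769), (1, 1049602), (0, 262210), (0, 524322), (2, 0), (2, 0), (2, 0), (2, 0), (1, 4456452), (2, 0), (2, 0), (1, 2228226), (0, 2097666), (2, 0), (1, 33025), (0, 73732), (2, 0), (2, 0), (2, 0), (2, 0), (1, 1049604), (0, 262209), (1, 131586), (2, 0), (2, 0), (1, 1048708), (0, 321), (1, 4325378), (2, 0), (2, 0), (2, 0), (2, 0), (2, 0), (2, 0), (2, 0), (1, 266242), (0, 526338), (0, 4210690), (0, 32778), (1, 8454145), (0, 1044), (2, 0), (1, 10242), (1, 1033), (0, 8650756), (2, 0), (2, 0), (2, 0), (2, 0), (2, 0), (1, 20481), (0, 34820), (0, 81921),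 (1, 12290), (1, 1089), (2, 0), (2, 0), (2, 0), (1, 65548), (2, 0), (2, 0), (1, 4162), (1, 131137), (0, 548), (1, 262180), (2, 0), (2, 0), (2, 0), (2, 0), (2, 0), (2, 0), (2, 0), (1, 577), (0, 131108), (0, 1049089), (1, 1048610), (1, 1310721), (2, 0), (2, 0), (2, 0), (2, 0), (1, 131106), (0, 1049090), (0, 131138), (1, 131329), (0, 8708), (2, 0), (1, 4194562), (2, 0), (2, 0), (2, 0), (2, 0), (1, 262401), (0, 532484), (0, 4194433), (0, 268), (2, 0), (2, 0), (2, 0), (2, 0), (2, 0), (2, 0), (2, 0), (2, 0), (1, 131084), (0, 8389121), (0, 132100), (0, 262657), (0, 655364), (0, 4194817), (2, 0), (1, 276), (1, 4718596), (0, 4194313), (0, 8388620), (2, 0), (1, 8404994), (2, 0), (2, 0), (2, 0), (2, 0), (2, 0), (1, 546), (0, 1179650), (0, 578), (1, 131105), (2, 0), (2, 0), (1, 1048833), (1, 5242882), (1, 1064961), (2, 0), (2, 0), (2, 0), (2, 0), (1, 262177), (0, 1572868), (0, 4194369), (2, 0), (2, 0), (1, 262658), (2, 0), (2, 0), (2, 0), (2, 0), (1, 388), (0, 8449), (0, 8324), (0, 385), (0, 8452), (2, 0),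 (1, 6291458), (1, 49153), (2, 0), (2, 0), (2, 0), (2, 0), (2, 0), (1, 6291460), (0, 2097161), (0, 10485764), (0, 2098177), (1, 32898), (2, 0), (2, 0), (2, 0), (2, 0), (2, 0), (2, 0), (2, 0), (1, 2082), (0, 1064962), (0, 32834), (0, 65570), (0, 1048594), (1, 1572865), (2, 0), (2, 0), (2, 0), (1, 196609), (1, 8450), (2, 0), (2, 0), (2, 0), (2, 0), (1, 262153), (0, 8912900), (0, 4195329), (0, 262156), (2, 0), (1, 16514), (1, 2101249), (2, 0), (2, 0), (2, 0), (1, 2068), (1, 524300), (2, 0), (2, 0), (2, 0), (1, 8389122), (0, 132098), (2, 0), (2, 0)]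
/-- Part of a certificate. -/
def tcert2_1 : List (ℕ × ℕ) := [(2, 0), (2, 0), (2, 0), (1, 8388868), (0, 9217), (0, 262276), (0, 524545), (0, 4202500), (1, 17412), (0, 294913), (1, 66050), (2, 0), (2, 0), (2, 0), (2, 0), (1, 4194322), (1, 540673), (2, 0), (2, 0), (2, 0), (1, 2097668), (0, 2228225), (1, 33026), (1, 4259841), (1, 24578), (2, 0), (2, 0), (2, 0), (2, 0), (1, 32804), (0, 1114113), (0, 84), (2, 0), (1, 1056770), (2, 0), (2, 0), (1, 327684), (0, 524305), (1, 524306), (2, 0), (2, 0), (2, 0), (2, 0), (2, 0), (2, 0), (1, 1154), (0, 262402), (0, 532482), (2, 0), (2, 0), (1, 2097281), (0, 2097412), (0, 2105345), (1, 33794), (2, 0), (2, 0), (1, 4227076), (2, 0), (2, 0), (2, 0), (2, 0), (2, 0), (1, 4196356), (0, 16393), (0, 8421380), (0, 66561), (0, 262164), (1, 524804), (2, 0), (2, 0), (1, 8322), (0, 386), (2, 0), (2, 0), (2, 0), (1, 67588), (0, 16401), (2, 0), (1, 8204), (1, 8389636), (0, 263169), (2, 0), (2, 0), (2, 0), (2, 0), (2, 0), (1, 8392706), (1, 2113), (2, 0), (2, 0), (2, 0), (2,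 0), (2, 0), (2, 0), (2, 0), (2, 0), (1, 8912898), (0, 4195330), (0, 262154), (2, 0), (1, 16513), (0, 33028), (0, 73729), (0, 148), (0, 4353), (0, 10244), (2, 0), (1, 4194370), (1, 147457), (0, 33284), (2, 0), (1, 4354), (2, 0), (2, 0), (2, 0), (2, 0), (2, 0), (2, 0), (2, 0), (1, 2101250), (0, 2099202), (0, 2113538), (0, 2129922), (2, 0), (1, 36865), (1, 65602), (2, 0), (2, 0), (2, 0), (1, 32777), (0, 8454148), (0, 1041), (0, 266244), (2, 0), (1, 524418), (2, 0), (2, 0), (2, 0), (1, 8454146), (1, 10241), (0, 16516), (2, 0), (2, 0), (2, 0), (2, 0), (2, 0), (1, 32833), (0, 65572), (0, 1048593), (1, 1572866), (2, 0), (2, 0), (1, 270340), (1, 1540), (0, 393217), (1, 770), (2, 0), (2, 0), (1, 164), (1, 2359300), (2, 0), (2, 0), (2, 0), (2, 0), (2, 0), (1, 196610), (0, 530), (0, 135170), (0, 2562), (0, 147458), (2, 0), (1, 41), (0, 9437188), (2, 0), (2, 0), (2, 0), (2, 0), (1, 524321), (0, 5242884), (2, 0), (2, 0), (2, 0), (2, 0), (2, 0), (2, 0), (2, 0), (2, 0), (1, 2065), (0, 20484), (0, 34817), (0,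 81924), (0, 32785), (0, 69636), (1, 8260), (0, 161), (1, 2359298), (2, 0), (2, 0), (2, 0), (2, 0), (1, 589826), (1, 8209), (0, 4228), (1, 2097220), (2, 0), (2, 0), (2, 0), (2, 0), (2, 0), (1, 12292), (0, 2177), (0, 16644), (1, 4198404), (2, 0), (2, 0), (1, 2097162), (0, 10485762), (2, 0), (2, 0), (2, 0), (1, 1092), (1, 131204), (0, 769), (0, 139268), (0, 641), (2, 0), (2, 0), (2, 0), (2, 0), (2, 0), (2, 0), (2, 0), (1, 65546), (0, 8388626), (0, 5122), (0, 264194), (2, 0), (2, 0), (1, 526337), (0, 4210692), (2, 0), (1, 26), (1, 8912897), (0, 4195332), (2, 0), (2, 0), (2, 0), (2, 0), (2, 0), (1, 8396801), (0, 1156), (1, 2097284), (0, 2097409), (0, 2105348), (1, 33796), (2, 0), (2, 0), (2, 0), (1, 2129924), (0, 2162689), (1, 40962), (2, 0), (2, 0), (1, 98308), (2, 0), (2, 0), (2, 0), (2, 0), (1, 3074), (0, 278530), (1, 4609), (0, 133124), (2, 0), (2, 0), (2, 0), (1, 137), (2, 0), (2, 0), (2, 0), (2, 0), (2, 0), (1, 4164), (0, 2081), (0, 1064964), (1, 1052676), (2, 0), (2, 0), (2, 0), (1, 131140),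 (0, 545), (0, 1179652), (1, 1048836), (2, 0), (2, 0), (1, 262178), (2, 0), (2, 0), (1, 131332), (0, 8705), (1, 1058), (1, 262273), (0, 524548), (2, 0), (2, 0), (2, 0), (2, 0), (1, 4194564), (0, 8201), (1, 8389634), (0, 263170), (0, 786434), (2, 0), (2, 0), (2, 0), (2, 0), (2, 0), (2, 0), (2, 0), (2, 0), (2, 0), (1, 524298), (0, 12582914), (0, 1034), (0, 8650754), (0, 525314), (0, 4456450), (1, 16897), (0, 163844), (2, 0), (1, 4130), (2, 0), (2, 0), (2, 0), (1, 145), (0, 4356), (1, 4194372), (2, 0), (2, 0), (1, 2621442), (2, 0), (2, 0), (2, 0), (1, 2561), (0, 147460), (0, 33281), (0, 196612), (0, 529), (2, 0), (2, 0), (2, 0), (2, 0), (1, 42), (0, 9437186), (2, 0), (2, 0), (2, 0), (2, 0), (1, 8388737), (0, 1284), (0, 270337), (0, 524420), (1, 2097172), (2, 0), (2, 0), (1, 1538), (2, 0), (2, 0), (2, 0), (2, 0), (2, 0), (1, 18433), (0, 49156), (0, 98305), (0, 65556), (0, 4113), (0, 6148), (2, 0), (2, 0), (2, 0), (1, 73730), (0, 146), (1, 2621441), (2, 0), (2, 0), (2, 0), (2, 0), (2, 0), (1, 4106),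 (0, 8390658), (0, 17410), (2, 0), (1, 2057), (0, 8404996), (2, 0), (1, 8388618), (2, 0), (2, 0), (2, 0), (1, 8388673), (0, 1060), (2, 0), (1, 133122), (0, 16898), (0, 163842), (2, 0), (1, 4129), (0, 1050628), (2, 0), (2, 0), (2, 0), (2, 0), (2, 0), (2, 0), (2, 0), (2, 0), (1, 8388625), (0, 5124), (0, 264193), (0, 540676), (0, 4227073), (2, 0), (1, 4116), (0, 6145), (0, 18436), (2, 0), (1, 74), (2, 0), (2, 0), (1, 524356), (0, 4194337), (0, 1048588), (2, 0), (2, 0), (1, 131092), (2, 0), (2, 0), (2, 0), (2, 0), (1, 522), (0, 8519682), (1, 2305), (2, 0), (2, 0), (1, 8388641), (2, 0), (2, 0), (2, 0), (1, 196), (0, 289), (2, 0), (1, 2228228), (2, 0), (2, 0), (2, 0), (2, 0), (2, 0), (2, 0), (2, 0)]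
/-- Orbit certificate for class 2. -/
def tcert2 : List (ℕ × ℕ) := tcert2_0 ++ tcert2_1
/-- Bitmap of the keys of the triads of class 2. -/
def tbm2 : ℕ := 450902511792111525551767478718214684120022178431285224652772838157169593891841645658806065343109622650327855532056692864834024384561752449835970204131404965303135505473745263016544903008884994996449128630038108001234736590983758856044003696289423202683125964342209616443406840473306411938585813614367490242100454865116578320445992391896257241037637055501220247025811741750457730767716603308662007114799566993285807770538404630098526767586752255549710046691451049768157909538625638946808217678363232038665385410560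
theorem tcert2_ok : checkDFS tactsH tcert2 [tr2m] = true := by decide +kernel
theorem tbm2_ok : keyBitmap (keyK 3) (tr2m :: pushed 2 tcert2) = tbm2 := by
  decide +kernel
theorem treach2 {p : Finset GolayPt} (hp : p.card = 3)
    (hbit : tbm2.testBit (keyK 3 (gmask p)) = true) : ∃ g ∈ Ht, g • tr2 = p := by
  apply exists_smul_eq_of_cert_key tgensH_models tr2 tcert2 _ (keyK 3) (unkeyK 3) 3 tr2_card
    (fun s hs => unkey_key3 hs) hp
  · rw [gmask_tr2]
    show (keyBitmap (keyK 3) (tr2m :: pushed 2 tcert2)).testBit _ = true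
    rw [tbm2_ok]
    exact hbit
  · rw [gmask_tr2]; exact tcert2_ok

/-- Mask of the representative of class 1. -/
def tr1m : ℕ := 152
/-- The representative of class 1. -/
def tr1 : Finset GolayPt := setOfMask tr1m
theorem gmask_tr1 : gmask tr1 = tr1m := gmask_setOfMask (by decide)
theorem tr1_card : tr1.card = 3 := by
  rw [card_eq_popc_gmask, gmask_tr1]
  decide
/-- Orbit certificate for class 1. -/
def tcert1 : List (ℕ × ℕ) := [(0, 8392960), (0, 11264), (0, 278656), (0, 557312), (0, 4268032), (1, 25600), (0, 295040), (0, 590080), (0, 4202512), (2, 0), (2, 0), (1, 2163200), (0, 2228240), (2, 0), (1, 40992), (0, 1114240), (2, 0), (1, 328704), (2, 0), (2, 0), (2, 0), (2, 0), (2, 0), (2, 0), (1, 4259856), (0, 4120), (0, 8394752), (0, 19456), (0, 311296), (2, 0), (1, 4232), (1, 10485824), (2, 0), (2, 0), (2, 0), (1, 2120), (2, 0), (2, 0), (1, 8912960), (0, 4195360), (0, 1310728), (2, 0), (2, 0), (1, 133136), (2, 0), (2, 0), (2, 0), (1, 548864), (1, 5136), (0, 268288), (1, 584), (0, 8519712),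 (2, 0), (2, 0), (2, 0), (1, 524480), (0, 4194592), (2, 0), (2, 0), (2, 0), (2, 0), (2, 0), (2, 0), (1, 2101760), (0, 2230272), (0, 2114048), (0, 2260992), (2, 0), (1, 36896), (1, 327744), (1, 139776), (2, 0), (2, 0), (2, 0), (2, 0), (1, 33032), (0, 8462336), (2, 0), (1, 12648448), (0, 1048), (2, 0), (1, 26624), (2, 0), (2, 0), (2, 0), (2, 0), (1, 32864), (0, 1114144), (0, 1048656), (0, 4192), (1, 393280), (1, 131840), (2, 0), (2, 0), (2, 0), (2, 0), (1, 1318912), (1, 1050112), (1, 1048736), (0, 1048896), (2, 0), (1, 3407872), (2, 0), (2, 0), (2, 0), (2, 0), (2, 0), (1, 458752), (0, 524816), (0, 4329472), (1, 16704), (2, 0), (2, 0), (1, 524336), (1, 786448), (0, 4722688), (2, 0), (2, 0), (2, 0), (2, 0), (1, 8960), (2, 0), (2, 0), (2, 0), (2, 0), (2, 0), (1, 1160), (0, 8651008), (0, 533504), (0, 4456576), (0, 524552), (0, 12591104), (2, 0), (2, 0), (2, 0), (1, 1168), (0, 266496), (0, 534528), (0, 4210816), (2, 0), (2, 0), (1, 4194880), (2, 0), (2, 0), (1, 2621568), (2, 0), (2, 0), (2, 0), (1,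 4196864), (2, 0), (2, 0), (1, 10485888), (0, 2098432), (0, 2367488), (1, 34304), (2, 0), (2, 0), (1, 4227200), (0, 65800), (2, 0), (2, 0), (2, 0), (1, 2131968), (0, 2179072), (0, 2129936), (1, 622592), (2, 0), (2, 0), (1, 45056), (0, 67712), (0, 16656), (2, 0), (2, 0), (2, 0), (2, 0), (1, 98312), (0, 8454160), (2, 0), (2, 0), (2, 0), (2, 0), (2, 0), (2, 0), (1, 4196416), (0, 16424), (0, 9469952), (0, 66624), (0, 262192), (0, 1576960), (2, 0), (1, 786944), (0, 4849664), (2, 0), (1, 560), (0, 1183744), (2, 0), (1, 786464), (2, 0), (2, 0), (2, 0), (2, 0), (1, 139392), (0, 896), (0, 139520), (0, 8832), (1, 2098208), (2, 0), (2, 0), (2, 0), (1, 6291488), (0, 3145736), (2, 0), (2, 0), (2, 0), (2, 0), (2, 0), (1, 1116160), (0, 16464), (1, 659456), (1, 336), (0, 12320), (2, 0), (2, 0), (2, 0), (2, 0), (1, 1056776), (1, 9438208), (0, 263232), (1, 131712), (2, 0), (2, 0), (1, 1050752), (2, 0), (2, 0), (2, 0), (2, 0), (2, 0), (1, 8654848), (0, 527360), (0, 4472832), (1, 20992), (0, 165888), (0, 82432),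 (2, 0), (2, 0), (2, 0), (2, 0), (2, 0), (1, 2624), (0, 147488), (0, 1081856), (0, 196672), (2, 0), (2, 0), (2, 0), (1, 131112), (0, 9437696), (1, 1050656), (2, 0), (2, 0), (2, 0), (2, 0), (2, 0), (2, 0), (1, 147464), (0, 8421888), (0, 197632), (0, 262672), (1, 524832), (0, 5373952), (2, 0), (2, 0), (2, 0), (1, 8576), (2, 0), (2, 0), (1, 67616), (0, 1064976), (0, 36928), (2, 0), (2, 0), (1, 270344), (0, 8913024), (0, 4195584), (2, 0), (2, 0), (1, 8390144), (0, 394240), (2, 0), (2, 0), (2, 0), (2, 0), (2, 0), (2, 0), (2, 0), (2, 0), (1, 11010048), (0, 6292480), (0, 2359304), (2, 0), (1, 49280), (0, 98560), (0, 73744), (0, 4240), (0, 6400), (1, 4194376), (2, 0), (2, 0), (1, 2621504), (1, 163856), (0, 70144), (1, 8288), (2, 0), (2, 0), (2, 0), (2, 0), (2, 0), (2, 0), (2, 0), (1, 2166784), (0, 2099216), (0, 2117632), (2, 0), (1, 557064), (2, 0), (2, 0), (1, 41024), (0, 65696), (0, 1048848), (1, 5767168), (2, 0), (2, 0), (2, 0), (2, 0), (2, 0), (2, 0), (2, 0), (1, 34832), (0, 86016), (1, 12352), (0,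 2208), (0, 1065216), (1, 5246976), (1, 1065024), (2, 0), (2, 0), (2, 0), (2, 0), (1, 132160), (0, 262688), (0, 1703936), (2, 0), (2, 0), (1, 131456), (1, 6291712), (0, 2105352), (1, 8422400), (2, 0), (2, 0), (2, 0), (2, 0), (2, 0), (2, 0), (2, 0), (1, 589832), (0, 12582928), (0, 5128), (0, 8652800), (0, 541696), (0, 4489216), (2, 0), (2, 0), (1, 2568), (0, 8536064), (2, 0), (1, 8388648), (2, 0), (2, 0), (2, 0), (1, 8388800), (0, 1312), (2, 0), (2, 0), (2, 0), (1, 542720), (0, 4243456), (2, 0), (2, 0), (2, 0), (1, 8396816), (0, 5248), (0, 264448), (1, 4194824), (0, 8519688), (1, 8390912), (1, 4196360), (0, 8405000), (2, 0), (2, 0), (2, 0), (2, 0), (1, 8405024), (0, 1082368), (2, 0), (2, 0), (2, 0), (2, 0), (1, 2097344), (0, 2097440), (0, 3153920), (2, 0), (2, 0), (2, 0), (2, 0), (2, 0), (2, 0), (2, 0), (2, 0)]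
/-- Bitmap of the keys of the triads of class 1. -/
def tbm1 : ℕ := 1303407676499973842048538099810207759160556193058178101931387077564164971685922957073455637639978227256722502901907034286304727394287016588378464258449214584323553250313359100390176298165182095096181738922916942501721613426575630789731647637013169144255475667382482258013396452816664376956818207206469713366699877443174262409288057893194422791370871175125719797303775968130071843927001158010669184806358668050064605379854707945412788680840062419585456397395468697310638347059038744190879602742083012164775434214840299726699308382264071428341847133288507991817874673066751169743787528479283497390652469160325164213237142388107292759170533744868623133504078226145357034981965138728551799284448044020648099064182003874666982448736105595502940793610385098252250433763860053428103687774997905094798838863947017264567017995248785958022850589567213525504597350898612844733087806766521496543766597913919889149816186966435986840914068284206347637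8828024068603960755177140642963269744560433657035778807347791880945143290867376557763558039324066845076829081951099881621622722771767846576146745690431069165589087408806328528932187948421224659472221930812543649293470025438987798239881288321160143939201339313858882481022670786347393594074791915534929080394018421179643277799442516850957481972915293483298082747789303926498535805866787286330467375700926950389259733679461153948135454025375490413821270473446108458207441424481592749897885789067740005699422697773470027088800899540525364002461146956330299099201408596504898201514273402792441257366771597789234962468538824416328038918984787905452469166086391481823596847779757454105195752707892776017079146763019437781892511851949505807237886234222764507718498942614585981591684672767368650004202768291408449427497243799488156167858477456898869079739101229476995714751221516336442834326521688668225991728468026880576655223622361077461658185863133389063632666970513301769738703043253318801258841554172292100391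5394743862153601019291133541026431401554907010857890018470805862467628543074811254355179506886050745411179145958705870759674780459722780294015595632486007233004010648850650957630116255658579895229420522419303548199616250098366466230598853426809712336274030737728447621045412350535745953778750143185970107535177839999302820844619170206657565332881543340613840313932213186732028653623839180428328800909213347498695896780911835905156580246656161294637475331073867141984749826051535674312491322252973819970445907635343925910811345938676278296061004647737802501940944271767979516525608140438772163065956878896606733297659231254947243920988294903239567207211504539930525228312263908640139717253272954822124613816359418398688392747314411059222697636283704861292640930859641048559228201047885129584781307492693688331945037456509971784833246578990122675829264222946855692717607649847543650485024123368238365636552138028598530855186730663638857549015963772176929699914408593156061834861052395847476702611053817990180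3859170727365879480233828131267927765424267420763502995951751366963786233872583505018535061114857302245374083994834003199161210487232195754646059099890788444861790963732968908216997364314627296105320440463579444032548765034080554717151450343837287983234771419913810083114630669801302403331124675654290870923625008941078954125538381630907858314203955262056666756666660146179652575167329961588912055958208615772660730620877070019193341983494865852753520529202992045262706772744526826715176232244240369844224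
theorem tcert1_ok : checkDFS tactsH tcert1 [tr1m] = true := by decide +kernel
theorem tbm1_ok : keyBitmap (keyK 3) (tr1m :: pushed 2 tcert1) = tbm1 := by
  decide +kernel
theorem treach1 {p : Finset GolayPt} (hp : p.card = 3)
    (hbit : tbm1.testBit (keyK 3 (gmask p)) = true) : ∃ g ∈ Ht, g • tr1 = p := by
  apply exists_smul_eq_of_cert_key tgensH_models tr1 tcert1 _ (keyK 3) (unkeyK 3) 3 tr1_card
    (fun s hs => unkey_key3 hs) hp
  · rw [gmask_tr1]
    show (keyBitmap (keyK 3) (tr1m :: pushed 2 tcert1)).testBit _ = true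
    rw [tbm1_ok]
    exact hbit
  · rw [gmask_tr1]; exact tcert1_ok

/-- Mask of the representative of class 0. -/
def tr0m : ℕ := 56
/-- The representative of class 0. -/
def tr0 : Finset GolayPt := setOfMask tr0m
theorem gmask_tr0 : gmask tr0 = tr0m := gmask_setOfMask (by decide)
theorem tr0_card : tr0.card = 3 := by
  rw [card_eq_popc_gmask, gmask_tr0]
  decide
/-- Part of a certificate. -/
def tcert0_0 : List (ℕ × ℕ) := [(0, 9441280), (0, 3136), (0, 278560), (0, 1605632), (0, 4259904), (1, 155648), (0, 33408), (0, 196864), (0, 8720), (0, 135296), (0, 2816), (2, 0), (1, 2097472), (0, 2105376), (2, 0), (1, 4358144), (2, 0), (2, 0), (2, 0), (1, 525344), (0, 5505024), (0, 524360), (0, 12582944), (2, 0), (2, 0), (2, 0), (2, 0), (2, 0), (1, 4202752), (2, 0), (2, 0), (1, 2162720), (0, 3145744), (0, 2101312), (2, 0), (2, 0), (1, 303104), (0, 589952), (1, 2105360), (0, 2101376), (2, 0), (1, 558080), (2, 0), (2, 0), (2, 0), (2, 0), (2, 0), (2, 0), (1, 5376), (0, 272384), (0, 540800), (1, 2101264),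 (1, 557120), (1, 196624), (2, 0), (2, 0), (2, 0), (2, 0), (1, 1544), (0, 8781824), (2, 0), (1, 8388768), (1, 2361344), (2, 0), (2, 0), (2, 0), (2, 0), (2, 0), (2, 0), (2, 0), (1, 1114128), (0, 4176), (1, 655424), (0, 4194848), (2, 0), (1, 131344), (0, 12800), (0, 133248), (0, 17152), (0, 172032), (0, 66176), (2, 0), (2, 0), (2, 0), (2, 0), (2, 0), (1, 4718848), (0, 4202504), (0, 8388744), (2, 0), (1, 8406016), (0, 295936), (2, 0), (2, 0), (2, 0), (2, 0), (2, 0), (2, 0), (2, 0), (1, 1581056), (0, 4194496), (0, 296), (0, 9445376), (0, 1216), (0, 262432), (2, 0), (2, 0), (2, 0), (1, 12845056), (0, 525320), (2, 0), (1, 18944), (0, 180224), (1, 69888), (2, 0), (2, 0), (1, 4136), (2, 0), (2, 0), (2, 0), (2, 0), (1, 2244608), (2, 0), (2, 0), (1, 1049616), (0, 266304), (0, 526368), (0, 5259264), (0, 32840), (2, 0), (1, 1069056), (0, 34880), (2, 0), (2, 0), (2, 0), (2, 0), (1, 131648), (0, 131616), (2, 0), (2, 0), (2, 0), (1, 1572992), (0, 4194624), (0, 8232), (2, 0), (2, 0), (2, 0), (2, 0), (2, 0),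 (2, 0), (2, 0), (1, 266752), (0, 657408), (0, 4211200), (0, 163848), (0, 8454656), (0, 132112), (1, 524672), (1, 6291472), (2, 0), (2, 0), (2, 0), (2, 0), (1, 8454400), (0, 9232), (2, 0), (1, 4204544), (0, 16520), (1, 10489856), (2, 0), (2, 0), (1, 17416), (0, 8683520), (0, 590848), (0, 4456464), (2, 0), (2, 0), (2, 0), (2, 0), (2, 0), (2, 0), (2, 0), (1, 20512), (0, 1083392), (0, 81984), (0, 32816), (1, 851968), (2, 0), (2, 0), (2, 0), (1, 1114120), (0, 8388688), (0, 5152), (1, 262336), (0, 524576), (2, 0), (1, 2228736), (2, 0), (2, 0), (2, 0), (2, 0), (2, 0), (2, 0), (2, 0), (2, 0), (1, 280), (0, 8400896), (0, 3200), (2, 0), (2, 0), (1, 13107200), (0, 4195336), (0, 8650760), (0, 8913920), (0, 4457472), (0, 786440), (2, 0), (2, 0), (2, 0), (2, 0), (1, 8405120), (0, 34048), (2, 0), (1, 2103296), (0, 2115584), (2, 0), (2, 0), (2, 0), (2, 0), (1, 18448), (0, 53248), (1, 69696), (0, 2096), (2, 0), (1, 139328), (2, 0), (2, 0), (2, 0), (1, 528392), (0, 12584960), (1, 18440), (2, 0), (2, 0), (2, 0),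 (2, 0), (2, 0), (2, 0), (2, 0), (1, 608), (0, 1179680), (0, 1049152), (0, 131168), (1, 393472), (0, 532992), (0, 4325504), (0, 776), (2, 0), (2, 0), (1, 1072), (2, 0), (2, 0), (1, 4195072), (2, 0), (2, 0), (2, 0), (2, 0), (1, 1310976), (0, 532544), (2, 0), (1, 5243392), (0, 131144), (0, 8389152), (0, 1180672), (0, 262720), (2, 0), (2, 0), (2, 0), (1, 8519936), (2, 0), (2, 0), (1, 1064992), (1, 1314816), (2, 0), (2, 0), (2, 0), (2, 0), (2, 0), (1, 393248), (0, 1573376), (1, 1048624), (0, 1052736), (2, 0), (1, 1835008), (0, 4718656), (0, 4194344), (1, 8667136), (2, 0), (2, 0), (1, 147472), (2, 0), (2, 0), (1, 1049104), (1, 1572896), (0, 5242944), (0, 104), (2, 0), (2, 0), (2, 0), (2, 0), (2, 0), (2, 0), (2, 0), (1, 262912), (0, 663552), (1, 1296), (0, 274432), (0, 526464), (2, 0), (2, 0), (2, 0), (2, 0), (2, 0), (2, 0), (2, 0), (2, 0), (2, 0), (1, 131208), (0, 8389376), (0, 140288), (0, 262784), (0, 655616), (0, 4203008), (2, 0), (1, 4194576), (0, 12296), (0, 8390784), (0, 17664), (2, 0), (2,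 0), (1, 8389696), (2, 0), (2, 0), (1, 4734976), (2, 0), (2, 0), (2, 0), (1, 2097696), (0, 3276800), (0, 2097728), (1, 163872), (2, 0), (2, 0), (1, 1081600), (0, 73792), (2, 0), (1, 5308416), (0, 88), (2, 0), (2, 0), (2, 0), (2, 0), (1, 294944), (0, 1638400), (0, 4194384), (2, 0), (1, 1056784), (2, 0), (2, 0), (2, 0), (2, 0), (2, 0), (1, 1408), (0, 270592), (0, 532608), (0, 4194688), (1, 6307840), (2, 0), (2, 0), (1, 2098192), (0, 2363392), (0, 2623488), (2, 0), (1, 33344), (0, 196640), (2, 0), (2, 0), (2, 0), (1, 557184), (2, 0), (2, 0), (2, 0), (1, 4195840), (0, 393224), (0, 8913408), (2, 0), (2, 0), (1, 16544), (2, 0), (2, 0), (2, 0), (1, 6291584), (0, 2097416), (0, 10493952), (0, 2098304), (2, 0), (1, 35840), (0, 344064), (2, 0), (1, 65672), (0, 8388880), (0, 13312), (2, 0), (2, 0), (2, 0), (2, 0), (2, 0), (2, 0), (1, 2146304), (0, 2195456), (0, 2162704), (2, 0), (2, 0), (1, 102400), (2, 0), (2, 0), (2, 0), (2, 0), (2, 0), (1, 4196384), (0, 1064968), (0, 8421440), (0, 66592), (0, 1310736),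 (0, 528448), (1, 131152), (2, 0), (2, 0), (2, 0), (1, 270464), (1, 2098688), (0, 2490368), (2, 0), (2, 0), (2, 0), (2, 0), (1, 198656), (0, 16912), (0, 167936), (0, 68096), (2, 0), (1, 65856), (0, 8240), (2, 0), (2, 0), (2, 0), (1, 528416), (2, 0), (2, 0), (1, 8456), (0, 8396928), (1, 2100224), (1, 32904), (2, 0), (2, 0), (2, 0), (2, 0), (2, 0), (2, 0), (2, 0), (1, 278536), (0, 8945664), (0, 4260864), (0, 262168), (0, 8916992), (0, 4197376), (2, 0), (1, 2128), (1, 655368), (2, 0), (2, 0), (2, 0), (2, 0), (1, 24704), (0, 33152), (0, 73984), (0, 8336), (2, 0), (1, 4203520), (2, 0), (2, 0), (2, 0), (1, 2102272), (2, 0), (2, 0), (2, 0), (1, 67600), (0, 20496), (0, 38912), (2, 0), (2, 0), (1, 532488), (0, 12583040), (0, 1288), (2, 0), (2, 0), (1, 8389648), (2, 0), (2, 0), (2, 0), (2, 0), (1, 8393216), (0, 134144), (0, 279040), (0, 688128), (1, 65808), (1, 4726784), (2, 0), (2, 0), (2, 0), (1, 4640), (2, 0), (2, 0), (1, 392), (0, 8397056), (2, 0), (1, 14680064), (2, 0), (2, 0), (2, 0), (1, 2144),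 (2, 0), (2, 0), (2, 0), (2, 0), (2, 0), (1, 10486016), (0, 2106368), (0, 2359424), (0, 2621696), (1, 4227088), (0, 69640), (1, 8396864), (2, 0), (2, 0), (2, 0), (2, 0), (1, 2130432), (0, 2293760), (0, 2097680), (0, 2232320), (2, 0), (2, 0), (1, 41216), (0, 73856), (0, 400), (1, 6815744), (2, 0), (2, 0), (2, 0), (2, 0), (2, 0), (2, 0), (2, 0), (1, 33920), (0, 327936), (0, 532496), (0, 4198528), (0, 2312), (0, 8413184), (2, 0), (1, 12582920), (1, 8407040), (2, 0), (2, 0), (2, 0), (1, 2113600), (0, 2129952), (2, 0), (2, 0), (2, 0), (1, 525328), (0, 4460544), (2, 0), (2, 0), (2, 0), (2, 0), (1, 2162816), (0, 2097424), (0, 2109440), (1, 33856), (2, 0), (2, 0), (1, 4751360), (0, 4259848), (2, 0), (2, 0), (2, 0), (1, 2138112), (1, 99328), (0, 327696), (2, 0), (2, 0), (2, 0), (2, 0), (2, 0), (2, 0), (1, 4229120), (0, 81928), (0, 8421392), (0, 70656), (1, 8384), (1, 2229248), (2, 0), (2, 0), (2, 0), (1, 591872), (0, 4210704), (0, 36872), (0, 8456192), (0, 17424), (2, 0), (2, 0), (1, 8454208), (2, 0),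 (2, 0), (2, 0), (1, 8216), (0, 8392832), (0, 3328), (1, 4194440), (2, 0), (2, 0), (2, 0), (2, 0), (2, 0), (2, 0), (2, 0), (2, 0), (2, 0), (2, 0), (2, 0), (1, 1050688), (0, 16480), (0, 1081376), (0, 1114176), (0, 112), (0, 1052704), (1, 1310784), (0, 524384), (0, 5242912), (0, 1048648), (0, 8388704), (2, 0), (2, 0), (1, 1327104), (1, 1053184), (1, 1048672), (2, 0), (2, 0), (2, 0), (2, 0), (1, 393232), (2, 0), (2, 0), (1, 1180160), (1, 1048864), (0, 1056832), (2, 0), (2, 0), (2, 0), (2, 0), (2, 0), (1, 917504), (0, 4719104), (0, 4325384), (0, 8389128), (0, 8520704), (2, 0), (2, 0), (1, 8405248), (0, 41984), (2, 0), (1, 4200448), (2, 0), (2, 0), (2, 0), (1, 16432), (0, 1085440), (2, 0), (1, 790528), (0, 4720640), (2, 0), (2, 0), (2, 0), (2, 0), (1, 784), (0, 143360), (0, 2688), (1, 2097192), (2, 0), (2, 0), (1, 1344), (2, 0), (2, 0), (1, 4718624), (2, 0), (2, 0), (2, 0), (2, 0), (1, 1187840), (0, 704), (0, 131360), (2, 0), (1, 2228256), (0, 3146240), (2, 0), (1, 295168), (0, 598016), (2, 0), (1,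 4260352), (2, 0), (2, 0), (2, 0), (2, 0), (1, 1049856), (1, 5243008), (0, 328), (1, 12713984), (1, 18688), (2, 0), (2, 0), (2, 0), (1, 3162112), (0, 2129984), (1, 229376), (0, 66064), (2, 0), (2, 0), (2, 0), (2, 0), (2, 0), (2, 0), (2, 0), (2, 0), (1, 1376256), (0, 524368), (0, 4198432), (0, 1050632), (0, 8405056), (0, 33824), (1, 327808), (2, 0), (2, 0), (1, 137216), (2, 0), (2, 0), (1, 9437192), (1, 9439232), (2, 0), (2, 0), (2, 0), (1, 278592), (0, 557088), (2, 0), (1, 135680), (0, 133632), (2, 0), (1, 352), (0, 1056800), (2, 0), (2, 0), (2, 0), (2, 0), (2, 0), (1, 655376), (0, 4198912), (2, 0), (1, 524560), (0, 4206592), (0, 2184), (1, 10485768), (1, 8423424), (2, 0), (2, 0), (2, 0), (1, 17472), (2, 0), (2, 0), (1, 4718608), (0, 4198408), (0, 8390664), (2, 0), (2, 0), (2, 0), (2, 0), (2, 0), (2, 0), (1, 1057280), (0, 131264), (0, 800)]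
/-- Part of a certificate. -/
def tcert0_1 : List (ℕ × ℕ) := [(1, 4456480), (2, 0), (2, 0), (1, 2228480), (0, 2105856), (0, 2228352), (2, 0), (2, 0), (1, 4227328), (1, 4276224), (0, 32792), (2, 0), (1, 28672), (2, 0), (2, 0), (2, 0), (2, 0), (2, 0), (1, 1049632), (1, 1310848), (0, 524608), (0, 4202528), (1, 279552), (1, 4736), (2, 0), (2, 0), (2, 0), (1, 4325392), (0, 4616), (2, 0), (1, 540928), (2, 0), (2, 0), (2, 0), (2, 0), (2, 0), (2, 0), (2, 0), (2, 0), (1, 397312), (0, 526848), (0, 4341760), (0, 33288), (0, 8585216), (0, 1552), (2, 0), (1, 10496), (2, 0), (2, 0), (1, 8454176), (2, 0), (2, 0), (1, 20736), (0, 43008), (0, 82048), (2, 0), (1, 66568), (2, 0), (2, 0), (1, 4198464), (0, 2088), (0, 9453568), (1, 1054720), (0, 18496), (2, 0), (2, 0), (2, 0), (2, 0), (1, 147520), (1, 135424), (2, 0), (2, 0), (2, 0), (2, 0), (2, 0), (2, 0), (1, 832), (0, 139296), (0, 1049216), (0, 131392), (1, 4325632), (1, 4210944), (0, 40968), (1, 8455168), (0, 263184), (2, 0), (2, 0), (2, 0), (1, 4214784), (2,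 0), (2, 0), (2, 0), (2, 0), (1, 3145760), (0, 3145792), (0, 2097248), (1, 425984), (0, 590336), (2, 0), (2, 0), (2, 0), (1, 1212416), (0, 66112), (2, 0), (1, 1114368), (0, 8272), (2, 0), (1, 5251072), (2, 0), (2, 0), (2, 0), (2, 0), (1, 1343488), (0, 589888), (0, 4194352), (2, 0), (1, 139280), (2, 0), (2, 0), (1, 1114624), (2, 0), (2, 0), (2, 0), (2, 0), (1, 263424), (0, 794624), (0, 4718720), (0, 4194568), (0, 8396808), (1, 8391680), (2, 0), (2, 0), (2, 0), (1, 2113552), (2, 0), (2, 0), (2, 0), (1, 4194944), (0, 131336), (0, 8397312), (2, 0), (1, 12583168), (1, 4212736), (1, 20488), (2, 0), (2, 0), (2, 0), (2, 0), (1, 2113568), (0, 3178496), (0, 2162752), (2, 0), (2, 0), (1, 299008), (2, 0), (2, 0), (2, 0), (2, 0), (2, 0), (1, 4325408), (0, 1049096), (0, 8519744), (0, 1568), (0, 1441792), (2, 0), (2, 0), (1, 133376), (0, 25088), (2, 0), (2, 0), (2, 0), (1, 9437216), (0, 1049664), (0, 262240), (2, 0), (2, 0), (1, 1312768), (0, 540736), (0, 4227104), (2, 0), (1, 135184), (0, 6656), (2, 0), (2,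 0), (2, 0), (2, 0), (2, 0), (2, 0), (1, 278784), (0, 565248), (0, 4259968), (2, 0), (2, 0), (2, 0), (2, 0), (2, 0), (2, 0), (2, 0), (1, 1179656), (0, 8389184), (0, 132128), (0, 1311232), (1, 1049120), (0, 1179712), (1, 1179904), (0, 8768), (2, 0), (2, 0), (2, 0), (1, 1310752), (0, 1572928), (0, 4194400), (0, 1048616), (2, 0), (2, 0), (2, 0), (2, 0), (2, 0), (2, 0), (1, 262528), (0, 532736), (0, 4202624), (1, 2114560), (0, 2392064), (0, 2686976), (1, 40976), (2, 0), (2, 0), (1, 98816), (2, 0), (2, 0), (1, 36992), (2, 0), (2, 0), (2, 0), (1, 4195344), (0, 266248), (2, 0), (2, 0), (2, 0), (1, 6291968), (0, 2228232), (0, 10486272), (2, 0), (1, 8421632), (1, 4261888), (0, 16408), (2, 0), (1, 24584), (2, 0), (2, 0), (2, 0), (2, 0), (1, 49184), (0, 1146880), (0, 65616), (0, 4144), (1, 786496), (2, 0), (2, 0), (2, 0), (1, 1122304), (1, 1057792), (2, 0), (2, 0), (2, 0), (1, 331776), (0, 526352), (1, 524312), (0, 12587008), (2, 0), (2, 0), (2, 0), (2, 0), (2, 0), (2, 0), (2, 0), (2, 0), (1, 133152), (0,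 1065472), (0, 163904), (0, 66080), (0, 1179664), (0, 4672), (2, 0), (2, 0), (1, 270368), (1, 263680), (1, 672), (2, 0), (2, 0), (2, 0), (2, 0), (2, 0), (2, 0), (1, 262408), (0, 8921088), (0, 4195456), (1, 2113664), (0, 2130176), (0, 2170880), (2, 0), (1, 4292608), (1, 90112), (2, 0), (2, 0), (2, 0), (1, 2134016), (2, 0), (2, 0), (2, 0), (1, 3088), (0, 282624), (0, 559104), (1, 65560), (2, 0), (2, 0), (2, 0), (1, 524424), (1, 10485776), (2, 0), (2, 0), (2, 0), (2, 0), (1, 12583424), (0, 132104), (0, 8651264), (0, 656384), (0, 4456960), (2, 0), (2, 0), (1, 2592), (0, 1196032), (2, 0), (2, 0), (2, 0), (1, 8388992), (0, 9472), (2, 0), (2, 0), (2, 0), (1, 18464), (0, 1097728), (0, 98368), (2, 0), (1, 1118208), (2, 0), (2, 0), (2, 0), (2, 0), (2, 0), (2, 0), (2, 0), (1, 9437440), (0, 9280), (0, 262304), (0, 1573120), (0, 4202560), (1, 148480), (0, 295424), (2, 0), (1, 4480), (2, 0), (2, 0), (2, 0), (1, 5242896), (0, 4168), (0, 8390688), (0, 1065984), (0, 294976), (2, 0), (1, 1052800), (2, 0), (2,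 0), (1, 264200), (2, 0), (2, 0), (2, 0), (1, 1589248), (0, 4227136), (2, 0), (1, 1052688), (0, 6208), (2, 0), (2, 0), (2, 0), (2, 0), (2, 0), (1, 2359808), (1, 33312), (0, 1245184), (0, 592), (1, 655392), (1, 262416), (2, 0), (2, 0), (2, 0), (1, 1057024), (2, 0), (2, 0), (1, 327712), (0, 1572880), (2, 0), (2, 0), (2, 0), (2, 0), (2, 0), (1, 132224), (1, 2097536), (0, 2105600), (0, 2105472), (1, 2130944), (0, 2424832), (2, 0), (1, 98432), (2, 0), (2, 0), (2, 0), (1, 4228096), (0, 327688), (0, 8912912), (2, 0), (2, 0), (2, 0), (2, 0), (1, 6324224), (0, 2162696), (1, 8429568), (0, 66688), (2, 0), (2, 0), (2, 0), (1, 114688), (0, 98320), (0, 69648), (0, 6160), (2, 0), (2, 0), (2, 0), (2, 0), (2, 0), (2, 0), (2, 0), (2, 0), (1, 5244928), (0, 16456), (0, 8421408), (0, 1115136), (0, 262224), (1, 655872), (0, 4325888), (2, 0), (1, 304), (1, 4980736), (2, 0), (2, 0), (2, 0), (2, 0), (1, 1056896), (0, 448), (0, 8480), (2, 0), (1, 6422528), (0, 2097672), (2, 0), (2, 0), (2, 0), (1, 3146752), (0, 2359360),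 (0, 2621472), (1, 294928), (2, 0), (2, 0), (2, 0), (2, 0), (2, 0), (2, 0), (1, 329728), (0, 540688), (0, 4231168), (0, 67592), (0, 8405008), (2, 0), (2, 0), (2, 0), (1, 528400), (2, 0), (2, 0), (1, 8712), (1, 8389664), (0, 1311744), (2, 0), (1, 264320), (2, 0), (2, 0), (2, 0), (2, 0), (2, 0), (1, 8523776), (1, 2368), (0, 24608), (0, 1081472), (1, 3211264), (2, 0), (2, 0), (1, 267264), (0, 788480), (2, 0), (2, 0), (2, 0), (2, 0), (2, 0), (2, 0), (2, 0), (2, 0), (2, 0), (2, 0), (2, 0), (1, 9175040), (0, 4719616), (0, 4456456), (0, 8912904), (0, 12583936), (0, 263176), (1, 8389248), (0, 132352), (0, 270848), (0, 655488), (2, 0), (2, 0), (2, 0), (1, 2099232), (1, 294920), (0, 8978432), (1, 10256), (2, 0), (2, 0), (2, 0), (2, 0), (2, 0), (2, 0), (1, 18560), (0, 49408), (0, 106496), (0, 65680), (1, 2629632), (2, 0), (2, 0), (1, 74752), (0, 262288), (0, 528640), (2, 0), (1, 2621952), (2, 0), (2, 0), (1, 9344), (2, 0), (2, 0), (2, 0), (1, 4263936), (0, 2072), (0, 8409088), (2, 0), (2, 0), (1, 24640),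 (0, 32928), (2, 0), (1, 136192), (2, 0), (2, 0), (2, 0), (2, 0), (1, 2101256), (0, 10487808), (1, 34824), (2, 0), (2, 0), (2, 0), (2, 0), (2, 0), (1, 8390672), (0, 21504), (0, 296960), (0, 606208), (1, 12304), (0, 6272), (1, 2097224), (2, 0), (2, 0), (1, 525376), (1, 131216), (2, 0), (2, 0), (2, 0), (2, 0), (1, 66056), (0, 8519696), (0, 5632), (0, 395264), (0, 541184), (2, 0), (2, 0), (1, 224), (2, 0), (2, 0), (1, 526592), (0, 4218880), (2, 0), (2, 0), (2, 0), (1, 8396832), (0, 1049728), (0, 262464), (0, 532512), (2, 0), (2, 0), (1, 3145856), (2, 0), (2, 0), (2, 0), (2, 0), (2, 0), (1, 4288), (0, 2336), (0, 1073152), (0, 32960), (0, 65824), (2, 0), (2, 0), (1, 1053696), (1, 1048768), (2, 0), (2, 0), (2, 0), (2, 0), (1, 2228288), (1, 164096), (0, 74240), (2, 0), (1, 4260096), (2, 0), (2, 0), (2, 0), (2, 0), (2, 0), (1, 526344), (0, 12599296), (0, 33800), (0, 8716288), (1, 10752), (2, 0), (2, 0), (1, 8454272), (1, 2107392), (2, 0), (2, 0), (2, 0), (1, 22528), (0, 51200), (2, 0), (2, 0), (2, 0),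 (1, 8388632), (0, 8393728), (0, 265216), (0, 802816), (1, 4624), (2, 0), (2, 0), (1, 648), (1, 10485792), (2, 0), (2, 0), (2, 0), (1, 2240), (0, 16672), (0, 1089536), (2, 0), (2, 0), (2, 0), (2, 0), (1, 8914944), (0, 4211712), (1, 20608), (0, 35072), (2, 0), (2, 0), (2, 0), (2, 0), (2, 0), (2, 0), (2, 0), (2, 0), (1, 8405504), (0, 164864), (0, 328192), (1, 8736), (0, 1179776), (1, 3145984), (0, 2105408), (0, 2097312), (2, 0), (2, 0), (2, 0), (2, 0), (1, 263200), (2, 0), (2, 0), (2, 0), (1, 65920), (0, 8464), (0, 12416), (0, 2432), (1, 6291464), (1, 8437760), (2, 0), (2, 0), (2, 0), (1, 2098240), (0, 2359328), (2, 0), (1, 163968), (0, 66304), (2, 0), (2, 0), (2, 0), (2, 0), (2, 0), (1, 6299648), (0, 2097288), (2, 0), (1, 50176), (0, 360448), (0, 589840), (0, 4198416), (0, 6152), (2, 0), (2, 0), (2, 0), (2, 0), (1, 69760), (0, 2320), (1, 4718600), (2, 0), (2, 0), (2, 0), (2, 0), (2, 0), (2, 0), (2, 0), (1, 6176), (1, 262216), (0, 8912928), (0, 5243904), (2, 0), (1, 264208), (0, 544768), (2, 0),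 (1, 524808), (1, 8388656), (2, 0), (2, 0), (2, 0), (2, 0), (1, 8520192), (0, 132608), (0, 393728), (2, 0), (1, 416), (1, 6553600), (0, 2621448), (2, 0), (1, 49664), (2, 0), (2, 0), (2, 0), (2, 0), (2, 0), (2, 0), (2, 0), (2, 0), (2, 0), (1, 16528), (0, 37120), (0, 75776), (1, 9224), (0, 8650880), (0, 525568), (0, 4464640), (1, 17920), (1, 4256), (2, 0), (2, 0), (2, 0), (1, 4194448), (0, 4360), (2, 0), (1, 2637824), (2, 0), (2, 0)]
/-- Part of a certificate. -/
def tcert0_2 : List (ℕ × ℕ) := [(2, 0), (1, 2099712), (1, 32808), (0, 9502720), (0, 1104), (0, 266272), (2, 0), (2, 0), (2, 0), (2, 0), (2, 0), (2, 0), (1, 8389760), (1, 2099328), (0, 2113792), (2, 0), (1, 2129928), (0, 10551296), (2, 0), (2, 0), (2, 0), (2, 0), (2, 0), (2, 0), (2, 0), (1, 2625536), (0, 6293504), (0, 2113544), (0, 10518528), (0, 2163712), (0, 2359312), (2, 0), (1, 41088), (2, 0), (2, 0), (1, 100352), (0, 81936), (0, 36880), (0, 71680), (2, 0), (2, 0), (1, 536576), (0, 4196480), (2, 0), (2, 0), (2, 0), (1, 73736), (0, 8388752),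 (2, 0), (1, 8397824), (0, 263296), (0, 786688), (2, 0), (1, 2097792), (2, 0), (2, 0), (2, 0), (2, 0), (2, 0), (2, 0), (1, 8425472), (0, 68608), (0, 278544), (0, 561152), (2, 0), (1, 528896), (2, 0), (2, 0), (1, 8328), (1, 10486784), (1, 34944), (0, 82176), (2, 0), (2, 0), (2, 0), (2, 0), (2, 0), (1, 67648), (1, 139272), (1, 8389888), (2, 0), (2, 0), (2, 0), (2, 0), (2, 0), (1, 49160), (0, 8486912), (0, 66576), (0, 266256), (0, 530432), (2, 0), (1, 524864), (1, 131120), (2, 0), (2, 0), (2, 0), (2, 0), (2, 0), (1, 8458240), (1, 10304), (2, 0), (2, 0), (2, 0), (2, 0), (1, 32848), (0, 69664), (0, 1050640), (0, 20544), (0, 34848), (0, 1130496), (1, 1060864), (2, 0), (2, 0), (2, 0), (1, 135232), (2, 0), (2, 0), (1, 1572872), (0, 12582976), (0, 1064), (0, 9699328), (2, 0), (2, 0), (1, 149504), (2, 0), (2, 0), (2, 0), (2, 0), (1, 270400), (0, 524448), (0, 5243136), (0, 8264), (2, 0), (2, 0), (2, 0), (2, 0), (2, 0), (1, 720896), (0, 4194832), (0, 135176), (0, 8391168), (2, 0), (1, 8388928), (0, 9248),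 (2, 0), (1, 4327424), (1, 16648), (2, 0), (2, 0), (2, 0), (2, 0), (1, 540704), (0, 5275648), (0, 65608), (1, 8527872), (2, 0), (2, 0), (2, 0), (2, 0), (2, 0), (2, 0), (2, 0), (2, 0), (2, 0), (2, 0), (1, 2576), (0, 151552), (0, 35328), (0, 212992), (0, 33296), (0, 200704), (1, 8512), (0, 8352), (0, 1048960), (1, 7340032), (2, 0), (2, 0), (1, 2360320), (0, 2883584), (2, 0), (2, 0), (2, 0), (1, 4326400), (2, 0), (2, 0), (2, 0), (1, 589856), (1, 270352), (0, 528512), (0, 4196608), (1, 4210696), (2, 0), (2, 0), (1, 2097232), (0, 2101280), (2, 0), (2, 0), (2, 0), (1, 525824), (0, 4587520), (2, 0), (1, 176), (0, 1052928), (2, 0), (2, 0), (2, 0), (2, 0), (2, 0), (2, 0), (1, 12544), (0, 10368), (0, 16768), (1, 6295552), (0, 2099208), (0, 10502144), (2, 0), (1, 8421384), (2, 0), (2, 0), (2, 0), (2, 0), (1, 2098184), (0, 10747904), (0, 2622464), (1, 32912), (2, 0), (2, 0), (2, 0), (1, 8421504), (0, 66816), (2, 0), (1, 2164736), (2, 0), (2, 0), (2, 0), (2, 0), (1, 4195392), (0, 262184), (0, 9961472), (2,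 0), (2, 0), (1, 147584), (0, 33536), (0, 204800), (0, 656), (2, 0), (2, 0), (1, 4259872), (1, 286720), (2, 0), (2, 0), (2, 0), (1, 2101504), (2, 0), (2, 0), (2, 0), (2, 0), (2, 0), (1, 65576), (0, 9437200), (0, 5184), (0, 264224), (1, 262664), (0, 9043968), (2, 0), (2, 0), (2, 0), (2, 0), (1, 1574912), (0, 4210752), (2, 0), (1, 1048600), (0, 8392768), (0, 3104), (1, 262280), (2, 0), (2, 0), (1, 133184), (0, 16928), (2, 0), (2, 0), (2, 0), (2, 0), (2, 0), (2, 0), (1, 8658944), (0, 525440), (0, 4456704), (2, 0), (1, 2097296), (1, 2654208), (0, 6356992), (0, 2097176), (2, 0), (1, 57344), (2, 0), (2, 0), (2, 0), (2, 0), (2, 0), (1, 3584), (0, 409600), (0, 557568), (1, 65584), (2, 0), (2, 0), (1, 4864), (0, 141312), (0, 17024), (2, 0), (2, 0), (2, 0), (2, 0), (1, 168), (2, 0), (2, 0), (2, 0), (2, 0), (2, 0), (1, 4416), (0, 10272), (0, 1065088), (0, 33088), (0, 73760), (1, 271360), (0, 786560), (2, 0), (1, 1664), (2, 0), (2, 0), (2, 0), (1, 4390912), (0, 536), (2, 0), (1, 24832), (1, 4199424), (2,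 0), (2, 0), (2, 0), (2, 0), (1, 3149824), (0, 2099264), (2, 0), (1, 1081408), (0, 65632), (2, 0), (2, 0), (2, 0), (2, 0), (2, 0), (1, 4325440), (0, 552), (0, 9568256), (0, 1600), (1, 131232), (0, 1049344), (2, 0), (1, 2359552), (2, 0), (2, 0), (2, 0), (1, 1050880), (1, 5242888), (0, 8388680), (1, 8521728), (2, 0), (2, 0), (2, 0), (2, 0), (2, 0), (2, 0), (1, 147712), (0, 41472), (0, 196736), (2, 0), (2, 0), (1, 4198656), (0, 10248), (1, 8389640), (0, 8651776), (0, 787456), (2, 0), (2, 0), (2, 0), (2, 0), (2, 0), (2, 0), (2, 0), (2, 0), (2, 0), (1, 524328), (0, 13631488), (0, 1096), (0, 8650784), (0, 1573888), (0, 4456512), (1, 147968), (0, 164352), (0, 197120), (0, 131600), (2, 0), (2, 0), (2, 0), (2, 0), (2, 0), (1, 1048720), (1, 3670016), (0, 6291520), (2, 0), (1, 1081360), (2, 0), (2, 0), (2, 0), (2, 0), (1, 264704), (0, 671744), (0, 4227584), (0, 196616), (0, 8389136), (2, 0), (2, 0), (1, 81952), (2, 0), (2, 0), (1, 4368), (0, 14336), (2, 0), (2, 0), (2, 0), (2, 0), (2, 0), (1, 8519808),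 (0, 1792), (0, 401408), (0, 524928), (1, 2097200), (1, 819200), (2, 0), (2, 0), (2, 0), (2, 0), (1, 4194464), (0, 1048840), (2, 0), (1, 2375680), (1, 37376), (2, 0), (2, 0), (2, 0), (2, 0), (1, 2099456), (0, 2121728), (0, 2130048), (0, 2162944), (1, 4235264), (1, 82944), (2, 0), (2, 0), (2, 0), (2, 0), (1, 37888), (1, 65728), (1, 2236416), (2, 0), (2, 0), (2, 0), (2, 0), (1, 4227080), (0, 8454152), (1, 8398848), (0, 17536), (2, 0), (1, 3080), (2, 0), (2, 0), (2, 0), (1, 8470528), (0, 33808), (2, 0), (2, 0), (2, 0), (2, 0), (2, 0), (2, 0), (1, 1067008), (0, 49216), (0, 98336), (1, 335872), (0, 524432), (1, 2621456), (1, 557072), (2, 0), (2, 0), (2, 0), (1, 9728), (1, 1184), (2, 0), (2, 0), (2, 0), (2, 0), (2, 0), (1, 1052680), (0, 8390720), (0, 17440), (1, 266368), (2, 0), (2, 0), (1, 133128), (1, 8388872), (2, 0), (2, 0), (2, 0), (1, 9437248), (0, 1120), (1, 393344), (0, 525056), (0, 4333568), (2, 0), (2, 0), (1, 2097920), (2, 0), (2, 0), (2, 0), (1, 1181696), (0, 16960), (1, 135200), (0, 1051136),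 (2, 0), (2, 0), (2, 0), (2, 0), (2, 0), (2, 0), (2, 0), (2, 0), (1, 8650768), (0, 529408), (0, 4458496), (0, 540680), (0, 12615680), (1, 83968), (0, 49168), (1, 593920), (0, 4196368), (2, 0), (2, 0), (2, 0), (2, 0), (2, 0), (1, 8392720), (0, 7168), (0, 280576), (0, 573440), (2, 0), (2, 0), (1, 200), (0, 8388896), (2, 0), (1, 10616832), (2, 0), (2, 0), (2, 0), (1, 526400), (0, 4210720), (0, 1081352), (2, 0), (2, 0), (1, 131096), (1, 8913152), (2, 0), (2, 0), (2, 0), (2, 0), (2, 0), (1, 16904), (0, 8552448), (0, 67072), (2, 0), (1, 67840), (0, 24592), (2, 0), (2, 0), (2, 0), (1, 8392736), (0, 1051648), (1, 1048712), (1, 11534336), (2, 0), (2, 0), (2, 0), (1, 264256), (1, 131592), (2, 0), (2, 0), (2, 0), (2, 0), (2, 0), (1, 208), (0, 4384), (0, 1058816), (0, 16576), (0, 33056), (1, 4521984), (2, 0), (2, 0), (2, 0), (1, 1049608), (0, 8650816), (2, 0), (1, 9437312), (1, 3147776), (2, 0), (2, 0), (2, 0), (2, 0), (2, 0), (1, 2752512), (1, 33040), (0, 77824), (0, 2192), (2, 0), (2, 0), (1, 4784128),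 (0, 4194328), (0, 8392712), (2, 0), (1, 8929280), (2, 0), (2, 0), (2, 0), (2, 0), (2, 0), (2, 0), (2, 0), (2, 0), (2, 0), (2, 0), (2, 0)]
/-- Orbit certificate for class 0. -/
def tcert0 : List (ℕ × ℕ) := tcert0_0 ++ tcert0_1 ++ tcert0_2
/-- Bitmap of the keys of the triads of class 0. -/
def tbm0 : ℕ := 133768902017270170535462612759567624540626429876001929361902777755370082327705662161963330178813826447379298584548607664897176508127493159294548403274350916403643440550556312702762851874301699837831646455910932581852412400850453139320536199309855623517680500968195109015109778903340841457690336766013263375973718015830265144010213485998812444869295223747253166415786877890257246744891308432225668911549064553566913488218591533250741351427361908042647259162205034193987576778159849430101730638162190233965386132891197173375908709788830446716103104883262941089783132045680202305713502957736989404214762523755894970784683119392179992673222366895231488776826587603790095849166419560117198566789883126180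0490679080916989667970081427910651216740645675243798955588606695786812872206907450426176256353547959936501719179539305600153685318382581821159938437559470921065767377002510618410608963058311329028633479880714063504346225653304241884434249598053702785704755248891232389739157185978654940563624963215500673487937428622082945209306183466944957310356250475861552241888688090711021865170971524505098231690819810682743813299658878315336867428378172200243979228689901818404006549547081461322231449294433555109629214898752341022628359652563065927990598064162197650434975531365797945043467908107677807847084508706588661576194584300254261760535019131798309502177055674396098674009765487875726048115633589958905908206228485777648950270200280993789454494698631703223237518328249336095375273702529526818307941804362201804032316007380406678085155577218924809156857566870991037225611691283689783562425060301345726299567411785488330785163544825077138925087804035574033325185398472815095255763913647333280866894536485196471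9524791765606656097699186377942158999511001172603256484813472434314598169752782945656921169122723859219272787034379218908850607326030896429523847582046812292388438251184737710959759147039799559542738737551405580762745402646166210487890285110972440392125231042056269888213138530006703668462797395141376190141947972094948658692291785735205964163310704552607091678834704293052116513962591318116490549866293878585703433018649460120672759656185124533163453124630489909922113573536767162228987890180668478915169907748717220717525989534898766380769441628126583502523742634134680491354767872829529848989959836649312995138918279555686987641667276992437479990206028951341823688888136112942520786845289952186646995729714114194573085491609140228290202058657055368104597276542509571057338315011346264166744266023049994126879133355024219222938117999408079089834587344128588653591269046579989155569471791461836398775556488532575923797670370896359588255296963241365733965480688309017354696371397406980529289823054914487378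06150029080949410257895112921228852156680225743734217883650387479649652868742395033614230739252583556042456076596187247924885182645755018980351436022319681147710072371642027179238039213656645199241621932006203715288466745079915297480971267415248231431035975085255031682015857172935999351019399490727744639438853782654781398335318499173991242052889129102867958903456983816073456096718077631857035956217672933271802945983895831343234609241520868089215266288829080317225171440698453199715780836187566950993961313753284062775165592818316631861990663188278508803406114905039949413245056479421267972923424188313759309720847910759877342870895827536346413622055369685946042082775858041331793093196551243153687943302392693120747885714527617678584315049645405394265368044934082722493727717503995427963354560875660659375368734291219134949781285988267895979137665282766704253375022610824233721691609035621949720871239100755050081880325840291827623955185421448840061647109626174441251828632558764975829700506467263086101459239048393348798769467023313975967736449576918551062542204336939103137030595533703479296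
theorem tcert0_ok : checkDFS tactsH tcert0 [tr0m] = true := by decide +kernel
theorem tbm0_ok : keyBitmap (keyK 3) (tr0m :: pushed 2 tcert0) = tbm0 := by
  decide +kernel
theorem treach0 {p : Finset GolayPt} (hp : p.card = 3)
    (hbit : tbm0.testBit (keyK 3 (gmask p)) = true) : ∃ g ∈ Ht, g • tr0 = p := by
  apply exists_smul_eq_of_cert_key tgensH_models tr0 tcert0 _ (keyK 3) (unkeyK 3) 3 tr0_card
    (fun s hs => unkey_key3 hs) hp
  · rw [gmask_tr0]
    show (keyBitmap (keyK 3) (tr0m :: pushed 2 tcert0)).testBit _ = true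
    rw [tbm0_ok]
    exact hbit
  · rw [gmask_tr0]; exact tcert0_ok

/-- Dispatch of a triad mask to the bitmap of its class. -/
def tdispatch (c m : ℕ) : Bool :=
  (c == 6 && m == t0m) || (c == 4 && tbm4.testBit (keyK 3 m)) ||
    (c == 2 && tbm2.testBit (keyK 3 m)) || (c == 1 && tbm1.testBit (keyK 3 m)) ||
    (c == 0 && tbm0.testBit (keyK 3 m))

theorem tdispatch_all : (subs 24 3).all (fun m => tdispatch (tcls m) m) = true := by
  decide +kernel

/-- Representative of a class. -/
def trepOf (j : ℕ) : Finset GolayPt :=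
  if j = 6 then t0 else if j = 4 then tr4 else if j = 2 then tr2 else if j = 1 then tr1 else tr0

/-- Every triad is the image of the representative of its class under the stabiliser of the base
triad. -/
theorem treach_rep {p : Finset GolayPt} (hp : p.card = 3) :
    (tcls (gmask p) = 6 ∧ p = t0 ∨ tcls (gmask p) = 4 ∨ tcls (gmask p) = 2 ∨
      tcls (gmask p) = 1 ∨ tcls (gmask p) = 0) ∧
    ∃ g ∈ Ht, g • trepOf (tcls (gmask p)) = p := by
  have h := List.all_eq_true.mp tdispatch_all _ (gmask_mem_subs hp)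
  unfold tdispatch at h
  simp only [Bool.or_eq_true, Bool.and_eq_true, beq_iff_eq] at h
  rcases h with (((⟨hj, hm⟩ | ⟨hj, hb⟩) | ⟨hj, hb⟩) | ⟨hj, hb⟩) | ⟨hj, hb⟩
  · have hpt : p = t0 := by
      apply gmask_injective
      rw [gmask_t0, hm]
    refine ⟨Or.inl ⟨hj, hpt⟩, 1, Ht.one_mem, ?_⟩
    rw [hj, one_smul]
    exact hpt.symm
  · refine ⟨Or.inr (Or.inl hj), ?_⟩
    rw [hj]; exact treach4 hp hb
  · refine ⟨Or.inr (Or.inr (Or.inl hj)), ?_⟩
    rw [hj]; exact treach2 hp hb
  · refine ⟨Or.inr (Or.inr (Or.inr (Or.inl hj))), ?_⟩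
    rw [hj]; exact treach1 hp hb
  · refine ⟨Or.inr (Or.inr (Or.inr (Or.inr hj))), ?_⟩
    rw [hj]; exact treach0 hp hb

/-- The stabiliser of the base triad is transitive on each class of triads. -/
theorem triad_base_stab_transitive {p' p'' : Finset GolayPt} (h' : p'.card = 3)
    (h'' : p''.card = 3) (h : triadClass t0 p' = triadClass t0 p'') : ∃ g ∈ Ht, g • p' = p'' := by
  rw [triadClass_t0, triadClass_t0] at h
  obtain ⟨_, g₁, hg₁, e₁⟩ := treach_rep h'
  obtain ⟨_, g₂, hg₂, e₂⟩ := treach_rep h''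
  refine ⟨g₂ * g₁⁻¹, Ht.mul_mem hg₂ (Ht.inv_mem hg₁), ?_⟩
  rw [mul_smul, ← e₁, inv_smul_smul, h, e₂]

/-- Two triads in the same class relative to a triad `T` are in one orbit of the stabiliser of `T`. -/
theorem triad_stab_transitive {T U U' : Finset GolayPt} (hT : T.card = 3) (hU : U.card = 3)
    (hU' : U'.card = 3) (h : triadClass T U = triadClass T U') :
    ∃ g : Equiv.Perm GolayPt, g ∈ M24 ∧ g • T = T ∧ g • U = U' := by
  obtain ⟨a, ha, rfl⟩ := exists_smul_t0_eq hT
  have hai : a⁻¹ ∈ M24 := M24.inv_mem ha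
  have e : ∀ q : Finset GolayPt, triadClass t0 (a⁻¹ • q) = triadClass (a • t0) q := by
    intro q
    rw [← triadClass_smul ha t0 (a⁻¹ • q), smul_inv_smul]
  obtain ⟨g, hg, hgp⟩ := triad_base_stab_transitive (p' := a⁻¹ • U) (p'' := a⁻¹ • U')
    (by rw [Finset.card_smul_finset]; exact hU) (by rw [Finset.card_smul_finset]; exact hU')
    (by rw [e, e, h])
  refine ⟨a * g * a⁻¹, M24.mul_mem (M24.mul_mem ha (Ht_le hg)) hai, ?_, ?_⟩
  · rw [mul_smul, mul_smul, inv_smul_smul]
    have : g • t0 = t0 := MulAction.mem_stabilizer_iff.mp hg.2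
    rw [this]
  · rw [mul_smul, mul_smul, hgp, smul_inv_smul]

/-! ### Connectivity of the class graphs -/

/-- Validity of a triad mask. -/
def tvalid (m : ℕ) : Bool := decide (m < 2 ^ 24) && (popc 24 m == 3)

theorem tvalid_spec (m : ℕ) (h : tvalid m = true) :
    m < 2 ^ 24 ∧ setOfMask m ∈ {s : Finset GolayPt | s.card = 3} := by
  unfold tvalid at h
  simp only [Bool.and_eq_true, decide_eq_true_eq, beq_iff_eq] at h
  refine ⟨h.1, ?_⟩
  show (setOfMask m).card = 3
  rw [card_eq_popc_gmask, gmask_setOfMask h.1]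
  exact h.2

/-- A path in the graph of class 4. -/
def tpath4A : List ℕ := [14]
/-- A path in the graph of class 4. -/
def tpath4B : List ℕ := [21]
/-- A path in the graph of class 4. -/
def tpath4C : List ℕ := [2051, 4196353, 12584960]
/-- A path in the graph of class 4. -/
def tpath4D : List ℕ := [67, 262209]
/-- The graph of class 4 on triads is connected. -/
theorem triads_connected4 :
    ConnectedBy {s : Finset GolayPt | s.card = 3} (fun a b => triadClass a b = 4) t0 := by
  apply connectedBy_of_gen_paths M24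
    (fun g _ y hy => by
      show (g • y).card = 3
      rw [Finset.card_smul_finset]; exact hy)
    (fun g hg a b hab => by rw [triadClass_smul hg]; exact hab)
    {gA, gB, gC, gD} (by
      intro g hg
      rcases hg with rfl | rfl | rfl | rfl
      · exact gA_mem
      · exact gB_mem
      · exact gC_mem
      · exact gD_mem)
  · intro g hg
    rcases hg with rfl | rfl | rfl | rfl
    · exact path_of_checkPath triadClass_eq tvalid_spec 4 t0_card gA_models tpath4A
        (by rw [gmask_t0]; decide +kernel) (by rw [gmask_t0]; decide +kernel)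
    · exact path_of_checkPath triadClass_eq tvalid_spec 4 t0_card gB_models tpath4B
        (by rw [gmask_t0]; decide +kernel) (by rw [gmask_t0]; decide +kernel)
    · exact path_of_checkPath triadClass_eq tvalid_spec 4 t0_card gC_models tpath4C
        (by rw [gmask_t0]; decide +kernel) (by rw [gmask_t0]; decide +kernel)
    · exact path_of_checkPath triadClass_eq tvalid_spec 4 t0_card gD_models tpath4D
        (by rw [gmask_t0]; decide +kernel) (by rw [gmask_t0]; decide +kernel)
  · intro z hz
    exact exists_smul_t0_eq_K hz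

/-- A path in the graph of class 2. -/
def tpath2A : List ℕ := [25, 14]
/-- A path in the graph of class 2. -/
def tpath2B : List ℕ := [41, 21]
/-- A path in the graph of class 2. -/
def tpath2C : List ℕ := [2057, 12584960]
/-- A path in the graph of class 2. -/
def tpath2D : List ℕ := [262209]
/-- The graph of class 2 on triads is connected. -/
theorem triads_connected2 :
    ConnectedBy {s : Finset GolayPt | s.card = 3} (fun a b => triadClass a b = 2) t0 := by
  apply connectedBy_of_gen_paths M24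
    (fun g _ y hy => by
      show (g • y).card = 3
      rw [Finset.card_smul_finset]; exact hy)
    (fun g hg a b hab => by rw [triadClass_smul hg]; exact hab)
    {gA, gB, gC, gD} (by
      intro g hg
      rcases hg with rfl | rfl | rfl | rfl
      · exact gA_mem
      · exact gB_mem
      · exact gC_mem
      · exact gD_mem)
  · intro g hg
    rcases hg with rfl | rfl | rfl | rfl
    · exact path_of_checkPath triadClass_eq tvalid_spec 2 t0_card gA_models tpath2A
        (by rw [gmask_t0]; decide +kernel) (by rw [gmask_t0]; decide +kernel)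
    · exact path_of_checkPath triadClass_eq tvalid_spec 2 t0_card gB_models tpath2B
        (by rw [gmask_t0]; decide +kernel) (by rw [gmask_t0]; decide +kernel)
    · exact path_of_checkPath triadClass_eq tvalid_spec 2 t0_card gC_models tpath2C
        (by rw [gmask_t0]; decide +kernel) (by rw [gmask_t0]; decide +kernel)
    · exact path_of_checkPath triadClass_eq tvalid_spec 2 t0_card gD_models tpath2D
        (by rw [gmask_t0]; decide +kernel) (by rw [gmask_t0]; decide +kernel)
  · intro z hz
    exact exists_smul_t0_eq_K hz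

/-- A path in the graph of class 1. -/
def tpath1A : List ℕ := [1168, 14]
/-- A path in the graph of class 1. -/
def tpath1B : List ℕ := [1160, 21]
/-- A path in the graph of class 1. -/
def tpath1C : List ℕ := [4120, 12584960]
/-- A path in the graph of class 1. -/
def tpath1D : List ℕ := [1048, 262209]
/-- The graph of class 1 on triads is connected. -/
theorem triads_connected1 :
    ConnectedBy {s : Finset GolayPt | s.card = 3} (fun a b => triadClass a b = 1) t0 := by
  apply connectedBy_of_gen_paths M24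
    (fun g _ y hy => by
      show (g • y).card = 3
      rw [Finset.card_smul_finset]; exact hy)
    (fun g hg a b hab => by rw [triadClass_smul hg]; exact hab)
    {gA, gB, gC, gD} (by
      intro g hg
      rcases hg with rfl | rfl | rfl | rfl
      · exact gA_mem
      · exact gB_mem
      · exact gC_mem
      · exact gD_mem)
  · intro g hg
    rcases hg with rfl | rfl | rfl | rfl
    · exact path_of_checkPath triadClass_eq tvalid_spec 1 t0_card gA_models tpath1A
        (by rw [gmask_t0]; decide +kernel) (by rw [gmask_t0]; decide +kernel)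
    · exact path_of_checkPath triadClass_eq tvalid_spec 1 t0_card gB_models tpath1B
        (by rw [gmask_t0]; decide +kernel) (by rw [gmask_t0]; decide +kernel)
    · exact path_of_checkPath triadClass_eq tvalid_spec 1 t0_card gC_models tpath1C
        (by rw [gmask_t0]; decide +kernel) (by rw [gmask_t0]; decide +kernel)
    · exact path_of_checkPath triadClass_eq tvalid_spec 1 t0_card gD_models tpath1D
        (by rw [gmask_t0]; decide +kernel) (by rw [gmask_t0]; decide +kernel)
  · intro z hz
    exact exists_smul_t0_eq_K hz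

/-- A path in the graph of class 0. -/
def tpath0A : List ℕ := [112, 14]
/-- A path in the graph of class 0. -/
def tpath0B : List ℕ := [104, 21]
/-- A path in the graph of class 0. -/
def tpath0C : List ℕ := [12584960]
/-- A path in the graph of class 0. -/
def tpath0D : List ℕ := [56, 262209]
/-- The graph of class 0 on triads is connected. -/
theorem triads_connected0 :
    ConnectedBy {s : Finset GolayPt | s.card = 3} (fun a b => triadClass a b = 0) t0 := by
  apply connectedBy_of_gen_paths M24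
    (fun g _ y hy => by
      show (g • y).card = 3
      rw [Finset.card_smul_finset]; exact hy)
    (fun g hg a b hab => by rw [triadClass_smul hg]; exact hab)
    {gA, gB, gC, gD} (by
      intro g hg
      rcases hg with rfl | rfl | rfl | rfl
      · exact gA_mem
      · exact gB_mem
      · exact gC_mem
      · exact gD_mem)
  · intro g hg
    rcases hg with rfl | rfl | rfl | rfl
    · exact path_of_checkPath triadClass_eq tvalid_spec 0 t0_card gA_models tpath0A
        (by rw [gmask_t0]; decide +kernel) (by rw [gmask_t0]; decide +kernel)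
    · exact path_of_checkPath triadClass_eq tvalid_spec 0 t0_card gB_models tpath0B
        (by rw [gmask_t0]; decide +kernel) (by rw [gmask_t0]; decide +kernel)
    · exact path_of_checkPath triadClass_eq tvalid_spec 0 t0_card gC_models tpath0C
        (by rw [gmask_t0]; decide +kernel) (by rw [gmask_t0]; decide +kernel)
    · exact path_of_checkPath triadClass_eq tvalid_spec 0 t0_card gD_models tpath0D
        (by rw [gmask_t0]; decide +kernel) (by rw [gmask_t0]; decide +kernel)
  · intro z hz
    exact exists_smul_t0_eq_K hz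

end Cfsg.Agent.Lib.Helper35
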