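import Cfsg.Agent.Lib.Helper35.TrioStab
import Cfsg.Agent.Lib.Helper35.OctadSplit
import Cfsg.Agent.Lib.Helper10.Inter
import Cfsg.Agent.Lib.Helper10.M24Mem

/-!
The stabiliser of the base trio acts linearly on the three-dimensional space spanned, modulo the
code, by the tetrads of the seven sextets refining the trio.  This file constructs the matrix of
an element of the stabiliser and proves multiplicativity.
-/

set_option autoImplicit false
set_option maxHeartbeats 4000000

namespace Cfsg.Agent.Lib.Helper35

open Cfsg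
open Cfsg.Agent.Lib.Helper10 (idx pt idx_injective vec vec_xor vec_zero wmask vec_wmask wmask_lt
  enc permWord permWord_add permWord_smul permWord_mul permWord_one permWord_apply
  smul_support₂ permWord_mem_of_mem_M24 vec_mem_golayCode_iff dot_eq_card_inter even_card_inter)
open scoped Pointwise

/-- The pairing of two words. -/
def dotW (v w : GolayPt → ZMod 2) : ZMod 2 := ∑ p, v p * w p

theorem dotW_add_left (u v w : GolayPt → ZMod 2) : dotW (u + v) w = dotW u w + dotW v w := by
  simp only [dotW, Pi.add_apply, add_mul, Finset.sum_add_distrib]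

theorem dotW_smul_left (a : ZMod 2) (v w : GolayPt → ZMod 2) :
    dotW (a • v) w = a * dotW v w := by
  simp only [dotW, Pi.smul_apply, smul_eq_mul, mul_assoc, Finset.mul_sum]

theorem dotW_permWord (σ : Equiv.Perm GolayPt) (v w : GolayPt → ZMod 2) :
    dotW (permWord σ v) (permWord σ w) = dotW v w := by
  unfold dotW
  simp only [permWord_apply]
  exact Equiv.sum_comp σ.symm (fun p => v p * w p)

theorem dotW_code {v w : GolayPt → ZMod 2} (hv : v ∈ golayCode) (hw : w ∈ golayCode) :
    dotW v w = 0 := by
  unfold dotW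
  rw [dot_eq_card_inter]
  obtain ⟨k, hk⟩ := even_card_inter hv hw
  rw [hk]
  push_cast
  exact CharTwo.add_self_eq_zero _

theorem support₂_vec {a : ℕ} (ha : a < 2 ^ 24) : support₂ (vec a) = setOfMask a := by
  have := support₂_vec_gmask (setOfMask a)
  rwa [gmask_setOfMask ha] at this

theorem dotW_vec {a b : ℕ} (ha : a < 2 ^ 24) (hb : b < 2 ^ 24) :
    dotW (vec a) (vec b) = ((popc 24 (a &&& b) : ℕ) : ZMod 2) := by
  unfold dotW
  rw [dot_eq_card_inter, support₂_vec ha, support₂_vec hb, card_inter_eq_popc,
    gmask_setOfMask ha, gmask_setOfMask hb]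

/-- Masks of the three basis tetrads. -/
def tM : Fin 3 → ℕ := ![0x1d, 0x8e, 0x407]
/-- Masks of the three dual code words. -/
def cM : Fin 3 → ℕ := ![0xe21b, 0xcb25, 0xa4f8]
/-- Masks of the octads of the base trio. -/
def oM : Fin 3 → ℕ := ![0x149f, 0xf6840, 0xf08320]
/-- Masks of three octads cutting the basis tetrads out of the first octad of the trio. -/
def xM : Fin 3 → ℕ := ![0x5481d, 0x160ce, 0x70447]

theorem tM_lt (i : Fin 3) : tM i < 2 ^ 24 := by revert i; decide
theorem cM_lt (i : Fin 3) : cM i < 2 ^ 24 := by revert i; decide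
theorem oM_lt (i : Fin 3) : oM i < 2 ^ 24 := by revert i; decide
theorem xM_lt (i : Fin 3) : xM i < 2 ^ 24 := by revert i; decide

/-- The basis tetrads, as words. -/
def tau (i : Fin 3) : GolayPt → ZMod 2 := vec (tM i)
/-- The dual code words. -/
def gam (j : Fin 3) : GolayPt → ZMod 2 := vec (cM j)

theorem gam_mem (j : Fin 3) : gam j ∈ golayCode := by
  unfold gam
  rw [vec_mem_golayCode_iff (cM_lt j)]
  revert j
  decide +kernel

theorem dot_tau_gam (i j : Fin 3) : dotW (tau i) (gam j) = if i = j then 1 else 0 := by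
  unfold tau gam
  rw [dotW_vec (tM_lt i) (cM_lt j)]
  revert i j
  decide +kernel

/-- The matrix of a permutation on the three-dimensional space attached to the base trio. -/
def trioMat (g : Equiv.Perm GolayPt) : Matrix (Fin 3) (Fin 3) (ZMod 2) :=
  Matrix.of fun j i => dotW (permWord g (tau i)) (gam j)

theorem trioMat_apply (g : Equiv.Perm GolayPt) (j i : Fin 3) :
    trioMat g j i = dotW (permWord g (tau i)) (gam j) := rfl

theorem trioMat_one : trioMat 1 = 1 := by
  ext j i
  rw [trioMat_apply, permWord_one, dot_tau_gam, Matrix.one_apply]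
  by_cases h : i = j
  · rw [if_pos h, if_pos h.symm]
  · rw [if_neg h, if_neg (fun h' => h h'.symm)]

/-- Projection of a word along the basis tetrads. -/
def projW (w : GolayPt → ZMod 2) : GolayPt → ZMod 2 :=
  w + (dotW w (gam 0) • tau 0 + dotW w (gam 1) • tau 1 + dotW w (gam 2) • tau 2)

/-- Parity of the intersection of two masks. -/
def parB (x c : ℕ) : Bool := popc 24 (x &&& c) % 2 == 1

/-- The projection on masks. -/
def projM (x : ℕ) : ℕ :=
  x ^^^ ((if parB x (cM 0) then tM 0 else 0) ^^^ (if parB x (cM 1) then tM 1 else 0) ^^^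
    (if parB x (cM 2) then tM 2 else 0))

theorem natCast_smul_vec (n T : ℕ) :
    ((n : ℕ) : ZMod 2) • vec T = vec (if n % 2 == 1 then T else 0) := by
  have h : ((n : ℕ) : ZMod 2) = ((n % 2 : ℕ) : ZMod 2) := by
    rw [ZMod.natCast_mod]
  rw [h]
  rcases Nat.mod_two_eq_zero_or_one n with h0 | h1
  · rw [h0]; simp [vec_zero]
  · rw [h1]; simp

theorem projW_vec {x : ℕ} (hx : x < 2 ^ 24) : projW (vec x) = vec (projM x) := by
  unfold projW projM gam tau parB
  rw [dotW_vec hx (cM_lt 0), dotW_vec hx (cM_lt 1), dotW_vec hx (cM_lt 2),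
    natCast_smul_vec, natCast_smul_vec, natCast_smul_vec, vec_xor, vec_xor, vec_xor]

theorem projM_lt {x : ℕ} (hx : x < 2 ^ 24) : projM x < 2 ^ 24 := by
  unfold projM
  apply Nat.xor_lt_two_pow hx
  apply Nat.xor_lt_two_pow
  · apply Nat.xor_lt_two_pow
    · split_ifs
      · exact tM_lt 0
      · norm_num
    · split_ifs
      · exact tM_lt 1
      · norm_num
  · split_ifs
    · exact tM_lt 2
    · norm_num

theorem projW_mem_iff {x : ℕ} (hx : x < 2 ^ 24) :
    projW (vec x) ∈ golayCode ↔ enc (projM x) = projM x := by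
  rw [projW_vec hx, vec_mem_golayCode_iff (projM_lt hx)]

/-! ### The special octads and tetrads of the base trio -/

theorem unpack_q0c : unpack 3 q0c = [oM 0, oM 1, oM 2] := by decide +kernel

theorem gmask_of_mem_q0 {o : Finset GolayPt} (ho : o ∈ q0) :
    gmask o = oM 0 ∨ gmask o = oM 1 ∨ gmask o = oM 2 := by
  obtain ⟨m, hm, -, hg⟩ := mem_famOfCode (n := 3) (c := q0c) ho
  rw [unpack_q0c] at hm
  rw [hg]
  simpa using hm

theorem setOfMask_oM_mem (i : Fin 3) : setOfMask (oM i) ∈ q0 := by
  have h : oM i ∈ fmasks q0 := by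
    unfold q0
    rw [fmasks_famOfCode q0_valid, unpack_q0c]
    revert i
    decide
  obtain ⟨s, hs, hg⟩ := mem_fmasks.mp h
  have : s = setOfMask (oM i) := by
    apply gmask_injective
    rw [hg, gmask_setOfMask (oM_lt i)]
  rwa [← this]

/-- An octad meeting every octad of the base trio in four points or not at all. -/
def Spec (X : Finset GolayPt) : Prop :=
  X ∈ octads ∧ ∀ o ∈ q0, (X ∩ o).card = 4 ∨ (X ∩ o).card = 0

theorem smul_q0_inv {h : Equiv.Perm GolayPt} (hq : h • q0 = q0) : h⁻¹ • q0 = q0 := by
  rw [inv_smul_eq_iff, hq]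

theorem spec_smul {h : Equiv.Perm GolayPt} (hM : h ∈ M24) (hq : h • q0 = q0)
    {X : Finset GolayPt} (hX : Spec X) : Spec (h • X) := by
  refine ⟨smul_mem_octads hM hX.1, ?_⟩
  intro o ho
  have ho' : h⁻¹ • o ∈ q0 := by
    rw [← smul_q0_inv hq]
    exact Finset.smul_mem_smul_finset ho
  have e : h • X ∩ o = h • (X ∩ h⁻¹ • o) := by
    rw [Finset.smul_finset_inter, smul_inv_smul]
  rw [e, Finset.card_smul_finset]
  exact hX.2 _ ho'

/-- Check on a special tetrad mask. -/
def chkT (x : ℕ) : Bool := popc 24 x != 4 || enc (projM x) == projM x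

/-- Pattern of intersection. -/
def patM (m o : ℕ) : Bool := popc 24 (m &&& o) == 4 || popc 24 (m &&& o) == 0

/-- Check on a code word mask. -/
def specOK (m : ℕ) : Bool :=
  !(popc 24 m == 8 && patM m (oM 0) && patM m (oM 1) && patM m (oM 2)) ||
    (chkT (m &&& oM 0) && chkT (m &&& oM 1) && chkT (m &&& oM 2))

theorem specOK_all : (List.range 4096).all (fun k => specOK (enc k)) = true := by
  decide +kernel

theorem patM_of_spec {X : Finset GolayPt} (hX : Spec X) (i : Fin 3) :
    patM (gmask X) (oM i) = true := by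
  have h := hX.2 _ (setOfMask_oM_mem i)
  rw [card_inter_eq_popc, gmask_setOfMask (oM_lt i)] at h
  unfold patM
  rcases h with h | h <;> simp [h]

theorem projW_mem_of_spec {X o : Finset GolayPt} (hX : Spec X) (ho : o ∈ q0)
    (h4 : (X ∩ o).card = 4) : projW (vec (gmask (X ∩ o))) ∈ golayCode := by
  have hsup : X ∈ supports (golayCode : Set (GolayPt → ZMod 2)) := hX.1.1
  have hok := forall_supports_bool specOK specOK_all X hsup
  have h8 : popc 24 (gmask X) = 8 := ((mem_octads_iff X).mp hX.1).2
  unfold specOK at hok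
  rw [h8, patM_of_spec hX 0, patM_of_spec hX 1, patM_of_spec hX 2] at hok
  simp only [beq_self_eq_true, Bool.and_self, Bool.not_true, Bool.false_or,
    Bool.and_eq_true] at hok
  rw [projW_mem_iff (gmask_lt _)]
  have hg : gmask (X ∩ o) = gmask X &&& gmask o := maskOf_inter idx_injective X o
  have h4' : popc 24 (gmask X &&& gmask o) = 4 := by
    rw [← card_inter_eq_popc]; exact h4
  rw [hg]
  have key : ∀ i : Fin 3, gmask o = oM i → chkT (gmask X &&& oM i) = true →
      enc (projM (gmask X &&& gmask o)) = projM (gmask X &&& gmask o) := by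
    intro i hi hc
    rw [hi] at h4' ⊢
    unfold chkT at hc
    rw [h4'] at hc
    simpa using hc
  rcases gmask_of_mem_q0 ho with h | h | h
  · exact key 0 h hok.1.1
  · exact key 1 h hok.1.2
  · exact key 2 h hok.2

/-- a word is the indicator of its support -/
theorem eq_vec_gmask_support (w : GolayPt → ZMod 2) : w = vec (gmask (support₂ w)) := by
  rw [← wmask_eq_gmask, vec_wmask]

theorem permWord_vec_gmask (h : Equiv.Perm GolayPt) (s : Finset GolayPt) :
    permWord h (vec (gmask s)) = vec (gmask (h • s)) := by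
  have e := eq_vec_gmask_support (permWord h (vec (gmask s)))
  rw [← smul_support₂, support₂_vec_gmask] at e
  exact e

theorem xM_spec (i : Fin 3) : Spec (setOfMask (xM i)) := by
  constructor
  · rw [mem_octads_iff, gmask_setOfMask (xM_lt i)]
    revert i
    decide +kernel
  · intro o ho
    rw [card_inter_eq_popc, gmask_setOfMask (xM_lt i)]
    rcases gmask_of_mem_q0 ho with h | h | h <;> rw [h] <;> revert i <;> decide +kernel

theorem tM_eq (i : Fin 3) : tM i = xM i &&& oM 0 := by revert i; decide +kernel

theorem tau_eq (i : Fin 3) :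
    tau i = vec (gmask (setOfMask (xM i) ∩ setOfMask (oM 0))) := by
  unfold tau
  have e1 : gmask (setOfMask (xM i) ∩ setOfMask (oM 0))
      = gmask (setOfMask (xM i)) &&& gmask (setOfMask (oM 0)) :=
    maskOf_inter idx_injective _ _
  rw [e1, gmask_setOfMask (xM_lt i), gmask_setOfMask (oM_lt 0), tM_eq]

theorem popc_xM_oM (i : Fin 3) : popc 24 (xM i &&& oM 0) = 4 := by revert i; decide +kernel

/-- Fact (a): the image of a basis tetrad under an element of the stabiliser of the base trio
is congruent modulo the code to a combination of the basis tetrads, with coefficients given by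
the pairing. -/
theorem projW_permWord_tau {h : Equiv.Perm GolayPt} (hM : h ∈ M24) (hq : h • q0 = q0)
    (i : Fin 3) : projW (permWord h (tau i)) ∈ golayCode := by
  rw [tau_eq, permWord_vec_gmask, Finset.smul_finset_inter]
  have hs := spec_smul hM hq (xM_spec i)
  have ho : h • setOfMask (oM 0) ∈ q0 := by
    have := Finset.smul_mem_smul_finset (a := h) (setOfMask_oM_mem 0)
    rwa [hq] at this
  apply projW_mem_of_spec hs ho
  rw [← Finset.smul_finset_inter, Finset.card_smul_finset, card_inter_eq_popc,
    gmask_setOfMask (xM_lt i), gmask_setOfMask (oM_lt 0)]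
  exact popc_xM_oM i

theorem zmod2_eq_of_add_eq_zero {a b : ZMod 2} (h : a + b = 0) : a = b := by
  revert a b; decide

/-- Multiplicativity of the matrix on the stabiliser of the base trio. -/
theorem trioMat_mul {g h : Equiv.Perm GolayPt} (hg : g ∈ M24) (hM : h ∈ M24)
    (hq : h • q0 = q0) : trioMat (g * h) = trioMat g * trioMat h := by
  ext j i
  rw [Matrix.mul_apply, Fin.sum_univ_three]
  simp only [trioMat_apply]
  rw [permWord_mul]
  set w := permWord h (tau i) with hw
  have h1 : permWord g (projW w) ∈ golayCode :=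
    permWord_mem_of_mem_M24 hg _ (projW_permWord_tau hM hq i)
  have h2 := dotW_code h1 (gam_mem j)
  unfold projW at h2
  rw [permWord_add, permWord_add, permWord_add, permWord_smul, permWord_smul, permWord_smul,
    dotW_add_left, dotW_add_left, dotW_add_left, dotW_smul_left, dotW_smul_left,
    dotW_smul_left] at h2
  have h3 := zmod2_eq_of_add_eq_zero h2
  rw [h3]
  ring

end Cfsg.Agent.Lib.Helper35
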