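import Cfsg.Agent.Lib.Helper35.TrioGL

/-!
Elements of `M24` fixing the three octads of the base trio and acting trivially on the
three-dimensional space attached to the trio: rigidity and involution properties.
-/

set_option autoImplicit false
set_option maxHeartbeats 4000000

namespace Cfsg.Agent.Lib.Helper35

open Cfsg
open Cfsg.Agent.Lib.Helper10 (idx pt idx_pt idx_injective vec vec_xor vec_zero wmask vec_wmask wmask_lt
  enc permWord permWord_add permWord_smul permWord_mul permWord_one permWord_apply
  smul_support₂ permWord_mem_of_mem_M24 vec_mem_golayCode_iff forall_code_bool wmask_vec)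
open scoped Pointwise

/-- The kernel condition. -/
def InKer (g : Equiv.Perm GolayPt) : Prop :=
  g ∈ M24 ∧ (∀ o ∈ q0, g • o = o) ∧ trioMat g = 1

theorem InKer.smul_q0 {g : Equiv.Perm GolayPt} (h : InKer g) : g • q0 = q0 := by
  ext o
  constructor
  · intro ho
    obtain ⟨o', ho', rfl⟩ := Finset.mem_smul_finset.mp ho
    rw [h.2.1 o' ho']; exact ho'
  · intro ho
    rw [← h.2.1 o ho]
    exact Finset.smul_mem_smul_finset ho

/-- (K1) -/
theorem InKer.tau_mem {g : Equiv.Perm GolayPt} (h : InKer g) (i : Fin 3) :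
    permWord g (tau i) + tau i ∈ golayCode := by
  have h1 := projW_permWord_tau h.1 h.smul_q0 i
  unfold projW at h1
  have e : ∀ k : Fin 3, dotW (permWord g (tau i)) (gam k) = if k = i then 1 else 0 := by
    intro k
    rw [← trioMat_apply, h.2.2, Matrix.one_apply]
  rw [e 0, e 1, e 2] at h1
  fin_cases i <;> simpa using h1

/-- (K2) -/
theorem InKer.vec_mem {g : Equiv.Perm GolayPt} (h : InKer g) {x : ℕ} (hx : x < 2 ^ 24)
    (hp : enc (projM x) = projM x) : permWord g (vec x) + vec x ∈ golayCode := by
  have hP : projW (vec x) ∈ golayCode := (projW_mem_iff hx).mpr hp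
  have hgP := permWord_mem_of_mem_M24 h.1 _ hP
  set a0 := dotW (vec x) (gam 0)
  set a1 := dotW (vec x) (gam 1)
  set a2 := dotW (vec x) (gam 2)
  have hE : a0 • (permWord g (tau 0) + tau 0) + a1 • (permWord g (tau 1) + tau 1)
      + a2 • (permWord g (tau 2) + tau 2) ∈ golayCode :=
    golayCode.add_mem (golayCode.add_mem (golayCode.smul_mem _ (h.tau_mem 0))
      (golayCode.smul_mem _ (h.tau_mem 1))) (golayCode.smul_mem _ (h.tau_mem 2))
  have hF := golayCode.add_mem hgP hP
  have key : permWord g (vec x) + vec x =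
      (permWord g (projW (vec x)) + projW (vec x)) -
        (a0 • (permWord g (tau 0) + tau 0) + a1 • (permWord g (tau 1) + tau 1)
          + a2 • (permWord g (tau 2) + tau 2)) := by
    unfold projW
    rw [permWord_add, permWord_add, permWord_add, permWord_smul, permWord_smul, permWord_smul]
    simp only [smul_add]
    abel
  rw [key]
  exact golayCode.sub_mem hF hE

/-- Check: a code word inside an octad of the base trio is zero or that octad. -/
def inOctOK (m : ℕ) : Bool :=
  (m &&& oM 0 != m || m == 0 || m == oM 0) && (m &&& oM 1 != m || m == 0 || m == oM 1) &&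
    (m &&& oM 2 != m || m == 0 || m == oM 2)

theorem inOctOK_all : (List.range 4096).all (fun k => inOctOK (enc k)) = true := by
  decide +kernel

theorem code_in_oct {m : ℕ} (hm : m < 2 ^ 24) (hc : enc m = m) (i : Fin 3)
    (hs : m &&& oM i = m) : m = 0 ∨ m = oM i := by
  have hv : vec m ∈ golayCode := (vec_mem_golayCode_iff hm).mpr hc
  have h := forall_code_bool inOctOK inOctOK_all _ hv
  rw [wmask_vec hm] at h
  unfold inOctOK at h
  simp only [Bool.and_eq_true, Bool.or_eq_true, bne_iff_ne, ne_eq, beq_iff_eq] at h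
  fin_cases i
  · rcases h.1.1 with (h' | h') | h'
    · exact absurd hs h'
    · exact Or.inl h'
    · exact Or.inr h'
  · rcases h.1.2 with (h' | h') | h'
    · exact absurd hs h'
    · exact Or.inl h'
    · exact Or.inr h'
  · rcases h.2 with (h' | h') | h'
    · exact absurd hs h'
    · exact Or.inl h'
    · exact Or.inr h'

/-- (K3) -/
theorem InKer.gmask_smul {g : Equiv.Perm GolayPt} (h : InKer g) {x : ℕ} (hx : x < 2 ^ 24)
    (hp : enc (projM x) = projM x) (i : Fin 3) (hs : x &&& oM i = x) :
    gmask (g • setOfMask x) = x ∨ gmask (g • setOfMask x) = x ^^^ oM i := by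
  have h1 := h.vec_mem hx hp
  have e1 : permWord g (vec x) = vec (gmask (g • setOfMask x)) := by
    have := permWord_vec_gmask g (setOfMask x)
    rwa [gmask_setOfMask hx] at this
  set y := gmask (g • setOfMask x) with hy
  have hylt : y < 2 ^ 24 := gmask_lt _
  rw [e1, ← vec_xor] at h1
  have hlt : y ^^^ x < 2 ^ 24 := Nat.xor_lt_two_pow hylt hx
  have hc := (vec_mem_golayCode_iff hlt).mp h1
  -- y ⊆ o_i
  have hsub : setOfMask x ⊆ setOfMask (oM i) := by
    rw [maskOf_subset_iff idx_injective]
    show gmask (setOfMask x) &&& gmask (setOfMask (oM i)) = gmask (setOfMask x)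
    rw [gmask_setOfMask hx, gmask_setOfMask (oM_lt i)]
    exact hs
  have hsub' : g • setOfMask x ⊆ setOfMask (oM i) := by
    have := Finset.smul_finset_subset_smul_finset (a := g) hsub
    rwa [h.2.1 _ (setOfMask_oM_mem i)] at this
  have hys : y &&& oM i = y := by
    have := (maskOf_subset_iff idx_injective _ _).mp hsub'
    have e : gmask (g • setOfMask x) &&& gmask (setOfMask (oM i)) = gmask (g • setOfMask x) := this
    rwa [gmask_setOfMask (oM_lt i)] at e
  have hxs : (y ^^^ x) &&& oM i = y ^^^ x := by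
    rw [Nat.and_xor_distrib_right, hys, hs]
  rcases code_in_oct hlt hc i hxs with h0 | h0
  · left
    exact Nat.xor_eq_zero_iff.mp h0
  · right
    have : y = (y ^^^ x) ^^^ x := by
      rw [Nat.xor_assoc, Nat.xor_self, Nat.xor_zero]
    rw [this, h0, Nat.xor_comm]

theorem mem_setOfMask (x : ℕ) (p : GolayPt) : p ∈ setOfMask x ↔ x.testBit (idx p) = true :=
  mem_ofMask idx x p

/-- bit-level form of (K3) -/
theorem InKer.bits {g : Equiv.Perm GolayPt} (h : InKer g) {x : ℕ} (hx : x < 2 ^ 24)
    (hp : enc (projM x) = projM x) (i : Fin 3) (hs : x &&& oM i = x) :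
    (∀ p, x.testBit (idx (g p)) = x.testBit (idx p)) ∨
      (∀ p, (x ^^^ oM i).testBit (idx (g p)) = x.testBit (idx p)) := by
  have key : ∀ p, (gmask (g • setOfMask x)).testBit (idx (g p)) = x.testBit (idx p) := by
    intro p
    rw [testBit_maskOf_idx idx_injective]
    have e : g p ∈ g • setOfMask x ↔ p ∈ setOfMask x :=
      Finset.smul_mem_smul_finset_iff (a := g) (b := p) (s := setOfMask x)
    rw [mem_setOfMask] at e
    by_cases hb : x.testBit (idx p) = true
    · rw [hb, decide_eq_true (e.mpr hb)]
    · rw [Bool.not_eq_true] at hb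
      rw [hb, decide_eq_false]
      intro hc
      rw [e.mp hc] at hb
      exact absurd hb (by decide)
  rcases h.gmask_smul hx hp i hs with e | e
  · left; intro p; rw [← key p, e]
  · right; intro p; rw [← key p, e]

theorem InKer.oct_bit {g : Equiv.Perm GolayPt} (h : InKer g) (i : Fin 3) (p : GolayPt)
    (hp : (oM i).testBit (idx p) = true) : (oM i).testBit (idx (g p)) = true := by
  rw [← mem_setOfMask] at hp ⊢
  have := Finset.smul_mem_smul_finset (a := g) hp
  rwa [h.2.1 _ (setOfMask_oM_mem i)] at this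

/-- The data of a rigid family of tetrads inside an octad of the trio. -/
structure Rigid (L : List ℕ) (i : Fin 3) (b : ℕ) : Prop where
  hb : b < 24
  hob : (oM i).testBit b = true
  hL : ∀ x ∈ L, x < 2 ^ 24 ∧ enc (projM x) = projM x ∧ x &&& oM i = x ∧ x.testBit b = true
  f2 : ∀ d < 24, (∀ x ∈ L, x.testBit d = true) → d = b
  f3 : ∀ a < 24, ∀ a' < 24, (oM i).testBit a = true →
    (∀ x ∈ L, x.testBit a' = x.testBit a) → a' = a

theorem InKer.fix_of_rigid {g : Equiv.Perm GolayPt} (h : InKer g) {L : List ℕ} {i : Fin 3}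
    {b : ℕ} (R : Rigid L i b) (hg : g (pt b) = pt b) (p : GolayPt)
    (hp : (oM i).testBit (idx p) = true) : g p = p := by
  apply idx_injective
  apply R.f3 (idx p) (Cfsg.Agent.Lib.Helper10.idx_lt p) (idx (g p))
    (Cfsg.Agent.Lib.Helper10.idx_lt _) hp
  intro x hx
  obtain ⟨h1, h2, h3, h4⟩ := R.hL x hx
  rcases h.bits h1 h2 i h3 with hA | hB
  · exact hA p
  · exfalso
    have := hB (pt b)
    rw [hg, idx_pt R.hb, Nat.testBit_xor, h4, R.hob] at this
    exact absurd this (by decide)

theorem InKer.invol_of_rigid {g : Equiv.Perm GolayPt} (h : InKer g) {L : List ℕ} {i : Fin 3}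
    {b : ℕ} (R : Rigid L i b) : g (g (pt b)) = pt b := by
  apply idx_injective
  rw [idx_pt R.hb]
  have hc : (oM i).testBit (idx (g (pt b))) = true :=
    h.oct_bit i (pt b) (by rw [idx_pt R.hb]; exact R.hob)
  have hd : (oM i).testBit (idx (g (g (pt b)))) = true := h.oct_bit i _ hc
  apply R.f2 _ (Cfsg.Agent.Lib.Helper10.idx_lt _)
  intro x hx
  obtain ⟨h1, h2, h3, h4⟩ := R.hL x hx
  rcases h.bits h1 h2 i h3 with hA | hB
  · have e1 := hA (pt b)
    rw [idx_pt R.hb, h4] at e1
    have e2 := hA (g (pt b))
    rw [e1] at e2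
    exact e2
  · have e1 := hB (pt b)
    rw [idx_pt R.hb, h4, Nat.testBit_xor, hc] at e1
    have e2 := hB (g (pt b))
    rw [Nat.testBit_xor, hd] at e2
    revert e1 e2
    cases x.testBit (idx (g (pt b))) <;> cases x.testBit (idx (g (g (pt b)))) <;> simp

/-- The tetrads through the point `0` inside the first octad. -/
def L7a : List ℕ := [0x1d, 0x93, 0x407, 0x489, 0x100b, 0x1085, 0x1411]
/-- The tetrads through the point `6` inside the second octad. -/
def L7b : List ℕ := [0x16040, 0x24840, 0x42840, 0x70040, 0x90840, 0xa2040, 0xc4040]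

theorem rigid_a : Rigid L7a 0 0 where
  hb := by decide
  hob := by decide +kernel
  hL := by decide +kernel
  f2 := by decide +kernel
  f3 := by decide +kernel

theorem rigid_b : Rigid L7b 1 6 where
  hb := by decide
  hob := by decide +kernel
  hL := by decide +kernel
  f2 := by decide +kernel
  f3 := by decide +kernel

theorem oM0_mem_octads : setOfMask (oM 0) ∈ octads := by
  rw [mem_octads_iff, gmask_setOfMask (oM_lt 0)]
  decide +kernel

/-- Rigidity: an element of the kernel fixing the points `0` and `6` is trivial. -/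
theorem InKer.eq_one {g : Equiv.Perm GolayPt} (h : InKer g) (h0 : g (pt 0) = pt 0)
    (h6 : g (pt 6) = pt 6) : g = 1 := by
  have hfix : g ∈ octFix (setOfMask (oM 0)) := by
    rw [mem_octFix]
    refine ⟨h.1, ?_⟩
    intro y hy
    exact h.fix_of_rigid rigid_a h0 y ((mem_setOfMask _ _).mp hy)
  apply octFix_free oM0_mem_octads hfix (p := pt 6) _ h6
  rw [mem_setOfMask, idx_pt (by decide)]
  decide +kernel

end Cfsg.Agent.Lib.Helper35
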