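import Cfsg.Agent.Lib.Helper35.CountCover
import Cfsg.Agent.Lib.Helper35.TriadStab
import Cfsg.Agent.S1557

/-!
Trios as coded families: membership checks on codes, invariance under `M24`, and the counting
principle for lists of codes of trios.
-/

set_option autoImplicit false

namespace Cfsg.Agent.Lib.Helper35

open Cfsg
open Cfsg.Agent.Lib.Helper10 (idx pt idx_pt idx_injective enc enc_mod enc_lt)
open scoped Pointwise

theorem smul_mem_trios {g : Equiv.Perm GolayPt} (hg : g ∈ M24) {T : Finset (Finset GolayPt)}
    (hT : T ∈ trios) : g • T ∈ trios := by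
  obtain ⟨h3, ho, hd⟩ := hT
  refine ⟨by rw [Finset.card_smul_finset]; exact h3, ?_, ?_⟩
  · intro t ht
    obtain ⟨t', ht', rfl⟩ := Finset.mem_smul_finset.mp ht
    exact smul_mem_octads hg (ho t' ht')
  · intro t ht u hu' hne
    obtain ⟨t', ht', rfl⟩ := Finset.mem_smul_finset.mp ht
    obtain ⟨u', hu'', rfl⟩ := Finset.mem_smul_finset.mp hu'
    have hne' : t' ≠ u' := fun h => hne (by rw [h])
    rw [Finset.disjoint_iff_inter_eq_empty, ← Finset.smul_finset_inter,
      Finset.disjoint_iff_inter_eq_empty.mp (hd t' ht' u' hu'' hne'), Finset.smul_finset_empty]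

/-- Check on a code that the family is a trio. -/
def trioCheck (c : ℕ) : Bool :=
  (unpack 3 c).all (fun a => (enc a == a) && (popc 24 a == 8)) &&
    (unpack 3 c).all (fun a => (unpack 3 c).all (fun b => (a == b) || (a &&& b == 0)))

theorem famOfCode_mem_trios {c : ℕ} (hv : validCode 3 c = true) (hc : trioCheck c = true) :
    famOfCode 3 c ∈ trios := by
  unfold trioCheck at hc
  rw [Bool.and_eq_true, List.all_eq_true, List.all_eq_true] at hc
  obtain ⟨h8, hd⟩ := hc
  refine ⟨famOfCode_card hv, ?_, ?_⟩
  · intro t ht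
    obtain ⟨m, hm, _, hgm⟩ := mem_famOfCode ht
    rw [mem_octads_iff, hgm]
    have := h8 m hm
    simp only [Bool.and_eq_true, beq_iff_eq] at this
    exact this
  · intro t ht u hu hne
    obtain ⟨a, ha, hta, hga⟩ := mem_famOfCode ht
    obtain ⟨b, hb, hub, hgb⟩ := mem_famOfCode hu
    have hab : a ≠ b := by
      intro h
      apply hne
      rw [hta, hub, h]
    have h := List.all_eq_true.mp (hd a ha) b hb
    simp only [Bool.or_eq_true, beq_iff_eq] at h
    rcases h with h | h
    · exact absurd h hab
    · rw [maskOf_disjoint_iff idx_injective]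
      show gmask t &&& gmask u = 0
      rw [hga, hgb]
      exact h

/-- Validity of a trio code. -/
def tvalid3 (c : ℕ) : Bool := validCode 3 c && trioCheck c

theorem tvalid3_spec (c : ℕ) (h : tvalid3 c = true) :
    fcode (famOfCode 3 c) = c ∧ famOfCode 3 c ∈ trios := by
  unfold tvalid3 at h
  rw [Bool.and_eq_true] at h
  exact ⟨fcode_famOfCode h.1, famOfCode_mem_trios h.1 h.2⟩

/-- A duplicate-free list of 3795 codes of trios contains the code of every trio. -/
theorem trio_code_mem_of_count (l : List ℕ) (hl : ∀ c ∈ l, ∃ T ∈ trios, fcode T = c)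
    (hnd : l.Nodup) (hlen : l.length = 3795) : ∀ T ∈ trios, fcode T ∈ l :=
  mem_list_of_count trios (Set.toFinite _) fcode l hl hnd
    (by rw [Cfsg.Agent.S1557.result.2, hlen])

end Cfsg.Agent.Lib.Helper35
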