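import Cfsg.Agent.Lib.Helper35.TrioKer
import Cfsg.Agent.Lib.Helper10.M12b
import Cfsg.Agent.Lib.Helper10.Order

/-!
The stabiliser of a trio: shape `2^6:(GL(3,2) × S3)`.
-/

set_option autoImplicit false
set_option maxHeartbeats 400000

namespace Cfsg.Agent.Lib.Helper35

open Cfsg MulAction
open Cfsg.Agent.Lib.Helper10 (idx pt idx_pt idx_injective)
open scoped Pointwise

/-- The stabiliser of the base trio. -/
abbrev S0 : Subgroup ↥M24 := stabilizer ↥M24 q0

/-- The underlying permutation. -/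
def toPerm : ↥S0 →* Equiv.Perm GolayPt := (M24.subtype).comp S0.subtype

theorem toPerm_injective : Function.Injective toPerm := by
  intro a b h
  apply Subtype.ext
  apply Subtype.ext
  exact h

theorem toPerm_mem (g : ↥S0) : toPerm g ∈ M24 := g.1.2

theorem toPerm_smul (g : ↥S0) : toPerm g • q0 = q0 := g.2

/-- The matrix of an element of the stabiliser. -/
def matHom : ↥S0 →* Matrix (Fin 3) (Fin 3) (ZMod 2) where
  toFun g := trioMat (toPerm g)
  map_one' := by rw [map_one]; exact trioMat_one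
  map_mul' g h := by
    rw [map_mul]
    exact trioMat_mul (toPerm_mem g) (toPerm_mem h) (toPerm_smul h)

/-- The homomorphism to `GL(3,2)`. -/
def glHom : ↥S0 →* GL (Fin 3) (ZMod 2) := matHom.toHomUnits

theorem smul_mem_q0 (g : ↥S0) {o : Finset GolayPt} (ho : o ∈ q0) : toPerm g • o ∈ q0 := by
  have := Finset.smul_mem_smul_finset (a := toPerm g) ho
  rwa [toPerm_smul] at this

theorem inv_smul_mem_q0 (g : ↥S0) {o : Finset GolayPt} (ho : o ∈ q0) :
    (toPerm g)⁻¹ • o ∈ q0 := by
  have := smul_mem_q0 g⁻¹ ho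
  rwa [map_inv] at this

/-- The permutation of the three octads induced by an element of the stabiliser. -/
def octPerm (g : ↥S0) : Equiv.Perm ↥q0 where
  toFun o := ⟨toPerm g • o.1, smul_mem_q0 g o.2⟩
  invFun o := ⟨(toPerm g)⁻¹ • o.1, inv_smul_mem_q0 g o.2⟩
  left_inv o := Subtype.ext (inv_smul_smul _ _)
  right_inv o := Subtype.ext (smul_inv_smul _ _)

theorem octPerm_apply (g : ↥S0) (o : ↥q0) : ((octPerm g o : ↥q0) : Finset GolayPt) = toPerm g • o.1 :=
  rfl

/-- The action on the three octads as a homomorphism. -/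
def permHom : ↥S0 →* Equiv.Perm ↥q0 where
  toFun := octPerm
  map_one' := by
    ext o
    rw [octPerm_apply, map_one, one_smul]
    rfl
  map_mul' g h := by
    ext o
    rw [Equiv.Perm.mul_apply, octPerm_apply, octPerm_apply, octPerm_apply, map_mul, mul_smul]

theorem card_coe_q0 : Fintype.card ↥q0 = 3 := (Fintype.card_coe q0).trans q0_card

/-- Numbering of the three octads. -/
noncomputable def e3 : ↥q0 ≃ Fin 3 := Fintype.equivFinOfCardEq card_coe_q0

/-- The action on the three octads, numbered. -/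
noncomputable def permHom3 : ↥S0 →* Equiv.Perm (Fin 3) :=
  (e3.permCongrHom : Equiv.Perm ↥q0 ≃* Equiv.Perm (Fin 3)).toMonoidHom.comp permHom

/-- The homomorphism onto `GL(3,2) × S3`. -/
noncomputable def psi : ↥S0 →* GL (Fin 3) (ZMod 2) × Equiv.Perm (Fin 3) := glHom.prod permHom3

theorem inKer_of_mem_ker {g : ↥S0} (hg : g ∈ psi.ker) : InKer (toPerm g) := by
  rw [MonoidHom.mem_ker] at hg
  have hg' : (glHom g, permHom3 g) = 1 := hg
  obtain ⟨h1, h2⟩ := Prod.mk_eq_one.mp hg'
  refine ⟨toPerm_mem g, ?_, ?_⟩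
  · have h3 : permHom g = 1 := by
      have : (e3.permCongrHom : Equiv.Perm ↥q0 ≃* Equiv.Perm (Fin 3)) (permHom g) = 1 := h2
      exact (MulEquiv.map_eq_one_iff _).mp this
    intro o ho
    have := congrArg (fun f : Equiv.Perm ↥q0 => ((f ⟨o, ho⟩ : ↥q0) : Finset GolayPt)) h3
    exact this
  · have := congrArg (fun u : GL (Fin 3) (ZMod 2) => (u : Matrix (Fin 3) (Fin 3) (ZMod 2))) h1
    exact this

/-- The base points. -/
theorem ker_point_mem {g : ↥S0} (hg : g ∈ psi.ker) :
    (toPerm g (pt 0), toPerm g (pt 6)) ∈ setOfMask (oM 0) ×ˢ setOfMask (oM 1) := by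
  have h := inKer_of_mem_ker hg
  rw [Finset.mem_product]
  constructor
  · rw [mem_setOfMask]
    apply h.oct_bit 0
    rw [idx_pt (by decide)]
    decide +kernel
  · rw [mem_setOfMask]
    apply h.oct_bit 1
    rw [idx_pt (by decide)]
    decide +kernel

theorem ker_eq_one {g : ↥S0} (hg : g ∈ psi.ker) (h0 : toPerm g (pt 0) = pt 0)
    (h6 : toPerm g (pt 6) = pt 6) : g = 1 := by
  apply toPerm_injective
  rw [map_one]
  exact (inKer_of_mem_ker hg).eq_one h0 h6

theorem card_ker_le : Nat.card psi.ker ≤ 64 := by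
  let κ : ↥psi.ker → ↥(setOfMask (oM 0) ×ˢ setOfMask (oM 1)) :=
    fun g => ⟨(toPerm g.1 (pt 0), toPerm g.1 (pt 6)), ker_point_mem g.2⟩
  have hinj : Function.Injective κ := by
    intro a b hab
    have h1 : toPerm a.1 (pt 0) = toPerm b.1 (pt 0) := congrArg (fun x => x.1.1) hab
    have h2 : toPerm a.1 (pt 6) = toPerm b.1 (pt 6) := congrArg (fun x => x.1.2) hab
    have hk : a.1⁻¹ * b.1 ∈ psi.ker := psi.ker.mul_mem (psi.ker.inv_mem a.2) b.2
    have e := ker_eq_one hk (by
      rw [map_mul, map_inv, Equiv.Perm.mul_apply, ← h1, perm_inv_apply]) (by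
      rw [map_mul, map_inv, Equiv.Perm.mul_apply, ← h2, perm_inv_apply])
    apply Subtype.ext
    exact inv_mul_eq_one.mp e
  have h := Nat.card_le_card_of_injective κ hinj
  have hc : Nat.card ↥(setOfMask (oM 0) ×ˢ setOfMask (oM 1)) = 64 := by
    rw [Nat.card_eq_fintype_card, Fintype.card_coe, Finset.card_product, card_eq_popc_gmask,
      card_eq_popc_gmask, gmask_setOfMask (oM_lt 0), gmask_setOfMask (oM_lt 1)]
    decide +kernel
  rw [hc] at h
  exact h

theorem card_S0 : Nat.card ↥S0 = 64512 := by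
  have h := Cfsg.Agent.Lib.Helper10.card_eq_orbit_mul' M24 q0 trios
    (fun σ hσ => smul_mem_trios hσ q0_mem) (fun c hc => exists_smul_q0_eq hc)
  rw [Cfsg.Agent.Lib.Helper10.card_M24, Cfsg.Agent.S1557.result.2] at h
  have h2 := Cfsg.Agent.Lib.Helper10.card_stabilizer_sub M24 q0
  show Nat.card ↥(stabilizer ↥M24 q0) = 64512
  rw [h2]
  omega

theorem card_target : Nat.card (GL (Fin 3) (ZMod 2) × Equiv.Perm (Fin 3)) = 1008 := by
  rw [Nat.card_prod, Matrix.card_GL_field, ZMod.card, Nat.card_eq_fintype_card,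
    Fintype.card_perm, Fintype.card_fin, Fin.prod_univ_three]
  norm_num

theorem card_ker_range : Nat.card psi.ker = 64 ∧ Nat.card psi.range = 1008 := by
  have h1 : Nat.card psi.ker * psi.ker.index = Nat.card ↥S0 := Subgroup.card_mul_index _
  rw [Subgroup.index_ker, card_S0] at h1
  have h2 : Nat.card psi.range ≤ 1008 := by
    rw [← card_target]
    exact Subgroup.card_le_card_group _
  have h3 := card_ker_le
  have h4 : 0 < Nat.card psi.ker := Nat.card_pos
  constructor
  · by_contra hne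
    have h5 : Nat.card psi.ker ≤ 63 := by omega
    have := Nat.mul_le_mul h5 h2
    omega
  · by_contra hne
    have h5 : Nat.card psi.range ≤ 1007 := by omega
    have := Nat.mul_le_mul h3 h5
    omega

theorem psi_surjective : Function.Surjective psi := by
  rw [← MonoidHom.range_eq_top]
  apply Subgroup.eq_top_of_card_eq
  rw [card_ker_range.2, card_target]

theorem ker_sq {x : ↥S0} (hx : x ∈ psi.ker) : x * x = 1 := by
  have h := inKer_of_mem_ker hx
  apply ker_eq_one (psi.ker.mul_mem hx hx)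
  · rw [map_mul, Equiv.Perm.mul_apply]
    exact h.invol_of_rigid rigid_a
  · rw [map_mul, Equiv.Perm.mul_apply]
    exact h.invol_of_rigid rigid_b

/-- The first part for the base trio. -/
theorem base_part1 (e : Equiv.Perm ↥q0) : ∃ g ∈ stabilizer ↥M24 q0, ∀ o : ↥q0,
    ((g : ↥M24) : Equiv.Perm GolayPt) • (o : Finset GolayPt) = ((e o : ↥q0) : Finset GolayPt) := by
  obtain ⟨g, hg⟩ := psi_surjective (1, (e3.permCongrHom : Equiv.Perm ↥q0 ≃* _) e)
  have hg' : (glHom g, permHom3 g) = (1, (e3.permCongrHom : Equiv.Perm ↥q0 ≃* _) e) := hg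
  have h2 : (e3.permCongrHom : Equiv.Perm ↥q0 ≃* Equiv.Perm (Fin 3)) (permHom g) =
      (e3.permCongrHom : Equiv.Perm ↥q0 ≃* _) e := (Prod.mk.inj hg').2
  have h3 : permHom g = e := (MulEquiv.injective _) h2
  refine ⟨g.1, g.2, ?_⟩
  intro o
  have := congrArg (fun f : Equiv.Perm ↥q0 => ((f o : ↥q0) : Finset GolayPt)) h3
  exact this

/-- The second part for the base trio. -/
theorem base_part2 : ∃ (N : Subgroup ↥(stabilizer ↥M24 q0)) (_ : N.Normal), Nat.card N = 64 ∧
    (∀ x ∈ N, x * x = 1) ∧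
    Nonempty (↥(stabilizer ↥M24 q0) ⧸ N ≃* GL (Fin 3) (ZMod 2) × Equiv.Perm (Fin 3)) :=
  ⟨psi.ker, MonoidHom.normal_ker psi, card_ker_range.1, fun _ hx => ker_sq hx,
    ⟨QuotientGroup.quotientKerEquivOfSurjective psi psi_surjective⟩⟩

end Cfsg.Agent.Lib.Helper35
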